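import Cfsg.Prelude.Def_GeometricClasses
import Cfsg.Agent.Classical.SLGen

/-!
Toolkit for the geometric classes: membership lemmas, transvections as elements of GL(ι, F),
and the axis-closure criterion for containing the special linear group.
-/

set_option autoImplicit false
set_option linter.unusedSimpArgs false

namespace CfsgLib.GeomClasses

open Matrix
open scoped MatrixGroups

variable {ι : Type} [Fintype ι] [DecidableEq ι] {F : Type*} [Field F]

theorem gl_ext {g h : GL ι F}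
    (hgh : ∀ x, (g : Matrix ι ι F) *ᵥ x = (h : Matrix ι ι F) *ᵥ x) : g = h :=
  Units.ext (Matrix.ext_of_mulVec_single fun _ => hgh _)

@[simp] theorem gl_inv_mulVec_mulVec (g : GL ι F) (x : ι → F) :
    ((g⁻¹ : GL ι F) : Matrix ι ι F) *ᵥ ((g : Matrix ι ι F) *ᵥ x) = x := by
  rw [mulVec_mulVec, ← Units.val_mul, inv_mul_cancel, Units.val_one, one_mulVec]

@[simp] theorem gl_mulVec_inv_mulVec (g : GL ι F) (x : ι → F) :
    (g : Matrix ι ι F) *ᵥ (((g⁻¹ : GL ι F) : Matrix ι ι F) *ᵥ x) = x := by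
  rw [mulVec_mulVec, ← Units.val_mul, mul_inv_cancel, Units.val_one, one_mulVec]

theorem gl_mul_mulVec (g h : GL ι F) (x : ι → F) :
    ((g * h : GL ι F) : Matrix ι ι F) *ᵥ x = (g : Matrix ι ι F) *ᵥ ((h : Matrix ι ι F) *ᵥ x) := by
  rw [Units.val_mul, mulVec_mulVec]

theorem gl_mulVec_injective (g : GL ι F) :
    Function.Injective ((g : Matrix ι ι F) *ᵥ ·) :=
  Function.LeftInverse.injective (g := (((g⁻¹ : GL ι F) : Matrix ι ι F) *ᵥ ·)) (gl_inv_mulVec_mulVec g)

theorem gl_mulVec_ne_zero (g : GL ι F) {x : ι → F} (hx : x ≠ 0) :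
    (g : Matrix ι ι F) *ᵥ x ≠ 0 := fun h =>
  hx (gl_mulVec_injective g (by simpa using h))

/-! ### Membership lemmas -/

theorem mem_specialLinear {g : GL ι F} :
    g ∈ Cfsg.Geo.specialLinear ι F ↔ (g : Matrix ι ι F).det = 1 := by
  rw [Cfsg.Geo.specialLinear, MonoidHom.mem_ker, Units.ext_iff]
  rfl

theorem mem_subspaceStabilizer {g : GL ι F} {W : Submodule F (ι → F)} :
    g ∈ Cfsg.Geo.subspaceStabilizer W ↔ ∀ v ∈ W, (g : Matrix ι ι F) *ᵥ v ∈ W := by
  constructor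
  · intro h v hv
    exact (h v).1 hv
  · intro h v
    refine ⟨h v, fun hv => ?_⟩
    have hmap : W.map (Matrix.toLin' (g : Matrix ι ι F)) = W := by
      apply Submodule.eq_of_le_of_finrank_eq
      · rintro _ ⟨w, hw, rfl⟩
        simpa using h w hw
      · exact (Submodule.equivMapOfInjective _ (by
          simpa [Function.Injective] using gl_mulVec_injective g) W).finrank_eq.symm
    have hv' : (g : Matrix ι ι F) *ᵥ v ∈ W := hv
    rw [← hmap] at hv'
    obtain ⟨w, hw, hwv⟩ := hv'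
    rw [Matrix.toLin'_apply] at hwv
    rwa [← gl_mulVec_injective g hwv]

theorem mem_decompositionStabilizer {t : ℕ} {g : GL ι F} {D : Fin t → Submodule F (ι → F)} :
    g ∈ Cfsg.Geo.decompositionStabilizer D ↔
      ∃ σ : Equiv.Perm (Fin t), ∀ i, (D i).map (Matrix.toLin' (g : Matrix ι ι F)) = D (σ i) :=
  Iff.rfl

theorem mem_preserving {f : (ι → F) → (ι → F) → F} {g : GL ι F} :
    g ∈ Cfsg.preserving (Units.coeHom (Matrix ι ι F)) f ↔
      ∀ u v, f ((g : Matrix ι ι F) *ᵥ u) ((g : Matrix ι ι F) *ᵥ v) = f u v :=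
  Iff.rfl

/-! ### Transvections -/

theorem transvection_matrix_inv (v φ : ι → F) (h : φ ⬝ᵥ v = 0) :
    (1 + vecMulVec v φ) * (1 + vecMulVec (-v) φ) = 1 := by
  rw [add_mul, mul_add, mul_add, one_mul, one_mul, mul_one, vecMulVec_mul_vecMulVec]
  simp [h, add_assoc, neg_vecMulVec]

/-- The transvection x ↦ x + (φ ⬝ x) • v as an element of GL(ι, F); it is 1 unless φ ⬝ v = 0. -/
noncomputable def tv (v φ : ι → F) : GL ι F :=
  letI := Classical.propDecidable (φ ⬝ᵥ v = 0)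
  if h : φ ⬝ᵥ v = 0 then
    ⟨1 + vecMulVec v φ, 1 + vecMulVec (-v) φ, transvection_matrix_inv v φ h, by
      have := transvection_matrix_inv (-v) φ (by simp [h])
      rwa [neg_neg] at this⟩
  else 1

theorem tv_val {v φ : ι → F} (h : φ ⬝ᵥ v = 0) :
    (tv v φ : Matrix ι ι F) = 1 + vecMulVec v φ := by
  simp [tv, h]

theorem tv_mulVec {v φ : ι → F} (h : φ ⬝ᵥ v = 0) (x : ι → F) :
    (tv v φ : Matrix ι ι F) *ᵥ x = x + (φ ⬝ᵥ x) • v := by
  rw [tv_val h, add_mulVec, one_mulVec, vecMulVec_mulVec]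
  congr 1
  ext i
  simp [mul_comm]

theorem tv_mem_specialLinear (v φ : ι → F) : tv v φ ∈ Cfsg.Geo.specialLinear ι F := by
  by_cases h : φ ⬝ᵥ v = 0
  · rw [mem_specialLinear, tv_val h, vecMulVec_eq Unit, det_one_add_replicateCol_mul_replicateRow, h,
      add_zero]
  · simp [tv, h, one_mem]

@[simp] theorem tv_zero_left (φ : ι → F) : tv (0 : ι → F) φ = 1 := by
  apply gl_ext
  intro x
  rw [tv_mulVec (dotProduct_zero φ)]
  simp

theorem tv_mul_tv_left {v w φ : ι → F} (hv : φ ⬝ᵥ v = 0) (hw : φ ⬝ᵥ w = 0) :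
    tv v φ * tv w φ = tv (v + w) φ := by
  apply gl_ext
  intro x
  rw [gl_mul_mulVec, tv_mulVec hw, tv_mulVec hv, tv_mulVec (by simp [dotProduct_add, hv, hw]),
    dotProduct_add, dotProduct_smul, hw]
  simp only [smul_zero, add_zero, smul_add]
  abel

theorem tv_mul_tv_right {v φ ψ : ι → F} (hφ : φ ⬝ᵥ v = 0) (hψ : ψ ⬝ᵥ v = 0) :
    tv v φ * tv v ψ = tv v (φ + ψ) := by
  apply gl_ext
  intro x
  rw [gl_mul_mulVec, tv_mulVec hψ, tv_mulVec hφ, tv_mulVec (by simp [add_dotProduct, hφ, hψ]),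
    dotProduct_add, dotProduct_smul, hφ, add_dotProduct]
  simp only [smul_zero, add_zero, add_smul]
  abel

theorem tv_inv {v φ : ι → F} (h : φ ⬝ᵥ v = 0) : (tv v φ)⁻¹ = tv (-v) φ := by
  apply inv_eq_of_mul_eq_one_right
  rw [tv_mul_tv_left h (by simp [h]), add_neg_cancel, tv_zero_left]

theorem tv_smul_comm {v φ : ι → F} (h : φ ⬝ᵥ v = 0) (c : F) : tv (c • v) φ = tv v (c • φ) := by
  apply gl_ext
  intro x
  rw [tv_mulVec (by simp [h]), tv_mulVec (by simp [h]), smul_dotProduct, smul_smul, smul_eq_mul,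
    mul_comm]

theorem conj_tv (g : GL ι F) {v φ : ι → F} (h : φ ⬝ᵥ v = 0) :
    g * tv v φ * g⁻¹ = tv ((g : Matrix ι ι F) *ᵥ v) (φ ᵥ* ((g⁻¹ : GL ι F) : Matrix ι ι F)) := by
  have h' : (φ ᵥ* ((g⁻¹ : GL ι F) : Matrix ι ι F)) ⬝ᵥ ((g : Matrix ι ι F) *ᵥ v) = 0 := by
    rw [← dotProduct_mulVec, gl_inv_mulVec_mulVec, h]
  apply gl_ext
  intro x
  rw [gl_mul_mulVec, gl_mul_mulVec, tv_mulVec h, tv_mulVec h', mulVec_add, mulVec_smul,
    gl_mulVec_inv_mulVec, ← dotProduct_mulVec]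

/-- Conjugating one transvection by another. -/
theorem tv_conj_tv {a α v φ : ι → F} (ha : α ⬝ᵥ a = 0) (h : φ ⬝ᵥ v = 0) :
    tv a α * tv v φ * (tv a α)⁻¹ = tv (v + (α ⬝ᵥ v) • a) (φ - (φ ⬝ᵥ a) • α) := by
  rw [conj_tv _ h, tv_mulVec ha, tv_inv ha, tv_val (by simp [ha]), vecMul_add, vecMul_one,
    vecMul_vecMulVec]
  congr 1
  simp [sub_eq_add_neg]

/-- A functional that is non-zero at a vector outside W and zero on W. -/
theorem exists_separating {W : Submodule F (ι → F)} {u : ι → F} (hu : u ∉ W) :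
    ∃ φ : ι → F, φ ⬝ᵥ u ≠ 0 ∧ ∀ w ∈ W, φ ⬝ᵥ w = 0 := by
  obtain ⟨f, hf, hfW⟩ := W.exists_le_ker_of_notMem hu
  have key : ∀ x, (fun i => f (Pi.single i 1)) ⬝ᵥ x = f x := by
    intro x
    conv_rhs => rw [pi_eq_sum_univ' x]
    simp [dotProduct, mul_comm]
  exact ⟨fun i => f (Pi.single i 1), by rwa [key], fun w hw => by rw [key]; exact hfW hw⟩

/-! ### Axis closure -/

/-- If M contains all transvections with the axes φ and ψ, then it contains all with axis φ + ψ,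
provided φ and ψ are linearly independent. -/
theorem axis_add {M : Subgroup (GL ι F)} {φ ψ : ι → F}
    (hφ : ∀ v, φ ⬝ᵥ v = 0 → tv v φ ∈ M) (hψ : ∀ v, ψ ⬝ᵥ v = 0 → tv v ψ ∈ M)
    {a : ι → F} (ha : φ ⬝ᵥ a = 0) (ha' : ψ ⬝ᵥ a = -1)
    (v : ι → F) (hv : (φ + ψ) ⬝ᵥ v = 0) : tv v (φ + ψ) ∈ M := by
  have hm := hφ a ha
  obtain ⟨w, rfl⟩ : ∃ w, v = w + (φ ⬝ᵥ w) • a :=
    ⟨v - (φ ⬝ᵥ v) • a, by simp [dotProduct_sub, dotProduct_smul, ha]⟩
  have hw : ψ ⬝ᵥ w = 0 := by
    simpa [add_dotProduct, dotProduct_add, dotProduct_smul, ha, ha'] using hv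
  have := M.mul_mem (M.mul_mem hm (hψ w hw)) (M.inv_mem hm)
  rwa [tv_conj_tv ha hw, ha', neg_one_smul, sub_neg_eq_add, add_comm ψ φ] at this

theorem axis_smul {M : Subgroup (GL ι F)} {φ : ι → F}
    (hφ : ∀ v, φ ⬝ᵥ v = 0 → tv v φ ∈ M) (c : F) (v : ι → F) (hv : (c • φ) ⬝ᵥ v = 0) :
    tv v (c • φ) ∈ M := by
  by_cases hc : c = 0
  · subst hc
    have : tv v ((0 : F) • φ) = 1 := by
      apply gl_ext
      intro x
      rw [tv_mulVec (by simp)]
      simp
    rw [this]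
    exact M.one_mem
  · have h : φ ⬝ᵥ v = 0 := by simpa [hc] using hv
    rw [← tv_smul_comm h]
    exact hφ _ (by simp [h])

/-- The axes of the full transvection groups inside M form a subspace. -/
def fullAxes (M : Subgroup (GL ι F)) : Submodule F (ι → F) where
  carrier := {φ | ∀ v, φ ⬝ᵥ v = 0 → tv v φ ∈ M}
  zero_mem' := fun v _ => by
    have : tv v (0 : ι → F) = 1 := by
      apply gl_ext
      intro x
      rw [tv_mulVec (by simp)]
      simp
    rw [this]
    exact M.one_mem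
  add_mem' := by
    intro φ ψ hφ hψ
    by_cases hind : ∀ a, φ ⬝ᵥ a = 0 → ψ ⬝ᵥ a = 0
    · by_cases hφ0 : φ = 0
      · simpa [hφ0] using hψ
      obtain ⟨i, hi⟩ := Function.ne_iff.1 hφ0
      have hi' : φ i ≠ 0 := hi
      have hψc : ψ = (ψ i / φ i) • φ := by
        ext j
        have := hind (Pi.single j 1 - (φ j / φ i) • Pi.single i 1)
          (by simp [dotProduct_sub, dotProduct_smul, hi'])
        simp [dotProduct_sub, dotProduct_smul, sub_eq_zero] at this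
        rw [this]
        simp [mul_comm, mul_div_assoc', div_mul_eq_mul_div]
      have h2 : φ + ψ = (1 + ψ i / φ i) • φ := by rw [add_smul, one_smul, ← hψc]
      intro v hv
      rw [h2] at hv ⊢
      exact axis_smul hφ _ v hv
    · push Not at hind
      obtain ⟨a, ha, ha'⟩ := hind
      exact axis_add hφ hψ (a := (-(ψ ⬝ᵥ a)⁻¹) • a) (by simp [ha]) (by simp [ha'])
  smul_mem' := fun c _ hφ => axis_smul hφ c

theorem mem_fullAxes {M : Subgroup (GL ι F)} {φ : ι → F} :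
    φ ∈ fullAxes M ↔ ∀ v, φ ⬝ᵥ v = 0 → tv v φ ∈ M := Iff.rfl

theorem fullAxes_invariant {M : Subgroup (GL ι F)} {g : GL ι F} (hg : g ∈ M) {φ : ι → F}
    (hφ : φ ∈ fullAxes M) : φ ᵥ* ((g⁻¹ : GL ι F) : Matrix ι ι F) ∈ fullAxes M := by
  intro v hv
  have hv' : φ ⬝ᵥ (((g⁻¹ : GL ι F) : Matrix ι ι F) *ᵥ v) = 0 := by
    rw [dotProduct_mulVec, hv]
  have := M.mul_mem (M.mul_mem hg (hφ _ hv')) (M.inv_mem hg)
  rwa [conj_tv g hv', gl_mulVec_inv_mulVec] at this

/-- A subgroup containing every transvection contains the special linear group. -/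
theorem specialLinear_le_of_tv_mem {M : Subgroup (GL ι F)}
    (hM : ∀ v φ : ι → F, φ ⬝ᵥ v = 0 → tv v φ ∈ M) : Cfsg.Geo.specialLinear ι F ≤ M := by
  intro g hg
  have htop : M.comap (SpecialLinearGroup.toGL : SpecialLinearGroup ι F →* GL ι F) = ⊤ := by
    refine Subgroup.eq_top_iff' _ |>.2 fun A => ?_
    have hgen : ∀ (i j : ι) (h : i ≠ j) (c : F),
        SpecialLinearGroup.toGL (SpecialLinearGroup.transvection h c) ∈ M := by
      intro i j hij c
      have h : (c • Pi.single j (1 : F) : ι → F) ⬝ᵥ Pi.single i 1 = 0 := by simp [hij]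
      convert hM (Pi.single i 1) (c • Pi.single j 1) h using 1
      apply Units.ext
      rw [tv_val h]
      simp [SpecialLinearGroup.transvection_coe, vecMulVec_smul, ← single_eq_single_vecMulVec_single, smul_single]
    have := Cfsg.Agent.Classical.sl_subgroup_eq_top_of_transvection_mem
      (M.comap (SpecialLinearGroup.toGL : SpecialLinearGroup ι F →* GL ι F)) hgen
    exact this ▸ Subgroup.mem_top A
  rw [mem_specialLinear] at hg
  have : g = SpecialLinearGroup.toGL (⟨g, hg⟩ : SpecialLinearGroup ι F) := Units.ext rfl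
  rw [this]
  exact (Subgroup.eq_top_iff' _).1 htop _

theorem specialLinear_le_of_fullAxes_eq_top {M : Subgroup (GL ι F)} (h : fullAxes M = ⊤) :
    Cfsg.Geo.specialLinear ι F ≤ M :=
  specialLinear_le_of_tv_mem fun v φ hv => mem_fullAxes.1 (h ▸ Submodule.mem_top) v hv

end CfsgLib.GeomClasses
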