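import Cfsg.Agent.Lib.GeomClasses.Unit
import Cfsg.Prelude.Def_LieClassical

/-!
Unitary forms for `x ↦ x ^ q`, non-isotropic vectors, and orthonormal pairs over four elements.
-/

set_option autoImplicit false
set_option linter.unusedSectionVars false

namespace CfsgLib.GeomClasses.UnitPow

open Matrix

variable {F : Type*} [Field F] [Fintype F] {q : ℕ}

theorem two_le (hF : Fintype.card F = q ^ 2) : 2 ≤ q := by
  have := Fintype.one_lt_card (α := F)
  rw [hF] at this
  by_contra h
  interval_cases q <;> simp at this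

theorem add_pow_q (hF : Fintype.card F = q ^ 2) (x y : F) : (x + y) ^ q = x ^ q + y ^ q := by
  obtain ⟨k, hp, hc⟩ := FiniteField.card F (ringChar F)
  have : Fact (ringChar F).Prime := ⟨hp⟩
  obtain ⟨i, -, hi⟩ := (Nat.dvd_prime_pow hp).1 (show q ∣ ringChar F ^ (k : ℕ) from ⟨q, by rw [← hc, hF, pow_two]⟩)
  rw [hi]
  exact add_pow_char_pow x y (ringChar F) i

/-- The automorphism `x ↦ x ^ q`. -/
def conj (hF : Fintype.card F = q ^ 2) : F ≃+* F where
  toFun x := x ^ q
  invFun x := x ^ q
  left_inv x := by show (x ^ q) ^ q = x; rw [← pow_mul, ← pow_two, ← hF, FiniteField.pow_card]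
  right_inv x := by show (x ^ q) ^ q = x; rw [← pow_mul, ← pow_two, ← hF, FiniteField.pow_card]
  map_mul' x y := mul_pow x y q
  map_add' x y := add_pow_q hF x y

@[simp] theorem conj_apply (hF : Fintype.card F = q ^ 2) (x : F) : conj hF x = x ^ q := rfl

theorem conj_ne_refl (hF : Fintype.card F = q ^ 2) : conj hF ≠ RingEquiv.refl F := by
  intro h
  have h2 := two_le hF
  obtain ⟨g, hg⟩ := IsCyclic.exists_generator (α := Fˣ)
  have hord : orderOf g = Fintype.card F - 1 := by
    rw [orderOf_eq_card_of_forall_mem_zpowers hg, Nat.card_units, Nat.card_eq_fintype_card]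
  have hg' : g ^ (q - 1) = 1 := by
    apply Units.ext
    have h3 : (g : F) ^ q = g := RingHom.congr_fun (congrArg RingEquiv.toRingHom h) (g : F)
    rw [Units.val_pow_eq_pow_val, Units.val_one]
    apply mul_left_cancel₀ g.ne_zero
    rw [← pow_succ', Nat.sub_add_cancel (by omega), h3, mul_one]
  have hd := orderOf_dvd_of_pow_eq_one hg'
  rw [hord, hF] at hd
  have := Nat.le_of_dvd (by omega) hd
  have : q * 2 ≤ q * q := Nat.mul_le_mul_left q h2
  rw [pow_two] at *
  omega

theorem isUnitaryForm_of_pow {ι : Type} [Fintype ι] [DecidableEq ι] (hF : Fintype.card F = q ^ 2)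
    {f : (ι → F) → (ι → F) → F} (hf : Cfsg.Geo.IsUnitaryFormPow q f) :
    Cfsg.Geo.IsUnitaryForm (conj hF) f where
  ne_refl := conj_ne_refl hF
  involutive a := (conj hF).left_inv a
  add_left := hf.add_left
  smul_left := hf.smul_left
  herm := hf.herm
  nondegenerate := hf.nondegenerate

theorem hermForm_pow (hF : Fintype.card F = q ^ 2) (n : ℕ) :
    Cfsg.Geo.IsUnitaryFormPow q (Cfsg.hermForm n F q) where
  add_left x y v := by simp [Cfsg.hermForm, add_mul, Finset.sum_add_distrib]
  smul_left c x v := by simp [Cfsg.hermForm, Finset.mul_sum, mul_assoc]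
  herm v w := by
    show _ = conj hF (Cfsg.hermForm n F q w v)
    rw [Cfsg.hermForm, Cfsg.hermForm, map_sum]
    refine Finset.sum_congr rfl fun i _ => ?_
    rw [map_mul, conj_apply, conj_apply, show ((v i) ^ q) ^ q = v i from (conj hF).left_inv (v i)]
    ring
  nondegenerate v hv := by
    obtain ⟨i, hi⟩ := Function.ne_iff.1 hv
    have hq : q ≠ 0 := by have := two_le hF; omega
    refine ⟨⟨Pi.single i 1, ?_⟩, ⟨Pi.single i 1, ?_⟩⟩ <;>
      simp [Cfsg.hermForm, Pi.single_apply, hq] <;> simpa using hi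

theorem isUnitaryForm_hermForm (hF : Fintype.card F = q ^ 2) (n : ℕ) :
    Cfsg.Geo.IsUnitaryForm (conj hF) (Cfsg.hermForm n F q) :=
  isUnitaryForm_of_pow hF (hermForm_pow hF n)

theorem mem_GU {n : ℕ} {g : GL (Fin n) F} :
    g ∈ Cfsg.GU n F q ↔ ∀ u v, Cfsg.hermForm n F q ((g : Matrix (Fin n) (Fin n) F) *ᵥ u)
      ((g : Matrix (Fin n) (Fin n) F) *ᵥ v) = Cfsg.hermForm n F q u v := Iff.rfl

variable {ι : Type} [Fintype ι] [DecidableEq ι] {σ : F ≃+* F} {f : (ι → F) → (ι → F) → F}

/-- A non-degenerate subspace has a non-isotropic vector. -/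
theorem exists_nonisotropic (hf : Cfsg.Geo.IsUnitaryForm σ f) {W : Submodule F (ι → F)}
    (hW : Cfsg.Geo.IsNondegenerateOn f W) {w : ι → F} (hw : w ∈ W) (hw0 : w ≠ 0) :
    ∃ x ∈ W, f x x ≠ 0 := by
  by_contra hall
  push Not at hall
  obtain ⟨x, hx, hwx⟩ := (hW w hw hw0).2
  obtain ⟨l, hl⟩ := Unit.exists_trace_ne_zero hf.ne_refl
  have := hall (x + (l / f w x) • w) (W.add_mem hx (W.smul_mem _ hw))
  rw [Unit.self_add_smul hf, hall x hx, hall w hw, div_mul_cancel₀ _ hwx, mul_zero, zero_add, zero_add] at this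
  exact hl this

/-- Over four elements a non-degenerate plane has an orthonormal basis. -/
theorem exists_orth_pair (hf : Cfsg.Geo.IsUnitaryForm σ f) (h4 : ∀ b : F, σ b = b → b ≠ 0 → b = 1)
    {W : Submodule F (ι → F)} (hW : Cfsg.Geo.IsNondegenerateOn f W) (hd : Module.finrank F W = 2) :
    ∃ a b, a ∈ W ∧ b ∈ W ∧ f a a = 1 ∧ f b b = 1 ∧ f a b = 0 ∧ f b a = 0 ∧
      ∀ x ∈ W, x = f x a • a + f x b • b := by
  obtain ⟨w, hw, hw0⟩ := Submodule.exists_mem_ne_zero_of_ne_bot (p := W) fun h => by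
    rw [h, finrank_bot] at hd; omega
  obtain ⟨a, ha, haa⟩ := exists_nonisotropic hf hW hw hw0
  have haa' := h4 _ (Unit.self_fixed hf a) haa
  obtain ⟨x, hx, hxa⟩ : ∃ x ∈ W, x ∉ Submodule.span F {a} := by
    by_contra h
    push Not at h
    have h1 := Submodule.finrank_mono (show W ≤ Submodule.span F {a} from h)
    rw [hd, finrank_span_singleton (fun h0 => haa (by rw [h0, Unit.zero_left hf]))] at h1
    omega
  set b := x - f x a • a with hbdef
  have hb : b ∈ W := W.sub_mem hx (W.smul_mem _ ha)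
  have hb0 : b ≠ 0 := fun h => hxa (Submodule.mem_span_singleton.2 ⟨f x a, (sub_eq_zero.1 h).symm⟩)
  have hba : f b a = 0 := by rw [hbdef, Unit.sub_left hf, Unit.smul_left hf, haa', mul_one, sub_self]
  have hab : f a b = 0 := Unit.eq_zero_comm hf hba
  have hdec : ∀ y ∈ W, ∃ r s : F, y = r • a + s • b := by
    intro y hy
    have hli : LinearIndependent F ![a, b] := by
      rw [LinearIndependent.pair_iff]
      intro s r h
      have h1 : f (s • a + r • b) a = 0 := by rw [h, Unit.zero_left hf]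
      rw [Unit.add_left hf, Unit.smul_left hf, Unit.smul_left hf, haa', hba, mul_one, mul_zero, add_zero] at h1
      rw [h1, zero_smul, zero_add] at h
      exact ⟨h1, (smul_eq_zero.1 h).resolve_right hb0⟩
    have hspan : Submodule.span F (Set.range ![a, b]) = W := by
      refine Submodule.eq_of_le_of_finrank_eq (Submodule.span_le.2 ?_) ?_
      · rintro _ ⟨i, rfl⟩
        fin_cases i
        · exact ha
        · exact hb
      · rw [finrank_span_eq_card hli, hd, Fintype.card_fin]
    rw [← hspan, Submodule.mem_span_range_iff_exists_fun] at hy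
    obtain ⟨c, hc⟩ := hy
    exact ⟨c 0, c 1, by rw [← hc, Fin.sum_univ_two]; rfl⟩
  have hbb : f b b ≠ 0 := by
    intro h0
    obtain ⟨y, hy, hby⟩ := (hW b hb hb0).2
    obtain ⟨r, s, rfl⟩ := hdec y hy
    rw [Unit.add_right hf, Unit.smul_right hf, Unit.smul_right hf, hba, h0, mul_zero, mul_zero, add_zero] at hby
    exact hby rfl
  have hbb' := h4 _ (Unit.self_fixed hf b) hbb
  refine ⟨a, b, ha, hb, haa', hbb', hab, hba, fun y hy => ?_⟩
  obtain ⟨r, s, rfl⟩ := hdec y hy
  simp [Unit.add_left hf, Unit.smul_left hf, haa', hbb', hab, hba]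

/-- Facts about the field with four elements. -/
theorem four_fixed (hF : Fintype.card F = 4) (b : F) (hb : b ^ 2 = b) (hb0 : b ≠ 0) : b = 1 :=
  mul_left_cancel₀ hb0 (by rw [mul_one, ← pow_two, hb])

theorem four_two_zero (hF : Fintype.card F = 4) : (2 : F) = 0 := by
  have h' := FiniteField.cast_card_eq_zero F
  rw [hF] at h'
  have : (2 : F) * 2 = 0 := by
    norm_num
    exact_mod_cast h'
  exact mul_self_eq_zero.1 this

end CfsgLib.GeomClasses.UnitPow
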