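import Cfsg.Agent.Lib.GeomClasses.SympSubfield
import Cfsg.Agent.Lib.GeomClasses.UnitPow

/-!
Symplectic subfield groups inside unitary groups.
-/

set_option autoImplicit false
set_option linter.unusedSectionVars false

namespace CfsgLib.GeomClasses.UnitSymp

open Matrix SympRoot

variable {ι : Type} [Fintype ι] [DecidableEq ι] {F : Type*} [Field F] [Fintype F]

theorem ratScalar_rv {F₀ : Subfield F} {g : GL ι F} (hg : g ∈ ratScalar F₀ ι) :
    ∃ c : F, c ≠ 0 ∧ ∀ x, Rv F₀ x → Rv F₀ (c • ((g : Matrix ι ι F) *ᵥ x)) := by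
  obtain ⟨c, hc, h⟩ := exists_rat_scalar hg
  refine ⟨c, hc, fun x hx i => ?_⟩
  rw [Pi.smul_apply, mulVec, dotProduct, smul_eq_mul, Finset.mul_sum]
  refine Subfield.sum_mem _ fun j _ => ?_
  rw [← mul_assoc]
  exact F₀.mul_mem (h i j) (hx j)

/-- The subgroup of the isometries of a function. -/
def isoGroup (f : (ι → F) → (ι → F) → F) : Subgroup (GL ι F) where
  carrier := {g | Symp.IsIsometry f g}
  one_mem' := fun u v => by simp
  mul_mem' := fun hg hh => Symp.isometry_mul hg hh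
  inv_mem' := fun {g} hg u v => by
    conv_rhs => rw [← gl_mulVec_inv_mulVec g u, ← gl_mulVec_inv_mulVec g v]
    rw [hg]

variable {σ : F ≃+* F} {f : (ι → F) → (ι → F) → F} {F₀ : Subfield F} {ζ : F}

theorem maximal_sympSubfield (hf : Cfsg.Geo.IsUnitaryForm σ f) (h4 : 4 < Fintype.card ι)
    (hfix : ∀ x : F, σ x = x ↔ x ∈ F₀) (hζ0 : ζ ≠ 0) (hζ : ζ + σ ζ = 0)
    (hrat : ∀ u v, Rv F₀ u → Rv F₀ v → ζ * f u v ∈ F₀) (halt : ∀ u, Rv F₀ u → f u u = 0)
    {K : Subgroup (GL ι F)} (hKi : K ≤ isoGroup f)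
    (hTK : ∀ v, f v v = 0 → ∀ c, c + σ c = 0 → formTv f v c ∈ K)
    (hgen : ∀ M : Subgroup (GL ι F), (∀ v, f v v = 0 → ∀ c, c + σ c = 0 → formTv f v c ∈ M) → K ≤ M) :
    Cfsg.Geo.IsMaximalIn K (ratScalar F₀ ι ⊓ K) := by
  have hσ2 := hf.involutive
  obtain ⟨θ, hθ'⟩ := Unit.exists_moved hf.ne_refl
  have hθ : θ ∉ F₀ := fun h => hθ' ((hfix θ).2 h)
  have hδ : θ - σ θ ≠ 0 := sub_ne_zero.2 (Ne.symm hθ')
  have hdecomp : ∀ x : ι → F, ∃ a b, Rv F₀ a ∧ Rv F₀ b ∧ x = a + θ • b := by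
    intro x
    refine ⟨fun i => x i - θ * ((x i - σ (x i)) / (θ - σ θ)), fun i => (x i - σ (x i)) / (θ - σ θ),
      fun i => (hfix _).1 ?_, fun i => (hfix _).1 ?_, funext fun i => ?_⟩
    · simp only [map_sub, map_mul, map_div₀, hσ2]
      have h2 : σ θ - θ ≠ 0 := sub_ne_zero.2 hθ'
      field_simp
      ring
    · simp only [map_sub, map_div₀, hσ2]
      rw [← neg_sub (x i), ← neg_sub θ, neg_div_neg_eq]
    · simp only [Pi.add_apply, Pi.smul_apply, smul_eq_mul, sub_add_cancel]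
  have hskew : ∀ c : F, c + σ c = 0 → c / ζ ∈ F₀ := fun c hc => (hfix _).1 (by
    rw [map_div₀, eq_neg_of_add_eq_zero_right hc, eq_neg_of_add_eq_zero_right hζ, neg_div_neg_eq])
  -- the bilinear extension of the rational form
  let f₀ : (ι → F) → (ι → F) → F := fun x y => ζ * f x (fun i => σ (y i))
  have hσrv : ∀ y : ι → F, Rv F₀ y → (fun i => σ (y i)) = y := fun y hy => funext fun i => (hfix _).2 (hy i)
  have hf₀f : ∀ x y : ι → F, Rv F₀ y → f₀ x y = ζ * f x y := fun x y hy => by simp only [f₀, hσrv y hy]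
  have hbadd : ∀ x y v, f₀ (x + y) v = f₀ x v + f₀ y v := fun x y v => by
    simp only [f₀, Unit.add_left hf, mul_add]
  have hbsmul : ∀ c x v, f₀ (c • x) v = c * f₀ x v := fun c x v => by
    simp only [f₀, Unit.smul_left hf]; ring
  have hbaddr : ∀ v x y, f₀ v (x + y) = f₀ v x + f₀ v y := fun v x y => by
    simp only [f₀, Pi.add_apply, map_add]
    rw [show (fun i => σ (x i) + σ (y i)) = (fun i => σ (x i)) + fun i => σ (y i) from rfl,
      Unit.add_right hf, mul_add]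
  have hbsmulr : ∀ c v x, f₀ v (c • x) = c * f₀ v x := fun c v x => by
    simp only [f₀, Pi.smul_apply, smul_eq_mul, map_mul]
    rw [show (fun i => σ c * σ (x i)) = σ c • fun i => σ (x i) from rfl, Unit.smul_right hf, hσ2]
    ring
  have hskew0 : ∀ a b : ι → F, Rv F₀ a → Rv F₀ b → f₀ b a = - f₀ a b := by
    intro a b ha hb
    have h := halt (a + b) (ha.add hb)
    rw [Unit.add_left hf, Unit.add_right hf, Unit.add_right hf, halt a ha, halt b hb] at h
    rw [hf₀f b a ha, hf₀f a b hb]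
    linear_combination ζ * h
  have halt0 : ∀ v, f₀ v v = 0 := by
    intro v
    obtain ⟨a, b, ha, hb, rfl⟩ := hdecomp v
    rw [hbadd, hbaddr, hbaddr, hbsmul, hbsmul, hbsmulr, hbsmulr, hskew0 a b ha hb, hf₀f a a ha, hf₀f b b hb,
      halt a ha, halt b hb]
    ring
  have hf₀ : Cfsg.Geo.IsSymplecticForm f₀ :=
    { bilinear :=
        { add_left := hbadd
          smul_left := hbsmul
          add_right := hbaddr
          smul_right := hbsmulr }
      skew := fun v w => by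
        have h := halt0 (v + w)
        rw [hbadd, hbaddr, hbaddr, halt0, halt0] at h
        linear_combination h
      alternating := halt0
      nondegenerate := fun v hv => by
        have hv' : (fun i => σ (v i)) ≠ 0 := fun h0 => hv (funext fun i =>
          σ.injective (by simpa using congrFun h0 i))
        obtain ⟨⟨y, hy⟩, -⟩ := hf.nondegenerate _ hv'
        obtain ⟨-, ⟨z, hz⟩⟩ := hf.nondegenerate v hv
        refine ⟨⟨y, mul_ne_zero hζ0 hy⟩, ⟨fun i => σ (z i), ?_⟩⟩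
        simp only [f₀, hσ2]
        exact mul_ne_zero hζ0 hz }
  have hrat0 : ∀ u v : ι → F, Rv F₀ u → Rv F₀ v → f₀ u v ∈ F₀ := fun u v hu hv => by
    rw [hf₀f u v hv]; exact hrat u v hu hv
  have heq : ∀ a : ι → F, Rv F₀ a → ∀ k, formTv f a (ζ * k) = formTv f₀ a k := fun a ha k => gl_ext fun x => by
    rw [Unit.formTv_mulVec hf (halt a ha), Symp.formTv_mulVec hf₀, hf₀f x a ha]
    congr 2
    ring
  have hskewk : ∀ k ∈ F₀, ζ * k + σ (ζ * k) = 0 := fun k hk => by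
    rw [map_mul, (hfix k).2 hk, ← add_mul, hζ, zero_mul]
  have hmemK : ∀ a : ι → F, Rv F₀ a → ∀ k ∈ F₀, formTv f₀ a k ∈ K ⊓ isoGroup f₀ := fun a ha k hk =>
    ⟨heq a ha k ▸ hTK a (halt a ha) _ (hskewk k hk), Symp.formTv_isometry hf₀ a k⟩
  have SK : Setting f₀ F₀ (K ⊓ isoGroup f₀) :=
    ⟨hf₀, h4, hrat0, fun g hg => hg.2, hmemK⟩
  have hbase : ∀ a : ι → F, Rv F₀ a → ∀ k ∈ F₀, formTv f₀ a k ∈ ratScalar F₀ ι ⊓ K := fun a ha k hk =>
    ⟨mem_ratScalar_of_lines SK _ fun x hx =>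
      ⟨1, _, (SK.rat_formTv ha hk).2 x hx, (one_smul F _).symm⟩, (hmemK a ha k hk).1⟩
  have horth : ∀ a b : ι → F, Rv F₀ a → Rv F₀ b → f (a + θ • b) (a + θ • b) = 0 → f₀ a b = 0 := by
    intro a b ha hb h
    rw [Unit.add_left hf, Unit.add_right hf, Unit.add_right hf, Unit.smul_left hf, Unit.smul_left hf,
      Unit.smul_right hf, Unit.smul_right hf, halt a ha, halt b hb] at h
    have h1 := hskew0 a b ha hb
    rw [hf₀f b a ha, hf₀f a b hb] at h1
    have h2 : (θ - σ θ) * (ζ * f a b) = 0 := by linear_combination (-ζ) * h + θ * h1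
    rw [hf₀f a b hb]
    exact (mul_eq_zero.1 h2).resolve_left hδ
  have hsing : ∀ a b : ι → F, Rv F₀ a → Rv F₀ b → f₀ a b = 0 → f (a + θ • b) (a + θ • b) = 0 := by
    intro a b ha hb h
    have hab : f a b = 0 := by
      rw [hf₀f a b hb] at h
      exact (mul_eq_zero.1 h).resolve_left hζ0
    rw [Unit.add_left hf, Unit.add_right hf, Unit.add_right hf, Unit.smul_left hf, Unit.smul_left hf,
      Unit.smul_right hf, Unit.smul_right hf, halt a ha, halt b hb, hab, Unit.eq_zero_comm hf hab]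
    ring
  refine ⟨lt_of_le_of_ne inf_le_right fun he => ?_, fun M hle hMK => ?_⟩
  · obtain ⟨a, b, ha, hb, ha0, hab, hi⟩ := SK.exists_pair
    obtain ⟨p, q, hp, hq, hap, hbp, haq, hbq⟩ := SK.partners ha hb ha0 hab hi
    have hv := hTK _ (hsing a b ha hb hab) ζ hζ
    rw [← he] at hv
    obtain ⟨c, hc, hcr⟩ := ratScalar_rv hv.1
    have hval : (formTv f (a + θ • b) ζ : Matrix ι ι F) *ᵥ p = p + (-1 : F) • (a + θ • b) := by
      rw [Unit.formTv_mulVec hf (hsing a b ha hb hab), Unit.add_right hf, Unit.smul_right hf, mul_add,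
        mul_left_comm ζ, ← hf₀f p a ha, ← hf₀f p b hb, hf₀.skew p a, hf₀.skew p b, hap, hbp]
      simp
    have e1 := hrat0 _ _ (hcr p hp) hp
    have e2 := hrat0 _ _ (hcr p hp) hq
    simp only [hval, Symp.smul_left hf₀, Symp.add_left hf₀, hf₀.alternating, hap, hbp, haq, hbq] at e1 e2
    have hc' : c ∈ F₀ := by
      have := F₀.neg_mem e1
      convert this using 1
      ring
    apply hθ
    have := F₀.sub_mem (hrat0 p q hp hq) (F₀.div_mem e2 hc')
    rw [mul_div_cancel_left₀ _ hc] at this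
    convert this using 1
    ring
  by_cases hall : M ≤ ratScalar F₀ ι
  · exact Or.inl (le_antisymm (le_inf hall hMK) hle)
  right
  refine le_antisymm hMK ?_
  have SM : Setting f₀ F₀ (M ⊓ isoGroup f₀) :=
    ⟨hf₀, h4, hrat0, fun g hg => hg.2, fun a ha k hk => ⟨hle (hbase a ha k hk), (hmemK a ha k hk).2⟩⟩
  obtain ⟨g, hgM, hg⟩ := SetLike.not_le_iff_exists.1 hall
  obtain ⟨x, hx, hirr⟩ : ∃ x, Rv F₀ x ∧ ∀ c : F, ∀ y, Rv F₀ y → (g : Matrix ι ι F) *ᵥ x ≠ c • y := by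
    by_contra hno
    push Not at hno
    exact hg (mem_ratScalar_of_lines SK g hno)
  have hiso : ∀ {k : GL ι F}, k ∈ M → Symp.IsIsometry f k := fun hk => hKi (hMK hk)
  have hconj : ∀ {k : GL ι F}, k ∈ M → ∀ {v : ι → F}, f v v = 0 → ∀ {c : F}, formTv f v c ∈ M →
      formTv f ((k : Matrix ι ι F) *ᵥ v) c ∈ M := by
    intro k hk v hv c hc
    have e : formTv f ((k : Matrix ι ι F) *ᵥ v) c = k * formTv f v c * k⁻¹ := gl_ext fun y => by
      obtain ⟨z, rfl⟩ : ∃ z, y = (k : Matrix ι ι F) *ᵥ z :=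
        ⟨((k⁻¹ : GL ι F) : Matrix ι ι F) *ᵥ y, (gl_mulVec_inv_mulVec k y).symm⟩
      rw [gl_mul_mulVec, gl_mul_mulVec, gl_inv_mulVec_mulVec, Unit.formTv_mulVec hf (by rw [hiso hk, hv]),
        Unit.formTv_mulVec hf hv, mulVec_add, mulVec_smul, hiso hk]
    rw [e]
    exact M.mul_mem (M.mul_mem hk hc) (M.inv_mem hk)
  obtain ⟨a, b, ha, hb, hgx⟩ := hdecomp ((g : Matrix ι ι F) *ᵥ x)
  have hv0 : f (a + θ • b) (a + θ • b) = 0 := by rw [← hgx, hiso hgM, halt x hx]
  have hab := horth a b ha hb hv0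
  have ha0 : a ≠ 0 := fun h0 => hirr θ b hb (by rw [hgx, h0, zero_add])
  have hi : ∀ c : F, b ≠ c • a := fun c hc => hirr (1 + θ * c) a ha (by
    rw [hgx, hc, smul_smul, add_smul, one_smul])
  have hstart : formTv f (a + θ • b) (ζ * 1) ∈ M := by
    rw [← hgx]
    refine hconj hgM (halt x hx) ?_
    rw [heq x hx]
    exact (SM.mem x hx 1 F₀.one_mem).1
  rw [mul_one] at hstart
  have hall' : ∀ a' b' : ι → F, Rv F₀ a' → Rv F₀ b' → a' ≠ 0 → f₀ a' b' = 0 → (∀ c : F, b' ≠ c • a') →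
      formTv f (a' + θ • b') ζ ∈ M := by
    intro a' b' ha' hb' ha0' hab' hi'
    obtain ⟨k, hk, e1, e2⟩ := SM.move_pair ha hb ha0 hab hi ha' hb' ha0' hab' hi'
    have := hconj hk.1.1 hv0 hstart
    rwa [mulVec_add, mulVec_smul, e1, e2] at this
  refine hgen M fun v hv c hc => ?_
  by_cases hline : ∃ t : F, ∃ y, Rv F₀ y ∧ v = t • y
  · obtain ⟨t, y, hy, rfl⟩ := hline
    have hk : t * σ t * (c / ζ) ∈ F₀ := F₀.mul_mem ((hfix _).1 (by rw [map_mul, hσ2, mul_comm])) (hskew c hc)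
    rw [Unit.formTv_smul hf t (halt y hy) c, show t * σ t * c = ζ * (t * σ t * (c / ζ)) by field_simp,
      heq y hy]
    exact (SM.mem y hy _ hk).1
  push Not at hline
  by_cases hc0 : c = 0
  · rw [hc0, show formTv f v 0 = 1 from gl_ext fun y => by simp [Unit.formTv_mulVec hf hv]]
    exact M.one_mem
  obtain ⟨t, ht⟩ := Unit.exists_norm hf.ne_refl hσ2 ((hfix _).2 (hskew c hc))
  have ht0 : t ≠ 0 := by
    rintro rfl
    rw [zero_mul] at ht
    exact div_ne_zero hc0 hζ0 ht.symm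
  have hvt : formTv f v c = formTv f (t • v) ζ := by
    rw [Unit.formTv_smul hf t hv, ht, div_mul_cancel₀ _ hζ0]
  obtain ⟨a', b', ha', hb', hw⟩ := hdecomp (t • v)
  rw [hvt, hw]
  have htv : f (a' + θ • b') (a' + θ • b') = 0 := by
    rw [← hw, Unit.smul_left hf, Unit.smul_right hf, hv, mul_zero, mul_zero]
  have hline' : ∀ s : F, ∀ y, Rv F₀ y → a' + θ • b' ≠ s • y := fun s y hy he' =>
    hline (t⁻¹ * s) y hy (by rw [mul_smul, ← he', ← hw, smul_smul, inv_mul_cancel₀ ht0, one_smul])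
  refine hall' a' b' ha' hb' (fun h0 => hline' θ b' hb' (by rw [h0, zero_add])) (horth a' b' ha' hb' htv)
    fun s hs => hline' (1 + θ * s) a' ha' (by rw [hs, smul_smul, add_smul, one_smul])

end CfsgLib.GeomClasses.UnitSymp
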