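import Cfsg.Agent.Lib.GeomClasses.UnitCentres
import Cfsg.Agent.Lib.GeomClasses.UnitSymp

/-!
Rank-one isometries of unitary spaces, centres of transvections in a subgroup and sums of centres.
-/

set_option autoImplicit false
set_option linter.unusedSectionVars false
set_option linter.unusedSimpArgs false

namespace CfsgLib.GeomClasses.UnitQr

open Matrix CfsgLib.GeomClasses.UnitSymp

variable {n : ℕ} {F : Type*} [Field F] [Fintype F] {σ : F ≃+* F} {f : (Fin n → F) → (Fin n → F) → F}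

/-- The map `x ↦ x + s f(x,d) d`, when it is invertible. -/
noncomputable def qr (f : (Fin n → F) → (Fin n → F) → F) (s : F) (d : Fin n → F) : GL (Fin n) F :=
  letI := Classical.propDecidable ((1 + vecMulVec d (s • fVec f d)).det ≠ 0)
  if h : (1 + vecMulVec d (s • fVec f d)).det ≠ 0 then
    Matrix.GeneralLinearGroup.mkOfDetNeZero (1 + vecMulVec d (s • fVec f d)) h
  else 1

/-- The isometries of determinant one. -/
def kGrp (f : (Fin n → F) → (Fin n → F) → F) : Subgroup (GL (Fin n) F) :=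
  isoGroup f ⊓ Cfsg.Geo.specialLinear (Fin n) F

/-- The centres of the full transvection groups in `M`. -/
def Cen (σ : F ≃+* F) (f : (Fin n → F) → (Fin n → F) → F) (M : Subgroup (GL (Fin n) F)) : Set (Fin n → F) :=
  {v | f v v = 0 ∧ ∀ c, c + σ c = 0 → formTv f v c ∈ M}

/-- The scalar satisfying the isometry condition. -/
def QCond (σ : F ≃+* F) (f : (Fin n → F) → (Fin n → F) → F) (s : F) (d : Fin n → F) : Prop :=
  s + σ s + s * σ s * f d d = 0

variable (hf : Cfsg.Geo.IsUnitaryForm σ f)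
include hf

theorem det_eq (s : F) (d : Fin n → F) : (1 + vecMulVec d (s • fVec f d)).det = 1 + s * f d d := by
  rw [vecMulVec_eq Unit, det_one_add_replicateCol_mul_replicateRow, smul_dotProduct,
    (Unit.sesq hf).fVec_dot, smul_eq_mul]

theorem one_add_ne_zero {s : F} {d : Fin n → F} (h : QCond σ f s d) : 1 + s * f d d ≠ 0 := by
  intro h0
  have h1 : (1 + s * f d d) * (1 + σ s * f d d) = 1 := by
    unfold QCond at h
    linear_combination f d d * h
  rw [h0, zero_mul] at h1
  exact zero_ne_one h1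

theorem qr_val {s : F} {d : Fin n → F} (h : QCond σ f s d) :
    (qr f s d : Matrix (Fin n) (Fin n) F) = 1 + vecMulVec d (s • fVec f d) := by
  have h1 : (1 + vecMulVec d (s • fVec f d)).det ≠ 0 := by rw [det_eq hf]; exact one_add_ne_zero hf h
  rw [qr, dif_pos h1]
  rfl

theorem qr_mulVec {s : F} {d : Fin n → F} (h : QCond σ f s d) (x : Fin n → F) :
    (qr f s d : Matrix (Fin n) (Fin n) F) *ᵥ x = x + (s * f x d) • d := by
  rw [qr_val hf h, add_mulVec, one_mulVec, vecMulVec_mulVec, smul_dotProduct, (Unit.sesq hf).fVec_dot,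
    op_smul_eq_smul, smul_eq_mul]

theorem qr_det {s : F} {d : Fin n → F} (h : QCond σ f s d) :
    (qr f s d : Matrix (Fin n) (Fin n) F).det = 1 + s * f d d := by
  rw [qr_val hf h, det_eq hf]

theorem qr_iso {s : F} {d : Fin n → F} (h : QCond σ f s d) : qr f s d ∈ isoGroup f := by
  intro x y
  rw [qr_mulVec hf h, qr_mulVec hf h]
  simp only [Unit.add_left hf, Unit.add_right hf, Unit.smul_left hf, Unit.smul_right hf, map_mul, Unit.conj_form hf]
  unfold QCond at h
  linear_combination (f x d * f d y) * h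

theorem qr_fix {s : F} {d : Fin n → F} (h : QCond σ f s d) {x : Fin n → F} (hx : f x d = 0) :
    (qr f s d : Matrix (Fin n) (Fin n) F) *ᵥ x = x := by
  rw [qr_mulVec hf h, hx, mul_zero, zero_smul, add_zero]

theorem qr_self {s : F} {d : Fin n → F} (h : QCond σ f s d) :
    (qr f s d : Matrix (Fin n) (Fin n) F) *ᵥ d = (1 + s * f d d) • d := by
  rw [qr_mulVec hf h, add_smul, one_smul]

theorem qcond_conj {s : F} {d : Fin n → F} (h : QCond σ f s d) : QCond σ f (σ s) d := by
  unfold QCond at h ⊢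
  rw [hf.involutive]
  linear_combination h

theorem qcond_map {g : GL (Fin n) F} (hg : Symp.IsIsometry f g) {s : F} {d : Fin n → F} (h : QCond σ f s d) :
    QCond σ f s ((g : Matrix (Fin n) (Fin n) F) *ᵥ d) := by
  unfold QCond at h ⊢
  rwa [hg]

theorem qr_conj {g : GL (Fin n) F} (hg : Symp.IsIsometry f g) {s : F} {d : Fin n → F} (h : QCond σ f s d) :
    g * qr f s d * g⁻¹ = qr f s ((g : Matrix (Fin n) (Fin n) F) *ᵥ d) := by
  refine gl_ext fun y => ?_
  obtain ⟨x, rfl⟩ : ∃ x, y = (g : Matrix (Fin n) (Fin n) F) *ᵥ x :=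
    ⟨((g⁻¹ : GL (Fin n) F) : Matrix (Fin n) (Fin n) F) *ᵥ y, (gl_mulVec_inv_mulVec g y).symm⟩
  rw [gl_mul_mulVec, gl_mul_mulVec, gl_inv_mulVec_mulVec, qr_mulVec hf h,
    qr_mulVec hf (qcond_map hf hg h), mulVec_add, mulVec_smul, hg]

theorem qr_inv {s : F} {d : Fin n → F} (h : QCond σ f s d) : (qr f s d)⁻¹ = qr f (σ s) d := by
  refine inv_eq_of_mul_eq_one_right (gl_ext fun x => ?_)
  rw [gl_mul_mulVec, qr_mulVec hf (qcond_conj hf h), qr_mulVec hf h, Unit.add_left hf, Unit.smul_left hf,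
    Units.val_one, one_mulVec, add_assoc, ← add_smul]
  unfold QCond at h
  rw [show σ s * f x d + s * (f x d + σ s * f x d * f d d) = 0 by linear_combination f x d * h, zero_smul,
    add_zero]

theorem qr_smul {s a : F} {d : Fin n → F} (h : QCond σ f s (a • d)) :
    QCond σ f (s * (a * σ a)) d ∧ qr f s (a • d) = qr f (s * (a * σ a)) d := by
  have h' : QCond σ f (s * (a * σ a)) d := by
    unfold QCond at h ⊢
    rw [Unit.smul_left hf, Unit.smul_right hf] at h
    rw [map_mul, map_mul, hf.involutive]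
    linear_combination (a * σ a) * h
  refine ⟨h', gl_ext fun x => ?_⟩
  rw [qr_mulVec hf h, qr_mulVec hf h', Unit.smul_right hf, smul_smul]
  congr 2
  ring

theorem qr_comm {s t : F} {d e : Fin n → F} (h : QCond σ f s d) (h' : QCond σ f t e) (ho : f d e = 0) :
    qr f s d * qr f t e = qr f t e * qr f s d := by
  refine gl_ext fun x => ?_
  rw [gl_mul_mulVec, gl_mul_mulVec, qr_mulVec hf h', qr_mulVec hf h, qr_mulVec hf h, qr_mulVec hf h',
    Unit.add_left hf, Unit.add_left hf, Unit.smul_left hf, Unit.smul_left hf, ho, Unit.eq_zero_comm hf ho,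
    mul_zero, mul_zero, add_zero, add_zero, add_right_comm]

theorem kGrp_of {g : GL (Fin n) F} (h : g ∈ isoGroup f) (hd : (g : Matrix (Fin n) (Fin n) F).det = 1) :
    g ∈ kGrp f := ⟨h, mem_specialLinear.2 hd⟩

theorem formTv_iso {v : Fin n → F} (hv : f v v = 0) {c : F} (hc : c + σ c = 0) : formTv f v c ∈ kGrp f :=
  ⟨Unit.formTv_isometry hf hv hc, formTv_mem_specialLinear _ _ _⟩

theorem neg_right (x y : Fin n → F) : f x (-y) = -f x y := by
  rw [← neg_one_smul F y, Unit.smul_right hf, map_neg, map_one, neg_one_mul]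

theorem cen_zero (M : Subgroup (GL (Fin n) F)) : (0 : Fin n → F) ∈ Cen σ f M := by
  refine ⟨Unit.zero_left hf 0, fun c _ => ?_⟩
  rw [formTv, tv_zero_left]
  exact M.one_mem

theorem cen_smul {M : Subgroup (GL (Fin n) F)} {v : Fin n → F} (hv : v ∈ Cen σ f M) (a : F) :
    a • v ∈ Cen σ f M := by
  refine ⟨by rw [Unit.smul_left hf, Unit.smul_right hf, hv.1, mul_zero, mul_zero], fun c hc => ?_⟩
  rw [Unit.formTv_smul hf a hv.1]
  refine hv.2 _ ?_
  rw [map_mul, map_mul, hf.involutive]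
  linear_combination (a * σ a) * hc

theorem cen_map {M : Subgroup (GL (Fin n) F)} {g : GL (Fin n) F} (hg : g ∈ M) (hgi : Symp.IsIsometry f g)
    {v : Fin n → F} (hv : v ∈ Cen σ f M) : (g : Matrix (Fin n) (Fin n) F) *ᵥ v ∈ Cen σ f M := by
  refine ⟨by rw [hgi]; exact hv.1, fun c hc => ?_⟩
  have h := M.mul_mem (M.mul_mem hg (hv.2 c hc)) (M.inv_mem hg)
  rwa [← UnitOrth.root_zero hf hv.1, UnitOrth.root_conj hf hgi hv.1 (Unit.zero_right hf v), mulVec_zero,
    UnitOrth.root_zero hf (by rw [hgi]; exact hv.1)] at h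

/-- Two centres with skew non-zero pairing have a centre as sum. -/
theorem cen_add {M : Subgroup (GL (Fin n) F)} {u v : Fin n → F} (hu : u ∈ Cen σ f M) (hv : v ∈ Cen σ f M)
    (h0 : f u v ≠ 0) (hs : f u v + σ (f u v) = 0) : u + v ∈ Cen σ f M := by
  have hvu : f v u ≠ 0 := Unit.ne_zero_comm hf h0
  have hc : (f v u)⁻¹ + σ (f v u)⁻¹ = 0 := by
    rw [map_inv₀, Unit.conj_form hf, hf.herm v u, eq_neg_of_add_eq_zero_right hs, inv_neg, neg_add_cancel]
  have h := cen_map hf (hu.2 _ hc) (Unit.formTv_isometry hf hu.1 hc) hv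
  rwa [Unit.formTv_mulVec hf hu.1, inv_mul_cancel₀ hvu, one_smul, add_comm] at h

theorem exists_value {Y : Submodule F (Fin n → F)} (hY : Cfsg.Geo.IsNondegenerateOn f Y) {y : Fin n → F}
    (hy : y ∈ Y) (hy0 : y ≠ 0) {b : F} (hb : σ b = b) : ∃ w ∈ Y, f w w = b := by
  obtain ⟨a, ha, haa⟩ := UnitPow.exists_nonisotropic hf hY hy hy0
  obtain ⟨t, ht⟩ := Unit.exists_norm hf.ne_refl hf.involutive
    (show σ (b / f a a) = b / f a a by rw [map_div₀, hb, Unit.self_fixed hf])
  refine ⟨t • a, Y.smul_mem _ ha, ?_⟩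
  rw [Unit.smul_left hf, Unit.smul_right hf, ← mul_assoc, ht, div_mul_cancel₀ _ haa]

/-- The part of a non-degenerate subspace orthogonal to a non-isotropic vector. -/
theorem line_compl {X : Submodule F (Fin n → F)} (hX : Cfsg.Geo.IsNondegenerateOn f X) {d : Fin n → F}
    (hd : d ∈ X) (hdd : f d d ≠ 0) (h2 : 2 ≤ Module.finrank F X) :
    Cfsg.Geo.IsNondegenerateOn f (X ⊓ Unit.perp hf (Submodule.span F {d})) ∧
      ∃ y ∈ X ⊓ Unit.perp hf (Submodule.span F {d}), y ≠ 0 := by
  have hmem : ∀ y, y ∈ Unit.perp hf (Submodule.span F {d}) ↔ f y d = 0 := fun y => by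
    rw [Unit.mem_perp hf]
    refine ⟨fun h => h d (Submodule.mem_span_singleton_self d), fun h w hw => ?_⟩
    obtain ⟨r, rfl⟩ := Submodule.mem_span_singleton.1 hw
    rw [Unit.smul_right hf, h, mul_zero]
  have hproj : ∀ x ∈ X, x - (f x d / f d d) • d ∈ X ⊓ Unit.perp hf (Submodule.span F {d}) := fun x hx =>
    ⟨X.sub_mem hx (X.smul_mem _ hd), (hmem _).2 (by
      rw [Unit.sub_left hf, Unit.smul_left hf, div_mul_cancel₀ _ hdd, sub_self])⟩
  constructor
  · intro y hy hy0
    have hyd := (hmem y).1 hy.2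
    obtain ⟨x, hx, hxy⟩ := (hX y hy.1 hy0).1
    have e : f (x - (f x d / f d d) • d) y = f x y := by
      rw [Unit.sub_left hf, Unit.smul_left hf, Unit.eq_zero_comm hf hyd, mul_zero, sub_zero]
    exact ⟨⟨_, hproj x hx, by rwa [e]⟩, ⟨_, hproj x hx, Unit.ne_zero_comm hf (by rwa [e])⟩⟩
  · refine Submodule.exists_mem_ne_zero_of_ne_bot fun h => ?_
    have hle : X ≤ Submodule.span F {d} := fun x hx => by
      have := hproj x hx
      rw [h, Submodule.mem_bot, sub_eq_zero] at this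
      exact Submodule.mem_span_singleton.2 ⟨_, this.symm⟩
    have h1 := Submodule.finrank_mono hle
    rw [finrank_span_singleton (fun h0 => hdd (by rw [h0, Unit.zero_left hf]))] at h1
    omega

/-- The part of a non-degenerate subspace orthogonal to a hyperbolic pair. -/
theorem pair_compl {X : Submodule F (Fin n → F)} (hX : Cfsg.Geo.IsNondegenerateOn f X) {u z : Fin n → F}
    (hu : u ∈ X) (hz : z ∈ X) (huu : f u u = 0) (hzz : f z z = 0) (huz : f u z ≠ 0)
    (h3 : 3 ≤ Module.finrank F X) :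
    ∃ Y : Submodule F (Fin n → F), Y ≤ X ∧ Cfsg.Geo.IsNondegenerateOn f Y ∧ (∃ y ∈ Y, y ≠ 0) ∧
      ∀ y ∈ Y, f y u = 0 ∧ f y z = 0 := by
  classical
  have hzu := Unit.ne_zero_comm hf huz
  set Y := X ⊓ Unit.perp hf (Submodule.span F {u, z}) with hY
  have hmem : ∀ y ∈ Y, f y u = 0 ∧ f y z = 0 := fun y hy =>
    ⟨(Unit.mem_perp hf).1 hy.2 u (Submodule.subset_span (by simp)),
      (Unit.mem_perp hf).1 hy.2 z (Submodule.subset_span (by simp))⟩
  have hproj : ∀ x ∈ X, x - (f x z / f u z) • u - (f x u / f z u) • z ∈ Y := by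
    intro x hx
    refine ⟨X.sub_mem (X.sub_mem hx (X.smul_mem _ hu)) (X.smul_mem _ hz), (Unit.mem_perp hf).2 fun w hw => ?_⟩
    obtain ⟨r, s, rfl⟩ := Submodule.mem_span_pair.1 hw
    simp only [Unit.sub_left hf, Unit.add_right hf, Unit.smul_left hf, Unit.smul_right hf, huu, hzz,
      mul_zero, div_mul_cancel₀ _ huz, div_mul_cancel₀ _ hzu]
    field_simp
    ring
  refine ⟨Y, inf_le_left, ?_, ?_, hmem⟩
  · intro y hy hy0
    obtain ⟨h2, h4⟩ := hmem y hy
    obtain ⟨x, hx, hxy⟩ := (hX y hy.1 hy0).1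
    have e : f (x - (f x z / f u z) • u - (f x u / f z u) • z) y = f x y := by
      rw [Unit.sub_left hf, Unit.sub_left hf, Unit.smul_left hf, Unit.smul_left hf,
        Unit.eq_zero_comm hf h2, Unit.eq_zero_comm hf h4]
      ring
    exact ⟨⟨_, hproj x hx, by rwa [e]⟩, ⟨_, hproj x hx, Unit.ne_zero_comm hf (by rwa [e])⟩⟩
  · refine Submodule.exists_mem_ne_zero_of_ne_bot fun h => ?_
    have hle : X ≤ Submodule.span F {u, z} := fun x hx => by
      have := hproj x hx
      rw [h, Submodule.mem_bot, sub_sub, sub_eq_zero] at this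
      exact Submodule.mem_span_pair.2 ⟨_, _, this.symm⟩
    have h1 := Submodule.finrank_mono hle
    have h2 := finrank_span_finset_le_card (R := F) ({u, z} : Finset (Fin n → F))
    rw [Finset.coe_pair, Set.finrank] at h2
    have h4 : Finset.card ({u, z} : Finset (Fin n → F)) ≤ 2 := Finset.card_le_two
    omega

omit hf

/-- The fixed field has an element besides zero and one. -/
def Big (σ : F ≃+* F) : Prop := ∃ a, σ a = a ∧ a ≠ 0 ∧ a ≠ 1

include hf

theorem exists_skew_ne (hB : Big σ) (a : F) : ∃ c, c ≠ 0 ∧ c + σ c = 0 ∧ c ≠ a := by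
  obtain ⟨c, hc0, hc⟩ := Unit.exists_skew hf.ne_refl hf.involutive
  by_cases h : c = a
  · obtain ⟨b, hb, hb0, hb1⟩ := hB
    refine ⟨b * c, mul_ne_zero hb0 hc0, by rw [map_mul, hb]; linear_combination b * hc, fun h' => hb1 ?_⟩
    exact mul_right_cancel₀ hc0 (by rw [one_mul, h', h])
  · exact ⟨c, hc0, hc, h⟩

/-- A vector of given value whose pairing with a given vector is shifted into the skew elements. -/
theorem exists_part {X : Submodule F (Fin n → F)} (hX : Cfsg.Geo.IsNondegenerateOn f X)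
    (h2 : 2 ≤ Module.finrank F X) (hbig : 3 ≤ Module.finrank F X ∨ Big σ) {x : Fin n → F}
    (hx : ∃ y ∈ X, f x y ≠ 0) {a : F} (ha : σ a = a) :
    ∃ w ∈ X, f w w = -a ∧ f w x + a ≠ 0 ∧ f w x + a + σ (f w x + a) = 0 := by
  obtain ⟨x', hx', x'', hx'', rfl⟩ := Submodule.mem_sup.1
    ((Unit.isCompl_perp hf hX).sup_eq_top ▸ Submodule.mem_top (x := x))
  have hpair : ∀ w ∈ X, f w (x' + x'') = f w x' := fun w hw => by
    rw [Unit.add_right hf, (Unit.mem_perp' hf).1 hx'' w hw, add_zero]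
  have hx'0 : x' ≠ 0 := by
    rintro rfl
    obtain ⟨y, hy, hxy⟩ := hx
    rw [zero_add] at hxy
    exact hxy ((Unit.mem_perp hf).1 hx'' y hy)
  have hna : σ (-a) = -a := by rw [map_neg, ha]
  obtain ⟨c, hc0, hc, hca⟩ : ∃ c, c ≠ 0 ∧ c + σ c = 0 ∧ (3 ≤ Module.finrank F X ∨ c ≠ a) := by
    rcases hbig with h | h
    · obtain ⟨c, hc0, hc⟩ := Unit.exists_skew hf.ne_refl hf.involutive
      exact ⟨c, hc0, hc, Or.inl h⟩
    · obtain ⟨c, hc0, hc, hca⟩ := exists_skew_ne hf h a
      exact ⟨c, hc0, hc, Or.inr hca⟩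
  suffices ∃ w ∈ X, f w w = -a ∧ f w x' = c - a by
    obtain ⟨w, hw, hww, hwx⟩ := this
    exact ⟨w, hw, hww, by rw [hpair w hw, hwx, sub_add_cancel]; exact hc0,
      by rw [hpair w hw, hwx, sub_add_cancel]; exact hc⟩
  by_cases hm : f x' x' = 0
  · obtain ⟨z, hz, hzz, hxz⟩ : ∃ z ∈ X, f z z = 0 ∧ f x' z ≠ 0 := by
      obtain ⟨y, hy, hxy⟩ := (hX x' hx' hx'0).2
      exact UnitCentres.exists_iso_nonorth hf hX h2 hy hxy
    have hzx := Unit.ne_zero_comm hf hxz
    by_cases hT : c - a = 0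
    · have h3 : 3 ≤ Module.finrank F X := hca.resolve_right fun h => h (sub_eq_zero.1 hT)
      obtain ⟨Y, hYX, hY, ⟨y, hy, hy0⟩, hYo⟩ := pair_compl hf hX hx' hz hm hzz hxz h3
      obtain ⟨w, hw, hww⟩ := exists_value hf hY hy hy0 hna
      exact ⟨w, hYX hw, hww, by rw [hT, (hYo w hw).1]⟩
    · obtain ⟨l, hl⟩ := Unit.exists_trace hf.ne_refl hf.involutive hna
      refine ⟨((c - a) / f z x') • z + (σ (l / (c - a))) • x', X.add_mem (X.smul_mem _ hz) (X.smul_mem _ hx'),
        ?_, ?_⟩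
      · simp only [Unit.add_left hf, Unit.add_right hf, Unit.smul_left hf, Unit.smul_right hf, hzz, hm,
          hf.involutive, mul_zero, add_zero, zero_add]
        have e1 : (c - a) / f z x' * (l / (c - a) * f z x') = l := by field_simp
        have e2 : σ (l / (c - a)) * (σ ((c - a) / f z x') * f x' z) = σ l := by
          rw [← Unit.conj_form hf z x', ← map_mul, ← map_mul]
          congr 1
          field_simp
        rw [e1, e2, hl]
      · rw [Unit.add_left hf, Unit.smul_left hf, Unit.smul_left hf, hm, mul_zero, add_zero,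
          div_mul_cancel₀ _ hzx]
  · obtain ⟨hY, y, hy, hy0⟩ := line_compl hf hX hx' hm h2
    set α := (c - a) / f x' x' with hα
    obtain ⟨w, hw, hww⟩ := exists_value hf hY hy hy0
      (show σ (-a - α * σ α * f x' x') = -a - α * σ α * f x' x' by
        rw [map_sub, hna, map_mul, map_mul, hf.involutive, Unit.self_fixed hf, mul_comm (σ α)])
    have hwx : f w x' = 0 := (Unit.mem_perp hf).1 hw.2 x' (Submodule.mem_span_singleton_self x')
    refine ⟨α • x' + w, X.add_mem (X.smul_mem _ hx') hw.1, ?_, ?_⟩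
    · simp only [Unit.add_left hf, Unit.add_right hf, Unit.smul_left hf, Unit.smul_right hf, hwx,
        Unit.eq_zero_comm hf hwx, hww]
      ring
    · rw [Unit.add_left hf, Unit.smul_left hf, hwx, add_zero, hα, div_mul_cancel₀ _ hm]

end CfsgLib.GeomClasses.UnitQr
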