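import Cfsg.Agent.Lib.GeomClasses.Basic

/-!
Transport of maximality along automorphisms of the ambient group.
-/

set_option autoImplicit false

namespace CfsgLib.GeomClasses

open scoped MatrixGroups

theorem isMaximalIn_map {G : Type*} [Group G] (e : G ≃* G) {K H : Subgroup G}
    (h : Cfsg.Geo.IsMaximalIn K H) :
    Cfsg.Geo.IsMaximalIn (K.map e.toMonoidHom) (H.map e.toMonoidHom) := by
  have hinj : Function.Injective e.toMonoidHom := e.injective
  refine ⟨?_, fun M h1 h2 => ?_⟩
  · exact lt_of_le_of_ne (Subgroup.map_mono h.1.le) fun heq => h.1.ne (Subgroup.map_injective hinj heq)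
  · have h3 : M = (M.comap e.toMonoidHom).map e.toMonoidHom :=
      (Subgroup.map_comap_eq_self_of_surjective e.surjective M).symm
    rcases h.2 (M.comap e.toMonoidHom) (Subgroup.map_le_iff_le_comap.1 h1)
      (by rw [← Subgroup.map_le_map_iff_of_injective hinj, ← h3]; exact h2) with h' | h'
    · left; rw [h3, h']
    · right; rw [h3, h']

variable {ι : Type} [Fintype ι] [DecidableEq ι] {F : Type*} [Field F]

theorem map_conj_specialLinear (P : GL ι F) :
    (Cfsg.Geo.specialLinear ι F).map (MulAut.conj P).toMonoidHom = Cfsg.Geo.specialLinear ι F := by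
  have hnorm : (Cfsg.Geo.specialLinear ι F).Normal := MonoidHom.normal_ker _
  ext g
  refine ⟨?_, fun hg => ⟨P⁻¹ * g * P, ?_, ?_⟩⟩
  · rintro ⟨h, hh, rfl⟩
    exact hnorm.conj_mem h hh P
  · have := hnorm.conj_mem g hg P⁻¹
    rwa [inv_inv] at this
  · change P * (P⁻¹ * g * P) * P⁻¹ = g
    group

end CfsgLib.GeomClasses
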