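import Cfsg.Agent.Lib.GeomClasses.UnitPow
import Cfsg.Agent.Lib.ClassicalGroups.UnitaryGen

/-!
A subgroup of GL containing all unitary transvections contains the special unitary group.
-/

set_option autoImplicit false

namespace CfsgLib.GeomClasses.UnitGen

open Matrix CfsgLib.GeomClasses.UnitPow

variable {F : Type*} [Field F] [Fintype F] {q n : ℕ}

theorem specialUnitary_le_of_formTv_mem (hF : Fintype.card F = q ^ 2) (hn : 3 ≤ n) (h32 : ¬(n = 3 ∧ q = 2))
    {M : Subgroup (GL (Fin n) F)}
    (hM : ∀ v, Cfsg.hermForm n F q v v = 0 → ∀ c, c + c ^ q = 0 → formTv (Cfsg.hermForm n F q) v c ∈ M) :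
    Cfsg.GU n F q ⊓ Cfsg.Geo.specialLinear (Fin n) F ≤ M := by
  have hf := isUnitaryForm_hermForm hF n
  rintro g ⟨hg, hgd⟩
  have hdet : (g : Matrix (Fin n) (Fin n) F).det = 1 := by
    have := congrArg Units.val (MonoidHom.mem_ker.1 hgd)
    simpa using this
  have h := CfsgLib.ClassicalGroups.mem_tvGroup_of_det hF hn h32 (⟨g, hg⟩ : Cfsg.GU n F q) hdet
  have hle : CfsgLib.ClassicalGroups.tvGroup n F q ≤ M.comap (Cfsg.GU n F q).subtype := by
    refine (Subgroup.closure_le _).2 ?_
    rintro t ⟨v, c, hv, ht⟩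
    have heq : ∀ x, (t.1 : Matrix (Fin n) (Fin n) F) *ᵥ x = x + (c * Cfsg.hermForm n F q x v) • v := by
      intro x
      rw [ht, Cfsg.unitaryTransvection, add_mulVec, one_mulVec, smul_mulVec, vecMulVec_mulVec,
        op_smul_eq_smul, smul_smul]
      congr 3
      simp [Cfsg.hermForm, dotProduct, mul_comm]
    have hft : t.1 = formTv (Cfsg.hermForm n F q) v c := gl_ext fun x => by
      rw [heq, Unit.formTv_mulVec hf hv]
    show t.1 ∈ M
    by_cases hv0 : v = 0
    · subst hv0
      rw [show t.1 = 1 from gl_ext fun x => by simp [heq]]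
      exact M.one_mem
    rw [hft]
    refine hM v hv c ?_
    obtain ⟨y, hy⟩ := (hf.nondegenerate v hv0).1
    have := mem_GU.1 t.2 y y
    rw [heq, Unit.add_left hf, Unit.add_right hf, Unit.add_right hf, Unit.smul_left hf, Unit.smul_left hf,
      Unit.smul_right hf, Unit.smul_right hf, hv, map_mul, Unit.conj_form hf, conj_apply] at this
    have h2 : (c + c ^ q) * (Cfsg.hermForm n F q y v * Cfsg.hermForm n F q v y) = 0 := by
      linear_combination this
    exact (mul_eq_zero.1 h2).resolve_right (mul_ne_zero hy (Unit.ne_zero_comm hf hy))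
  exact hle h

end CfsgLib.GeomClasses.UnitGen
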