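import Cfsg.Agent.Lib.GeomClasses.UnitOrth
import Cfsg.Agent.Lib.GeomClasses.UnitGen

/-!
Isotropic vectors in non-degenerate subspaces, and root elements moving transvection centres.
-/

set_option autoImplicit false
set_option linter.unusedSectionVars false

namespace CfsgLib.GeomClasses.UnitCentres

open Matrix UnitOrth

variable {n : ℕ} {F : Type*} [Field F] [Fintype F] {σ : F ≃+* F} {f : (Fin n → F) → (Fin n → F) → F}
  (hf : Cfsg.Geo.IsUnitaryForm σ f)
include hf

theorem exists_iso {X : Submodule F (Fin n → F)} (hX : Cfsg.Geo.IsNondegenerateOn f X)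
    (h2 : 2 ≤ Module.finrank F X) : ∃ v ∈ X, v ≠ 0 ∧ f v v = 0 := by
  obtain ⟨w, hw, hw0⟩ := Submodule.exists_mem_ne_zero_of_ne_bot (p := X) fun h => by
    rw [h, finrank_bot] at h2; omega
  obtain ⟨a, ha, haa⟩ := UnitPow.exists_nonisotropic hf hX hw hw0
  obtain ⟨x, hx, hxa⟩ : ∃ x ∈ X, x ∉ Submodule.span F {a} := by
    by_contra h
    push Not at h
    have h1 := Submodule.finrank_mono (show X ≤ Submodule.span F {a} from h)
    rw [finrank_span_singleton (fun h0 => haa (by rw [h0, Unit.zero_left hf]))] at h1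
    omega
  set b := x - (f x a / f a a) • a with hb
  have hba : f b a = 0 := by rw [hb, Unit.sub_left hf, Unit.smul_left hf, div_mul_cancel₀ _ haa, sub_self]
  have hb0 : b ≠ 0 := fun h => hxa (Submodule.mem_span_singleton.2 ⟨_, (sub_eq_zero.1 h).symm⟩)
  have hbX : b ∈ X := X.sub_mem hx (X.smul_mem _ ha)
  by_cases hbb : f b b = 0
  · exact ⟨b, hbX, hb0, hbb⟩
  obtain ⟨t, ht⟩ := Unit.exists_norm hf.ne_refl hf.involutive
    (show σ (- f a a / f b b) = - f a a / f b b by rw [map_div₀, map_neg, Unit.self_fixed hf, Unit.self_fixed hf])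
  refine ⟨a + t • b, X.add_mem ha (X.smul_mem _ hbX), fun h => ?_, ?_⟩
  · have := congrArg (fun z => f z a) h
    simp only [Unit.add_left hf, Unit.smul_left hf, Unit.zero_left hf, hba, mul_zero, add_zero] at this
    exact haa this
  · rw [Unit.self_add_smul hf, ht, hba, mul_zero, map_zero, div_mul_cancel₀ _ hbb]
    ring

/-- Every subspace of dimension at least two has a non-zero isotropic vector. -/
theorem exists_iso_any {X : Submodule F (Fin n → F)} (h2 : 2 ≤ Module.finrank F X) :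
    ∃ v ∈ X, v ≠ 0 ∧ f v v = 0 := by
  obtain ⟨a, ha, ha0⟩ := Submodule.exists_mem_ne_zero_of_ne_bot (p := X) fun h => by
    rw [h, finrank_bot] at h2; omega
  by_cases haa : f a a = 0
  · exact ⟨a, ha, ha0, haa⟩
  obtain ⟨x, hx, hxa⟩ : ∃ x ∈ X, x ∉ Submodule.span F {a} := by
    by_contra h
    push Not at h
    have h1 := Submodule.finrank_mono (show X ≤ Submodule.span F {a} from h)
    rw [finrank_span_singleton ha0] at h1
    omega
  set b := x - (f x a / f a a) • a with hb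
  have hba : f b a = 0 := by rw [hb, Unit.sub_left hf, Unit.smul_left hf, div_mul_cancel₀ _ haa, sub_self]
  have hb0 : b ≠ 0 := fun h => hxa (Submodule.mem_span_singleton.2 ⟨_, (sub_eq_zero.1 h).symm⟩)
  have hbX : b ∈ X := X.sub_mem hx (X.smul_mem _ ha)
  by_cases hbb : f b b = 0
  · exact ⟨b, hbX, hb0, hbb⟩
  obtain ⟨t, ht⟩ := Unit.exists_norm hf.ne_refl hf.involutive
    (show σ (- f a a / f b b) = - f a a / f b b by rw [map_div₀, map_neg, Unit.self_fixed hf, Unit.self_fixed hf])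
  refine ⟨a + t • b, X.add_mem ha (X.smul_mem _ hbX), fun h => ?_, ?_⟩
  · have := congrArg (fun z => f z a) h
    simp only [Unit.add_left hf, Unit.smul_left hf, Unit.zero_left hf, hba, mul_zero, add_zero] at this
    exact haa this
  · rw [Unit.self_add_smul hf, ht, hba, mul_zero, map_zero, div_mul_cancel₀ _ hbb]
    ring

theorem exists_iso_nonorth {X : Submodule F (Fin n → F)} (hX : Cfsg.Geo.IsNondegenerateOn f X)
    (h2 : 2 ≤ Module.finrank F X) {x : Fin n → F} {y : Fin n → F} (hy : y ∈ X) (hxy : f x y ≠ 0) :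
    ∃ z ∈ X, f z z = 0 ∧ f x z ≠ 0 := by
  obtain ⟨v, hv, hv0, hvv⟩ := exists_iso hf hX h2
  by_cases hxv : f x v = 0
  · obtain ⟨y', hy', hxy', hyv⟩ : ∃ y' ∈ X, f x y' ≠ 0 ∧ f y' v ≠ 0 := by
      by_cases h : f y v = 0
      · obtain ⟨p, hp, hpv⟩ := (hX v hv hv0).1
        by_cases hxp : f x p = 0
        · exact ⟨y + p, X.add_mem hy hp, by rwa [Unit.add_right hf, hxp, add_zero],
            by rwa [Unit.add_left hf, h, zero_add]⟩
        · exact ⟨p, hp, hxp, hpv⟩
      · exact ⟨y, hy, hxy, h⟩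
    obtain ⟨a, ha⟩ := Unit.exists_isotropic_add hf hvv hyv
    exact ⟨_, X.add_mem hy' (X.smul_mem a hv), ha, by
      rwa [Unit.add_right hf, Unit.smul_right hf, hxv, mul_zero, add_zero]⟩
  · exact ⟨v, hv, hvv, hxv⟩

theorem exists_iso_both {X : Submodule F (Fin n → F)} (hX : Cfsg.Geo.IsNondegenerateOn f X)
    (h2 : 2 ≤ Module.finrank F X) {x x' : Fin n → F} (hx : ∃ y ∈ X, f x y ≠ 0) (hx' : ∃ y ∈ X, f x' y ≠ 0) :
    ∃ z ∈ X, f z z = 0 ∧ f x z ≠ 0 ∧ f x' z ≠ 0 := by
  obtain ⟨y, hy, hxy⟩ := hx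
  obtain ⟨y', hy', hxy'⟩ := hx'
  obtain ⟨z, hz, hzz, hxz⟩ := exists_iso_nonorth hf hX h2 hy hxy
  obtain ⟨z', hz', hzz', hxz'⟩ := exists_iso_nonorth hf hX h2 hy' hxy'
  by_cases h1 : f x' z = 0
  · by_cases h3 : f x z' = 0
    · obtain ⟨t, ht0, ht⟩ : ∃ t : F, t ≠ 0 ∧ t * f z' z + σ (t * f z' z) = 0 := by
        by_cases h4 : f z' z = 0
        · exact ⟨1, one_ne_zero, by rw [h4, mul_zero, map_zero, add_zero]⟩
        · obtain ⟨c, hc, hc'⟩ := Unit.exists_skew hf.ne_refl hf.involutive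
          exact ⟨c / f z' z, div_ne_zero hc h4, by rwa [div_mul_cancel₀ _ h4]⟩
      refine ⟨z + t • z', X.add_mem hz (X.smul_mem _ hz'), ?_, ?_, ?_⟩
      · rw [Unit.self_add_smul hf, hzz, hzz', ht]; ring
      · rwa [Unit.add_right hf, Unit.smul_right hf, h3, mul_zero, add_zero]
      · rw [Unit.add_right hf, Unit.smul_right hf, h1, zero_add]
        exact mul_ne_zero ((RingEquiv.map_ne_zero_iff σ).2 ht0) hxz'
    · exact ⟨z', hz', hzz', h3, hxz'⟩
  · exact ⟨z, hz, hzz, hxz, h1⟩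

/-- The root element carrying `w` to `v`. -/
theorem exists_root_move {a w v : Fin n → F} (ha : f a a = 0) (hw : f w w = 0) (hv : f v v = 0)
    (he : f v a = f w a) (he0 : f w a ≠ 0) :
    ∃ γ, f a ((f w a)⁻¹ • (v - w)) = 0 ∧
      γ + σ γ = - f ((f w a)⁻¹ • (v - w)) ((f w a)⁻¹ • (v - w)) ∧
      (root f a ((f w a)⁻¹ • (v - w)) γ : Matrix (Fin n) (Fin n) F) *ᵥ w = v := by
  set b := (f w a)⁻¹ • (v - w) with hb
  have hab : f a b = 0 := Unit.eq_zero_comm hf (by
    rw [hb, Unit.smul_left hf, Unit.sub_left hf, he, sub_self, mul_zero])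
  refine ⟨f w b / f w a, hab, ?_, ?_⟩
  · have hvw : v = w + f w a • b := by
      rw [hb, smul_smul, mul_inv_cancel₀ he0, one_smul, add_sub_cancel]
    have hs0 : σ (f w a) ≠ 0 := (RingEquiv.map_ne_zero_iff σ).2 he0
    rw [hvw, Unit.self_add_smul hf, hw, map_mul, Unit.conj_form hf b w] at hv
    rw [map_div₀, Unit.conj_form hf w b, eq_neg_iff_add_eq_zero]
    field_simp
    linear_combination hv
  · rw [root_mulVec hf ha hab, div_mul_cancel₀ _ he0, sub_self, zero_smul, add_zero, hb, smul_smul,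
      mul_inv_cancel₀ he0, one_smul, add_sub_cancel]

/-- The isotropic vectors of a non-degenerate subspace of dimension at least two span it. -/
theorem le_of_iso {X Y : Submodule F (Fin n → F)} (hX : Cfsg.Geo.IsNondegenerateOn f X)
    (h2 : 2 ≤ Module.finrank F X) (hY : ∀ v ∈ X, f v v = 0 → v ∈ Y) : X ≤ Y := by
  intro x hx
  by_cases hx0 : x = 0
  · rw [hx0]; exact Y.zero_mem
  obtain ⟨y, hy, hxy⟩ := (hX x hx hx0).2
  obtain ⟨z, hz, hzz, hxz⟩ := exists_iso_nonorth hf hX h2 hy hxy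
  obtain ⟨a, ha⟩ := Unit.exists_isotropic_add hf hzz hxz
  have := Y.sub_mem (hY _ (X.add_mem hx (X.smul_mem a hz)) ha) (Y.smul_mem a (hY z hz hzz))
  rwa [add_sub_cancel_right] at this

/-- The perpendicular of a non-degenerate subspace is non-degenerate. -/
theorem perp_nondegenerate {W : Submodule F (Fin n → F)} (hW : Cfsg.Geo.IsNondegenerateOn f W) :
    Cfsg.Geo.IsNondegenerateOn f (Unit.perp hf W) := by
  intro x hx hx0
  obtain ⟨y, hy⟩ := (hf.nondegenerate x hx0).1
  obtain ⟨y₁, hy₁, y₂, hy₂, rfl⟩ := Submodule.mem_sup.1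
    ((Unit.isCompl_perp hf hW).sup_eq_top ▸ Submodule.mem_top (x := y))
  rw [Unit.add_left hf, (Unit.mem_perp' hf).1 hx y₁ hy₁, zero_add] at hy
  exact ⟨⟨y₂, hy₂, hy⟩, ⟨y₂, hy₂, Unit.ne_zero_comm hf hy⟩⟩

/-- An isotropic vector with equal pairing against a hyperbolic pair. -/
theorem exists_bisector {X : Submodule F (Fin n → F)} (hX : Cfsg.Geo.IsNondegenerateOn f X)
    (h3 : 3 ≤ Module.finrank F X) {u z : Fin n → F} (hu : u ∈ X) (hz : z ∈ X) (huu : f u u = 0) (hzz : f z z = 0)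
    (huz : f u z ≠ 0) : ∃ a ∈ X, f a a = 0 ∧ f u a = 1 ∧ f z a = 1 := by
  have hzu := Unit.ne_zero_comm hf huz
  have hs0 : ∀ {c : F}, c ≠ 0 → σ c ≠ 0 := fun h => (RingEquiv.map_ne_zero_iff σ).2 h
  set Y := X ⊓ Unit.perp hf (Submodule.span F {u, z}) with hY
  have hmemY : ∀ y, y ∈ Y ↔ y ∈ X ∧ f y u = 0 ∧ f y z = 0 := by
    intro y
    rw [hY, Submodule.mem_inf, Unit.mem_perp hf]
    constructor
    · rintro ⟨h1, h2⟩
      exact ⟨h1, h2 u (Submodule.subset_span (by simp)), h2 z (Submodule.subset_span (by simp))⟩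
    · rintro ⟨h1, h2, h4⟩
      refine ⟨h1, fun w hw => ?_⟩
      obtain ⟨r, s, rfl⟩ := Submodule.mem_span_pair.1 hw
      rw [Unit.add_right hf, Unit.smul_right hf, Unit.smul_right hf, h2, h4, mul_zero, mul_zero, add_zero]
  have hproj : ∀ x ∈ X, x - (f x z / f u z) • u - (f x u / f z u) • z ∈ Y := by
    intro x hx
    refine (hmemY _).2 ⟨X.sub_mem (X.sub_mem hx (X.smul_mem _ hu)) (X.smul_mem _ hz), ?_, ?_⟩
    · rw [Unit.sub_left hf, Unit.sub_left hf, Unit.smul_left hf, Unit.smul_left hf, huu,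
        div_mul_cancel₀ _ hzu]
      ring
    · rw [Unit.sub_left hf, Unit.sub_left hf, Unit.smul_left hf, Unit.smul_left hf, hzz,
        div_mul_cancel₀ _ huz]
      ring
  have hYn : Cfsg.Geo.IsNondegenerateOn f Y := by
    intro y hy hy0
    obtain ⟨h1, h2, h4⟩ := (hmemY y).1 hy
    obtain ⟨x, hx, hxy⟩ := (hX y h1 hy0).1
    have e : f (x - (f x z / f u z) • u - (f x u / f z u) • z) y = f x y := by
      rw [Unit.sub_left hf, Unit.sub_left hf, Unit.smul_left hf, Unit.smul_left hf,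
        Unit.eq_zero_comm hf h2, Unit.eq_zero_comm hf h4]
      ring
    exact ⟨⟨_, hproj x hx, by rwa [e]⟩, ⟨_, hproj x hx, Unit.ne_zero_comm hf (by rwa [e])⟩⟩
  obtain ⟨w, hw, hw0⟩ := Submodule.exists_mem_ne_zero_of_ne_bot (p := Y) fun h => by
    have hle : X ≤ Submodule.span F {u, z} := fun x hx => by
      have := hproj x hx
      rw [h, Submodule.mem_bot, sub_sub, sub_eq_zero] at this
      exact Submodule.mem_span_pair.2 ⟨_, _, this.symm⟩
    classical
    have h1 := Submodule.finrank_mono hle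
    have h2 := finrank_span_finset_le_card (R := F) ({u, z} : Finset (Fin n → F))
    rw [Finset.coe_pair, Set.finrank] at h2
    have h4 : Finset.card ({u, z} : Finset (Fin n → F)) ≤ 2 := Finset.card_le_two
    omega
  obtain ⟨y, hy, hyy⟩ := UnitPow.exists_nonisotropic hf hYn hw hw0
  obtain ⟨hyX, hyu, hyz⟩ := (hmemY y).1 hy
  set r := - ((f u z)⁻¹ + σ (f u z)⁻¹) with hr
  obtain ⟨t, ht⟩ := Unit.exists_norm hf.ne_refl hf.involutive
    (show σ (r / f y y) = r / f y y by
      rw [map_div₀, Unit.self_fixed hf, hr, map_neg, map_add, hf.involutive, add_comm])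
  refine ⟨(f u z)⁻¹ • u + (f z u)⁻¹ • z + t • y,
    X.add_mem (X.add_mem (X.smul_mem _ hu) (X.smul_mem _ hz)) (X.smul_mem _ hyX), ?_, ?_, ?_⟩
  · simp only [Unit.add_left hf, Unit.add_right hf, Unit.smul_left hf, Unit.smul_right hf, huu, hzz, hyu, hyz,
      Unit.eq_zero_comm hf hyu, Unit.eq_zero_comm hf hyz, map_inv₀, Unit.conj_form hf]
    rw [hr, eq_div_iff hyy, map_inv₀, Unit.conj_form hf] at ht
    field_simp at ht ⊢
    linear_combination ht
  · simp only [Unit.add_right hf, Unit.smul_right hf, huu, Unit.eq_zero_comm hf hyu, map_inv₀, Unit.conj_form hf]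
    rw [mul_zero, zero_add, mul_zero, add_zero, inv_mul_cancel₀ huz]
  · simp only [Unit.add_right hf, Unit.smul_right hf, hzz, Unit.eq_zero_comm hf hyz, map_inv₀, Unit.conj_form hf]
    rw [mul_zero, add_zero, mul_zero, add_zero, inv_mul_cancel₀ hzu]

theorem root_det {a b : Fin n → F} {γ : F} : root f a b γ ∈ Cfsg.Geo.specialLinear (Fin n) F :=
  mul_mem (tv_mem_specialLinear _ _) (tv_mem_specialLinear _ _)

end CfsgLib.GeomClasses.UnitCentres
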