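import Cfsg.Agent.Lib.GeomClasses.UnitFrameClass

/-!
A class member with several coordinates makes every isotropic vector a centre.
-/

set_option autoImplicit false
set_option linter.unusedSectionVars false
set_option linter.unusedSimpArgs false

namespace CfsgLib.GeomClasses.UnitFrame

open Matrix CfsgLib.GeomClasses.UnitQr CfsgLib.GeomClasses.UnitSymp CfsgLib.GeomClasses.UnitDecomp
  CfsgLib.GeomClasses.UnitCircle

variable {n : ℕ} {F : Type*} [Field F] [Fintype F] {σ : F ≃+* F} {f : (Fin n → F) → (Fin n → F) → F}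
  {t : ℕ} {D : Fin t → Submodule F (Fin n → F)} {e : Fin t → Fin n → F}

/-- Two quasi-reflections at vectors differing by an isotropic vector give a root element. -/
theorem duo_eq_root (hf : Cfsg.Geo.IsUnitaryForm σ f) {x u : Fin n → F} (hx : f x x = 1) (hu : f u u = 0)
    (hxu : f x u = 0) {ε : F} (hε : ε * σ ε = 1) :
    duo σ f (x + u) x ε = UnitOrth.root f u ((ε - 1) • x) (ε - 1) := by
  have hux := Unit.eq_zero_comm hf hxu
  have hy : f (x + u) (x + u) = 1 := by
    rw [Unit.add_left hf, Unit.add_right hf, Unit.add_right hf, hx, hu, hxu, hux]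
    ring
  refine gl_ext fun z => ?_
  rw [duo, gl_mul_mulVec, rho_mulVec hf hx (norm_conj hf hε), rho_mulVec hf hy hε,
    UnitOrth.root_mulVec hf hu (by rw [Unit.smul_right hf, hux, mul_zero]), Unit.smul_right hf]
  simp only [Unit.add_left hf, Unit.add_right hf, Unit.smul_left hf, hx, hxu, map_sub, map_one, smul_add]
  match_scalars
  · linear_combination
  · linear_combination (f z x) * hε
  · linear_combination (f z x) * hε

variable (P : Frame σ f D e) {M : Subgroup (GL (Fin n) F)} (hle : hGrp f D ≤ M)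
include P hle

theorem Frame.cen_base (hsm : ∀ w, f w w = 1 → ((sp f e w).card ≤ 4 ∨ (¬ Big σ ∧ (sp f e w).card ≤ 5)) →
    w ∈ cls σ f e M) {u : Fin n → F}
    (huu : f u u = 0) (hc : (sp f e u).card ≤ 3 ∨ (¬ Big σ ∧ (sp f e u).card ≤ 4)) : u ∈ Cen σ f M := by
  classical
  have hf := P.unit
  have ht := P.six_le
  obtain ⟨l, hl⟩ := P.exists_notMem (S := sp f e u)
    (by rcases hc with h | h; · omega
        · have := h.2; omega)
  have hlu : f u (e l) = 0 := by_contra fun h => hl (mem_sp.2 h)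
  have hel : f (e l) u = 0 := Unit.eq_zero_comm hf hlu
  obtain ⟨ε, hε, hεr⟩ := exists_nonreal hf.ne_refl hf.involutive
  have hε1 : ε ≠ 1 := fun h => hεr (by rw [h, map_one])
  set w := (ε - 1) • e l with hw
  have huw : f u w = 0 := by rw [hw, Unit.smul_right hf, hlu, mul_zero]
  have hroot : ∀ μ : F, μ ≠ 0 → UnitOrth.root f u (μ • w) ((ε - 1) * (μ * σ μ)) ∈ M := by
    intro μ hμ
    rw [UnitOrth.root_scale hf huu huw hμ,
      mul_div_cancel_right₀ _ (mul_ne_zero hμ ((RingEquiv.map_ne_zero_iff σ).2 hμ)), hw,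
      ← duo_eq_root hf (P.norm l) (by rw [Unit.smul_left hf, Unit.smul_right hf, huu, mul_zero, mul_zero])
        (by rw [Unit.smul_right hf, hel, mul_zero]) hε]
    refine P.cls_duo hle ?_ (P.cls_frame hle l) hε
    refine hsm _ ?_ ?_
    · rw [Unit.add_left hf, Unit.add_right hf, Unit.add_right hf]
      simp only [Unit.smul_left hf, Unit.smul_right hf, huu, hlu, hel, P.norm]
      ring
    · have hsub : sp f e (e l + σ μ • u) ⊆ insert l (sp f e u) := by
        intro a ha
        rw [mem_sp, Unit.add_left hf, Unit.smul_left hf] at ha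
        by_cases hal : a = l
        · simp [hal]
        · rw [P.orth (Ne.symm hal), zero_add] at ha
          exact Finset.mem_insert_of_mem (mem_sp.2 (right_ne_zero_of_mul ha))
      have := (Finset.card_le_card hsub).trans (Finset.card_insert_le _ _)
      rcases hc with h | ⟨hB, h⟩
      · exact Or.inl (by omega)
      · exact Or.inr ⟨hB, by omega⟩
  refine ⟨huu, fun c hc' => ?_⟩
  obtain ⟨e₀, he₀⟩ := Unit.exists_trace_ne_zero hf.ne_refl
  set N := f w w with hN
  have hNe : N = (ε - 1) * σ (ε - 1) := by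
    rw [hN, hw, Unit.smul_left hf, Unit.smul_right hf, P.norm, mul_one]
  have hN0 : N ≠ 0 := by
    rw [hNe]
    exact mul_ne_zero (sub_ne_zero.2 hε1) ((RingEquiv.map_ne_zero_iff σ).2 (sub_ne_zero.2 hε1))
  by_cases hc0 : c = 0
  · subst hc0
    have : formTv f u 0 = 1 := gl_ext fun x => by rw [Unit.formTv_mulVec hf huu]; simp
    rw [this]; exact M.one_mem
  set μ := -(c / N) * (e₀ / (e₀ + σ e₀)) with hμ
  have hμ0 : μ ≠ 0 := mul_ne_zero (neg_ne_zero.2 (div_ne_zero hc0 hN0)) (div_ne_zero (fun h => he₀ (by simp [h])) he₀)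
  have hcμ : (σ μ - μ) * N = c := by
    have hσN : σ N = N := by rw [hN]; exact Unit.self_fixed hf w
    have hσT : σ (e₀ + σ e₀) = e₀ + σ e₀ := by rw [map_add, hf.involutive, add_comm]
    rw [hμ, map_mul, map_neg, map_div₀, map_div₀, hσN, hσT, eq_neg_of_add_eq_zero_right hc']
    field_simp
    ring
  have h1 := hroot 1 one_ne_zero
  rw [one_smul, map_one, mul_one, mul_one] at h1
  have h3 := hroot μ hμ0
  have hμw : f u (μ • w) = 0 := by rw [Unit.smul_right hf, huw, mul_zero]
  have hsum : f u (w + μ • w) = 0 := by rw [Unit.add_right hf, huw, hμw, add_zero]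
  have e1 : f (μ • w) w = μ * N := Unit.smul_left hf μ w w
  have e2 : f w (μ • w) = σ μ * N := Unit.smul_right hf μ w w
  have key : UnitOrth.root f u w (ε - 1) * UnitOrth.root f u (μ • w) ((ε - 1) * (μ * σ μ)) =
      formTv f u c * (UnitOrth.root f u (μ • w) ((ε - 1) * (μ * σ μ)) * UnitOrth.root f u w (ε - 1)) := by
    rw [UnitOrth.root_mul hf huu huw hμw, UnitOrth.root_mul hf huu hμw huw, ← UnitOrth.root_zero hf huu,
      UnitOrth.root_mul hf huu (Unit.zero_right hf u) (by rw [add_comm]; exact hsum), zero_add,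
      Unit.zero_right hf, sub_zero, e1, e2, add_comm (μ • w)]
    congr 1
    linear_combination hcμ
  have h4 := M.mul_mem (M.mul_mem h1 h3) (M.inv_mem (M.mul_mem h3 h1))
  rwa [key, mul_inv_cancel_right] at h4

theorem Frame.cen_all (ht : 10 ≤ t) {x₀ : Fin n → F} (hx₀ : x₀ ∈ cls σ f e M) (h2 : 2 ≤ (sp f e x₀).card) :
    ∀ v, f v v = 0 → v ∈ Cen σ f M := by
  by_cases hB : Big σ
  · refine P.base.cen_of_small (r := 3) (by omega) (by omega) (Or.inr hB) fun v hv hc =>
      P.cen_base hle (fun w h hc => P.cls_small hle ht hx₀ h2 h hc) hv (Or.inl ?_)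
    rwa [P.supp_eq] at hc
  · refine P.base.cen_of_small (r := 4) (by omega) (by omega) (Or.inl (by omega)) fun v hv hc =>
      P.cen_base hle (fun w h hc => P.cls_small hle ht hx₀ h2 h hc) hv (Or.inr ⟨hB, ?_⟩)
    rwa [P.supp_eq] at hc

end CfsgLib.GeomClasses.UnitFrame
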