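import Cfsg.Agent.Lib.GeomClasses.UnitFrameOdd

/-!
No rigid overgroup of a monomial unitary group in six dimensions.
-/

set_option autoImplicit false
set_option linter.unusedSectionVars false
set_option linter.unusedSimpArgs false

namespace CfsgLib.GeomClasses.UnitFrame

open Matrix CfsgLib.GeomClasses.UnitQr CfsgLib.GeomClasses.UnitSymp CfsgLib.GeomClasses.UnitDecomp
  CfsgLib.GeomClasses.UnitCircle

/-- A suitable scalar of norm one exists outside the smallest field. -/
theorem exists_order_gt_three {F : Type*} [Field F] [Fintype F] {σ : F ≃+* F} (hne : σ ≠ RingEquiv.refl F)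
    (h2 : ∀ a, σ (σ a) = a) (hB : Big σ) : ∃ ε : F, ε * σ ε = 1 ∧ ε ^ 2 ≠ 1 ∧ ε ^ 3 ≠ 1 := by
  classical
  obtain ⟨x, hx, hxr⟩ := exists_nonreal hne h2
  have hx2 : x ^ 2 ≠ 1 := fun h => hxr (mul_left_cancel₀ (fun h0 : x = 0 => by simp [h0] at h)
    (hx.trans (by rw [← h, pow_two])))
  by_cases hx3 : x ^ 3 = 1
  swap
  · exact ⟨x, hx, hx2, hx3⟩
  obtain ⟨y, hy, hy3⟩ : ∃ y, y * σ y = 1 ∧ y ^ 3 ≠ 1 := by
    by_contra h
    push Not at h
    have hsub : circle σ ⊆ ((Polynomial.X ^ 3 - Polynomial.C 1 : Polynomial F).roots).toFinset := fun y hy => by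
      rw [Multiset.mem_toFinset, Polynomial.mem_roots (Polynomial.X_pow_sub_C_ne_zero (by norm_num) 1)]
      simp [h y (mem_circle.1 hy)]
    have h1 := (Finset.card_le_card hsub).trans (Multiset.toFinset_card_le _)
    have h3 := Polynomial.card_roots' (Polynomial.X ^ 3 - Polynomial.C 1 : Polynomial F)
    rw [Polynomial.natDegree_X_pow_sub_C] at h3
    rw [card_circle hne h2] at h1
    obtain ⟨z, hz, hz0, hz1⟩ := hB
    have h4 := Finset.card_le_card (show ({0, 1, z} : Finset F) ⊆ fixSet σ by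
      intro w hw
      simp only [Finset.mem_insert, Finset.mem_singleton] at hw
      rcases hw with rfl | rfl | rfl <;> simp [mem_fixSet, hz])
    rw [Finset.card_insert_of_notMem (by simp [Ne.symm hz0]), Finset.card_pair (Ne.symm hz1)] at h4
    omega
  by_cases hy2 : y ^ 2 = 1
  swap
  · exact ⟨y, hy, hy2, hy3⟩
  refine ⟨x * y, ?_, fun h => hx2 ?_, fun h => hy3 ?_⟩
  · rw [map_mul]; linear_combination (y * σ y) * hx + hy
  · rw [mul_pow, hy2, mul_one] at h; exact h
  · rw [mul_pow, hx3, one_mul] at h; exact h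

variable {n : ℕ} {F : Type*} [Field F] [Fintype F] {σ : F ≃+* F} {f : (Fin n → F) → (Fin n → F) → F}
  {t : ℕ} {D : Fin t → Submodule F (Fin n → F)} {e : Fin t → Fin n → F}

/-- The vector `c • e b` as the image of `e a` under two monomial descriptions. -/
theorem Frame.smul_e_inj (P : Frame σ f D e) {a b : Fin t} {c d : F} (hc : c ≠ 0) (h : c • e a = d • e b) :
    a = b ∧ c = d := by
  have hf := P.unit
  have h1 := congrArg (fun z => f z (e a)) h
  simp only [Unit.smul_left hf, P.norm, mul_one] at h1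
  by_cases hab : a = b
  · subst hab
    rw [P.norm, mul_one] at h1
    exact ⟨rfl, h1⟩
  · rw [P.orth (Ne.symm hab), mul_zero] at h1
    exact absurd h1 hc

theorem Frame.gl_ext' (P : Frame σ f D e) {g h : GL (Fin n) F}
    (he : ∀ l, (g : Matrix (Fin n) (Fin n) F) *ᵥ e l = (h : Matrix (Fin n) (Fin n) F) *ᵥ e l) : g = h :=
  gl_ext fun x => by
    rw [← P.expand x, mulVec_sum, mulVec_sum]
    exact Finset.sum_congr rfl fun l _ => by rw [mulVec_smul, mulVec_smul, he]

/-- The trace in frame coordinates. -/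
theorem Frame.trace_eq (P : Frame σ f D e) (g : Matrix (Fin n) (Fin n) F) :
    g.trace = ∑ a, f (g *ᵥ e a) (e a) := by
  classical
  have hf := P.unit
  have key : ∀ (a : Fin t), f (g *ᵥ e a) (e a) =
      ∑ i, ∑ j, g i j * (f (Pi.single i (1 : F)) (e a) * e a j) := fun a => by
    conv_lhs => arg 1; rw [pi_eq_sum_univ' (g *ᵥ e a)]
    rw [(Unit.sesq hf).sum_left]
    refine Finset.sum_congr rfl fun i _ => ?_
    rw [Unit.smul_left hf, mulVec, dotProduct, Finset.sum_mul]
    exact Finset.sum_congr rfl fun j _ => by ring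
  rw [Finset.sum_congr rfl fun a _ => key a, Finset.sum_comm, Matrix.trace]
  refine Finset.sum_congr rfl fun i _ => ?_
  rw [Finset.sum_comm, Finset.sum_eq_single i (fun j _ hj => ?_) (by simp)]
  · rw [← Finset.mul_sum]
    have h := congrFun (P.expand (Pi.single i (1 : F))) i
    simp only [Finset.sum_apply, Pi.smul_apply, smul_eq_mul, Pi.single_eq_same] at h
    rw [h, mul_one, Matrix.diag_apply]
  · rw [← Finset.mul_sum]
    have h := congrFun (P.expand (Pi.single i (1 : F))) j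
    simp only [Finset.sum_apply, Pi.smul_apply, smul_eq_mul, Pi.single_eq_of_ne hj] at h
    rw [h, mul_zero]

/-- The determinant of a monomial isometry. -/
theorem Frame.det_mono (P : Frame σ f D e) (π : Equiv.Perm (Fin t)) :
    ∀ (g : GL (Fin n) F) (c : Fin t → F), (∀ a, c a * σ (c a) = 1) →
      (∀ a, (g : Matrix (Fin n) (Fin n) F) *ᵥ e a = c a • e (π a)) →
      (g : Matrix (Fin n) (Fin n) F).det = ((Equiv.Perm.sign π : ℤ) : F) * ∏ a, c a := by
  classical
  have hf := P.unit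
  induction π using Equiv.Perm.swap_induction_on with
  | one =>
    intro g c hc hg
    have key : ∀ S : Finset (Fin t), ∃ h : GL (Fin n) F,
        (h : Matrix (Fin n) (Fin n) F).det = ∏ a ∈ S, c a ∧
          ∀ a, (h : Matrix (Fin n) (Fin n) F) *ᵥ e a = (if a ∈ S then c a else 1) • e a := by
      intro S
      induction S using Finset.induction_on with
      | empty => exact ⟨1, by simp, by simp⟩
      | insert b S hb ih =>
        obtain ⟨h, hd, hm⟩ := ih
        refine ⟨rho f (e b) (c b) * h, ?_, fun a => ?_⟩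
        · rw [Units.val_mul, det_mul, rho_det hf (P.norm b) (hc b), hd, Finset.prod_insert hb]
        rw [gl_mul_mulVec, hm, mulVec_smul]
        by_cases hab : a = b
        · subst hab
          rw [rho_self hf (P.norm a) (hc a), if_neg hb, one_smul, if_pos (Finset.mem_insert_self a S)]
        · rw [rho_fix hf (P.norm b) (hc b) (P.orth hab)]
          simp only [Finset.mem_insert, hab, false_or]
    obtain ⟨h, hd, hm⟩ := key Finset.univ
    obtain rfl : g = h := P.gl_ext' fun a => by rw [hg, hm, if_pos (Finset.mem_univ a), Equiv.Perm.one_apply]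
    rw [hd]; simp
  | swap_mul π x y hxy ih =>
    intro g c hc hg
    obtain ⟨-, hx, hy, ho, hdet⟩ := P.swap_vec hxy (c := 1) (by simp)
    set S := qr f (-1) (e x - (1 : F) • e y) with hS
    have hSg : ∀ a, ((S * g : GL (Fin n) F) : Matrix (Fin n) (Fin n) F) *ᵥ e a = c a • e (π a) := fun a => by
      rw [gl_mul_mulVec, hg, mulVec_smul, Equiv.Perm.mul_apply]
      congr 1
      by_cases h1 : π a = x
      · rw [h1, Equiv.swap_apply_left, hy, map_one, one_smul]
      by_cases h2 : π a = y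
      · rw [h2, Equiv.swap_apply_right, hx, one_smul]
      rw [Equiv.swap_apply_of_ne_of_ne h1 h2, ho _ h1 h2]
    have h := ih (S * g) c hc hSg
    rw [Units.val_mul, det_mul, hdet] at h
    rw [map_mul, Equiv.Perm.sign_swap hxy, Units.val_mul, Int.cast_mul, Units.val_neg, Units.val_one, Int.cast_neg,
      Int.cast_one]
    linear_combination -h

/-- Changing the phases of the frame. -/
theorem Frame.phase (P : Frame σ f D e) (c : Fin t → F) (hc : ∀ a, c a * σ (c a) = 1) :
    Frame σ f D (fun a => c a • e a) :=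
  ⟨P.base, fun a => (D a).smul_mem _ (P.mem a), fun a => by
    rw [Unit.smul_left P.unit, Unit.smul_right P.unit, P.norm, mul_one, hc], P.six⟩

variable {M : Subgroup (GL (Fin n) F)}

theorem Rig.phase (R : Rig σ f D e M) (c : Fin t → F) (hc : ∀ a, c a * σ (c a) = 1) :
    Rig σ f D (fun a => c a • e a) M := by
  refine ⟨R.frame.phase c hc, R.le, R.le_k, R.range, fun g hg a b d h => ?_⟩
  have hca : c a ≠ 0 := fun h0 => by have := hc a; rw [h0, zero_mul] at this; exact zero_ne_one this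
  refine R.rigid g hg a b (d * c b / c a) ?_
  simp only [mulVec_smul] at h
  calc (g : Matrix (Fin n) (Fin n) F) *ᵥ e a = (c a)⁻¹ • (c a • ((g : Matrix (Fin n) (Fin n) F) *ᵥ e a)) := by
        rw [smul_smul, inv_mul_cancel₀ hca, one_smul]
    _ = (d * c b / c a) • e b := by rw [h, smul_smul, smul_smul]; congr 1; ring

/-- The inverse of a frame pair with scalar minus one acts diagonally. -/
theorem Frame.duo_line (P : Frame σ f D e) {a b : Fin t} (hab : a ≠ b) (l : Fin t) :
    (duo σ f (e a) (e b) (-1) : Matrix (Fin n) (Fin n) F) *ᵥ e l =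
      (if l = a ∨ l = b then (-1 : F) else 1) • e l := by
  have hf := P.unit
  have hε : (-1 : F) * σ (-1) = 1 := by simp
  rw [duo, show σ (-1 : F) = -1 by simp, gl_mul_mulVec]
  by_cases h1 : l = a
  · subst h1
    rw [if_pos (Or.inl rfl), rho_fix hf (P.norm b) hε (P.orth hab), rho_self hf (P.norm l) hε]
  by_cases h3 : l = b
  · subst h3
    rw [if_pos (Or.inr rfl), rho_self hf (P.norm l) hε, mulVec_smul,
      rho_fix hf (P.norm a) hε (P.orth (Ne.symm hab))]
  rw [if_neg (by simp [h1, h3]), rho_fix hf (P.norm b) hε (P.orth h3), rho_fix hf (P.norm a) hε (P.orth h1),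
    one_smul]

theorem duo_neg_sq (P : Frame σ f D e) {a b : Fin t} (hab : a ≠ b) :
    duo σ f (e a) (e b) (-1) * duo σ f (e a) (e b) (-1) = 1 :=
  duo_sq P.unit (P.norm a) (P.norm b) (P.orth hab)

theorem det_of_kGrp {g : GL (Fin n) F} (h : g ∈ kGrp f) : (g : Matrix (Fin n) (Fin n) F).det = 1 :=
  congrArg Units.val (h.2 : Matrix.GeneralLinearGroup.det g = 1)

theorem trace_conj (u g : GL (Fin n) F) :
    ((u * g * u⁻¹ : GL (Fin n) F) : Matrix (Fin n) (Fin n) F).trace = (g : Matrix (Fin n) (Fin n) F).trace := by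
  rw [Units.val_mul, Units.val_mul, trace_mul_cycle, ← Units.val_mul, inv_mul_cancel, Units.val_one, one_mul]

theorem trace_neg' (g : GL (Fin n) F) :
    ((-g : GL (Fin n) F) : Matrix (Fin n) (Fin n) F).trace = -(g : Matrix (Fin n) (Fin n) F).trace := by
  rw [Units.val_neg, trace_neg]

variable (R : Rig σ f D e M)
include R

theorem Rig.neg_one_mem (ht : t = 6) : (-1 : GL (Fin n) F) ∈ M := by
  have P := R.frame
  have hn : n = 6 := by have := P.t_eq; omega
  refine R.le ⟨P.stab_of fun a => ⟨a, -1, by simp [neg_mulVec]⟩, kGrp_of P.unit (fun u v => ?_) ?_⟩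
  · have hneg : ∀ x y, f x (-y) = - f x y := fun x y => by
      rw [← neg_one_smul F y, Unit.smul_right P.unit, map_neg, map_one, neg_one_mul]
    simp only [Units.val_neg, Units.val_one, neg_mulVec, one_mulVec, (Unit.sesq P.unit).neg_left, hneg, neg_neg]
  · rw [Units.val_neg, Units.val_one, det_neg, det_one, mul_one, Fintype.card_fin]
    subst hn
    norm_num

theorem Rig.det_eq {g : GL (Fin n) F} (hg : g ∈ M) {π : Equiv.Perm (Fin t)} {c : Fin t → F}
    (hc : ∀ a, (g : Matrix (Fin n) (Fin n) F) *ᵥ e a = c a • e (π a) ∧ c a * σ (c a) = 1) :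
    ((Equiv.Perm.sign π : ℤ) : F) * ∏ a, c a = 1 := by
  rw [← R.frame.det_mono π g c (fun a => (hc a).2) fun a => (hc a).1]
  exact det_of_kGrp (R.le_k hg)

omit R in
/-- An enumeration of the six indices with a given beginning. -/
theorem exists_six {k : ℕ} (hk : k ≤ 6) (ht : t = 6) (w : Fin k → Fin t) (hw : Function.Injective w) :
    ∃ E : Fin 6 ≃ Fin t, ∀ i, E (Fin.castLE hk i) = w i := by
  classical
  set c := finCongr ht.symm with hc
  let a : {x // x ∈ Set.range (Fin.castLE hk)} ≃ {x // x ∈ Set.range (c.symm ∘ w)} :=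
    (Equiv.ofInjective _ (Fin.castLE_injective hk)).symm.trans (Equiv.ofInjective _ (c.symm.injective.comp hw))
  refine ⟨a.extendSubtype.trans c, fun i => ?_⟩
  rw [Equiv.trans_apply, Equiv.extendSubtype_apply_of_mem a _ (Set.mem_range_self i)]
  simp only [a, Equiv.trans_apply]
  rw [show (⟨Fin.castLE hk i, Set.mem_range_self i⟩ : Set.range (Fin.castLE hk)) =
      Equiv.ofInjective _ (Fin.castLE_injective hk) i from rfl, Equiv.symm_apply_apply]
  simp

omit R in
/-- A double exchange fixes only two indices. -/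
theorem fix_le_two {p : Equiv.Perm (Fin t)} {E : Fin 6 ≃ Fin t} (p0 : p (E 0) = E 1) (p2 : p (E 2) = E 3)
    (q0 : p (p (E 0)) = E 0) (q2 : p (p (E 2)) = E 2) {x : Fin t} (hx : p x = x) : x = E 4 ∨ x = E 5 := by
  rw [p0] at q0
  rw [p2] at q2
  obtain ⟨i, rfl⟩ := E.surjective x
  fin_cases i <;> simp only [Fin.zero_eta, Fin.mk_one, Fin.reduceFinMk] at hx ⊢
  · exact absurd (E.injective (p0.symm.trans hx)) (by decide)
  · exact absurd (E.injective (q0.symm.trans hx)) (by decide)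
  · exact absurd (E.injective (p2.symm.trans hx)) (by decide)
  · exact absurd (E.injective (q2.symm.trans hx)) (by decide)
  · simp
  · simp

/-- A monomial involution with a fixed line and two others of opposite sign is centralised only inside. -/
theorem Rig.opp_sign {v k : GL (Fin n) F} (hv : v ∈ M) (hk : k ∈ M)
    (hks : k ∉ Cfsg.Geo.decompositionStabilizer D) (hvk : v * k = k * v) {π : Equiv.Perm (Fin t)} {c : Fin t → F}
    (hc : ∀ a, (v : Matrix (Fin n) (Fin n) F) *ᵥ e a = c a • e (π a) ∧ c a * σ (c a) = 1) {m l l' : Fin t}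
    (hm : π m = m) (hl : π l = l) (hl' : π l' = l') (h1 : c l ≠ c m) (h1' : c l' ≠ c m) : l = l' := by
  have P := R.frame
  have hf := P.unit
  by_contra hll
  have hz : ∀ l, π l = l → c l ≠ c m → f ((k : Matrix (Fin n) (Fin n) F) *ᵥ e m) (e l) = 0 := fun l hl hne => by
    have h := P.mono_coord (R.le_k hv).1 (hc l).1 (hc l).2 ((k : Matrix (Fin n) (Fin n) F) *ᵥ e m)
    rw [← gl_mul_mulVec, hvk, gl_mul_mulVec, (hc m).1, hm, hl, mulVec_smul, Unit.smul_left hf] at h
    exact (mul_eq_zero.1 (show (c m - c l) * f ((k : Matrix (Fin n) (Fin n) F) *ᵥ e m) (e l) = 0 by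
      linear_combination h)).resolve_left (sub_ne_zero.2 (Ne.symm hne))
  exact R.two_zero hk hks hll (hz l hl h1) (hz l' hl' h1')

/-- A single exchange is impossible. -/
theorem Rig.inv_one (h2 : (2 : F) ≠ 0) {v k : GL (Fin n) F} (hv : v ∈ M) (hk : k ∈ M)
    (hks : k ∉ Cfsg.Geo.decompositionStabilizer D) (hvk : v * k = k * v) {π : Equiv.Perm (Fin t)} {c : Fin t → F}
    (hc : ∀ a, (v : Matrix (Fin n) (Fin n) F) *ᵥ e a = c a • e (π a) ∧ c a * σ (c a) = 1)
    (hinv : ∀ a, c a * c (π a) = 1 ∧ π (π a) = a) (E : Fin 6 ≃ Fin t) (hE1 : π (E 0) = E 1)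
    (hfix : ∀ i : Fin 6, i ≠ 0 → i ≠ 1 → π (E i) = E i) : False := by
  classical
  have hsq : ∀ i : Fin 6, i ≠ 0 → i ≠ 1 → c (E i) = 1 ∨ c (E i) = -1 := fun i h0 h1 => by
    have := (hinv (E i)).1
    rw [hfix i h0 h1] at this
    exact mul_self_eq_one_iff.1 this
  have hπ : π = Equiv.swap (E 0) (E 1) := Equiv.ext fun l => by
    obtain ⟨i, rfl⟩ := E.surjective l
    by_cases h0 : i = 0
    · subst h0; rw [Equiv.swap_apply_left, hE1]
    by_cases h1 : i = 1
    · subst h1; rw [Equiv.swap_apply_right, ← hE1, (hinv _).2]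
    rw [Equiv.swap_apply_of_ne_of_ne (E.injective.ne h0) (E.injective.ne h1), hfix i h0 h1]
  have hd := R.det_eq hv hc
  rw [hπ, Equiv.Perm.sign_swap (E.injective.ne (by decide)), ← Fintype.prod_equiv E (fun i => c (E i)) c fun i => rfl,
    Fin.prod_univ_six, Units.val_neg, Units.val_one, Int.cast_neg, Int.cast_one] at hd
  have h01 : c (E 0) * c (E 1) = 1 := by
    have := (hinv (E 0)).1
    rwa [hE1] at this
  have hop : ∀ m i j : Fin 6, m ≠ 0 → m ≠ 1 → i ≠ 0 → i ≠ 1 → j ≠ 0 → j ≠ 1 → i ≠ j →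
      c (E i) ≠ c (E m) → c (E j) ≠ c (E m) → False := fun m i j hm hm' hi hi' hj hj' hij h h' =>
    hij (E.injective (R.opp_sign hv hk hks hvk hc (hfix m hm hm') (hfix i hi hi') (hfix j hj hj') h h'))
  have hp : (1 : F) ≠ -1 := fun h => h2 (by linear_combination h)
  rcases hsq 2 (by decide) (by decide) with a | a <;> rcases hsq 3 (by decide) (by decide) with b | b <;>
    rcases hsq 4 (by decide) (by decide) with d | d <;> rcases hsq 5 (by decide) (by decide) with g | g
  all_goals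
    first
    | (rw [a, b, d, g] at hd; exact h2 (by linear_combination -hd - h01))
    | exact hop 2 3 4 (by decide) (by decide) (by decide) (by decide) (by decide) (by decide) (by decide)
        (by rw [a, b]; first | exact hp | exact hp.symm) (by rw [a, d]; first | exact hp | exact hp.symm)
    | exact hop 2 3 5 (by decide) (by decide) (by decide) (by decide) (by decide) (by decide) (by decide)
        (by rw [a, b]; first | exact hp | exact hp.symm) (by rw [a, g]; first | exact hp | exact hp.symm)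
    | exact hop 2 4 5 (by decide) (by decide) (by decide) (by decide) (by decide) (by decide) (by decide)
        (by rw [a, d]; first | exact hp | exact hp.symm) (by rw [a, g]; first | exact hp | exact hp.symm)
    | exact hop 3 2 4 (by decide) (by decide) (by decide) (by decide) (by decide) (by decide) (by decide)
        (by rw [a, b]; first | exact hp | exact hp.symm) (by rw [b, d]; first | exact hp | exact hp.symm)
    | exact hop 4 2 3 (by decide) (by decide) (by decide) (by decide) (by decide) (by decide) (by decide)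
        (by rw [a, d]; first | exact hp | exact hp.symm) (by rw [b, d]; first | exact hp | exact hp.symm)
    | exact hop 5 2 3 (by decide) (by decide) (by decide) (by decide) (by decide) (by decide) (by decide)
        (by rw [a, g]; first | exact hp | exact hp.symm) (by rw [b, g]; first | exact hp | exact hp.symm)

/-- A monomial involution commuting with an element outside the stabilizer is scalar or a double exchange. -/
theorem Rig.inv_six (ht : t = 6) (h2 : (2 : F) ≠ 0) {v k : GL (Fin n) F} (hv : v ∈ M)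
    (hvs : v ∈ Cfsg.Geo.decompositionStabilizer D) (hv2 : v * v = 1) (hk : k ∈ M)
    (hks : k ∉ Cfsg.Geo.decompositionStabilizer D) (hvk : v * k = k * v) :
    (v = 1 ∨ v = -1) ∨ ∃ (π : Equiv.Perm (Fin t)) (c : Fin t → F) (ν : F) (E : Fin 6 ≃ Fin t),
      (∀ a, (v : Matrix (Fin n) (Fin n) F) *ᵥ e a = c a • e (π a) ∧ c a * σ (c a) = 1) ∧
      (∀ a, c a * c (π a) = 1 ∧ π (π a) = a) ∧ ν * ν = 1 ∧
      π (E 0) = E 1 ∧ π (E 2) = E 3 ∧ π (E 4) = E 4 ∧ π (E 5) = E 5 ∧ c (E 4) = ν ∧ c (E 5) = ν := by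
  classical
  have P := R.frame
  obtain ⟨π, c, hc⟩ := P.mono (R.le_k hv).1 hvs
  have hc0 : ∀ a, c a ≠ 0 := fun a h => by have := (hc a).2; rw [h, zero_mul] at this; exact zero_ne_one this
  have hinv : ∀ a, c a * c (π a) = 1 ∧ π (π a) = a := by
    intro a
    have h : (v : Matrix (Fin n) (Fin n) F) *ᵥ ((v : Matrix (Fin n) (Fin n) F) *ᵥ e a) = (1 : F) • e a := by
      rw [← gl_mul_mulVec, hv2, Units.val_one, one_mulVec, one_smul]
    rw [(hc a).1, mulVec_smul, (hc (π a)).1, smul_smul] at h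
    exact ⟨(P.smul_e_inj (mul_ne_zero (hc0 _) (hc0 _)) h).2, (P.smul_e_inj (mul_ne_zero (hc0 _) (hc0 _)) h).1⟩
  by_cases hdiag : ∀ a, π a = a
  · refine Or.inl ?_
    have hμ : ∀ a, (v : Matrix (Fin n) (Fin n) F) *ᵥ e a = c a • e a := fun a => by rw [(hc a).1, hdiag a]
    let a₀ : Fin t := ⟨0, by omega⟩
    have hconst : ∀ a, c a = c a₀ := fun a => by_contra fun h => hks (R.diag_cent hv hk hvk hμ h)
    have hcc : c a₀ * c a₀ = 1 := by
      have := (hinv a₀).1
      rwa [hdiag a₀] at this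
    rcases mul_self_eq_one_iff.1 hcc with h | h
    · exact Or.inl (P.gl_ext' fun a => by rw [hμ, hconst a, h, one_smul, Units.val_one, one_mulVec])
    · exact Or.inr (P.gl_ext' fun a => by
        rw [hμ, hconst a, h, neg_one_smul, Units.val_neg, Units.val_one, neg_mulVec, one_mulVec])
  push Not at hdiag
  obtain ⟨a, ha⟩ := hdiag
  have hπa := (hinv a).2
  by_cases hone : ∀ l, l ≠ a → l ≠ π a → π l = l
  · exfalso
    obtain ⟨E, hE⟩ := exists_six (by norm_num) ht ![a, π a] (fun i j hij => by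
      fin_cases i <;> fin_cases j <;> simp_all [Ne.symm ha])
    have hE0 : E 0 = a := hE 0
    have hE1 : E 1 = π a := hE 1
    exact R.inv_one h2 hv hk hks hvk hc hinv E (by rw [hE0, hE1]) fun i h0 h1 =>
      hone _ (fun h => h0 (E.injective (h.trans hE0.symm))) (fun h => h1 (E.injective (h.trans hE1.symm)))
  push Not at hone
  obtain ⟨b, hba, hbπa, hb⟩ := hone
  have hπb := (hinv b).2
  have hpab : π b ≠ a := fun h => hbπa (by rw [← h, hπb])
  have hpapb : π a ≠ π b := fun h => hba (π.injective h).symm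
  obtain ⟨E, hE⟩ := exists_six (by norm_num) ht ![a, π a, b, π b] (fun i j hij => by
    fin_cases i <;> fin_cases j <;> simp_all [Ne.symm ha, Ne.symm hba, Ne.symm hbπa, Ne.symm hb, Ne.symm hpab,
      Ne.symm hpapb])
  have e01 : π (E 0) = E 1 := by rw [show E 0 = a from hE 0, show E 1 = π a from hE 1]
  have e23 : π (E 2) = E 3 := by rw [show E 2 = b from hE 2, show E 3 = π b from hE 3]
  have e10 : π (E 1) = E 0 := by rw [← e01, (hinv _).2]
  have e32 : π (E 3) = E 2 := by rw [← e23, (hinv _).2]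
  have hlast : ∀ i : Fin 6, i = 4 ∨ i = 5 → π (E i) = E 4 ∨ π (E i) = E 5 := fun i hi => by
    obtain ⟨j, hj⟩ := E.surjective (π (E i))
    have hii : π (E j) = E i := by rw [hj, (hinv _).2]
    fin_cases j <;> simp only [Fin.zero_eta, Fin.mk_one, Fin.reduceFinMk] at hj hii
    · exact absurd (E.injective (e01.symm.trans hii)) (by rcases hi with rfl | rfl <;> decide)
    · exact absurd (E.injective (e10.symm.trans hii)) (by rcases hi with rfl | rfl <;> decide)
    · exact absurd (E.injective (e23.symm.trans hii)) (by rcases hi with rfl | rfl <;> decide)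
    · exact absurd (E.injective (e32.symm.trans hii)) (by rcases hi with rfl | rfl <;> decide)
    · exact Or.inl hj.symm
    · exact Or.inr hj.symm
  have hne : ∀ {i j : Fin 6}, i ≠ j → E i ≠ E j := fun h => E.injective.ne h
  have hd := R.det_eq hv hc
  rw [← Fintype.prod_equiv E (fun i => c (E i)) c fun i => rfl, Fin.prod_univ_six] at hd
  have ha' : c (E 0) * c (E 1) = 1 := by rw [← e01]; exact (hinv _).1
  have hb' : c (E 2) * c (E 3) = 1 := by rw [← e23]; exact (hinv _).1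
  rcases hlast 4 (Or.inl rfl) with h44 | h45
  · have h55 : π (E 5) = E 5 := (hlast 5 (Or.inr rfl)).resolve_left fun h =>
      hne (by decide) (π.injective (h44.trans h.symm))
    have hπ : π = Equiv.swap (E 0) (E 1) * Equiv.swap (E 2) (E 3) := Equiv.ext fun l => by
      obtain ⟨i, rfl⟩ := E.surjective l
      fin_cases i <;> simp [Equiv.swap_apply_def, E.injective.eq_iff, e01, e10, e23, e32, h44, h55]
    rw [hπ, map_mul, Equiv.Perm.sign_swap (hne (by decide)), Equiv.Perm.sign_swap (hne (by decide))] at hd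
    norm_num at hd
    have hp1 : c (E 4) * c (E 4) = 1 := by
      have := (hinv (E 4)).1
      rwa [h44] at this
    refine Or.inr ⟨π, c, c (E 4), E, hc, hinv, hp1, e01, e23, h44, h55, rfl, ?_⟩
    linear_combination (c (E 4)) * hd - (c (E 4) * c (E 2) * c (E 3) * c (E 4) * c (E 5)) * ha' -
      (c (E 4) * c (E 4) * c (E 5)) * hb' - c (E 5) * hp1
  · have h54 : π (E 5) = E 4 := by rw [← h45, (hinv _).2]
    exfalso
    have hπ : π = Equiv.swap (E 0) (E 1) * Equiv.swap (E 2) (E 3) * Equiv.swap (E 4) (E 5) := Equiv.ext fun l => by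
      obtain ⟨i, rfl⟩ := E.surjective l
      fin_cases i <;> simp [Equiv.swap_apply_def, E.injective.eq_iff, e01, e10, e23, e32, h45, h54]
    rw [hπ, map_mul, map_mul, Equiv.Perm.sign_swap (hne (by decide)), Equiv.Perm.sign_swap (hne (by decide)),
      Equiv.Perm.sign_swap (hne (by decide))] at hd
    norm_num at hd
    have hp' : c (E 4) * c (E 5) = 1 := by rw [← h45]; exact (hinv _).1
    exact h2 (by
      linear_combination -hd - (c (E 2) * c (E 3) * c (E 4) * c (E 5)) * ha' - (c (E 4) * c (E 5)) * hb' - hp')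

/-- A monomial conjugate of a diagonal element is diagonal. -/
theorem Rig.conj_diag {u x : GL (Fin n) F} (hu : u ∈ M) (hus : u ∈ Cfsg.Geo.decompositionStabilizer D)
    (hx : ∀ l, ∃ μ : F, (x : Matrix (Fin n) (Fin n) F) *ᵥ e l = μ • e l) (l : Fin t) :
    ∃ κ : F, ((u * x * u⁻¹ : GL (Fin n) F) : Matrix (Fin n) (Fin n) F) *ᵥ e l = κ • e l := by
  obtain ⟨π, c, hc⟩ := R.frame.mono (R.le_k (M.inv_mem hu)).1 ((Cfsg.Geo.decompositionStabilizer D).inv_mem hus)
  obtain ⟨μ, hμ⟩ := hx (π l)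
  refine ⟨μ, ?_⟩
  rw [gl_mul_mulVec, gl_mul_mulVec, (hc l).1, mulVec_smul, hμ, smul_comm, mulVec_smul, ← (hc l).1,
    gl_mulVec_inv_mulVec]

/-- If a pair involution is conjugated into the stabilizer by an element commuting with a double exchange matching
it, that element is in the stabilizer. -/
theorem Rig.conj_trick (ht : t = 6) (h2 : (2 : F) ≠ 0) {g J W : GL (Fin n) F} (hg : g ∈ M)
    (hW : W ∈ Cfsg.Geo.decompositionStabilizer D) (hgW : W * g = g * W) {a b : Fin t} (hab : a ≠ b)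
    (hJW : J * W = -duo σ f (e a) (e b) (-1)) (hJ : g * J * g⁻¹ ∈ Cfsg.Geo.decompositionStabilizer D) :
    g ∈ Cfsg.Geo.decompositionStabilizer D := by
  by_contra hgs
  have hε : (-1 : F) * σ (-1) = 1 := by simp
  refine R.conj_notMem hg hgs hab hε (fun h => h2 (by linear_combination -h)) ?_
  have h1 : g * duo σ f (e a) (e b) (-1) * g⁻¹ = -(g * J * g⁻¹ * W) := by
    have h3 : g⁻¹ * W = W * g⁻¹ := by
      calc g⁻¹ * W = g⁻¹ * (W * g) * g⁻¹ := by group
        _ = g⁻¹ * (g * W) * g⁻¹ := by rw [hgW]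
        _ = W * g⁻¹ := by group
    rw [mul_assoc (g * J), h3, ← mul_assoc, mul_assoc g J, hJW, mul_neg, neg_mul, neg_neg]
  rw [h1, ← neg_one_mul]
  exact (Cfsg.Geo.decompositionStabilizer D).mul_mem
    (R.frame.stab_of fun a => ⟨a, -1, by simp [neg_mulVec]⟩) ((Cfsg.Geo.decompositionStabilizer D).mul_mem hJ hW)

/-- Elements centralising two double exchanges with fixed pair sums are in the stabilizer. -/
theorem Rig.cent_two (ht : t = 6) (h2 : (2 : F) ≠ 0) (E : Fin 6 ≃ Fin t) {W W₂ g : GL (Fin n) F}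
    (hW : W ∈ M) (hW₂ : W₂ ∈ M) (hWs : W ∈ Cfsg.Geo.decompositionStabilizer D)
    (hW₂s : W₂ ∈ Cfsg.Geo.decompositionStabilizer D)
    (hWe : ∀ i, (W : Matrix (Fin n) (Fin n) F) *ᵥ e (E i) = e (E (![1, 0, 3, 2, 4, 5] i)))
    (hW₂e : ∀ i, (W₂ : Matrix (Fin n) (Fin n) F) *ᵥ e (E i) = e (E (![1, 0, 2, 3, 5, 4] i)))
    (hg : g ∈ M) (hgW : W * g = g * W) (hgW₂ : W₂ * g = g * W₂) : g ∈ Cfsg.Geo.decompositionStabilizer D := by
  classical
  have P := R.frame
  have hf := P.unit
  have hne : ∀ {i j : Fin 6}, i ≠ j → E i ≠ E j := fun h => E.injective.ne h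
  have h1σ : (-1 : F) * σ (-1) = 1 := by simp
  have mkJ : ∀ i j k l : Fin 6, i ≠ j → k ≠ l → i ≠ k → i ≠ l → j ≠ k → j ≠ l →
      ∃ J ∈ M, J ∈ Cfsg.Geo.decompositionStabilizer D ∧ ∀ m, (J : Matrix (Fin n) (Fin n) F) *ᵥ e (E m) =
        (if m = i then (-1 : F) • e (E j) else if m = j then (-1 : F) • e (E i) else if m = k then (-1 : F) • e (E l)
          else if m = l then (-1 : F) • e (E k) else e (E m)) := by
    intro i j k l hij hkl hik hil hjk hjl
    obtain ⟨q1, a1, b1, o1, d1⟩ := P.swap_vec (hne hij) h1σ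
    obtain ⟨q2, a2, b2, o2, d2⟩ := P.swap_vec (hne hkl) h1σ
    have hs := (Cfsg.Geo.decompositionStabilizer D).mul_mem (P.swap_stab (hne hij) h1σ) (P.swap_stab (hne hkl) h1σ)
    refine ⟨_, R.le ⟨hs, kGrp_of hf ((isoGroup f).mul_mem (qr_iso hf q1) (qr_iso hf q2)) ?_⟩, hs, fun m => ?_⟩
    · rw [Units.val_mul, det_mul, d1, d2]; norm_num
    rw [gl_mul_mulVec]
    have hσ1 : σ (-1 : F) = -1 := by simp
    split_ifs with h1 h3 h4 h5
    · subst h1; rw [o2 _ (hne hik) (hne hil), a1]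
    · subst h3; rw [o2 _ (hne hjk) (hne hjl), b1, hσ1]
    · subst h4; rw [a2, mulVec_smul, o1 _ (hne (Ne.symm hil)) (hne (Ne.symm hjl))]
    · subst h5; rw [b2, hσ1, mulVec_smul, o1 _ (hne (Ne.symm hik)) (hne (Ne.symm hjk))]
    · rw [o2 _ (hne h4) (hne h5), o1 _ (hne h1) (hne h3)]
  obtain ⟨J₀, hJ₀M, hJ₀s, hJ₀⟩ := mkJ 2 3 4 5 (by decide) (by decide) (by decide) (by decide) (by decide) (by decide)
  obtain ⟨J₁, hJ₁M, hJ₁s, hJ₁⟩ := mkJ 0 1 4 5 (by decide) (by decide) (by decide) (by decide) (by decide) (by decide)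
  set W₃ := W * W₂ with hW₃
  have hW₃e : ∀ i, (W₃ : Matrix (Fin n) (Fin n) F) *ᵥ e (E i) = e (E (![0, 1, 3, 2, 5, 4] i)) := fun i => by
    rw [hW₃, gl_mul_mulVec, hW₂e, hWe]; fin_cases i <;> rfl
  have hneg : ∀ l, ((-1 : GL (Fin n) F) : Matrix (Fin n) (Fin n) F) *ᵥ e l = (-1 : F) • e l := fun l => by simp [neg_mulVec]
  have hJW₀ : J₀ * W₃ = -duo σ f (e (E 0)) (e (E 1)) (-1) := P.gl_ext' fun l => by
    obtain ⟨i, rfl⟩ := E.surjective l
    rw [gl_mul_mulVec, hW₃e, hJ₀, ← neg_one_mul (duo σ f (e (E 0)) (e (E 1)) (-1)), gl_mul_mulVec,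
      P.duo_line (hne (by decide)), mulVec_smul, hneg]
    fin_cases i <;> simp [E.injective.eq_iff]
  have hJW₁ : J₁ * W₂ = -duo σ f (e (E 2)) (e (E 3)) (-1) := P.gl_ext' fun l => by
    obtain ⟨i, rfl⟩ := E.surjective l
    rw [gl_mul_mulVec, hW₂e, hJ₁, ← neg_one_mul (duo σ f (e (E 2)) (e (E 3)) (-1)), gl_mul_mulVec,
      P.duo_line (hne (by decide)), mulVec_smul, hneg]
    fin_cases i <;> simp [E.injective.eq_iff]
  -- the elements fixing the three differences
  set d : Fin 3 → Fin n → F := ![e (E 0) - e (E 1), e (E 2) - e (E 3), e (E 4) - e (E 5)] with hd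
  let N : Subgroup (GL (Fin n) F) :=
    { carrier := {x | x ∈ M ∧ W * x = x * W ∧ W₂ * x = x * W₂ ∧ ∀ j, (x : Matrix (Fin n) (Fin n) F) *ᵥ d j = d j}
      one_mem' := ⟨M.one_mem, by simp, by simp, fun j => by simp⟩
      mul_mem' := fun {x y} hx hy => ⟨M.mul_mem hx.1 hy.1, by rw [← mul_assoc, hx.2.1, mul_assoc, hy.2.1, mul_assoc],
        by rw [← mul_assoc, hx.2.2.1, mul_assoc, hy.2.2.1, mul_assoc],
        fun j => by rw [gl_mul_mulVec, hy.2.2.2, hx.2.2.2]⟩
      inv_mem' := fun {x} hx => ⟨M.inv_mem hx.1, (show Commute W x from hx.2.1).inv_right,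
        (show Commute W₂ x from hx.2.2.1).inv_right, fun j => by
          conv_lhs => rw [← hx.2.2.2 j]
          exact gl_inv_mulVec_mulVec x _⟩ }
  have hJW : ∀ (J : GL (Fin n) F) (p : Fin 6 → Fin 6) (s : Fin 6 → F),
      (∀ m, (J : Matrix (Fin n) (Fin n) F) *ᵥ e (E m) = s m • e (E (p m))) →
      (∀ m, p (![1, 0, 3, 2, 4, 5] m) = ![1, 0, 3, 2, 4, 5] (p m) ∧ s (![1, 0, 3, 2, 4, 5] m) = s m) →
      (∀ m, p (![1, 0, 2, 3, 5, 4] m) = ![1, 0, 2, 3, 5, 4] (p m) ∧ s (![1, 0, 2, 3, 5, 4] m) = s m) →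
      W * J = J * W ∧ W₂ * J = J * W₂ := by
    intro J p s hJ hp hp'
    constructor <;> refine P.gl_ext' fun l => ?_ <;> obtain ⟨i, rfl⟩ := E.surjective l
    · rw [gl_mul_mulVec, hJ, mulVec_smul, hWe, gl_mul_mulVec, hWe, hJ, (hp i).1, (hp i).2]
    · rw [gl_mul_mulVec, hJ, mulVec_smul, hW₂e, gl_mul_mulVec, hW₂e, hJ, (hp' i).1, (hp' i).2]
  have hJN₁ : J₁ ∈ N := by
    obtain ⟨h1, h3⟩ := hJW J₁ ![1, 0, 2, 3, 5, 4] ![-1, -1, 1, 1, -1, -1]
      (fun m => by rw [hJ₁]; fin_cases m <;> simp)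
      (fun m => by fin_cases m <;> simp) (fun m => by fin_cases m <;> simp)
    refine ⟨hJ₁M, h1, h3, fun j => ?_⟩
    fin_cases j <;> simp [hd, mulVec_sub, hJ₁] <;> abel
  have hJW₀' : W * J₀ = J₀ * W ∧ W₂ * J₀ = J₀ * W₂ :=
    hJW J₀ ![0, 1, 3, 2, 5, 4] ![1, 1, -1, -1, -1, -1]
      (fun m => by rw [hJ₀]; fin_cases m <;> simp)
      (fun m => by fin_cases m <;> simp) (fun m => by fin_cases m <;> simp)
  -- conjugates of `J₀` by elements of the double centraliser lie in `N`
  have hconjN : ∀ x ∈ M, W * x = x * W → W₂ * x = x * W₂ → x * J₀ * x⁻¹ ∈ N := by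
    intro x hx hxW hxW₂
    have hxi : Symp.IsIsometry f ((x⁻¹ : GL (Fin n) F) : GL (Fin n) F) := R.isometry (M.inv_mem hx)
    refine ⟨M.mul_mem (M.mul_mem hx hJ₀M) (M.inv_mem hx),
      ((show Commute W x from hxW).mul_right hJW₀'.1).mul_right (show Commute W x from hxW).inv_right,
      ((show Commute W₂ x from hxW₂).mul_right hJW₀'.2).mul_right (show Commute W₂ x from hxW₂).inv_right,
      fun j => ?_⟩
    set y := ((x⁻¹ : GL (Fin n) F) : Matrix (Fin n) (Fin n) F) *ᵥ d j with hy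
    suffices hfix : (J₀ : Matrix (Fin n) (Fin n) F) *ᵥ y = y by
      rw [gl_mul_mulVec, gl_mul_mulVec, ← hy, hfix, hy, gl_mulVec_inv_mulVec]
    have hWy : (W : Matrix (Fin n) (Fin n) F) *ᵥ y = (![-1, -1, 1] j : F) • y := by
      rw [hy, ← gl_mul_mulVec, ((show Commute W x from hxW).inv_right).eq, gl_mul_mulVec, ← mulVec_smul]
      congr 1
      fin_cases j <;> simp [hd, mulVec_sub, hWe]
    have hW₂y : (W₂ : Matrix (Fin n) (Fin n) F) *ᵥ y = (![-1, 1, -1] j : F) • y := by
      rw [hy, ← gl_mul_mulVec, ((show Commute W₂ x from hxW₂).inv_right).eq, gl_mul_mulVec, ← mulVec_smul]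
      congr 1
      fin_cases j <;> simp [hd, mulVec_sub, hW₂e]
    set z : Fin 6 → F := fun i => f y (e (E i)) with hz
    have hWz : ∀ i, (![-1, -1, 1] j : F) * z (![1, 0, 3, 2, 4, 5] i) = z i := fun i => by
      have h := P.mono_coord (R.le_k hW).1 (c := 1) (a := E i) (by rw [hWe, one_smul]) (by simp) y
      rw [hWy, Unit.smul_left hf, one_mul] at h
      exact h
    have hW₂z : ∀ i, (![-1, 1, -1] j : F) * z (![1, 0, 2, 3, 5, 4] i) = z i := fun i => by
      have h := P.mono_coord (R.le_k hW₂).1 (c := 1) (a := E i) (by rw [hW₂e, one_smul]) (by simp) y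
      rw [hW₂y, Unit.smul_left hf, one_mul] at h
      exact h
    have h23 : z 3 = -z 2 ∧ z 5 = -z 4 := by
      have a1 := hWz 2
      have a2 := hW₂z 2
      have a3 := hWz 4
      have a4 := hW₂z 4
      have a5 := hW₂z 3
      have a6 := hWz 5
      fin_cases j <;> simp at a1 a2 a3 a4 a5 a6 <;> constructor
      all_goals first
        | linear_combination -a1
        | linear_combination -a4
        | exact eq_neg_of_add_eq_zero_left (mul_left_cancel₀ h2 (by linear_combination -a2 - a5))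
        | exact eq_neg_of_add_eq_zero_left (mul_left_cancel₀ h2 (by linear_combination -a3 - a6))
    refine P.ext fun l => ?_
    obtain ⟨i, rfl⟩ := E.surjective l
    have key : ∀ (i j : Fin 6), (J₀ : Matrix (Fin n) (Fin n) F) *ᵥ e (E i) = (-1 : F) • e (E j) →
        f ((J₀ : Matrix (Fin n) (Fin n) F) *ᵥ y) (e (E j)) = - z i := fun i j h => by
      rw [P.mono_coord (R.le_k hJ₀M).1 h h1σ, neg_one_mul]
    fin_cases i
    · show _ = z 0
      rw [P.mono_coord (R.le_k hJ₀M).1 (c := 1) (a := E 0) (by rw [hJ₀]; simp) (by simp), one_mul]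
    · show _ = z 1
      rw [P.mono_coord (R.le_k hJ₀M).1 (c := 1) (a := E 1) (by rw [hJ₀]; simp) (by simp), one_mul]
    · show f _ (e (E 2)) = z 2
      rw [key 3 2 (by rw [hJ₀]; simp), h23.1, neg_neg]
    · show f _ (e (E 3)) = z 3
      rw [key 2 3 (by rw [hJ₀]; simp), h23.1]
    · show f _ (e (E 4)) = z 4
      rw [key 5 4 (by rw [hJ₀]; simp), h23.2, neg_neg]
    · show f _ (e (E 5)) = z 5
      rw [key 4 5 (by rw [hJ₀]; simp), h23.2]
  have trick₀ : ∀ x ∈ M, W * x = x * W → W₂ * x = x * W₂ → x * J₀ * x⁻¹ ∈ Cfsg.Geo.decompositionStabilizer D →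
      x ∈ Cfsg.Geo.decompositionStabilizer D := fun x hx h1 h3 h4 =>
    R.conj_trick ht h2 hx ((Cfsg.Geo.decompositionStabilizer D).mul_mem hWs hW₂s)
      (show W * W₂ * x = x * (W * W₂) by rw [mul_assoc, h3, ← mul_assoc, h1, mul_assoc])
      (hne (by decide)) hJW₀ h4
  have trick₁ : ∀ x ∈ M, W₂ * x = x * W₂ → x * J₁ * x⁻¹ ∈ Cfsg.Geo.decompositionStabilizer D →
      x ∈ Cfsg.Geo.decompositionStabilizer D := fun x hx h3 h4 =>
    R.conj_trick ht h2 hx hW₂s h3 (hne (by decide)) hJW₁ h4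
  -- every element of `N` is monomial
  suffices hN : ∀ x ∈ N, x ∈ Cfsg.Geo.decompositionStabilizer D from
    trick₀ g hg hgW hgW₂ (hN _ (hconjN g hg hgW hgW₂))
  intro x hxN
  obtain ⟨hxM, hxW, hxW₂, hxd⟩ := hxN
  refine trick₀ x hxM hxW hxW₂ ?_
  by_contra hys
  set y := x * J₀ * x⁻¹ with hy
  have hyN : y ∈ N := hconjN x hxM hxW hxW₂
  have hJ₀sq : J₀ * J₀ = 1 := P.gl_ext' fun l => by
    obtain ⟨i, rfl⟩ := E.surjective l
    rw [gl_mul_mulVec, hJ₀]
    fin_cases i <;> simp [mulVec_smul, mulVec_neg, hJ₀]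
  have hJ₁sq : J₁ * J₁ = 1 := P.gl_ext' fun l => by
    obtain ⟨i, rfl⟩ := E.surjective l
    rw [gl_mul_mulVec, hJ₁]
    fin_cases i <;> simp [mulVec_smul, mulVec_neg, hJ₁]
  have hysq : y * y = 1 := by rw [hy, show x * J₀ * x⁻¹ * (x * J₀ * x⁻¹) = x * (J₀ * J₀) * x⁻¹ by group, hJ₀sq]; group
  have hcase : ∀ u ∈ N, u * J₁ * u⁻¹ ≠ y := by
    intro u hu h
    obtain ⟨hhM, hhW, hhW₂, hhd⟩ := N.mul_mem (N.inv_mem ⟨hxM, hxW, hxW₂, hxd⟩) hu
    set h' := x⁻¹ * u with hh'
    have hconj : h' * J₁ * h'⁻¹ = J₀ := by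
      rw [hh', show x⁻¹ * u * J₁ * (x⁻¹ * u)⁻¹ = x⁻¹ * (u * J₁ * u⁻¹) * x by group, h, hy]
      group
    have hs := trick₁ h' hhM hhW₂ (hconj ▸ hJ₀s)
    obtain ⟨π, c, hc⟩ := P.mono (R.le_k hhM).1 hs
    have hd1 : f ((h' : Matrix (Fin n) (Fin n) F) *ᵥ e (E 2)) (e (E 2) - e (E 3)) = 1 := by
      have h := R.isometry hhM (e (E 2)) (d 1)
      rw [hhd, hd] at h
      simp only [Matrix.cons_val] at h
      rw [h, Unit.sub_right hf, P.norm, P.orth (hne (by decide)), sub_zero]
    have heq : (J₀ : Matrix (Fin n) (Fin n) F) *ᵥ ((h' : Matrix (Fin n) (Fin n) F) *ᵥ e (E 2)) =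
        (h' : Matrix (Fin n) (Fin n) F) *ᵥ e (E 2) := by
      have hfix : (J₁ : Matrix (Fin n) (Fin n) F) *ᵥ e (E 2) = e (E 2) := by rw [hJ₁]; simp
      rw [← hconj, gl_mul_mulVec, gl_mul_mulVec, gl_inv_mulVec_mulVec, hfix]
    rw [(hc (E 2)).1, mulVec_smul] at heq
    rw [(hc (E 2)).1, Unit.smul_left hf, Unit.sub_right hf] at hd1
    obtain ⟨i, hi⟩ := E.surjective (π (E 2))
    rw [← hi] at heq hd1
    have hc2 : c (E 2) ≠ 0 := fun h0 => by rw [h0, zero_mul] at hd1; exact zero_ne_one hd1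
    rw [hJ₀] at heq
    by_cases h2' : i = 2
    · subst h2'
      simp only [↓reduceIte, smul_smul] at heq
      exact hne (by decide) (P.smul_e_inj (mul_ne_zero hc2 (neg_ne_zero.2 one_ne_zero)) heq).1
    by_cases h3' : i = 3
    · subst h3'
      simp only [↓reduceIte, Fin.reduceEq, smul_smul] at heq
      exact hne (by decide) (P.smul_e_inj (mul_ne_zero hc2 (neg_ne_zero.2 one_ne_zero)) heq).1
    rw [P.orth (hne h2'), P.orth (hne h3'), sub_zero, mul_zero] at hd1
    exact zero_ne_one hd1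
  obtain ⟨w, hwN, hw2, hw1, -, hwJ, hwy⟩ := exists_central_involution (M := N) hJN₁ hyN hJ₁sq hysq (E := {1})
    hcase (fun e' he' hne' => absurd (Set.mem_singleton_iff.1 he') hne')
  obtain ⟨hwM, hwW, hwW₂, hwd⟩ := hwN
  have hws : w ∈ Cfsg.Geo.decompositionStabilizer D := trick₁ w hwM hwW₂ (by
    rw [hwJ]; simpa using hJ₁s)
  obtain ⟨hyM, hyW, hyW₂, hyd⟩ := hyN
  rcases R.inv_six ht h2 hwM hws hw2 hyM hys hwy with (h | h) | ⟨π, c, ν, E', hc, hinv, hνν, h01, h23, h4, h5, hc4, hc5⟩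
  · exact hw1 h
  · have h' := hwd 0
    rw [h, hd] at h'
    simp only [Units.val_neg, Units.val_one, neg_mulVec, one_mulVec, Matrix.cons_val] at h'
    have h'' := congrArg (fun z => f z (e (E 0))) h'
    simp only [(Unit.sesq hf).neg_left, Unit.sub_left hf, P.norm, P.orth (hne (show (1 : Fin 6) ≠ 0 by decide)),
      sub_zero] at h''
    exact h2 (by linear_combination -h'')
  let op : Fin 6 → Fin 6 := ![1, 0, 3, 2, 5, 4]
  let pr : Fin 6 → Fin 3 := ![0, 0, 1, 1, 2, 2]
  have hdi : ∀ i : Fin 6, ∃ s : F, s * s = 1 ∧ d (pr i) = s • (e (E i) - e (E (op i))) := fun i => by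
    fin_cases i
    exacts [⟨1, by simp, by simp [hd, pr, op]⟩, ⟨-1, by simp, by simp [hd, pr, op]⟩,
      ⟨1, by simp, by simp [hd, pr, op]⟩, ⟨-1, by simp, by simp [hd, pr, op]⟩,
      ⟨1, by simp, by simp [hd, pr, op]⟩, ⟨-1, by simp, by simp [hd, pr, op]⟩]
  have hpair : ∀ (x : GL (Fin n) F), x ∈ M → (∀ j, (x : Matrix (Fin n) (Fin n) F) *ᵥ d j = d j) →
      ∀ i (v : Fin n → F), f ((x : Matrix (Fin n) (Fin n) F) *ᵥ v) (e (E i) - e (E (op i))) =
        f v (e (E i) - e (E (op i))) := by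
    intro x hx hxd i v
    obtain ⟨s, hs, hsd⟩ := hdi i
    have hs0 : s ≠ 0 := fun h => by simp [h] at hs
    have h := R.isometry hx v (d (pr i))
    rw [hxd, hsd, Unit.smul_right hf, Unit.smul_right hf] at h
    exact mul_left_cancel₀ ((RingEquiv.map_ne_zero_iff σ).2 hs0) h
  have hop : ∀ i, op i ≠ i ∧ op (op i) = i := by decide
  have hmv : ∀ i, (π (E i) = E i ∧ c (E i) = 1) ∨ (π (E i) = E (op i) ∧ c (E i) = -1) := by
    intro i
    have h := hpair w hwM hwd i (e (E i))
    rw [(hc (E i)).1, Unit.smul_left hf, Unit.sub_right hf, Unit.sub_right hf, P.norm,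
      P.orth (hne (Ne.symm (hop i).1)), sub_zero] at h
    by_cases h1 : π (E i) = E i
    · rw [h1, P.norm, P.orth (hne (Ne.symm (hop i).1)), sub_zero, mul_one] at h
      exact Or.inl ⟨h1, h⟩
    by_cases h3 : π (E i) = E (op i)
    · rw [h3, P.norm, P.orth (hne (hop i).1)] at h
      exact Or.inr ⟨h3, by linear_combination -h⟩
    rw [P.orth h1, P.orth h3, sub_zero, mul_zero] at h
    exact absurd h zero_ne_one
  obtain ⟨i, hi⟩ := E.surjective (E' 4)
  have hfixi : π (E i) = E i := by rw [hi, h4]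
  have hci : c (E i) = 1 := (hmv i).elim (fun h => h.2) fun h => absurd (E.injective (hfixi.symm.trans h.1)) (Ne.symm (hop i).1)
  obtain ⟨k, hk⟩ := E.surjective (E' 0)
  have hk' : π (E k) = E (op k) ∧ c (E k) = -1 := (hmv k).resolve_left fun h => by
    rw [hk, h01] at h
    exact absurd (E'.injective h.1) (by decide)
  have hik : k ≠ i ∧ k ≠ op i := by
    constructor
    · rintro rfl
      exact (hop k).1 (E.injective (hk'.1.symm.trans hfixi))
    · rintro rfl
      rw [(hop i).2] at hk'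
      exact (hop i).1 (π.injective.comp E.injective (hk'.1.trans hfixi.symm))
  set z := (y : Matrix (Fin n) (Fin n) F) *ᵥ e (E i) with hzdef
  have hwz : (w : Matrix (Fin n) (Fin n) F) *ᵥ z = z := by
    rw [hzdef, ← gl_mul_mulVec, hwy, gl_mul_mulVec, (hc (E i)).1, hfixi, hci, one_smul]
  have hk1 := P.mono_coord (R.le_k hwM).1 (hc (E k)).1 (hc (E k)).2 z
  rw [hwz, hk'.1, hk'.2, neg_one_mul] at hk1
  have hk2 := hpair y hyM hyd k (e (E i))
  rw [← hzdef, Unit.sub_right hf, Unit.sub_right hf, P.orth (hne (Ne.symm hik.1)),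
    P.orth (hne (fun h : i = op k => hik.2 (by rw [h, (hop k).2]))), sub_zero, sub_eq_zero] at hk2
  have hz0 : f z (e (E k)) = 0 := mul_left_cancel₀ h2 (by linear_combination hk1 + hk2)
  exact R.two_zero hyM hys (hne (Ne.symm (hop k).1)) hz0 (by rw [hk1, hz0, neg_zero])

omit R in
/-- The frame values of a double exchange. -/
theorem Frame.trace_six (P : Frame σ f D e) (E : Fin 6 ≃ Fin t) (g : GL (Fin n) F) (p : Fin 6 → Fin 6) (s : Fin 6 → F)
    (hg : ∀ i, (g : Matrix (Fin n) (Fin n) F) *ᵥ e (E i) = s i • e (E (p i))) :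
    (g : Matrix (Fin n) (Fin n) F).trace = ∑ i, if p i = i then s i else 0 := by
  classical
  rw [P.trace_eq, ← Fintype.sum_equiv E (fun i => f ((g : Matrix (Fin n) (Fin n) F) *ᵥ e (E i)) (e (E i)))
    _ fun i => rfl]
  refine Finset.sum_congr rfl fun i _ => ?_
  rw [hg, Unit.smul_left P.unit, P.form_e]
  by_cases h : p i = i
  · rw [if_pos h, if_pos (by rw [h]), mul_one]
  · rw [if_neg h, if_neg (E.injective.ne h), mul_zero]

/-- Turning the commuting involution into a second double exchange. -/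
theorem Rig.second_dbl (ht : t = 6) (h2 : (2 : F) ≠ 0) (E : Fin 6 ≃ Fin t) {W w s : GL (Fin n) F}
    (hW : W ∈ M) (hWs : W ∈ Cfsg.Geo.decompositionStabilizer D)
    (hWe : ∀ i, (W : Matrix (Fin n) (Fin n) F) *ᵥ e (E i) = e (E (![1, 0, 3, 2, 4, 5] i))) (hW2 : W * W = 1)
    (hwM : w ∈ M) (hwst : w ∈ Cfsg.Geo.decompositionStabilizer D) (hw2 : w * w = 1) (hw1 : w ≠ 1) (hwn : w ≠ -1)
    (hwW1 : w ≠ W) (hwWn : w ≠ -W) (hwW : W * w = w * W)
    (hwπ : ∀ (π : Equiv.Perm (Fin t)) (c : Fin t → F),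
      (∀ a, (w : Matrix (Fin n) (Fin n) F) *ᵥ e a = c a • e (π a) ∧ c a * σ (c a) = 1) →
      π (E 0) = E 0 ∨ π (E 0) = E 1)
    (hsM : s ∈ M) (hsns : s ∉ Cfsg.Geo.decompositionStabilizer D) (hsW : W * s = s * W) (hws : w * s = s * w) :
    ∃ w' ∈ M, w' ∈ Cfsg.Geo.decompositionStabilizer D ∧ w' * w' = 1 ∧ W * w' = w' * W ∧ w' * s = s * w' ∧
      ∃ (τ' : Fin 6 → Fin 6) (c' : Fin 6 → F),
        (∀ i, (w' : Matrix (Fin n) (Fin n) F) *ᵥ e (E i) = c' i • e (E (τ' i))) ∧
          τ' 0 = 1 ∧ τ' 1 = 0 ∧ τ' 2 = 2 ∧ τ' 3 = 3 ∧ τ' 4 = 5 ∧ τ' 5 = 4 := by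
  classical
  have P := R.frame
  have hne : ∀ {i j : Fin 6}, i ≠ j → E i ≠ E j := fun h => E.injective.ne h
  have three : ∀ {i j k : Fin 6}, i ≠ j → i ≠ k → j ≠ k → ∀ a b : Fin t,
      ¬ ((E i = a ∨ E i = b) ∧ (E j = a ∨ E j = b) ∧ (E k = a ∨ E k = b)) := by
    intro i j k hij hik hjk a b h
    rcases h with ⟨h1 | h1, h3 | h3, h4 | h4⟩
    all_goals first
      | exact hne hij (h1.trans h3.symm)
      | exact hne hik (h1.trans h4.symm)
      | exact hne hjk (h3.trans h4.symm)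
  rcases R.inv_six ht h2 hwM hwst hw2 hsM hsns hws with (h | h) | ⟨π, c, ν, E', hc, hinv, hνν, h01', h23', h4', h5', -⟩
  · exact absurd h hw1
  · exact absurd h hwn
  have hfix2 : ∀ {x}, π x = x → x = E' 4 ∨ x = E' 5 :=
    fun {x} hx => fix_le_two h01' h23' (hinv _).2 (hinv _).2 hx
  have hcne : ∀ a, c a ≠ 0 := fun a h => by have := (hc a).2; rw [h, zero_mul] at this; exact zero_ne_one this
  -- the permutation of `w` commutes with that of `W`
  let pW : Fin 6 → Fin 6 := ![1, 0, 3, 2, 4, 5]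
  let τ : Fin 6 → Fin 6 := fun i => E.symm (π (E i))
  have hτ : ∀ i, π (E i) = E (τ i) := fun i => (E.apply_symm_apply _).symm
  have hcomm : ∀ i, τ (pW i) = pW (τ i) ∧ c (E (pW i)) = c (E i) := fun i => by
    have h := congrArg (fun g : GL (Fin n) F => (g : Matrix (Fin n) (Fin n) F) *ᵥ e (E i)) hwW
    simp only [gl_mul_mulVec, hWe, (hc _).1, hτ, mulVec_smul] at h
    have h' := P.smul_e_inj (hcne _) h.symm
    exact ⟨E.injective h'.1, h'.2⟩
  have hτ2 : ∀ i, τ (τ i) = i := fun i => E.injective (by rw [← hτ, ← hτ, (hinv _).2])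
  have hcc : ∀ i, c (E i) * c (E (τ i)) = 1 := fun i => by rw [← hτ]; exact (hinv _).1
  have hτinj : Function.Injective τ := Function.LeftInverse.injective hτ2
  have hτ0 : τ 0 = 0 ∨ τ 0 = 1 := by
    rcases hwπ π c hc with h | h <;> rw [hτ] at h
    exacts [Or.inl (E.injective h), Or.inr (E.injective h)]
  have hτ01 : τ 1 = pW (τ 0) := (hcomm 0).1
  have hτ4 : τ 4 = 4 ∨ τ 4 = 5 := by
    have h : pW (τ 4) = τ 4 := (hcomm 4).1.symm
    revert h
    generalize τ 4 = j
    revert j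
    decide
  have hτ2' : τ 2 = 2 ∨ τ 2 = 3 := by
    have a0 : τ 2 ≠ τ 0 := fun h => absurd (hτinj h) (by decide)
    have a1 : τ 2 ≠ pW (τ 0) := hτ01 ▸ fun h => absurd (hτinj h) (by decide)
    have a4 : τ 2 ≠ τ 4 := fun h => absurd (hτinj h) (by decide)
    have h45' : pW (τ 2) ≠ τ 2 := fun h => absurd (hτinj ((hcomm 2).1.trans h)) (by decide)
    revert a0 a1 h45'
    rcases hτ0 with h | h <;> rw [h] <;> generalize τ 2 = j <;> revert j <;> decide
  have hτ3 : τ 3 = pW (τ 2) := (hcomm 2).1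
  have hτ5 : τ 5 = (if τ 4 = 4 then 5 else 4) := by
    rcases hτ4 with h | h
    · rw [if_pos h]
      obtain ⟨j, hj⟩ : ∃ j, τ j = 5 := ⟨τ 5, hτ2 5⟩
      have h' : pW (τ 5) = τ 5 := (hcomm 5).1.symm
      have a4 : τ 5 ≠ τ 4 := fun h => absurd (hτinj h) (by decide)
      rw [h] at a4
      revert h' a4
      generalize τ 5 = j
      revert j
      decide
    · rw [if_neg (by rw [h]; decide)]
      have := hτ2 4
      rwa [h] at this
  have hact : ∀ i, (w : Matrix (Fin n) (Fin n) F) *ᵥ e (E i) = c (E i) • e (E (τ i)) := fun i => by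
    rw [(hc _).1, hτ]
  have hWw : ∀ i, ((W * w : GL (Fin n) F) : Matrix (Fin n) (Fin n) F) *ᵥ e (E i) = c (E i) • e (E (pW (τ i))) :=
    fun i => by rw [gl_mul_mulVec, hact, mulVec_smul, hWe]
  have hfixτ : ∀ {i}, τ i = i → E i = E' 4 ∨ E i = E' 5 := fun {i} hi => hfix2 (by rw [hτ, hi])
  have hWwsq : W * w * (W * w) = 1 := by
    rw [mul_assoc, ← mul_assoc w, ← hwW, ← mul_assoc, ← mul_assoc, hW2, one_mul, hw2]
  have hWws : W * w * s = s * (W * w) := by rw [mul_assoc, hws, ← mul_assoc, hsW, mul_assoc]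
  rcases hτ4 with h44 | h45'
  · exfalso
    rw [if_pos h44] at hτ5
    rcases hτ0 with h00 | h01''
    · exact three (show (0 : Fin 6) ≠ 4 by decide) (show (0 : Fin 6) ≠ 5 by decide) (by decide) _ _
        ⟨hfixτ h00, hfixτ h44, hfixτ hτ5⟩
    rcases R.inv_six ht h2 (M.mul_mem hW hwM) ((Cfsg.Geo.decompositionStabilizer D).mul_mem hWs hwst) hWwsq hsM hsns
        hWws with (h | h) | ⟨π₁, c₁, ν₁, E₁, hc₁, hinv₁, -, g01, g23, -⟩
    · exact hwW1 (by rw [← one_mul w, ← hW2, mul_assoc, h, mul_one])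
    · exact hwWn (by rw [← one_mul w, ← hW2, mul_assoc, h, mul_neg, mul_one])
    have hfix1 : ∀ {i}, pW (τ i) = i → E i = E₁ 4 ∨ E i = E₁ 5 := fun {i} hi =>
      fix_le_two g01 g23 (hinv₁ _).2 (hinv₁ _).2
        ((P.smul_e_inj (hcne _) ((hWw i).symm.trans (hc₁ (E i)).1)).1.symm.trans (by rw [hi]))
    exact three (show (0 : Fin 6) ≠ 4 by decide) (show (0 : Fin 6) ≠ 5 by decide) (by decide) _ _
      ⟨hfix1 (by rw [h01'']; rfl), hfix1 (by rw [h44]; rfl), hfix1 (by rw [hτ5]; rfl)⟩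
  rw [if_neg (by rw [h45']; decide)] at hτ5
  have hnot : ¬ (τ 0 = 0 ∧ τ 2 = 2) := fun ⟨h00, h22⟩ =>
    three (show (0 : Fin 6) ≠ 1 by decide) (show (0 : Fin 6) ≠ 2 by decide) (by decide) _ _
      ⟨hfixτ h00, hfixτ (by rw [hτ01, h00]; rfl), hfixτ h22⟩
  have hall : ¬ (τ 0 = 1 ∧ τ 2 = 3) := by
    rintro ⟨h01'', h23''⟩
    obtain ⟨i, hi⟩ := E.surjective (E' 4)
    rw [← hi, hτ] at h4'
    have := E.injective h4'
    fin_cases i <;> simp [h01'', h23'', hτ01, hτ3, h45', hτ5, pW] at this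
  rcases hτ0 with h00 | h01''
  · have h23'' : τ 2 = 3 := hτ2'.resolve_left fun h => hnot ⟨h00, h⟩
    refine ⟨W * w, M.mul_mem hW hwM, (Cfsg.Geo.decompositionStabilizer D).mul_mem hWs hwst, hWwsq,
      by rw [mul_assoc W w, ← hwW], hWws, fun i => pW (τ i), fun i => c (E i), hWw, ?_⟩
    simp [h00, h23'', hτ01, hτ3, h45', hτ5, pW]
  · have h22 : τ 2 = 2 := hτ2'.resolve_right fun h => hall ⟨h01'', h⟩
    refine ⟨w, hwM, hwst, hw2, hwW, hws, τ, fun i => c (E i), hact, h01'', ?_⟩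
    simp [h01'', h22, hτ01, hτ3, h45', hτ5, pW]

/-- A second double exchange rules out the outside element. -/
theorem Rig.two_dbl (ht : t = 6) (h2 : (2 : F) ≠ 0) (E : Fin 6 ≃ Fin t) {W w' s : GL (Fin n) F}
    (hW : W ∈ M) (hWs : W ∈ Cfsg.Geo.decompositionStabilizer D)
    (hWe : ∀ i, (W : Matrix (Fin n) (Fin n) F) *ᵥ e (E i) = e (E (![1, 0, 3, 2, 4, 5] i)))
    (hsM : s ∈ M) (hsns : s ∉ Cfsg.Geo.decompositionStabilizer D) (hsW : W * s = s * W)
    (hd : (s : Matrix (Fin n) (Fin n) F) *ᵥ (e (E 0) - e (E 1)) = e (E 0) - e (E 1))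
    (hw'M : w' ∈ M) (hw's : w' ∈ Cfsg.Geo.decompositionStabilizer D) (hw'2 : w' * w' = 1) (hw'W : W * w' = w' * W)
    (hw'c : w' * s = s * w') (τ' : Fin 6 → Fin 6) (c' : Fin 6 → F)
    (hc' : ∀ i, (w' : Matrix (Fin n) (Fin n) F) *ᵥ e (E i) = c' i • e (E (τ' i)))
    (hτ'0 : τ' 0 = 1) (hτ'1 : τ' 1 = 0) (hτ'2 : τ' 2 = 2) (hτ'3 : τ' 3 = 3) (hτ'4 : τ' 4 = 5) (hτ'5 : τ' 5 = 4) :
    False := by
  classical
  have P := R.frame
  have hf := P.unit
  have hne : ∀ {i j : Fin 6}, i ≠ j → E i ≠ E j := fun h => E.injective.ne h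
  have h01 := hne (show (0 : Fin 6) ≠ 1 by decide)
  rcases R.inv_six ht h2 hw'M hw's hw'2 hsM hsns hw'c with (h | h) | ⟨π₁, c₁, ν₁, E₁, hc₁, hinv₁, hν₁, g01, g23, g4, g5, gc4, gc5⟩
  · have h' := (hc' 0).symm
    rw [h, Units.val_one, one_mulVec, hτ'0] at h'
    exact hne (show (0 : Fin 6) ≠ 1 by decide) (P.smul_e_inj one_ne_zero ((one_smul F _).trans h'.symm)).1
  · have h' := (hc' 0).symm
    rw [h, Units.val_neg, Units.val_one, neg_mulVec, one_mulVec, hτ'0, ← neg_one_smul F (e (E 0))] at h'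
    exact hne (show (0 : Fin 6) ≠ 1 by decide) (P.smul_e_inj (neg_ne_zero.2 one_ne_zero) h'.symm).1
  have hc1ne : ∀ a, c₁ a ≠ 0 := fun a h => by have := (hc₁ a).2; rw [h, zero_mul] at this; exact zero_ne_one this
  have hmatch : ∀ i, π₁ (E i) = E (τ' i) ∧ c₁ (E i) = c' i := fun i =>
    P.smul_e_inj (hc1ne _) ((hc₁ (E i)).1.symm.trans (hc' i))
  have hν : ∀ i, τ' i = i → c' i = ν₁ := fun i hi => by
    obtain ⟨j, hj⟩ := E₁.surjective (E i)
    have hfx : π₁ (E₁ j) = E₁ j := by rw [hj, (hmatch i).1, hi]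
    rw [← (hmatch i).2, ← hj]
    have q0 := (hinv₁ (E₁ 0)).2
    have q2 := (hinv₁ (E₁ 2)).2
    rw [g01] at q0
    rw [g23] at q2
    fin_cases j <;> simp only [Fin.zero_eta, Fin.mk_one, Fin.reduceFinMk] at hfx ⊢ <;>
      simp_all [E₁.injective.eq_iff]
  have hcn : ∀ i, c' i * σ (c' i) = 1 := fun i => by rw [← (hmatch i).2]; exact (hc₁ _).2
  have hc01 : c' 0 * c' 1 = 1 ∧ c' 4 * c' 5 = 1 := by
    have a := (hinv₁ (E 0)).1
    have b := (hinv₁ (E 4)).1
    rw [(hmatch 0).1, hτ'0, (hmatch 0).2, (hmatch 1).2] at a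
    rw [(hmatch 4).1, hτ'4, (hmatch 4).2, (hmatch 5).2] at b
    exact ⟨a, b⟩
  have hc10 : c' 1 = c' 0 := by
    have h := congrArg (fun g : GL (Fin n) F => (g : Matrix (Fin n) (Fin n) F) *ᵥ e (E 0)) hw'W
    have e1 : (W : Matrix (Fin n) (Fin n) F) *ᵥ e (E 1) = e (E 0) := by rw [hWe]; rfl
    have e0 : (W : Matrix (Fin n) (Fin n) F) *ᵥ e (E 0) = e (E 1) := by rw [hWe]; rfl
    simp only [gl_mul_mulVec] at h
    rw [hc', hτ'0, mulVec_smul, e1, e0, hc', hτ'1] at h
    exact ((P.smul_e_inj (fun h0 => by have := hcn 0; rw [h0, zero_mul] at this; exact zero_ne_one this) h).2).symm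
  have hν0 : ν₁ * σ ν₁ = 1 := hν 2 hτ'2 ▸ hcn 2
  set θ := ν₁ * c' 0 with hθ
  have hθθ : θ * θ = 1 := by
    rw [hθ]; linear_combination (c' 0 * c' 0) * hν₁ + hc01.1 - c' 0 * hc10
  -- normalise the second exchange
  set κ := ν₁ * c' 4 with hκ
  have hκκ : κ * σ κ = 1 := by rw [hκ, map_mul]; linear_combination (c' 4 * σ (c' 4)) * hν0 + hcn 4
  let ph : Fin t → F := fun a => if a = E 5 then κ else 1
  have hph : ∀ a, ph a * σ (ph a) = 1 := fun a => by simp only [ph]; split_ifs <;> simp [hκκ]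
  obtain ⟨W₂, hW₂M, hW₂s, hW₂act⟩ : ∃ W₂ ∈ M, W₂ ∈ Cfsg.Geo.decompositionStabilizer D ∧
      ∀ x, (W₂ : Matrix (Fin n) (Fin n) F) *ᵥ x = ν₁ • ((w' : Matrix (Fin n) (Fin n) F) *ᵥ x) := by
    rcases mul_self_eq_one_iff.1 hν₁ with h | h
    · exact ⟨w', hw'M, hw's, fun x => by rw [h, one_smul]⟩
    · refine ⟨-w', ?_, ?_, fun x => by rw [h, Units.val_neg, neg_mulVec, neg_one_smul]⟩
      · rw [← neg_one_mul]; exact M.mul_mem (R.neg_one_mem ht) hw'M
      · rw [← neg_one_mul]
        exact (Cfsg.Geo.decompositionStabilizer D).mul_mem (P.stab_of fun a => ⟨a, -1, by simp [neg_mulVec]⟩) hw's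
  have hW₂c : ∀ {g : GL (Fin n) F}, w' * g = g * w' → W₂ * g = g * W₂ := fun {g} hg => gl_ext fun x => by
    rw [gl_mul_mulVec, gl_mul_mulVec, hW₂act, hW₂act, mulVec_smul, ← gl_mul_mulVec, hg, gl_mul_mulVec]
  rcases mul_self_eq_one_iff.1 hθθ with hθ1 | hθ1
  · refine hsns ((R.phase ph hph).cent_two ht h2 E hW hW₂M hWs hW₂s (fun i => ?_) (fun i => ?_) hsM hsW
      (hW₂c hw'c))
    · simp only [mulVec_smul, hWe, ph, E.injective.eq_iff]
      fin_cases i <;> simp
    · simp only [mulVec_smul, hW₂act, hc', smul_smul, ph, E.injective.eq_iff]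
      fin_cases i <;> simp only [Fin.zero_eta, Fin.mk_one, Fin.reduceFinMk, Fin.reduceEq, if_false, if_true, one_mul,
        Matrix.cons_val, hτ'0, hτ'1, hτ'2, hτ'3, hτ'4, hτ'5]
      all_goals first
        | rfl
        | (refine congrArg (· • _) ?_
           first
           | linear_combination hθ1 - hθ
           | linear_combination hθ1 - hθ + ν₁ * hc10
           | (rw [hν 2 hτ'2]; exact hν₁)
           | (rw [hν 3 hτ'3]; exact hν₁)
           | linear_combination -hκ
           | (rw [hκ]; linear_combination (c' 4 * c' 5) * hν₁ + hc01.2))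
  -- the remaining sign
  set y := (s : Matrix (Fin n) (Fin n) F) *ᵥ e (E 2) with hy
  have hWy : (W₂ : Matrix (Fin n) (Fin n) F) *ᵥ y = y := by
    rw [hy, ← gl_mul_mulVec, hW₂c hw'c, gl_mul_mulVec, hW₂act, hc', hτ'2, hν 2 hτ'2, smul_smul, hν₁, one_smul]
  have h10 := P.mono_coord (R.le_k hW₂M).1 (a := E 0) (b := E 1) (c := θ)
    (by rw [hW₂act, hc', hτ'0, smul_smul]) (by rw [hθ, map_mul]; linear_combination (c' 0 * σ (c' 0)) * hν0 + hcn 0) y
  rw [hWy, hθ1] at h10
  have hd' : f y (e (E 0) - e (E 1)) = 0 := by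
    conv_lhs => arg 2; rw [← hd]
    rw [hy, R.isometry hsM, Unit.sub_right hf, P.orth (hne (by decide)), P.orth (hne (by decide)), sub_zero]
  rw [Unit.sub_right hf, h10] at hd'
  have hz : f y (e (E 0)) = 0 := mul_left_cancel₀ h2 (by linear_combination hd')
  exact R.two_zero hsM hsns h01 hz (by rw [h10, hz, mul_zero])

/-- Elements centralising a double exchange are in the stabilizer. -/
theorem Rig.cent_dbl (ht : t = 6) (h2 : (2 : F) ≠ 0) (E : Fin 6 ≃ Fin t) {W k : GL (Fin n) F}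
    (hW : W ∈ M) (hWs : W ∈ Cfsg.Geo.decompositionStabilizer D)
    (hWe : ∀ i, (W : Matrix (Fin n) (Fin n) F) *ᵥ e (E i) = e (E (![1, 0, 3, 2, 4, 5] i)))
    (hk : k ∈ M) (hkW : W * k = k * W) : k ∈ Cfsg.Geo.decompositionStabilizer D := by
  classical
  by_contra hks
  have P := R.frame
  have hf := P.unit
  have hε : (-1 : F) * σ (-1) = 1 := by simp
  have hm1 : (-1 : F) ≠ 1 := fun h => h2 (by linear_combination -h)
  have h4 : (4 : F) ≠ 0 := fun h => mul_ne_zero h2 h2 (by linear_combination h)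
  have hne : ∀ {i j : Fin 6}, i ≠ j → E i ≠ E j := fun h => E.injective.ne h
  set t0 := duo σ f (e (E 4)) (e (E 5)) (-1) with ht0
  set t2 := duo σ f (e (E 0)) (e (E 1)) (-1) with ht2
  have h45 := hne (show (4 : Fin 6) ≠ 5 by decide)
  have h01 := hne (show (0 : Fin 6) ≠ 1 by decide)
  have ht0M : t0 ∈ M := R.duo_mem _ _ hε
  have ht2M : t2 ∈ M := R.duo_mem _ _ hε
  have ht0W : W * t0 = t0 * W := P.gl_ext' fun l => by
    obtain ⟨i, rfl⟩ := E.surjective l
    rw [gl_mul_mulVec, gl_mul_mulVec, ht0, P.duo_line h45, mulVec_smul, hWe, P.duo_line h45]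
    fin_cases i <;> simp [E.injective.eq_iff]
  have ht2W : W * t2 = t2 * W := P.gl_ext' fun l => by
    obtain ⟨i, rfl⟩ := E.surjective l
    rw [gl_mul_mulVec, gl_mul_mulVec, ht2, P.duo_line h01, mulVec_smul, hWe, P.duo_line h01]
    fin_cases i <;> simp [E.injective.eq_iff]
  have hW2 : W * W = 1 := P.gl_ext' fun l => by
    obtain ⟨i, rfl⟩ := E.surjective l
    rw [gl_mul_mulVec, hWe, hWe]
    fin_cases i <;> simp
  have ht2sq : t2 * t2 = 1 := duo_neg_sq P h01
  set s := k * t0 * k⁻¹ with hs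
  have hsM : s ∈ M := M.mul_mem (M.mul_mem hk ht0M) (M.inv_mem hk)
  have hsns : s ∉ Cfsg.Geo.decompositionStabilizer D := R.conj_notMem hk hks h45 hε hm1
  have hssq : s * s = 1 := by
    rw [hs, show k * t0 * k⁻¹ * (k * t0 * k⁻¹) = k * (t0 * t0) * k⁻¹ by group, ht0, duo_neg_sq P h45]; group
  have hsW : W * s = s * W :=
    ((show Commute W k from hkW).mul_right ht0W).mul_right (show Commute W k from hkW).inv_right
  set C := M ⊓ Subgroup.centralizer {W} with hC
  have hmemC : ∀ {x}, x ∈ M → W * x = x * W → x ∈ C := fun hx hxw =>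
    ⟨hx, Subgroup.mem_centralizer_singleton_iff.2 hxw.symm⟩
  have hCW : ∀ {x}, x ∈ C → W * x = x * W := fun hx => (Subgroup.mem_centralizer_singleton_iff.1 hx.2).symm
  -- two invariants of conjugacy inside the centralizer
  set φ : GL (Fin n) F → F := fun g => (g : Matrix (Fin n) (Fin n) F).trace with hφ
  have hconj1 : ∀ u g, φ (u * g * u⁻¹) = φ g := fun u g => trace_conj u g
  have hconj2 : ∀ u g, W * u = u * W → φ (u * g * u⁻¹ * W) = φ (g * W) := fun u g hu => by
    rw [show u * g * u⁻¹ * W = u * (g * W) * u⁻¹ by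
      rw [mul_assoc (u * g), ← ((show Commute W u from hu).inv_right).eq]; group]
    exact trace_conj u (g * W)
  have vt0 : φ t0 = 2 := by
    simp only [hφ]
    rw [P.trace_six E t0 id ![1, 1, 1, 1, -1, -1] fun i => by
      rw [ht0, P.duo_line h45]; fin_cases i <;> simp [E.injective.eq_iff]]
    simp [Fin.sum_univ_six]; ring
  have vt2 : φ t2 = 2 := by
    simp only [hφ]
    rw [P.trace_six E t2 id ![-1, -1, 1, 1, 1, 1] fun i => by
      rw [ht2, P.duo_line h01]; fin_cases i <;> simp [E.injective.eq_iff]]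
    simp [Fin.sum_univ_six]; ring
  have vt0W : φ (t0 * W) = -2 := by
    simp only [hφ]
    rw [P.trace_six E (t0 * W) ![1, 0, 3, 2, 4, 5] ![1, 1, 1, 1, -1, -1] fun i => by
      rw [gl_mul_mulVec, hWe, ht0, P.duo_line h45]; fin_cases i <;> simp [E.injective.eq_iff]]
    simp [Fin.sum_univ_six]; ring
  have vt2W : φ (t2 * W) = 2 := by
    simp only [hφ]
    rw [P.trace_six E (t2 * W) ![1, 0, 3, 2, 4, 5] ![-1, -1, 1, 1, 1, 1] fun i => by
      rw [gl_mul_mulVec, hWe, ht2, P.duo_line h01]; fin_cases i <;> simp [E.injective.eq_iff]]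
    simp [Fin.sum_univ_six]; ring
  have hφneg : ∀ g : GL (Fin n) F, φ (-g) = -φ g := fun g => trace_neg' g
  have hφs : φ s = 2 := by rw [hs, hconj1, vt0]
  have hφsW : φ (s * W) = -2 := by rw [hs, hconj2 _ _ hkW, vt0W]
  obtain ⟨w, hwC, hw2, hw1, hwE, hwt, hws⟩ := exists_central_involution (M := C)
    (hmemC ht2M ht2W) (hmemC hsM hsW) ht2sq hssq (E := {1, -1, W, -W})
    (fun u hu h => by
      have := congrArg (fun g => φ (g * W)) h
      simp only [hconj2 _ _ (hCW hu), vt2W, hφsW] at this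
      exact h4 (by linear_combination this))
    (fun e' he' hne' u hu => by
      simp only [Set.mem_insert_iff, Set.mem_singleton_iff, hne', false_or] at he'
      rcases he' with he' | he' | he' <;> constructor <;> intro h <;> rw [he'] at h
      · have := congrArg φ h
        rw [hconj1, mul_neg, mul_one, hφneg, vt2, hφs] at this
        exact h4 (by linear_combination -this)
      · have := congrArg φ h
        rw [hconj1, mul_neg, mul_one, hφneg, vt2] at this
        exact h4 (by linear_combination this)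
      · have := congrArg (fun g => φ (g * W)) h
        simp only [hconj2 _ _ (hCW hu)] at this
        rw [mul_assoc t2, hW2, mul_one, vt2, hφsW] at this
        exact h4 (by linear_combination this)
      · have hu' : u ∈ Cfsg.Geo.decompositionStabilizer D := by
          by_contra hus
          refine R.conj_notMem hu.1 hus h01 hε hm1 ?_
          rw [← ht2, h]
          exact (Cfsg.Geo.decompositionStabilizer D).mul_mem ((R.frame.duo_H _ _ hε).1) hWs
        obtain ⟨κ, hκ⟩ := R.conj_diag (x := t2) hu.1 hu' (fun l => ⟨_, P.duo_line h01 l⟩) (E 2)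
        rw [h, gl_mul_mulVec, hWe] at hκ
        simp only [Matrix.cons_val] at hκ
        rw [ht2, P.duo_line h01, if_neg (by simp [E.injective.eq_iff])] at hκ
        exact hne (show (3 : Fin 6) ≠ 2 by decide) (P.smul_e_inj one_ne_zero hκ).1
      · have := congrArg φ h
        rw [hconj1, mul_neg, hφneg, vt2W, hφs] at this
        exact h4 (by linear_combination -this)
      · have := congrArg φ h
        rw [hconj1, mul_neg, hφneg, vt2W, vt2] at this
        exact h4 (by linear_combination this))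
  obtain ⟨hwM, hwCW⟩ : w ∈ M ∧ W * w = w * W := ⟨hwC.1, hCW hwC⟩
  obtain ⟨hwst, hwπ⟩ := R.pair_stab h2 h01 hwM hwt
  simp only [Set.mem_insert_iff, Set.mem_singleton_iff, not_or] at hwE
  obtain ⟨w', hw'M, hw's, hw'2, hw'W, hw'c, τ', c', hc', a0, a1, a2, a3, a4, a5⟩ :=
    R.second_dbl ht h2 E hW hWs hWe hW2 hwM hwst hw2 hw1 hwE.2.1 hwE.2.2.1 hwE.2.2.2 hwCW hwπ hsM hsns hsW hws
  have hd : (s : Matrix (Fin n) (Fin n) F) *ᵥ (e (E 0) - e (E 1)) = e (E 0) - e (E 1) := by
    set y := ((k⁻¹ : GL (Fin n) F) : Matrix (Fin n) (Fin n) F) *ᵥ (e (E 0) - e (E 1)) with hy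
    suffices hfix : (t0 : Matrix (Fin n) (Fin n) F) *ᵥ y = y by
      rw [hs, gl_mul_mulVec, gl_mul_mulVec, ← hy, hfix, hy, gl_mulVec_inv_mulVec]
    have hWy : (W : Matrix (Fin n) (Fin n) F) *ᵥ y = (-1 : F) • y := by
      rw [hy, ← gl_mul_mulVec, ((show Commute W k from hkW).inv_right).eq, gl_mul_mulVec, ← mulVec_smul]
      congr 1
      rw [mulVec_sub, hWe, hWe]
      simp
    have hy45 : ∀ i, i = (4 : Fin 6) ∨ i = 5 → f (e (E i)) y = 0 := fun i hi => by
      have hfixi : (W : Matrix (Fin n) (Fin n) F) *ᵥ e (E i) = (1 : F) • e (E i) := by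
        rw [hWe, one_smul]; rcases hi with rfl | rfl <;> rfl
      have h := P.mono_coord (R.le_k hW).1 hfixi (by simp) y
      rw [hWy, Unit.smul_left hf] at h
      exact Unit.eq_zero_comm hf (mul_left_cancel₀ h2 (by linear_combination -h))
    rw [ht0, duo, show σ (-1 : F) = -1 by simp, gl_mul_mulVec,
      rho_fix hf (P.norm _) hε (Unit.eq_zero_comm hf (hy45 5 (Or.inr rfl))),
      rho_fix hf (P.norm _) hε (Unit.eq_zero_comm hf (hy45 4 (Or.inl rfl)))]
  exact R.two_dbl ht h2 E hW hWs hWe hsM hsns hsW hd hw'M hw's hw'2 hw'W hw'c τ' c' hc' a0 a1 a2 a3 a4 a5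

/-- A non-scalar monomial involution is centralised only inside the stabilizer. -/
theorem Rig.inv_cent (ht : t = 6) (h2 : (2 : F) ≠ 0) {v k : GL (Fin n) F} (hv : v ∈ M)
    (hvs : v ∈ Cfsg.Geo.decompositionStabilizer D) (hv2 : v * v = 1) (hv1 : v ≠ 1) (hvn : v ≠ -1) (hk : k ∈ M)
    (hvk : v * k = k * v) : k ∈ Cfsg.Geo.decompositionStabilizer D := by
  classical
  by_contra hks
  rcases R.inv_six ht h2 hv hvs hv2 hk hks hvk with (h | h) | ⟨π, c, ν, E, hc, hinv, hν, h01, h23, h4, h5, hc4, hc5⟩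
  · exact hv1 h
  · exact hvn h
  have P := R.frame
  have hν0 : ν * σ ν = 1 := hc4 ▸ (hc (E 4)).2
  let ph : Fin t → F := fun a => if a = E 1 then ν * c (E 0) else if a = E 3 then ν * c (E 2) else 1
  have hph : ∀ a, ph a * σ (ph a) = 1 := fun a => by
    simp only [ph]
    split_ifs
    · rw [map_mul]; linear_combination (c (E 0) * σ (c (E 0))) * hν0 + (hc (E 0)).2
    · rw [map_mul]; linear_combination (c (E 2) * σ (c (E 2))) * hν0 + (hc (E 2)).2
    · simp
  obtain ⟨W, hWM, hWs, hWact⟩ : ∃ W ∈ M, W ∈ Cfsg.Geo.decompositionStabilizer D ∧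
      ∀ x, (W : Matrix (Fin n) (Fin n) F) *ᵥ x = ν • ((v : Matrix (Fin n) (Fin n) F) *ᵥ x) := by
    rcases mul_self_eq_one_iff.1 hν with h | h
    · exact ⟨v, hv, hvs, fun x => by rw [h, one_smul]⟩
    · refine ⟨-v, ?_, ?_, fun x => by rw [h, Units.val_neg, neg_mulVec, neg_one_smul]⟩
      · rw [← neg_one_mul]; exact M.mul_mem (R.neg_one_mem ht) hv
      · rw [← neg_one_mul]
        exact (Cfsg.Geo.decompositionStabilizer D).mul_mem (P.stab_of fun a => ⟨a, -1, by simp [neg_mulVec]⟩) hvs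
  have q0 := hinv (E 0)
  have q2 := hinv (E 2)
  rw [h01] at q0
  rw [h23] at q2
  refine hks ((R.phase ph hph).cent_dbl ht h2 E hWM hWs (fun i => ?_) hk (gl_ext fun x => ?_))
  · simp only [mulVec_smul, hWact, (hc _).1, smul_smul, ph, E.injective.eq_iff]
    fin_cases i <;> simp only [Fin.zero_eta, Fin.mk_one, Fin.reduceFinMk, Fin.reduceEq, if_false, if_true, one_mul,
      Matrix.cons_val, h01, h23, h4, h5, q0.2, q2.2]
    all_goals first
      | rfl
      | (refine congrArg (· • _) ?_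
         first
         | ring1
         | linear_combination (c (E 0) * c (E 1)) * hν + q0.1
         | linear_combination (c (E 2) * c (E 3)) * hν + q2.1
         | (rw [hc4]; exact hν)
         | (rw [hc5]; exact hν)
         | (rw [hc4, hν, one_smul])
         | linear_combination ν * hc4 + hν
         | linear_combination ν * hc5 + hν)
  · rw [gl_mul_mulVec, gl_mul_mulVec, hWact, hWact, mulVec_smul, ← gl_mul_mulVec, hvk, gl_mul_mulVec]

/-- In odd characteristic there is no rigid overgroup. -/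
theorem Rig.false_six_odd (ht : t = 6) (h2 : (2 : F) ≠ 0) {g : GL (Fin n) F} (hg : g ∈ M)
    (hgs : g ∉ Cfsg.Geo.decompositionStabilizer D) : False := by
  classical
  have P := R.frame
  have hf := P.unit
  have hε : (-1 : F) * σ (-1) = 1 := by simp
  have hm1 : (-1 : F) ≠ 1 := fun h => h2 (by linear_combination -h)
  have h4 : (4 : F) ≠ 0 := fun h => mul_ne_zero h2 h2 (by linear_combination h)
  set E : Fin 6 ≃ Fin t := finCongr ht.symm with hE
  have hne : ∀ {i j : Fin 6}, i ≠ j → E i ≠ E j := fun h => E.injective.ne h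
  have h01 := hne (show (0 : Fin 6) ≠ 1 by decide)
  have h23 := hne (show (2 : Fin 6) ≠ 3 by decide)
  have mkW : ∀ η : F, η * η = 1 → η * σ η = 1 → ∃ W ∈ M, W ∈ Cfsg.Geo.decompositionStabilizer D ∧ ∀ i,
      (W : Matrix (Fin n) (Fin n) F) *ᵥ e (E i) =
        ![η, η, 1, 1, 1, 1] i • e (E (![1, 0, 3, 2, 4, 5] i)) := by
    intro η hη hηN
    have hση : σ η = η := mul_left_cancel₀ (fun h0 : η = 0 => by simp [h0] at hη) (hηN.trans hη.symm)
    obtain ⟨q1, a1, b1, o1, d1⟩ := P.swap_vec h01 hηN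
    obtain ⟨q2, a2, b2, o2, d2⟩ := P.swap_vec h23 (c := 1) (by simp)
    have hs := (Cfsg.Geo.decompositionStabilizer D).mul_mem (P.swap_stab h01 hηN) (P.swap_stab h23 (c := 1) (by simp))
    refine ⟨_, R.le ⟨hs, kGrp_of hf ((isoGroup f).mul_mem (qr_iso hf q1) (qr_iso hf q2)) ?_⟩, hs, fun i => ?_⟩
    · rw [Units.val_mul, det_mul, d1, d2]; norm_num
    rw [gl_mul_mulVec]
    fin_cases i <;> simp only [Fin.zero_eta, Fin.mk_one, Fin.reduceFinMk, Matrix.cons_val]
    · rw [o2 _ (hne (by decide)) (hne (by decide)), a1]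
    · rw [o2 _ (hne (by decide)) (hne (by decide)), b1, hση]
    · rw [a2, mulVec_smul, o1 _ (hne (by decide)) (hne (by decide))]
    · rw [b2, map_one σ, mulVec_smul, o1 _ (hne (by decide)) (hne (by decide))]
    · rw [o2 _ (hne (by decide)) (hne (by decide)), o1 _ (hne (by decide)) (hne (by decide)), one_smul]
    · rw [o2 _ (hne (by decide)) (hne (by decide)), o1 _ (hne (by decide)) (hne (by decide)), one_smul]
  obtain ⟨W₁, hW₁M, hW₁s, hW₁⟩ := mkW 1 (by simp) (by simp)
  obtain ⟨W₂, hW₂M, hW₂s, hW₂⟩ := mkW (-1) (by simp) hε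
  have hprod : W₂ * W₁ = duo σ f (e (E 0)) (e (E 1)) (-1) := P.gl_ext' fun l => by
    obtain ⟨i, rfl⟩ := E.surjective l
    rw [gl_mul_mulVec, hW₁, mulVec_smul, hW₂, P.duo_line h01]
    fin_cases i <;> simp [E.injective.eq_iff]
  obtain ⟨η, hη, W, hWM, hWs, hW, hout⟩ : ∃ η : F, η * η = 1 ∧ ∃ W ∈ M, W ∈ Cfsg.Geo.decompositionStabilizer D ∧
      (∀ i, (W : Matrix (Fin n) (Fin n) F) *ᵥ e (E i) = ![η, η, 1, 1, 1, 1] i • e (E (![1, 0, 3, 2, 4, 5] i))) ∧
      g * W * g⁻¹ ∉ Cfsg.Geo.decompositionStabilizer D := by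
    by_cases h1 : g * W₁ * g⁻¹ ∈ Cfsg.Geo.decompositionStabilizer D
    · refine ⟨-1, by simp, W₂, hW₂M, hW₂s, hW₂, fun h3 => R.conj_notMem hg hgs h01 hε hm1 ?_⟩
      rw [← hprod, show g * (W₂ * W₁) * g⁻¹ = g * W₂ * g⁻¹ * (g * W₁ * g⁻¹) by group]
      exact (Cfsg.Geo.decompositionStabilizer D).mul_mem h3 h1
    · exact ⟨1, by simp, W₁, hW₁M, hW₁s, hW₁, h1⟩
  set s := g * W * g⁻¹ with hs
  have hW2 : W * W = 1 := P.gl_ext' fun l => by
    obtain ⟨i, rfl⟩ := E.surjective l
    rw [gl_mul_mulVec, hW, mulVec_smul, hW]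
    fin_cases i <;> simp [smul_smul, hη]
  set t0 := duo σ f (e (E 0)) (e (E 1)) (-1) with ht0
  have vt0 : (t0 : Matrix (Fin n) (Fin n) F).trace = 2 := by
    rw [P.trace_six E t0 id ![-1, -1, 1, 1, 1, 1] fun i => by
      rw [ht0, P.duo_line h01]; fin_cases i <;> simp [E.injective.eq_iff]]
    simp [Fin.sum_univ_six]; ring
  have vW : (W : Matrix (Fin n) (Fin n) F).trace = 2 := by
    rw [P.trace_six E W _ _ hW]
    simp [Fin.sum_univ_six]; ring
  have vs : (s : Matrix (Fin n) (Fin n) F).trace = 2 := by rw [hs, trace_conj, vW]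
  obtain ⟨w, hwM, hw2, hw1, hwE, hwt, hws⟩ := exists_central_involution (M := M) (R.duo_mem (E 0) (E 1) hε)
    (M.mul_mem (M.mul_mem hg hWM) (M.inv_mem hg)) (duo_neg_sq P h01)
    (show s * s = 1 by rw [hs, show g * W * g⁻¹ * (g * W * g⁻¹) = g * (W * W) * g⁻¹ by group, hW2]; group)
    (E := {1, -1})
    (fun u hu h => by
      have h' : g⁻¹ * u * t0 * (g⁻¹ * u)⁻¹ = W := by
        rw [show g⁻¹ * u * t0 * (g⁻¹ * u)⁻¹ = g⁻¹ * (u * t0 * u⁻¹) * g by group, h]
        group
      have hgu := M.mul_mem (M.inv_mem hg) hu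
      have hst : g⁻¹ * u ∈ Cfsg.Geo.decompositionStabilizer D := by
        by_contra hus
        exact R.conj_notMem hgu hus h01 hε hm1 (by rw [← ht0, h']; exact hWs)
      obtain ⟨κ, hκ⟩ := R.conj_diag (x := t0) hgu hst (fun l => ⟨_, P.duo_line h01 l⟩) (E 2)
      rw [h', hW] at hκ
      simp only [Matrix.cons_val] at hκ
      exact hne (show (3 : Fin 6) ≠ 2 by decide) (P.smul_e_inj one_ne_zero hκ).1)
    (fun e' he' hne' u hu => by
      obtain rfl : e' = -1 := by simpa [hne'] using he'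
      constructor <;> intro h <;> have := congrArg (fun x : GL (Fin n) F => (x : Matrix (Fin n) (Fin n) F).trace) h <;>
        simp only [trace_conj, mul_neg, neg_mul, mul_one, trace_neg', ← ht0, vt0, vs, vW] at this
      · exact h4 (by linear_combination -this)
      · exact h4 (by linear_combination this))
  obtain ⟨hwst, -⟩ := R.pair_stab h2 h01 hwM hwt
  exact hout (R.inv_cent ht h2 hwM hwst hw2 hw1 (fun h => hwE (by simp [h]))
    (M.mul_mem (M.mul_mem hg hWM) (M.inv_mem hg)) hws)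

/-- In characteristic two an isotropic centre in `M` with a zero coordinate has at most two coordinates. -/
theorem Rig.centre_small {u : Fin n → F} (hq : QCond σ f (-1) u) (hT : qr f (-1) u ∈ M) {l : Fin t}
    (hl : f u (e l) = 0) : (sp f e u).card ≤ 2 :=
  R.frame.supp_one hq (neg_ne_zero.2 one_ne_zero)
    (R.fix_stab hT (a := l) (qr_fix R.frame.unit hq (Unit.eq_zero_comm R.frame.unit hl)))

/-- No centre with two pairs of distinct norms has all coordinates non-zero. -/
theorem Rig.no_mixed_centre (ht : t = 6) (h2 : (2 : F) = 0) (E : Fin 6 ≃ Fin t) {u : Fin n → F}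
    (hqu : QCond σ f (-1) u) (hTu : qr f (-1) u ∈ M) (huu : f u u = 0) (hfull : ∀ l, f u (e l) ≠ 0)
    (hN0 : f u (e (E 0)) * σ (f u (e (E 0))) ≠ f u (e (E 1)) * σ (f u (e (E 1))))
    (hN1 : f u (e (E 2)) * σ (f u (e (E 2))) ≠ f u (e (E 3)) * σ (f u (e (E 3)))) : False := by
  classical
  have P := R.frame
  have hf := P.unit
  have hi : ∀ {i j : Fin 6}, i ≠ j → E i ≠ E j := fun h => E.injective.ne h
  let Q : Quad 2 t (∅ : Finset (Fin t)) :=
    { p := ![E 0, E 2]
      r := ![E 1, E 3]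
      m := E 4
      p_inj := fun i j h => by fin_cases i <;> fin_cases j <;> simp_all [E.injective.eq_iff]
      r_inj := fun i j h => by fin_cases i <;> fin_cases j <;> simp_all [E.injective.eq_iff]
      p_ne := fun i j => by fin_cases i <;> fin_cases j <;> simp [E.injective.eq_iff]
      m_ne := fun i => by fin_cases i <;> simp [E.injective.eq_iff]
      p_out := fun _ => Finset.notMem_empty _
      r_out := fun _ => Finset.notMem_empty _
      m_out := Finset.notMem_empty _ }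
  set N : Fin 6 → F := fun i => f u (e (E i)) * σ (f u (e (E i))) with hN
  have hNf : ∀ i, σ (N i) = N i := fun i => P.norm_fixed u _
  obtain ⟨c₀, c₁, hc₀, hc₁, htr⟩ := exists_two_trace hf.ne_refl hf.involutive
    (mul_ne_zero (hfull (E 0)) ((RingEquiv.map_ne_zero_iff σ).2 (hfull (E 1))))
    (mul_ne_zero (hfull (E 2)) ((RingEquiv.map_ne_zero_iff σ).2 (hfull (E 3))))
    (s := N 0 + N 1 + N 2 + N 3 - 1) (by simp only [map_sub, map_add, map_one, hNf])
  set c : Fin 2 → F := ![c₀, c₁] with hc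
  have hcall : ∀ i, c i * σ (c i) = 1 := fun i => by fin_cases i <;> assumption
  have hsum : ∑ i, f u (pv e Q c i) * f (pv e Q c i) u = 1 := by
    simp only [Fin.sum_univ_two, pv, Q, hc, Matrix.cons_val_zero, Matrix.cons_val_one, Unit.sub_left hf,
      Unit.sub_right hf, Unit.smul_left hf, Unit.smul_right hf]
    rw [← Unit.conj_form hf u (e (E 0)), ← Unit.conj_form hf u (e (E 1)), ← Unit.conj_form hf u (e (E 2)),
      ← Unit.conj_form hf u (e (E 3))]
    simp only [map_mul, hf.involutive, hN] at htr ⊢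
    linear_combination -htr + (f u (e (E 1)) * σ (f u (e (E 1)))) * hc₀ +
      (f u (e (E 3)) * σ (f u (e (E 3)))) * hc₁
  have hne : ∀ (i : Fin 2), f u (pv e Q c i) ≠ 0 := by
    intro i h
    simp only [pv, Unit.sub_right hf, Unit.smul_right hf, sub_eq_zero] at h
    have := congrArg σ h
    rw [map_mul, hf.involutive] at this
    fin_cases i <;> simp only [Q, hc, Fin.zero_eta, Fin.mk_one, Matrix.cons_val_zero, Matrix.cons_val_one] at h this
    · exact hN0 (by rw [this]; conv_lhs => arg 1; rw [h]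
                    linear_combination (f u (e (E 1)) * σ (f u (e (E 1)))) * hc₀)
    · exact hN1 (by rw [this]; conv_lhs => arg 1; rw [h]
                    linear_combination (f u (e (E 3)) * σ (f u (e (E 3)))) * hc₁)
  obtain ⟨δ, hδ, hδm⟩ := P.exists_delta Q hcall even_two
  set su := ∑ i, f u (pv e Q c i) • pv e Q c i with hs0
  have hδu : (δ : Matrix (Fin n) (Fin n) F) *ᵥ u = u - su := hδm u
  have hpair : f ((δ : Matrix (Fin n) (Fin n) F) *ᵥ u) u = -1 := by
    rw [hδu, Unit.sub_left hf, huu, hs0, (Unit.sesq hf).sum_left, ← hsum, zero_sub]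
    congr 1
    exact Finset.sum_congr rfl fun i _ => Unit.smul_left hf _ _ _
  have hδi : Symp.IsIsometry f δ := hδ.2.1
  have hqδ : QCond σ f (-1) ((δ : Matrix (Fin n) (Fin n) F) *ᵥ u) := qcond_map hf hδi hqu
  have hTd : qr f (-1) ((δ : Matrix (Fin n) (Fin n) F) *ᵥ u) ∈ M := by
    rw [← qr_conj hf hδi hqu]
    exact M.mul_mem (M.mul_mem (R.le hδ) hTu) (M.inv_mem (R.le hδ))
  have hnew : (qr f (-1) u : Matrix (Fin n) (Fin n) F) *ᵥ ((δ : Matrix (Fin n) (Fin n) F) *ᵥ u) = -su := by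
    rw [qr_mulVec hf hqu, hpair, neg_mul_neg, one_mul, one_smul, hδu, show u - su + u = (2 : F) • u - su by module,
      h2, zero_smul, zero_sub]
  have hqn : QCond σ f (-1) (-su) := by rw [← hnew]; exact qcond_map hf (qr_iso hf hqu) hqδ
  have hTn : qr f (-1) (-su) ∈ M := by
    rw [← hnew, ← qr_conj hf (qr_iso hf hqu) hqδ]
    exact M.mul_mem (M.mul_mem hTu hTd) (M.inv_mem hTu)
  have hco : ∀ l, f (-su) (e l) = -f su (e l) := fun l => by rw [(Unit.sesq hf).neg_left]
  have hsupp := R.centre_small hqn hTn (l := E 4) (by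
    rw [hco, hs0, P.delta_zero Q u fun i => ⟨(Q.m_ne i).1, (Q.m_ne i).2⟩, neg_zero])
  have h3 : ({Q.p 0, Q.r 0, Q.p 1} : Finset (Fin t)) ⊆ sp f e (-su) := by
    intro z hz
    simp only [Finset.mem_insert, Finset.mem_singleton] at hz
    rw [mem_sp, hco, neg_ne_zero, hs0]
    rcases hz with rfl | rfl | rfl
    · rw [(P.delta_coord Q hcall u 0).1]; exact hne 0
    · rw [(P.delta_coord Q hcall u 0).2, neg_ne_zero]
      exact mul_ne_zero (hne 0) fun h => by simpa [h] using hcall 0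
    · rw [(P.delta_coord Q hcall u 1).1]; exact hne 1
  have h4 := Finset.card_le_card h3
  rw [Finset.card_insert_of_notMem (by simp [Q.p_ne, Q.p_inj.ne (show (0 : Fin 2) ≠ 1 by decide)]),
    Finset.card_pair (Ne.symm (Q.p_ne 1 0))] at h4
  omega

/-- No centre has all coordinates non-zero. -/
theorem Rig.no_full_centre (ht : t = 6) (h2 : (2 : F) = 0) (hB : Big σ) {u : Fin n → F}
    (hqu : QCond σ f (-1) u) (hTu : qr f (-1) u ∈ M) (huu : f u u = 0) (hfull : ∀ l, f u (e l) ≠ 0) : False := by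
  classical
  have P := R.frame
  have hf := P.unit
  -- two disjoint unequal pairs as soon as not all norms agree
  have mixed : ∀ u : Fin n → F, QCond σ f (-1) u → qr f (-1) u ∈ M → f u u = 0 → (∀ l, f u (e l) ≠ 0) →
      ∀ a b, f u (e a) * σ (f u (e a)) ≠ f u (e b) * σ (f u (e b)) → False := by
    intro u hqu hTu huu hfull a b hab
    set N : Fin t → F := fun l => f u (e l) * σ (f u (e l)) with hN
    have hab' : a ≠ b := fun h => hab (by rw [h])
    obtain ⟨E, hE⟩ := exists_six (by norm_num) ht ![a, b] (fun i j h => by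
      fin_cases i <;> fin_cases j <;> simp_all [Ne.symm hab'])
    have e0 : E 0 = a := hE 0
    have e1 : E 1 = b := hE 1
    rw [← e0, ← e1] at hab
    have hi : ∀ {i j : Fin 6}, i ≠ j → E i ≠ E j := fun h => E.injective.ne h
    have use4 : ∀ w : Fin 4 → Fin 6, Function.Injective w → N (E (w 0)) ≠ N (E (w 1)) → N (E (w 2)) ≠ N (E (w 3)) →
        False := by
      intro w hw h01 h23
      obtain ⟨E', hE'⟩ := exists_six (by norm_num) ht (fun i => E (w i)) (E.injective.comp hw)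
      exact R.no_mixed_centre ht h2 E' hqu hTu huu hfull
        (by rw [show E' 0 = E (w 0) from hE' 0, show E' 1 = E (w 1) from hE' 1]; exact h01)
        (by rw [show E' 2 = E (w 2) from hE' 2, show E' 3 = E (w 3) from hE' 3]; exact h23)
    by_cases h23 : N (E 2) = N (E 3)
    swap; · exact use4 ![0, 1, 2, 3] (by decide) hab h23
    by_cases h24 : N (E 2) = N (E 4)
    swap; · exact use4 ![0, 1, 2, 4] (by decide) hab h24
    by_cases h25 : N (E 2) = N (E 5)
    swap; · exact use4 ![0, 1, 2, 5] (by decide) hab h25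
    by_cases h02 : N (E 0) = N (E 2)
    · have hsum : ∑ l, N l = 0 := by rw [← huu, P.form_coord]
      rw [← Fintype.sum_equiv E (fun i => N (E i)) N fun i => rfl, Fin.sum_univ_six, ← h25, ← h24, ← h23, h02] at hsum
      refine hab (show N (E 0) = N (E 1) from ?_)
      rw [h02]
      linear_combination (3 * N (E 2)) * h2 - hsum
    by_cases h12 : N (E 1) = N (E 2)
    · have hsum : ∑ l, N l = 0 := by rw [← huu, P.form_coord]
      rw [← Fintype.sum_equiv E (fun i => N (E i)) N fun i => rfl, Fin.sum_univ_six, ← h25, ← h24, ← h23, h12] at hsum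
      refine hab (show N (E 0) = N (E 1) from ?_)
      rw [h12]
      linear_combination hsum - (3 * N (E 2)) * h2
    exact use4 ![0, 2, 1, 3] (by decide) h02 (h23 ▸ h12)
  by_cases hex : ∃ a b, f u (e a) * σ (f u (e a)) ≠ f u (e b) * σ (f u (e b))
  · obtain ⟨a, b, hab⟩ := hex
    exact mixed u hqu hTu huu hfull a b hab
  push Not at hex
  obtain ⟨E, -⟩ := exists_six (k := 0) (by norm_num) ht ![] (fun i => i.elim0)
  have h01 := E.injective.ne (show (0 : Fin 6) ≠ 1 by decide)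
  set A := f u (e (E 0)) * σ (f u (e (E 1))) with hA
  have hA0 : A ≠ 0 := mul_ne_zero (hfull _) ((RingEquiv.map_ne_zero_iff σ).2 (hfull _))
  obtain ⟨c, hc, hX0, hX1⟩ : ∃ c, c * σ c = 1 ∧ c * A + σ (c * A) ≠ 0 ∧ c * A + σ (c * A) ≠ 1 := by
    by_contra h
    push Not at h
    have h5 := Finset.card_le_card (show circle σ ⊆ ((circle σ).filter fun c => c * A + σ (c * A) = 0) ∪
        ((circle σ).filter fun c => c * A + σ (c * A) = 1) from fun c hc => by
      simp only [Finset.mem_union, Finset.mem_filter, hc, true_and]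
      by_cases h0 : c * A + σ (c * A) = 0
      · exact Or.inl h0
      · exact Or.inr (h c (mem_circle.1 hc) h0))
    have h6 := Finset.card_union_le ((circle σ).filter fun c => c * A + σ (c * A) = 0)
      ((circle σ).filter fun c => c * A + σ (c * A) = 1)
    have h7 := fibre_le_two hf.ne_refl hf.involutive hA0 0
    have h8 := fibre_le_two hf.ne_refl hf.involutive hA0 1
    rw [card_circle hf.ne_refl hf.involutive] at h5
    obtain ⟨z, hz, hz0, hz1⟩ := hB
    have h9 := Finset.card_le_card (show ({0, 1, z, z + 1} : Finset F) ⊆ fixSet σ by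
      intro w hw
      simp only [Finset.mem_insert, Finset.mem_singleton] at hw
      rcases hw with rfl | rfl | rfl | rfl <;> simp [mem_fixSet, hz])
    rw [Finset.card_insert_of_notMem, Finset.card_insert_of_notMem, Finset.card_pair] at h9
    · omega
    · exact fun h => one_ne_zero (by linear_combination -h : (1 : F) = 0)
    · simp [Ne.symm hz1, hz0]
    · simp only [Finset.mem_insert, Finset.mem_singleton, not_or]
      exact ⟨zero_ne_one, Ne.symm hz0, fun h => hz1 (by linear_combination -h - h2)⟩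
  set X := c * A + σ (c * A) with hX
  obtain ⟨hq, -, -, -, hdet⟩ := P.swap_vec h01 hc
  set d := e (E 0) - c • e (E 1) with hd
  set δ := qr f (-1) d with hδdef
  have hneg : (-1 : F) = 1 := by linear_combination -h2
  have hδ : δ ∈ hGrp f D := ⟨P.swap_stab h01 hc, kGrp_of hf (qr_iso hf hq) (hdet.trans hneg)⟩
  set φ := f u d with hφ
  have hφX : φ * σ φ = X := by
    rw [hφ, hd, Unit.sub_right hf, Unit.smul_right hf, hX, hA]
    simp only [map_sub, map_mul, hf.involutive]
    linear_combination (f u (e (E 1)) * σ (f u (e (E 1)))) * hc + hex (E 0) (E 1) +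
      (f u (e (E 1)) * σ (f u (e (E 1))) - (c * (f u (e (E 0)) * σ (f u (e (E 1)))) +
        σ c * (σ (f u (e (E 0))) * f u (e (E 1))))) * h2
  have hδu : (δ : Matrix (Fin n) (Fin n) F) *ᵥ u = u + φ • d := by
    rw [hδdef, qr_mulVec hf hq, ← hφ, hneg, one_mul]
  have hτ : f ((δ : Matrix (Fin n) (Fin n) F) *ᵥ u) u = X := by
    rw [hδu, Unit.add_left hf, Unit.smul_left hf, huu, ← Unit.conj_form hf u d, ← hφ, hφX, zero_add]
  set w := (qr f (-1) u : Matrix (Fin n) (Fin n) F) *ᵥ ((δ : Matrix (Fin n) (Fin n) F) *ᵥ u) with hw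
  have hwe : w = (1 + X) • u + φ • d := by
    rw [hw, qr_mulVec hf hqu, hτ, hneg, one_mul, hδu]
    module
  have hδi : Symp.IsIsometry f δ := qr_iso hf hq
  have hqw : QCond σ f (-1) w := qcond_map hf (qr_iso hf hqu) (qcond_map hf hδi hqu)
  have hTw : qr f (-1) w ∈ M := by
    rw [hw, ← qr_conj hf (qr_iso hf hqu) (qcond_map hf hδi hqu), ← qr_conj hf hδi hqu]
    exact M.mul_mem (M.mul_mem hTu (M.mul_mem (M.mul_mem (R.le hδ) hTu) (M.inv_mem (R.le hδ)))) (M.inv_mem hTu)
  have hww : f w w = 0 := by rw [hw, qr_iso hf hqu, hδi, huu]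
  have hX' : 1 + X ≠ 0 := fun h => hX1 (by linear_combination h - h2)
  have hwout : ∀ l, l ≠ E 0 → l ≠ E 1 → f w (e l) = (1 + X) * f u (e l) := fun l h0 h1 => by
    rw [hwe, Unit.add_left hf, Unit.smul_left hf, Unit.smul_left hf, hd, Unit.sub_left hf, Unit.smul_left hf,
      P.orth (Ne.symm h0), P.orth (Ne.symm h1)]
    ring
  have hwfull : ∀ l, f w (e l) ≠ 0 := by
    intro l hl
    have hs := R.centre_small hqw hTw hl
    have h3 := Finset.card_le_card (show ({E 2, E 3, E 4} : Finset (Fin t)) ⊆ sp f e w from fun z hz => by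
      simp only [Finset.mem_insert, Finset.mem_singleton] at hz
      rw [mem_sp]
      rcases hz with rfl | rfl | rfl <;>
        rw [hwout _ (E.injective.ne (by decide)) (E.injective.ne (by decide))] <;> exact mul_ne_zero hX' (hfull _))
    rw [Finset.card_insert_of_notMem (by simp [E.injective.eq_iff]),
      Finset.card_pair (E.injective.ne (show (3 : Fin 6) ≠ 4 by decide))] at h3
    omega
  have hXσ : σ X = X := by rw [hX, map_add, hf.involutive, add_comm]
  refine mixed w hqw hTw hww hwfull (E 0) (E 2) fun h => hX0 ((pow_eq_zero_iff two_ne_zero).1 (?_ : X ^ 2 = 0))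
  have hw0 : f w (e (E 0)) = (1 + X) * f u (e (E 0)) + φ := by
    rw [hwe, Unit.add_left hf, Unit.smul_left hf, Unit.smul_left hf, hd, Unit.sub_left hf, Unit.smul_left hf,
      P.norm, P.orth (Ne.symm h01), mul_zero, sub_zero, mul_one]
  have hcross : f u (e (E 0)) * σ φ + φ * σ (f u (e (E 0))) =
      2 * (f u (e (E 0)) * σ (f u (e (E 0)))) - X := by
    rw [hφ, hd, Unit.sub_right hf, Unit.smul_right hf, hX, hA]
    simp only [map_sub, map_mul, hf.involutive]
    ring
  rw [hw0, hwout _ (E.injective.ne (by decide)) (E.injective.ne (by decide))] at h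
  simp only [map_add, map_mul, map_one, hXσ] at h
  linear_combination -h + (1 + X) ^ 2 * hex (E 0) (E 2) + (1 + X) * hcross + hφX +
    ((1 + X) * (f u (e (E 0)) * σ (f u (e (E 0))))) * h2

/-- In characteristic two there is no rigid overgroup. -/
theorem Rig.false_six_two (ht : t = 6) (h2 : (2 : F) = 0) (hB : Big σ) {g : GL (Fin n) F} (hg : g ∈ M)
    (hgs : g ∉ Cfsg.Geo.decompositionStabilizer D) : False := by
  classical
  have P := R.frame
  have hf := P.unit
  have hneg : (-1 : F) = 1 := by linear_combination -h2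
  obtain ⟨E, -⟩ := exists_six (k := 0) (by norm_num) ht ![] (fun i => i.elim0)
  have h01 := E.injective.ne (show (0 : Fin 6) ≠ 1 by decide)
  obtain ⟨c, hc, hcr⟩ := exists_nonreal hf.ne_refl hf.involutive
  have hσc1 : σ c ≠ 1 := fun h => hcr (by rw [h, ← hf.involutive c, h, map_one])
  have key : ∀ c : F, c * σ c = 1 →
      g * qr f (-1) (e (E 0) - c • e (E 1)) * g⁻¹ ∈ Cfsg.Geo.decompositionStabilizer D := by
    intro c hc
    obtain ⟨hq, -, -, -, hdet⟩ := P.swap_vec h01 hc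
    have hTM : qr f (-1) (e (E 0) - c • e (E 1)) ∈ M :=
      R.le ⟨P.swap_stab h01 hc, kGrp_of hf (qr_iso hf hq) (hdet.trans hneg)⟩
    have hgi := R.isometry hg
    set u := (g : Matrix (Fin n) (Fin n) F) *ᵥ (e (E 0) - c • e (E 1)) with hu
    have hqu : QCond σ f (-1) u := qcond_map hf hgi hq
    have hconj := qr_conj hf hgi hq
    rw [← hu] at hconj
    have hTu : qr f (-1) u ∈ M := hconj ▸ M.mul_mem (M.mul_mem hg hTM) (M.inv_mem hg)
    have huu : f u u = 0 := by
      rw [hu, hgi]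
      simp only [Unit.sub_left hf, Unit.sub_right hf, Unit.smul_left hf, Unit.smul_right hf, P.norm, P.orth h01,
        P.orth (Ne.symm h01)]
      linear_combination hc + h2
    rw [hconj]
    by_cases hz : ∃ l, f u (e l) = 0
    · obtain ⟨l, hl⟩ := hz
      exact R.fix_stab hTu (a := l) (qr_fix hf hqu (Unit.eq_zero_comm hf hl))
    · push Not at hz
      exact (R.no_full_centre ht h2 hB hqu hTu huu hz).elim
  obtain ⟨-, a1, b1, o1, -⟩ := P.swap_vec h01 (c := 1) (by simp)
  obtain ⟨-, ac, bc, oc, -⟩ := P.swap_vec h01 hc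
  have hprod : qr f (-1) (e (E 0) - c • e (E 1)) * qr f (-1) (e (E 0) - (1 : F) • e (E 1)) =
      duo σ f (e (E 0)) (e (E 1)) (σ c) := P.gl_ext' fun l => by
    rw [gl_mul_mulVec, duo, hf.involutive, gl_mul_mulVec]
    by_cases h0 : l = E 0
    · subst h0
      rw [a1, one_smul, bc, rho_fix hf (P.norm _) hc (P.orth h01), rho_self hf (P.norm _) (norm_conj hf hc)]
    by_cases h1 : l = E 1
    · subst h1
      rw [b1, map_one σ, one_smul, ac, rho_self hf (P.norm _) hc, mulVec_smul,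
        rho_fix hf (P.norm _) (norm_conj hf hc) (P.orth (Ne.symm h01))]
    rw [o1 _ h0 h1, oc _ h0 h1, rho_fix hf (P.norm _) hc (P.orth h1),
      rho_fix hf (P.norm _) (norm_conj hf hc) (P.orth h0)]
  refine R.conj_notMem hg hgs h01 (norm_conj hf hc) hσc1 ?_
  rw [← hprod, show ∀ x y : GL (Fin n) F, g * (x * y) * g⁻¹ = g * x * g⁻¹ * (g * y * g⁻¹) from fun x y => by group]
  exact (Cfsg.Geo.decompositionStabilizer D).mul_mem (key c hc) (key 1 (by simp))

end CfsgLib.GeomClasses.UnitFrame
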