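import Cfsg.Agent.Lib.GeomClasses.UnitFrameCen

/-!
In six dimensions a class member with several coordinates gives every unit vector with a vanishing coordinate.
-/

set_option autoImplicit false
set_option linter.unusedSectionVars false
set_option linter.unusedSimpArgs false

namespace CfsgLib.GeomClasses.UnitFrame

open Matrix CfsgLib.GeomClasses.UnitQr CfsgLib.GeomClasses.UnitSymp CfsgLib.GeomClasses.UnitDecomp
  CfsgLib.GeomClasses.UnitCircle

variable {n : ℕ} {F : Type*} [Field F] [Fintype F] {σ : F ≃+* F} {f : (Fin n → F) → (Fin n → F) → F}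
  {t : ℕ} {D : Fin t → Submodule F (Fin n → F)} {e : Fin t → Fin n → F}

variable (P : Frame σ f D e) {M : Subgroup (GL (Fin n) F)} (hle : hGrp f D ≤ M)
include P hle

/-- From a member with several coordinates, one with exactly five. -/
theorem Frame.cls_five (ht : t = 6) (hB : Big σ) {x₀ : Fin n → F} (hx₀ : x₀ ∈ cls σ f e M)
    (h2 : 2 ≤ (sp f e x₀).card) : ∃ x ∈ cls σ f e M, (sp f e x).card = 5 := by
  classical
  have hf := P.unit
  have small : ∀ x ∈ cls σ f e M, ((sp f e x).card = 2 ∨ (sp f e x).card = 3) →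
      ∃ x ∈ cls σ f e M, (sp f e x).card = 5 := by
    rintro x hx (hc | hc)
    · obtain ⟨y, hy, hyc⟩ := P.cls_grow hle hx (by omega) (by omega)
      obtain ⟨z, hz, hzc⟩ := P.cls_grow hle hy (by omega) (by omega)
      exact ⟨z, hz, by omega⟩
    · obtain ⟨z, hz, hzc⟩ := P.cls_grow hle hx (by omega) (by omega)
      exact ⟨z, hz, by omega⟩
  have hle5 : (sp f e x₀).card ≤ 5 := by
    obtain ⟨b, hb⟩ := hx₀.2.2
    have := Finset.card_le_card (show sp f e x₀ ⊆ Finset.univ.erase b from fun a ha =>
      Finset.mem_erase.2 ⟨fun h => mem_sp.1 ha (h ▸ hb), Finset.mem_univ _⟩)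
    rw [Finset.card_erase_of_mem (Finset.mem_univ _), Finset.card_univ, Fintype.card_fin] at this
    omega
  by_cases h4 : (sp f e x₀).card = 4
  · obtain ⟨a, b, c, ha, hb, hc, hab, hac, hbc⟩ := Finset.two_lt_card_iff.1
      (show 2 < (sp f e x₀).card by omega)
    set N : Fin t → F := fun l => f x₀ (e l) * σ (f x₀ (e l)) with hN
    have hN0 : ∀ l ∈ sp f e x₀, N l ≠ 0 := fun l hl =>
      mul_ne_zero (mem_sp.1 hl) ((RingEquiv.map_ne_zero_iff σ).2 (mem_sp.1 hl))
    obtain ⟨η, hη, hη1, hηT⟩ := exists_nv_avoid hf.ne_refl hf.involutive hB (hN0 a ha) 1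
    obtain ⟨ζ, ξ, hζ, hξ, hsum⟩ := exists_two_nv hf.ne_refl hf.involutive (hN0 b hb) (hN0 c hc)
      (P.norm_fixed x₀ b) (P.norm_fixed x₀ c) (show σ (1 - N a * nv σ η) = 1 - N a * nv σ η by
        rw [map_sub, map_one, map_mul, P.norm_fixed, nv_fixed hf.involutive])
    let η' : Fin t → F := fun l => if l = a then η else if l = b then ζ else ξ
    obtain ⟨z, hz, hzS, hz0⟩ := P.cls_step hle hx₀ {a, b, c} η' (fun l _ => by
      simp only [η']; split_ifs <;> assumption) (by
      rw [Finset.sum_insert (by simp [hab, hac]), Finset.sum_pair hbc]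
      simp only [η', hN] at hsum ⊢
      simp only [if_pos, if_neg (Ne.symm hab), if_neg (Ne.symm hac), if_neg (Ne.symm hbc), ↓reduceIte]
      linear_combination hsum)
    refine small z hz ?_
    have hsub : sp f e z ⊆ {a, b, c} := fun l hl => by_contra fun h => mem_sp.1 hl (hz0 l h)
    have hza : a ∈ sp f e z := by
      rw [mem_sp]
      intro h
      have := hzS a (by simp)
      rw [h, zero_mul] at this
      simp only [η', if_pos, ↓reduceIte] at this
      exact mul_ne_zero (nv_ne_zero hη1) (hN0 a ha) this.symm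
    have h1 : (sp f e z).card ≠ 1 := by
      intro h1
      obtain ⟨l, hl⟩ := Finset.card_eq_one.1 h1
      rw [hl, Finset.mem_singleton] at hza
      subst hza
      have hout : ∀ m, m ≠ a → f z (e m) = 0 := fun m hm => by_contra fun h =>
        hm (Finset.mem_singleton.1 (hl ▸ mem_sp.2 h))
      have hzz := hz.1
      rw [P.form_coord, Finset.sum_eq_single a (fun m _ hm => by rw [hout m hm, zero_mul]) (by simp),
        hzS a (by simp)] at hzz
      simp only [η', if_pos, ↓reduceIte] at hzz
      exact hηT (by rw [hN]; linear_combination hzz)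
    have h3 := Finset.card_le_card hsub
    have h3' := Finset.card_le_three (a := a) (b := b) (c := c)
    have h0 := Finset.card_pos.2 ⟨a, hza⟩
    omega
  by_cases h5 : (sp f e x₀).card = 5
  · exact ⟨x₀, hx₀, h5⟩
  exact small x₀ hx₀ (by omega)

/-- Unit vectors with at most two coordinates are in the class. -/
theorem Frame.cls_pair (ht : t = 6) (hB : Big σ) {x₀ : Fin n → F} (hx₀ : x₀ ∈ cls σ f e M)
    (h2 : 2 ≤ (sp f e x₀).card) {w : Fin n → F} (hw : f w w = 1) (hc : (sp f e w).card ≤ 2) :
    w ∈ cls σ f e M := by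
  classical
  have hf := P.unit
  obtain ⟨x, hx, h5⟩ := P.cls_five hle ht hB hx₀ h2
  set J := sp f e w with hJdef
  obtain ⟨U, hU, hUc⟩ := Finset.exists_subset_card_eq (s := sp f e x) (n := J.card) (by omega)
  have E : {a // a ∈ J} ≃ {a // a ∈ U} := Fintype.equivOfCardEq (by simp [hUc])
  set π := E.extendSubtype.symm with hπ
  obtain ⟨g, hgi, hgs, hgm⟩ := P.exists_perm π
  set y := (g : Matrix (Fin n) (Fin n) F) *ᵥ x with hy
  have hyC : y ∈ cls σ f e M := P.cls_mono hle hgi hgs hx
  have hco : ∀ a, f y (e (π a)) = f x (e a) := fun a => by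
    rw [P.mono_coord hgi (c := 1) (a := a) (by rw [hgm, one_smul]) (by simp), one_mul]
  have hJy : J ⊆ sp f e y := fun a ha => by
    rw [mem_sp, ← π.apply_symm_apply a, hco]
    exact mem_sp.1 (hU (by simpa [hπ] using E.extendSubtype_mem a ha))
  have hcard : 5 ≤ (sp f e y).card := by
    refine h5.ge.trans (Finset.card_le_card_of_injOn (fun a => π a) (fun a ha => ?_) π.injective.injOn)
    rw [Finset.mem_coe, mem_sp, hco]
    exact mem_sp.1 ha
  obtain ⟨d, g', h, hd, hg, hh, hdg, hdh, hgh⟩ := Finset.two_lt_card_iff.1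
    (show 2 < (sp f e y \ J).card by have := Finset.le_card_sdiff J (sp f e y); omega)
  rw [Finset.mem_sdiff] at hd hg hh
  set r : Fin t → F := fun a => f w (e a) * σ (f w (e a)) with hrdef
  have hout : ∀ a, a ∉ J → f w (e a) = 0 := fun a ha => by_contra fun h => ha (mem_sp.2 h)
  obtain ⟨z, hz, hzJ, hz0⟩ := P.cls_exact hle hyC hJy (r := r)
    (fun a ha => ⟨P.norm_fixed w a, mul_ne_zero (mem_sp.1 ha) ((RingEquiv.map_ne_zero_iff σ).2 (mem_sp.1 ha))⟩)
    (by
      rw [← hw, P.form_coord w w]
      exact Finset.sum_subset (Finset.subset_univ J) fun a _ ha => by simp only [hrdef, hout a ha, zero_mul])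
    hd.1 hg.1 hh.1 hd.2 hg.2 hh.2 hdg hdh hgh hB
  refine P.cls_phase hle hz fun a => ?_
  by_cases ha : a ∈ J
  · rw [hzJ a ha]
  · rw [hout a ha, hz0 a ha]

/-- Unit vectors with a vanishing coordinate are in the class, by induction on the coordinates. -/
theorem Frame.cls_six (ht : t = 6) (hB : Big σ) {x₀ : Fin n → F} (hx₀ : x₀ ∈ cls σ f e M)
    (h2 : 2 ≤ (sp f e x₀).card) : ∀ N w, f w w = 1 → (sp f e w).card ≤ N → N ≤ 5 → w ∈ cls σ f e M := by
  classical
  have hf := P.unit
  intro N
  induction N with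
  | zero => intro w hw hc _; exact P.cls_pair hle ht hB hx₀ h2 hw (by omega)
  | succ N ih =>
    intro w₀ hw₀ hc₀ hN
    have main : ∀ w, f w w = 1 → (sp f e w).card ≤ N + 1 → ∀ a ∈ sp f e w, ∀ b ∈ sp f e w, a ≠ b →
        f w (e a) * σ (f w (e a)) + f w (e b) * σ (f w (e b)) ≠ 0 → w ∈ cls σ f e M := by
      intro w hw hc a ha b hb hab hS
      set S := f w (e a) * σ (f w (e a)) + f w (e b) * σ (f w (e b)) with hSdef
      have hSf : σ S = S := by rw [hSdef, map_add, P.norm_fixed, P.norm_fixed]
      obtain ⟨γ₀, hγ₀⟩ := Unit.exists_norm hf.ne_refl hf.involutive hSf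
      have hγ00 : γ₀ ≠ 0 := fun h => hS (by rw [← hγ₀, h, zero_mul])
      obtain ⟨c, hc1, hcne⟩ := exists_trace_avoid hf.ne_refl hf.involutive
        (A := σ (f w (e a)) * γ₀) (mul_ne_zero ((RingEquiv.map_ne_zero_iff σ).2 (mem_sp.1 ha)) hγ00) (2 * S)
      set γ := c * γ₀ with hγdef
      have hγ : γ * σ γ = S := by rw [hγdef, map_mul]; linear_combination (γ₀ * σ γ₀) * hc1 + hγ₀
      set d := (f w (e a) - γ) • e a + f w (e b) • e b with hd
      have hdc : ∀ l, f d (e l) = if l = a then f w (e a) - γ else if l = b then f w (e b) else 0 := fun l => by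
        rw [hd, Unit.add_left hf, Unit.smul_left hf, Unit.smul_left hf, P.form_e, P.form_e]
        by_cases h1 : l = a
        · subst h1; simp [Ne.symm hab]
        by_cases h3 : l = b
        · subst h3; simp [h1, Ne.symm h1]
        simp [h1, h3, Ne.symm h1, Ne.symm h3]
      set X := f d d with hX
      have hXe : X = 2 * S - (c * (σ (f w (e a)) * γ₀) + σ (c * (σ (f w (e a)) * γ₀))) := by
        rw [hX, hd, Unit.add_left hf, Unit.add_right hf, Unit.add_right hf]
        simp only [Unit.smul_left hf, Unit.smul_right hf, P.norm, P.orth hab, P.orth (Ne.symm hab), map_sub, map_mul,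
          hf.involutive, hγdef]
        simp only [hγdef, map_mul] at hγ
        linear_combination hγ - hSdef
      have hX0 : X ≠ 0 := fun h => hcne (by linear_combination hXe - h)
      have hXf : σ X = X := Unit.self_fixed hf d
      obtain ⟨κ, hκ⟩ := Unit.exists_norm hf.ne_refl hf.involutive hXf
      have hκ0 : κ ≠ 0 := fun h => hX0 (by rw [← hκ, h, zero_mul])
      have hσκ0 : σ κ ≠ 0 := (RingEquiv.map_ne_zero_iff σ).2 hκ0
      set v := κ⁻¹ • d with hv
      have hvv : f v v = 1 := by
        rw [hv, Unit.smul_left hf, Unit.smul_right hf, map_inv₀, ← hX, ← hκ]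
        field_simp
      set w' := w - d with hw'
      have hw'c : ∀ l, f w' (e l) = if l = a then γ else if l = b then 0 else f w (e l) := fun l => by
        rw [hw', Unit.sub_left hf, hdc]
        split_ifs with h1 h3
        · rw [h1]; ring
        · rw [h3]; ring
        · ring
      set Y := f w' d with hY
      have hYe : Y = γ * σ (f w (e a)) - S := by
        have h1 : f (e a) w' = σ γ := by rw [← Unit.conj_form hf w' (e a), hw'c, if_pos rfl]
        have h3 : f (e b) w' = 0 := Unit.eq_zero_comm hf (by rw [hw'c, if_neg (Ne.symm hab), if_pos rfl])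
        rw [hY, ← Unit.conj_form hf d w', hd, Unit.add_left hf, Unit.smul_left hf, Unit.smul_left hf, h1, h3]
        simp only [map_add, map_mul, map_sub, map_zero, hf.involutive, mul_zero, add_zero]
        linear_combination -hγ
      have hXY : X + Y = - σ Y := by
        rw [hXe, hYe]
        simp only [hγdef, map_sub, map_mul, hf.involutive, hSf]
        ring
      have hY0 : Y ≠ 0 := fun h => hX0 (by rw [h, map_zero, neg_zero, add_zero] at hXY; exact hXY)
      have hsY : σ Y ≠ 0 := (RingEquiv.map_ne_zero_iff σ).2 hY0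
      set ε := -σ Y / Y with hεdef
      have hε : ε * σ ε = 1 := by
        rw [hεdef, map_div₀, map_neg, hf.involutive]; field_simp
      have hww : f w' w' = 1 := by
        have gen : ∀ p q, f (p + q) (p + q) = f p p + f p q + (f q p + f q q) := fun p q => by
          rw [Unit.add_left hf, Unit.add_right hf, Unit.add_right hf]
        have := gen w' d
        rw [show w' + d = w by rw [hw', sub_add_cancel], hw, ← hY, ← hX, ← Unit.conj_form hf w' d, ← hY] at this
        linear_combination -this - hXY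
      have hrho : (rho f v ε : Matrix (Fin n) (Fin n) F) *ᵥ w' = w := by
        rw [rho_mulVec hf hvv hε, hv, Unit.smul_right hf, ← hY, smul_smul, map_inv₀]
        have : (ε - 1) * ((σ κ)⁻¹ * Y) * κ⁻¹ = 1 := by
          rw [hεdef]
          field_simp
          linear_combination -hXY - hκ
        rw [this, one_smul, hw', sub_add_cancel]
      obtain ⟨z, hz⟩ := P.exists_notMem (S := sp f e w) (by omega)
      have hwz : f w (e z) = 0 := by_contra fun h => hz (mem_sp.2 h)
      have hza : z ≠ a := fun h => hz (h ▸ ha)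
      have hzb : z ≠ b := fun h => hz (h ▸ hb)
      have hsub : sp f e w' ⊆ (sp f e w).erase b := fun l hl => by
        rw [mem_sp, hw'c] at hl
        rw [Finset.mem_erase]
        by_cases h1 : l = a
        · exact ⟨h1 ▸ hab, h1 ▸ ha⟩
        by_cases h3 : l = b
        · simp [h1, h3, Ne.symm hab] at hl
        exact ⟨h3, mem_sp.2 (by simpa [h1, h3] using hl)⟩
      have hw'C : w' ∈ cls σ f e M := ih w' hww (by
        have := Finset.card_le_card hsub
        rw [Finset.card_erase_of_mem hb] at this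
        omega) (by omega)
      have hvC : v ∈ cls σ f e M := P.cls_pair hle ht hB hx₀ h2 hvv (by
        refine (Finset.card_le_card (t := {a, b}) fun l hl => ?_).trans Finset.card_le_two
        rw [mem_sp, hv, Unit.smul_left hf, hdc] at hl
        simp only [Finset.mem_insert, Finset.mem_singleton]
        by_contra hn
        rw [not_or] at hn
        simp [hn.1, hn.2] at hl)
      have := P.cls_rho hle hw'C hvC (b := z) (by rw [hw'c, if_neg hza, if_neg hzb, hwz])
        (by rw [hv, Unit.smul_left hf, hdc, if_neg hza, if_neg hzb, mul_zero]) hε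
      rwa [hrho] at this
    by_cases hlt : (sp f e w₀).card ≤ N
    · exact ih w₀ hw₀ hlt (by omega)
    by_cases hN2 : (sp f e w₀).card ≤ 2
    · exact P.cls_pair hle ht hB hx₀ h2 hw₀ hN2
    by_contra hnot
    have h : ∀ a b, a ∈ sp f e w₀ → b ∈ sp f e w₀ → a ≠ b →
        f w₀ (e a) * σ (f w₀ (e a)) + f w₀ (e b) * σ (f w₀ (e b)) = 0 := fun a b ha hb hab =>
      by_contra fun hS => hnot (main w₀ hw₀ hc₀ a ha b hb hab hS)
    have hN0 : ∀ l ∈ sp f e w₀, f w₀ (e l) * σ (f w₀ (e l)) ≠ 0 := fun l hl =>
      mul_ne_zero (mem_sp.1 hl) ((RingEquiv.map_ne_zero_iff σ).2 (mem_sp.1 hl))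
    obtain ⟨a, b, c, ha, hb, hc', hab, hac, hbc⟩ := Finset.two_lt_card_iff.1 (not_le.1 hN2)
    have e2 : (2 : F) * (f w₀ (e a) * σ (f w₀ (e a))) = 0 := by
      linear_combination h a b ha hb hab + h a c ha hc' hac - h b c hb hc' hbc
    have h20 : (2 : F) = 0 := (mul_eq_zero.1 e2).resolve_right (hN0 a ha)
    have hconst : ∀ l ∈ sp f e w₀, f w₀ (e l) * σ (f w₀ (e l)) = f w₀ (e a) * σ (f w₀ (e a)) := fun l hl => by
      by_cases hla : l = a
      · rw [hla]
      · linear_combination h l a hl ha hla - (f w₀ (e a) * σ (f w₀ (e a))) * h20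
    have ha1 : f w₀ (e a) * σ (f w₀ (e a)) = 1 := by
      have hsum := hw₀
      rw [P.form_coord, ← Finset.sum_subset (Finset.subset_univ (sp f e w₀)) (fun l _ hl => by
        rw [show f w₀ (e l) = 0 from by_contra fun h' => hl (mem_sp.2 h'), zero_mul]),
        Finset.sum_congr rfl hconst, Finset.sum_const, nsmul_eq_mul] at hsum
      obtain ⟨k, hk⟩ | ⟨k, hk⟩ := Nat.even_or_odd (sp f e w₀).card
      · rw [hk, Nat.cast_add] at hsum
        exact absurd (show (0 : F) = 1 by
          linear_combination hsum - ((k : F) * (f w₀ (e a) * σ (f w₀ (e a)))) * h20) zero_ne_one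
      · rw [hk, Nat.cast_add, Nat.cast_mul, Nat.cast_one, Nat.cast_two, h20, zero_mul, zero_add, one_mul] at hsum
        exact hsum
    obtain ⟨ν, hν, hν0, hν1⟩ := hB
    obtain ⟨α, hα⟩ := Unit.exists_norm hf.ne_refl hf.involutive hν
    obtain ⟨β₀, hβ₀⟩ := Unit.exists_norm hf.ne_refl hf.involutive (show σ (1 - ν) = 1 - ν by rw [map_sub, map_one, hν])
    have hα0 : α ≠ 0 := fun h => hν0 (by rw [← hα, h, zero_mul])
    have hβ0 : β₀ ≠ 0 := fun h => hν1 (by rw [h, zero_mul] at hβ₀; linear_combination hβ₀)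
    have hwa0 := mem_sp.1 ha
    set K := f w₀ (e b) * σ β₀ * α with hK
    have hK0 : K ≠ 0 := mul_ne_zero (mul_ne_zero (mem_sp.1 hb) ((RingEquiv.map_ne_zero_iff σ).2 hβ0)) hα0
    obtain ⟨c', hc'1, hc'2⟩ : ∃ c', c' * σ c' = 1 ∧ c' ≠ -(f w₀ (e a) * ν) / K ∧
        c' ≠ (f w₀ (e a) - f w₀ (e a) * ν) / K := by
      by_contra hn
      push Not at hn
      have hsub : circle σ ⊆ ({-(f w₀ (e a) * ν) / K, (f w₀ (e a) - f w₀ (e a) * ν) / K} : Finset F) := by
        intro x hx
        simp only [Finset.mem_insert, Finset.mem_singleton]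
        by_contra h
        rw [not_or] at h
        exact h.2 (hn x (mem_circle.1 hx) h.1)
      have := (Finset.card_le_card hsub).trans Finset.card_le_two
      have := three_le_circle hf.ne_refl hf.involutive
      omega
    set β := σ c' * β₀ with hβ
    have hββ : β * σ β = 1 - ν := by
      rw [hβ, map_mul, hf.involutive]; linear_combination (β₀ * σ β₀) * hc'1 + hβ₀
    set v := α • e a + β • e b with hv
    have hvc : ∀ l, f v (e l) = if l = a then α else if l = b then β else 0 := fun l => by
      rw [hv, Unit.add_left hf, Unit.smul_left hf, Unit.smul_left hf, P.form_e, P.form_e]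
      by_cases h1 : l = a
      · subst h1; simp [Ne.symm hab]
      by_cases h3 : l = b
      · subst h3; simp [h1, Ne.symm h1]
      simp [h1, h3, Ne.symm h1, Ne.symm h3]
    have hvv : f v v = 1 := by
      rw [hv, Unit.add_left hf, Unit.add_right hf, Unit.add_right hf]
      simp only [Unit.smul_left hf, Unit.smul_right hf, P.norm, P.orth hab, P.orth (Ne.symm hab)]
      linear_combination hα + hββ
    set r := f w₀ v * α with hr
    have hre : r = f w₀ (e a) * ν + c' * K := by
      rw [hr, hv, Unit.add_right hf, Unit.smul_right hf, Unit.smul_right hf, hK, hβ, map_mul, hf.involutive]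
      linear_combination (f w₀ (e a)) * hα
    have hr0 : r ≠ 0 := fun h => hc'2.1 (by rw [eq_div_iff hK0]; linear_combination h - hre)
    have hp0 : f w₀ (e a) - r ≠ 0 := fun h => hc'2.2 (by rw [eq_div_iff hK0]; linear_combination -h - hre)
    obtain ⟨ε, hε, hεne⟩ := exists_trace_avoid hf.ne_refl hf.involutive
      (mul_ne_zero hr0 ((RingEquiv.map_ne_zero_iff σ).2 hp0))
      (1 - ((f w₀ (e a) - r) * σ (f w₀ (e a) - r) + r * σ r))
    set u := (rho f v ε : Matrix (Fin n) (Fin n) F) *ᵥ w₀ with hu
    have huc : ∀ l, f u (e l) = f w₀ (e l) + (ε - 1) * f w₀ v * f v (e l) := fun l => by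
      rw [hu, rho_mulVec hf hvv hε, Unit.add_left hf, Unit.smul_left hf]
    have huu : f u u = 1 := by rw [hu, rho_iso hf hvv hε]; exact hw₀
    have huo : ∀ l, l ≠ a → l ≠ b → f u (e l) = f w₀ (e l) := fun l h1 h3 => by
      rw [huc, hvc, if_neg h1, if_neg h3, mul_zero, add_zero]
    have hsub : sp f e u ⊆ sp f e w₀ := fun l hl => by
      by_cases h1 : l = a
      · exact h1 ▸ ha
      by_cases h3 : l = b
      · exact h3 ▸ hb
      rw [mem_sp, huo l h1 h3] at hl
      exact mem_sp.2 hl
    have hua : f u (e a) * σ (f u (e a)) ≠ 1 := by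
      rw [huc, hvc, if_pos rfl]
      intro h'
      refine hεne ?_
      simp only [map_mul, map_sub, hr, hf.involutive, map_add, map_one] at h' ⊢
      linear_combination h' - (f w₀ v * α * (σ (f w₀ v) * σ α)) * hε
    have huC : u ∈ cls σ f e M := by
      by_cases hl : (sp f e u).card ≤ N
      · exact ih u huu hl (by omega)
      have heq : sp f e u = sp f e w₀ := Finset.eq_of_subset_of_card_le hsub (by omega)
      refine main u huu (by rw [heq]; omega) a (heq ▸ ha) c (heq ▸ hc') hac ?_
      rw [huo c (Ne.symm hac) (Ne.symm hbc), hconst c hc', ha1]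
      exact fun h' => hua (by linear_combination h' - h20)
    obtain ⟨z, hz⟩ := P.exists_notMem (S := sp f e w₀) (by omega)
    have hza : z ≠ a := fun h => hz (h ▸ ha)
    have hzb : z ≠ b := fun h => hz (h ▸ hb)
    have hvC : v ∈ cls σ f e M := P.cls_pair hle ht ⟨ν, hν, hν0, hν1⟩ hx₀ h2 hvv (by
      refine (Finset.card_le_card (t := {a, b}) fun l hl => ?_).trans Finset.card_le_two
      rw [mem_sp, hvc] at hl
      simp only [Finset.mem_insert, Finset.mem_singleton]
      by_contra hn
      rw [not_or] at hn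
      simp [hn.1, hn.2] at hl)
    have hback := P.cls_rho hle huC hvC (b := z)
      (by rw [huo z hza hzb]; exact by_contra fun h' => hz (mem_sp.2 h'))
      (by rw [hvc, if_neg hza, if_neg hzb]) (norm_conj hf hε)
    rw [← rho_inv hf hvv hε, hu, gl_inv_mulVec_mulVec] at hback
    exact hnot hback

end CfsgLib.GeomClasses.UnitFrame
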