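import Cfsg.Agent.Lib.GeomClasses.UnitDecompBlock
import Cfsg.Agent.Lib.GeomClasses.UnitFrameCen
import Cfsg.Agent.Lib.GeomClasses.UnitFrameSix
import Cfsg.Agent.Lib.GeomClasses.UnitFrameSixClass

/-!
Stabilizers of non-degenerate decompositions are maximal in special unitary groups.
-/

set_option autoImplicit false
set_option linter.unusedSectionVars false
set_option linter.unusedSimpArgs false

namespace CfsgLib.GeomClasses.UnitFrame

open Matrix CfsgLib.GeomClasses.UnitQr CfsgLib.GeomClasses.UnitSymp CfsgLib.GeomClasses.UnitDecomp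

variable {n : ℕ} {F : Type*} [Field F] [Fintype F] {σ : F ≃+* F} {f : (Fin n → F) → (Fin n → F) → F}
  {t : ℕ} {D : Fin t → Submodule F (Fin n → F)} {e : Fin t → Fin n → F} (P : Frame σ f D e)
include P

theorem Frame.cen_all_line (hcase : 10 ≤ t ∨ (t = 6 ∧ Big σ)) {M : Subgroup (GL (Fin n) F)} (hle : hGrp f D ≤ M) (hMK : M ≤ kGrp f)
    (hne : M ≠ hGrp f D) : ∀ v, f v v = 0 → v ∈ Cen σ f M := by
  classical
  have hf := P.unit
  obtain ⟨g₀, hg₀, hg₀s⟩ : ∃ g ∈ M, g ∉ Cfsg.Geo.decompositionStabilizer D := by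
    by_contra h
    push Not at h
    exact hne (le_antisymm (fun g hg => ⟨h g hg, hMK hg⟩) hle)
  by_cases hfix : ∀ g ∈ M, ∀ (a b : Fin t) (c : F), (g : Matrix (Fin n) (Fin n) F) *ᵥ e a = c • e b →
      g ∈ Cfsg.Geo.decompositionStabilizer D
  · rcases hcase with ht | ⟨ht, hB⟩
    · have R : Rig σ f D e M := ⟨P, hle, hMK, Or.inl (by have := P.t_eq; omega), hfix⟩
      by_cases h2 : (2 : F) = 0
      · exact (R.false_of_two ht h2 hg₀ hg₀s).elim
      · exact (R.false_of_odd ht h2 hg₀ hg₀s).elim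
    · have R : Rig σ f D e M := ⟨P, hle, hMK, Or.inr (exists_order_gt_three hf.ne_refl hf.involutive hB), hfix⟩
      by_cases h2 : (2 : F) = 0
      · exact (R.false_six_two ht h2 hB hg₀ hg₀s).elim
      · exact (R.false_six_odd ht h2 hg₀ hg₀s).elim
  push Not at hfix
  obtain ⟨g, hg, a, b, c, hgab, hgs⟩ := hfix
  have hgi : Symp.IsIsometry f g := (hMK hg).1
  have hc : c * σ c = 1 := by
    have := hgi (e a) (e a)
    rwa [hgab, Unit.smul_left hf, Unit.smul_right hf, P.norm, P.norm, mul_one] at this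
  obtain ⟨p, hp⟩ : ∃ p, ∀ (l : Fin t) (κ : F), (g : Matrix (Fin n) (Fin n) F) *ᵥ e p ≠ κ • e l := by
    by_contra h
    push Not at h
    exact hgs (P.stab_of h)
  have hpa : p ≠ a := fun h => hp b c (h ▸ hgab)
  have hzero : f ((g : Matrix (Fin n) (Fin n) F) *ᵥ e p) (e b) = 0 := by
    rw [P.mono_coord (hMK hg).1 hgab hc, P.orth hpa, mul_zero]
  have hx₀ := P.cls_map hle hg hgi (P.cls_frame hle a) hc hgab (P.cls_frame hle p) ⟨b, hzero⟩
  suffices h2' : 2 ≤ (sp f e ((g : Matrix (Fin n) (Fin n) F) *ᵥ e p)).card by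
    rcases hcase with ht | ⟨ht, hB⟩
    · exact P.cen_all hle ht hx₀ h2'
    · refine P.base.cen_of_small (r := 3) (by omega) (by omega) (Or.inr hB) fun v hv hc =>
        P.cen_base hle (fun w hw hw4 => P.cls_six hle ht hB hx₀ h2' 5 w hw (by omega) le_rfl) hv (Or.inl ?_)
      rwa [P.supp_eq] at hc
  by_contra h
  have h1 : (sp f e ((g : Matrix (Fin n) (Fin n) F) *ᵥ e p)).card ≤ 1 := by omega
  obtain ⟨l, hl⟩ : ∃ l, sp f e ((g : Matrix (Fin n) (Fin n) F) *ᵥ e p) ⊆ {l} := by
    rcases Finset.eq_empty_or_nonempty (sp f e ((g : Matrix (Fin n) (Fin n) F) *ᵥ e p)) with h' | ⟨l, hl⟩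
    · exact ⟨b, by simp [h']⟩
    · exact ⟨l, fun x hx => Finset.mem_singleton.2 (Finset.card_le_one.1 h1 x hx l hl)⟩
  refine hp l (f ((g : Matrix (Fin n) (Fin n) F) *ᵥ e p) (e l)) (P.ext fun i => ?_)
  rw [Unit.smul_left hf]
  by_cases hil : l = i
  · subst hil; rw [P.norm, mul_one]
  · rw [P.orth hil, mul_zero]
    exact by_contra fun h => hil (Finset.mem_singleton.1 (hl (mem_sp.2 h))).symm

theorem Frame.proper_line : hGrp f D < kGrp f := by
  classical
  have hf := P.unit
  have ht := P.six_le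
  refine lt_of_le_of_ne inf_le_right fun he => ?_
  have hget : ∀ a b : Fin t, a ≠ b → ∃ u, f u u = 0 ∧ f u (e a) ≠ 0 ∧ f u (e b) ≠ 0 ∧
      ∀ l, l ≠ a → l ≠ b → f u (e l) = 0 := by
    intro a b hab
    obtain ⟨u, hu, hu0, huu⟩ := UnitCentres.exists_iso_any hf (X := ({a, b} : Finset (Fin t)).sup D)
      (by rw [P.base.sup_finrank, Finset.card_pair hab])
    have hout : ∀ l, l ≠ a → l ≠ b → f u (e l) = 0 := fun l h1 h2 => by
      have := (P.base.sup_mem_iff _ u).1 hu l (by simp [h1, h2])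
      rw [P.cmp_eq, smul_eq_zero] at this
      exact this.resolve_right (P.e_ne l)
    have hsum : f u (e a) * σ (f u (e a)) + f u (e b) * σ (f u (e b)) = 0 := by
      rw [P.form_coord, ← Finset.sum_subset (Finset.subset_univ {a, b}) fun l _ hl => ?_,
        Finset.sum_pair hab] at huu
      · exact huu
      · simp only [Finset.mem_insert, Finset.mem_singleton, not_or] at hl
        rw [hout l hl.1 hl.2, zero_mul]
    refine ⟨u, huu, fun h => hu0 (P.ext fun l => ?_), fun h => hu0 (P.ext fun l => ?_), hout⟩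
    all_goals
      rw [h, zero_mul] at hsum
      simp only [zero_add, add_zero, mul_eq_zero, RingEquiv.map_eq_zero_iff, or_self] at hsum
      rw [Unit.zero_left hf]
      by_cases h1 : l = a
      · subst h1; assumption
      by_cases h2 : l = b
      · subst h2; assumption
      exact hout l h1 h2
  let a : Fin t := ⟨0, by omega⟩
  let b : Fin t := ⟨1, by omega⟩
  let p : Fin t := ⟨2, by omega⟩
  let q : Fin t := ⟨3, by omega⟩
  have hne : a ≠ b ∧ p ≠ q ∧ a ≠ p ∧ a ≠ q ∧ b ≠ p ∧ b ≠ q := by simp [a, b, p, q, Fin.ext_iff]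
  obtain ⟨hab, hpq, hap, haq, hbp, hbq⟩ := hne
  obtain ⟨u, huu, hua, hub, huo⟩ := hget a b hab
  obtain ⟨w, hww, hwp, hwq, hwo⟩ := hget p q hpq
  have huw : f u w = 0 := by
    rw [P.form_coord]
    refine Finset.sum_eq_zero fun l _ => ?_
    by_cases hla : l = a
    · subst hla; rw [hwo _ hap haq, map_zero, mul_zero]
    by_cases hlb : l = b
    · subst hlb; rw [hwo _ hbp hbq, map_zero, mul_zero]
    rw [huo l hla hlb, zero_mul]
  have hvv : f (u + w) (u + w) = 0 := by
    rw [Unit.add_left hf, Unit.add_right hf, Unit.add_right hf, huu, hww, huw, Unit.eq_zero_comm hf huw]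
    ring
  obtain ⟨c, hc0, hc⟩ := Unit.exists_skew hf.ne_refl hf.involutive
  have hT := he.ge (formTv_iso hf hvv hc)
  obtain ⟨π, κ, hκ⟩ := P.mono hT.2.1 hT.1
  have hva : f (u + w) (e a) ≠ 0 := by rwa [Unit.add_left hf, hwo a hap haq, add_zero]
  have key : ∀ l, l ≠ a → f (u + w) (e l) ≠ 0 → π a = l := by
    intro l hl hv
    by_contra hne
    have := congrArg (fun z => f z (e l)) (hκ a).1
    simp only [Unit.formTv_mulVec hf hvv, Unit.add_left hf (e a), Unit.smul_left hf, P.orth (Ne.symm hl), P.orth hne,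
      zero_add, mul_zero] at this
    exact mul_ne_zero (mul_ne_zero hc0 (Unit.ne_zero_comm hf hva)) hv this
  exact hbp ((key b (Ne.symm hab) (by rwa [Unit.add_left hf, hwo b hbp hbq, add_zero])).symm.trans
    (key p (Ne.symm hap) (by rwa [Unit.add_left hf, huo p (Ne.symm hap) (Ne.symm hbp), zero_add])))

end CfsgLib.GeomClasses.UnitFrame

namespace CfsgLib.GeomClasses.UnitDecomp

open Matrix CfsgLib.GeomClasses.UnitQr CfsgLib.GeomClasses.UnitSymp

variable {n t k : ℕ} {F : Type*} [Field F] [Fintype F] {q : ℕ}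

/-- The stabilizer is maximal in the special unitary group. -/
theorem maximal_decomposition (hF : Fintype.card F = q ^ 2) (hn : 5 ≤ n) {D : Fin t → Submodule F (Fin n → F)}
    (hD : Cfsg.Geo.IsNondegenerateMDecomposition (Cfsg.hermForm n F q) k D) (hex : ¬ (k = 2 ∧ q = 2)) (hfr : k = 1 → 10 ≤ n ∨ (n = 6 ∧ 3 ≤ q)) :
    Cfsg.Geo.IsMaximalIn (kGrp (Cfsg.hermForm n F q)) (hGrp (Cfsg.hermForm n F q) D) := by
  classical
  have B : Base (UnitPow.conj hF) (Cfsg.hermForm n F q) D k := ⟨UnitPow.isUnitaryForm_hermForm hF n, hn, hD⟩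
  have hf := B.unit
  have hgen : ∀ M : Subgroup (GL (Fin n) F),
      (∀ v, Cfsg.hermForm n F q v v = 0 → v ∈ Cen (UnitPow.conj hF) (Cfsg.hermForm n F q) M) →
      kGrp (Cfsg.hermForm n F q) ≤ M := fun M hM g hg =>
    UnitGen.specialUnitary_le_of_formTv_mem hF (by omega) (by omega) (fun v hv c hc => (hM v hv).2 c hc)
      ⟨UnitPow.mem_GU.2 hg.1, hg.2⟩
  have hk0 := hD.decomp.pos
  rcases Nat.lt_or_ge k 2 with hlt | hk
  · obtain rfl : k = 1 := by omega
    obtain ⟨e, P⟩ := B.exists_frame (by have := hfr rfl; omega)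
    refine ⟨P.proper_line, fun M hle hMK => ?_⟩
    by_cases hne : M = hGrp (Cfsg.hermForm n F q) D
    · exact Or.inl hne
    · refine Or.inr (le_antisymm hMK (hgen M (P.cen_all_line ?_ hle hMK hne)))
      have := P.t_eq
      rcases hfr rfl with h | ⟨h, hq⟩
      · exact Or.inl (by omega)
      · refine Or.inr ⟨by omega, ?_⟩
        by_contra hB
        have hsub : UnitCircle.fixSet (UnitPow.conj hF) ⊆ ({0, 1} : Finset F) := by
          intro x hx
          simp only [Finset.mem_insert, Finset.mem_singleton]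
          by_contra h
          push Not at h
          exact hB ⟨x, UnitCircle.mem_fixSet.1 hx, h.1, h.2⟩
        have h1 := Finset.card_le_card hsub
        rw [Finset.card_pair zero_ne_one] at h1
        have h2 := UnitCircle.card_field hf.ne_refl hf.involutive
        have h3' := Nat.mul_le_mul h1 h1
        rw [← h2, hF, pow_two] at h3'
        have := Nat.mul_le_mul hq hq
        omega
  · have hbig : 3 ≤ k ∨ Big (UnitPow.conj hF) := by
      by_cases h3 : 3 ≤ k
      · exact Or.inl h3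
      refine Or.inr ?_
      by_contra hB
      have hq3 : 3 ≤ q := by
        have := UnitPow.two_le hF
        have : q ≠ 2 := fun h => hex ⟨by omega, h⟩
        omega
      have hsub : UnitCircle.fixSet (UnitPow.conj hF) ⊆ ({0, 1} : Finset F) := by
        intro x hx
        simp only [Finset.mem_insert, Finset.mem_singleton]
        by_contra h
        push Not at h
        exact hB ⟨x, UnitCircle.mem_fixSet.1 hx, h.1, h.2⟩
      have h1 := Finset.card_le_card hsub
      rw [Finset.card_pair zero_ne_one] at h1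
      have h2 := UnitCircle.card_field hf.ne_refl hf.involutive
      have h3' := Nat.mul_le_mul h1 h1
      rw [← h2, hF, pow_two] at h3'
      have := Nat.mul_le_mul hq3 hq3
      omega
    refine ⟨B.proper_block hk, fun M hle hMK => ?_⟩
    by_cases hne : M = hGrp (Cfsg.hermForm n F q) D
    · exact Or.inl hne
    · exact Or.inr (le_antisymm hMK (hgen M (B.cen_all_block hle hk hbig hMK hne)))

end CfsgLib.GeomClasses.UnitDecomp
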