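import Cfsg.Agent.Lib.GeomClasses.UnitOrth

/-!
From one irrational element to every unitary transvection, and maximality of the orthogonal subfield group.
-/

set_option autoImplicit false
set_option linter.unusedSectionVars false

namespace CfsgLib.GeomClasses.UnitOrth

open Matrix SympRoot

variable {n : ℕ} {F : Type*} [Field F] [Fintype F] {σ : F ≃+* F} {f : (Fin n → F) → (Fin n → F) → F}
  {F₀ : Subfield F} {θ : F} {M : Subgroup (GL (Fin n) F)} (O : Over σ f F₀ θ M)
include O

/-- A transvection at an irrational centre in general position. -/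
theorem exists_tv_irrational {g : GL (Fin n) F} (hg : g ∈ M) (hnot : g ∉ ratScalar F₀ (Fin n)) :
    ∃ a b, Rv F₀ a ∧ Rv F₀ b ∧ f (a + θ • b) (a + θ • b) = 0 ∧ f (a + θ • b) (bar σ (a + θ • b)) ≠ 0 ∧
      ∃ c, c + σ c = 0 ∧ c ≠ 0 ∧ formTv f (a + θ • b) c ∈ M := by
  have hf := O.unit
  have hS := O.toSetting
  obtain ⟨u, hu, huu, hns⟩ := exists_gen_moved O hg hnot
  have hu0 : u ≠ 0 := by
    rintro rfl
    exact hns (by rw [mulVec_zero, Unit.zero_left hf])
  obtain ⟨p, hp, hpp, -, hpu⟩ := exists_singular_ne hS (k := 0) (by have := hS.six; omega) ![] (fun i => i.elim0) hu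
    (by simp [hu0])
  obtain ⟨w, hw, hw0, hwd⟩ := exists_orth' hS (k := 2) (by have := hS.six; omega) ![u, p] (fun i => by fin_cases i <;> assumption)
  have hwu : f w u = 0 := hwd 0
  have hwp : f w p = 0 := hwd 1
  have huw : f u w = 0 := by rw [hS.symm hu hw, hwu]
  obtain ⟨a, b, ha, hb, hab⟩ := decomp O ((g : Matrix (Fin n) (Fin n) F) *ᵥ u)
  obtain ⟨x₁, x₂, hx1, hx2, hx⟩ := decomp O ((g : Matrix (Fin n) (Fin n) F) *ᵥ w)
  have hv : f (a + θ • b) (a + θ • b) = 0 := by rw [← hab, O.isometry g hg, huu]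
  rw [hab] at hns
  have hvx : f (a + θ • b) (x₁ + θ • x₂) = 0 := by rw [← hab, ← hx, O.isometry g hg, huw]
  have hR := M.mul_mem (M.mul_mem hg (O.mem u w hu hw huu huw)) (M.inv_mem hg)
  rw [siegel, root_conj hf (O.isometry g hg) huu huw, hab, hx] at hR
  by_cases h1 : x₂ ∉ Submodule.span F {a, b} ∧ x₁ ∉ Submodule.span F {a, b, x₂}
  · exact ⟨a, b, ha, hb, hv, hns, tv_of_root O ha hb hx1 hx2 hv hns hvx h1.1 h1.2 hR⟩
  obtain ⟨r₁, s₁, p₁, hr₁, hs₁, hp₁, hp₁a, hp₁b, he₁⟩ := split_plane_aux O ha hb hv hns hx1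
  obtain ⟨r₂, s₂, p₂, hr₂, hs₂, hp₂, hp₂a, hp₂b, he₂⟩ := split_plane_aux O ha hb hv hns hx2
  obtain ⟨c, q, hq, hqa, hqb, hcq⟩ : ∃ c : F, ∃ q, Rv F₀ q ∧ f q a = 0 ∧ f q b = 0 ∧ p₁ + θ • p₂ = c • q := by
    by_cases hp20 : p₂ = 0
    · exact ⟨1, p₁, hp₁, hp₁a, hp₁b, by rw [hp20, smul_zero, add_zero, one_smul]⟩
    have hx2' : x₂ ∉ Submodule.span F {a, b} := fun hin => notMem_plane O ha hb hv hns hp₂a hp₂b hp20 (by
      have := Submodule.sub_mem _ hin (Submodule.mem_span_pair.2 ⟨r₂, s₂, rfl⟩)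
      rwa [he₂, show p₂ + r₂ • a + s₂ • b - (r₂ • a + s₂ • b) = p₂ by abel] at this)
    have hin : x₁ ∈ Submodule.span F {a, b, x₂} := by
      by_contra hn
      exact h1 ⟨hx2', hn⟩
    rw [show ({a, b, x₂} : Set (Fin n → F)) = Set.range ![a, b, x₂] by simp [Set.insert_comm]; aesop] at hin
    obtain ⟨k, hk⟩ := (Submodule.mem_span_range_iff_exists_fun F).1 hin
    rw [Fin.sum_univ_three] at hk
    have hk' : k 0 • a + k 1 • b + k 2 • x₂ = x₁ := hk
    have hp1 : p₁ - k 2 • p₂ = 0 := by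
      by_contra hne
      refine notMem_plane O ha hb hv hns ?_ ?_ hne (Submodule.mem_span_pair.2
        ⟨k 0 + k 2 * r₂ - r₁, k 1 + k 2 * s₂ - s₁, ?_⟩)
      · rw [Unit.sub_left hf, Unit.smul_left hf, hp₁a, hp₂a]; ring
      · rw [Unit.sub_left hf, Unit.smul_left hf, hp₁b, hp₂b]; ring
      · rw [he₁, he₂] at hk'
        rw [← sub_eq_zero] at hk' ⊢
        rw [← hk']
        module
    exact ⟨k 2 + θ, p₂, hp₂, hp₂a, hp₂b, by rw [sub_eq_zero.1 hp1, add_smul]⟩
  set m₁ := r₁ + θ * r₂
  set m₂ := s₁ + θ * s₂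
  have hxe : x₁ + θ • x₂ = c • q + m₁ • a + m₂ • b := by
    rw [← hcq, he₁, he₂]
    match_scalars <;> simp [m₁, m₂]
  obtain ⟨hgam, -, -⟩ := pi_unique O ha hb hv hns
  have hm : m₂ = θ * m₁ := by
    have h3 := Unit.eq_zero_comm hf hvx
    rw [hxe] at h3
    simp only [Unit.add_left hf, Unit.smul_left hf, Unit.add_right hf, Unit.smul_right hf, O.theta, hqa, hqb,
      hS.symm hb ha, form_self O ha hb hv] at h3
    have h4 : (f a b - θ * f b b) * (m₂ - θ * m₁) = 0 := by linear_combination h3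
    exact sub_eq_zero.1 ((mul_eq_zero.1 h4).resolve_left hgam)
  have hxe' : x₁ + θ • x₂ = c • q + m₁ • (a + θ • b) := by rw [hxe, hm]; module
  by_cases hcq0 : c = 0 ∨ q = 0
  · exfalso
    have h5 : c • q = 0 := by
      rcases hcq0 with rfl | rfl <;> simp
    rw [h5, zero_add] at hxe'
    have h6 : w = m₁ • u := gl_mulVec_injective g (show (g : Matrix (Fin n) (Fin n) F) *ᵥ w =
        (g : Matrix (Fin n) (Fin n) F) *ᵥ (m₁ • u) by rw [hx, hxe', mulVec_smul, hab])
    rw [h6, Unit.smul_left hf] at hwp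
    have : m₁ = 0 := (mul_eq_zero.1 hwp).resolve_right (by rw [hS.symm hu hp]; exact hpu)
    exact hw0 (by rw [h6, this, zero_smul])
  push Not at hcq0
  obtain ⟨hc0, hq0⟩ := hcq0
  have hvq : f (a + θ • b) q = 0 := form_right O hq ha hb hqa hqb
  have hvcq : f (a + θ • b) (c • q) = 0 := by rw [Unit.smul_right hf, hvq, mul_zero]
  rw [hxe', root_shift hf hv hvcq, root_scale hf hv hvq hc0] at hR
  obtain ⟨a', b', ha', hb', he'⟩ := decomp O (σ c • (a + θ • b))
  rw [he'] at hR
  have hv' : f (a' + θ • b') (a' + θ • b') = 0 := by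
    rw [← he', Unit.smul_left hf, Unit.smul_right hf, hv]; ring
  have hns' : f (a' + θ • b') (bar σ (a' + θ • b')) ≠ 0 := by
    rw [← he', bar_smul hS, Unit.smul_left hf, Unit.smul_right hf, hf.involutive]
    exact mul_ne_zero ((RingEquiv.map_ne_zero_iff σ).2 hc0) (mul_ne_zero ((RingEquiv.map_ne_zero_iff σ).2 hc0) hns)
  have hq' : f (a' + θ • b') q = 0 := by rw [← he', Unit.smul_left hf, hvq, mul_zero]
  have hqs : f q a' = 0 ∧ f q b' = 0 := by
    rw [Unit.add_left hf, Unit.smul_left hf] at hq'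
    obtain ⟨e1, e2⟩ := theta_indep O (O.rat _ _ ha' hq) (O.rat _ _ hb' hq) hq'
    exact ⟨by rw [hS.symm hq ha', e1], by rw [hS.symm hq hb', e2]⟩
  exact tv_of_rational_root O ha' hb' hq hv' hns' hqs.1 hqs.2 hq0 hR

/-- A transvection at a rational singular centre. -/
theorem exists_tv_rational {g : GL (Fin n) F} (hg : g ∈ M) (hnot : g ∉ ratScalar F₀ (Fin n)) :
    ∃ s, Rv F₀ s ∧ s ≠ 0 ∧ f s s = 0 ∧ ∃ c, c + σ c = 0 ∧ c ≠ 0 ∧ formTv f s c ∈ M := by
  have hf := O.unit
  have hS := O.toSetting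
  obtain ⟨a, b, ha, hb, hv, hns, c, hc, hc0, hT⟩ := exists_tv_irrational O hg hnot
  obtain ⟨hgam, hbv, -⟩ := pi_unique O ha hb hv hns
  obtain ⟨s, hs, hs0, hss, hsd⟩ := exists_singular_orth hS (k := 2) (by have := hS.six; omega) ![a, b]
    (fun i => by fin_cases i <;> assumption)
  have hsa : f s a = 0 := hsd 0
  have hsb : f s b = 0 := hsd 1
  have hvs := form_right O hs ha hb hsa hsb
  set v := a + θ • b with hvdef
  set e := - f v b with he
  have he0 : e ≠ 0 := by
    rw [he, neg_ne_zero]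
    exact Unit.ne_zero_comm hf hbv
  have hh := O.mem s b hs hb hss hsb
  have hhv : (siegel f s b : Matrix (Fin n) (Fin n) F) *ᵥ v = v + e • s := by
    rw [siegel_mulVec hS hss hsb, hvs, he]
    module
  have hv2 : f (v + e • s) (v + e • s) = 0 := by rw [← hhv, O.isometry _ hh, hv]
  have h1 := M.mul_mem (M.mul_mem hh hT) (M.inv_mem hh)
  have hconj : siegel f s b * formTv f v c * (siegel f s b)⁻¹ = formTv f (v + e • s) c := by
    rw [← root_zero hf hv, root_conj hf (O.isometry _ hh) hv (Unit.zero_right hf v), mulVec_zero, hhv,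
      root_zero hf hv2]
  rw [hconj] at h1
  have hsv : f s v = 0 := Unit.eq_zero_comm hf hvs
  have hlam : f s ((c * σ e) • v) = 0 := by rw [Unit.smul_right hf, hsv, mul_zero]
  have hsplit : formTv f (v + e • s) c = formTv f v c * root f s ((c * σ e) • v) (c * e * σ e) := by
    refine gl_ext fun x => ?_
    rw [Unit.formTv_mulVec hf hv2, gl_mul_mulVec, Unit.formTv_mulVec hf hv, root_mulVec hf hss hlam]
    simp only [Unit.add_left hf, Unit.add_right hf, Unit.smul_left hf, Unit.smul_right hf, map_mul, hsv, hv,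
      hf.involutive, eq_neg_of_add_eq_zero_right hc]
    match_scalars <;> ring
  rw [hsplit] at h1
  have hR := M.mul_mem (M.inv_mem hT) h1
  rw [inv_mul_cancel_left] at hR
  set lam := c * σ e with hl
  clear_value lam
  have hlam0 : lam ≠ 0 := by rw [hl]; exact mul_ne_zero hc0 ((RingEquiv.map_ne_zero_iff σ).2 he0)
  have step : ∀ z, Rv F₀ z → f s z = 0 → lam * f v z - σ (lam * f v z) ≠ 0 →
      ∃ s, Rv F₀ s ∧ s ≠ 0 ∧ f s s = 0 ∧ ∃ c, c + σ c = 0 ∧ c ≠ 0 ∧ formTv f s c ∈ M := by
    intro z hz hsz hne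
    have hk := O.mem s z hs hz hss hsz
    have h2 := M.mul_mem (M.mul_mem hR hk) (M.inv_mem (M.mul_mem hk hR))
    unfold siegel at h2
    have hzl : f s (z + lam • v) = 0 := by rw [Unit.add_right hf, hsz, hlam, add_zero]
    rw [root_mul hf hss hlam hsz, root_mul hf hss hsz hlam, root_inv hf hss hzl,
      root_mul hf hss (by rw [Unit.add_right hf, hsz, hlam, add_zero])
        (by rw [← neg_one_smul F (z + lam • v), Unit.smul_right hf, hzl, mul_zero]),
      add_comm z (lam • v), add_neg_cancel, root_zero hf hss] at h2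
    refine ⟨s, hs, hs0, hss, _, ?_, ?_, h2⟩
    · simp only [(Unit.sesq hf).neg_left, Unit.smul_left hf, Unit.smul_right hf, map_sub, map_add, map_neg,
        map_mul, Unit.conj_form hf, hf.involutive]
      ring
    · convert hne using 1
      simp only [(Unit.sesq hf).neg_left, Unit.smul_left hf, Unit.smul_right hf, map_mul, Unit.conj_form hf]
      ring
  by_cases h1 : lam * f v b - σ (lam * f v b) = 0
  · refine step a ha hsa fun h2 => ?_
    have hva : f v a = θ * f v b := by
      rw [hvdef]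
      simp only [Unit.add_left hf, Unit.smul_left hf, hS.symm hb ha, form_self O ha hb hv]
      ring
    simp only [hva, map_mul, O.theta] at h2
    simp only [map_mul] at h1
    have : (2 * θ) * (lam * f v b) = 0 := by linear_combination h2 + θ * h1
    exact mul_ne_zero (mul_ne_zero O.two O.theta_ne) (mul_ne_zero hlam0 (Unit.ne_zero_comm hf hbv)) this
  · exact step b hb hsb h1

/-- Rational singular vectors are conjugate under `M`. -/
theorem exists_move {s s' : Fin n → F} (hs : Rv F₀ s) (hs' : Rv F₀ s') (hs0 : s ≠ 0) (hs0' : s' ≠ 0)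
    (hss : f s s = 0) (hss' : f s' s' = 0) :
    ∃ h ∈ M, (h : Matrix (Fin n) (Fin n) F) *ᵥ s = s' := by
  have hf := O.unit
  have hS := O.toSetting
  have key : ∀ t t' : Fin n → F, Rv F₀ t → Rv F₀ t' → f t t = 0 → f t' t' = 0 →
      t ∉ Submodule.span F {t - t'} → ∃ h ∈ M, (h : Matrix (Fin n) (Fin n) F) *ᵥ t = t' := by
    intro t t' ht ht' htt htt' hni
    obtain ⟨p, hp, hpp, hpd, hpt⟩ := exists_singular_ne hS (k := 1) (by have := hS.six; omega) ![t - t']
      (fun i => by fin_cases i; exact ht.sub ht') ht (by simpa using hni)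
    have hpd' : f p (t - t') = 0 := hpd 0
    rw [Unit.sub_right hf, sub_eq_zero] at hpd'
    set P := (f p t)⁻¹ • p with hP
    have hPR : Rv F₀ P := hp.smul (F₀.inv_mem (O.rat _ _ hp ht))
    have hPP : f P P = 0 := by rw [hP, Unit.smul_left hf, Unit.smul_right hf, hpp]; ring
    have hPt : f P t = 1 := by rw [hP, Unit.smul_left hf, inv_mul_cancel₀ hpt]
    have hPt' : f P t' = 1 := by rw [hP, Unit.smul_left hf, ← hpd', inv_mul_cancel₀ hpt]
    set W := t' - t - f t t' • P with hW
    have hq := O.rat t t' ht ht'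
    have hWR : Rv F₀ W := (ht'.sub ht).sub (hPR.smul hq)
    have hPW : f P W = 0 := by
      rw [hW, Unit.sub_right hf, Unit.sub_right hf, hS.smul_right' hq, hPt', hPt, hPP]; ring
    refine ⟨siegel f P W, O.mem P W hPR hWR hPP hPW, ?_⟩
    rw [siegel_mulVec hS hPP hPW]
    have e1 : f t P = 1 := by rw [hS.symm ht hPR, hPt]
    have e2 : f t W = 0 := by
      rw [hW, Unit.sub_right hf, Unit.sub_right hf, hS.smul_right' hq, htt, e1]; ring
    have e3 : f W W = -(2 : F) * f t t' := by
      rw [hW]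
      simp only [Unit.sub_left hf, Unit.sub_right hf, Unit.smul_left hf, hS.smul_right' hq, hS.symm ht' ht,
        hS.symm ht' hPR, htt, htt', hPt, hPt', hPP, e1]
      ring
    have e4 : -(-(2 : F) * f t t' / 2) = f t t' := by
      have := O.two
      field_simp
    rw [e1, e2, e3, e4, hW]
    module
  by_cases hni : s ∉ Submodule.span F {s - s'}
  · exact key s s' hs hs' hss hss' hni
  push Not at hni
  obtain ⟨r, hr⟩ := Submodule.mem_span_singleton.1 hni
  have hr0 : r ≠ 0 := fun h0 => hs0 (by rw [← hr, h0, zero_smul])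
  have hline : s' = ((r - 1) / r) • s := by
    conv_rhs => arg 2; rw [← hr]
    rw [smul_smul, div_mul_cancel₀ _ hr0, sub_smul, one_smul, hr]
    abel
  obtain ⟨t, ht, htt, -, hts⟩ := exists_singular_ne hS (k := 0) (by have := hS.six; omega) ![] (fun i => i.elim0) hs
    (by simp [hs0])
  have ht0 : t ≠ 0 := fun h0 => hts (by rw [h0, Unit.zero_left hf])
  have hnt : ∀ {x : Fin n → F}, x ≠ 0 → (∀ c : F, t ≠ c • x) → x ∉ Submodule.span F {x - t} := by
    intro x hx hc hin
    obtain ⟨k, hk⟩ := Submodule.mem_span_singleton.1 hin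
    have hk0 : k ≠ 0 := fun h0 => hx (by rw [← hk, h0, zero_smul])
    refine hc ((k - 1) / k) ?_
    rw [smul_sub, sub_eq_iff_eq_add] at hk
    rw [div_eq_inv_mul, mul_smul, sub_smul, one_smul]
    conv_rhs => arg 2; arg 1; rw [hk]
    rw [add_sub_cancel_left, inv_smul_smul₀ hk0]
  have hnts : ∀ c : F, t ≠ c • s := fun c hc => hts (by rw [hc, Unit.smul_left hf, hss, mul_zero])
  obtain ⟨h1, hh1, e1⟩ := key s t hs ht hss htt (hnt hs0 hnts)
  obtain ⟨h2, hh2, e2⟩ := key t s' ht hs' htt hss' (by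
    intro hin
    obtain ⟨k, hk⟩ := Submodule.mem_span_singleton.1 hin
    have hk0 : k ≠ 0 := fun h0 => ht0 (by rw [← hk, h0, zero_smul])
    have hts' : f t s' ≠ 0 := by
      rw [hline, Unit.smul_right hf]
      refine mul_ne_zero ((RingEquiv.map_ne_zero_iff σ).2 fun h0 => hs0' ?_) hts
      rw [hline, h0, zero_smul]
    have := congrArg (fun x => f x t) hk
    simp only [Unit.smul_left hf, Unit.sub_left hf, htt, zero_sub] at this
    exact mul_ne_zero hk0 (neg_ne_zero.2 (Unit.ne_zero_comm hf hts')) this)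
  exact ⟨h2 * h1, M.mul_mem hh2 hh1, by rw [gl_mul_mulVec, e1, e2]⟩

/-- All transvections at rational singular centres. -/
theorem rational_centres {g : GL (Fin n) F} (hg : g ∈ M) (hnot : g ∉ ratScalar F₀ (Fin n)) {s' : Fin n → F}
    (hs' : Rv F₀ s') (hss' : f s' s' = 0) {c' : F} (hc' : c' + σ c' = 0) : formTv f s' c' ∈ M := by
  have hf := O.unit
  obtain ⟨s, hs, hs0, hss, c, hc, hc0, hT⟩ := exists_tv_rational O hg hnot
  have hall : ∀ t, Rv F₀ t → f t t = 0 → t ≠ 0 → formTv f t c ∈ M := by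
    intro t ht htt ht0
    obtain ⟨h, hh, e⟩ := exists_move O hs ht hs0 ht0 hss htt
    have h1 := M.mul_mem (M.mul_mem hh hT) (M.inv_mem hh)
    rwa [← root_zero hf hss, root_conj hf (O.isometry h hh) hss (Unit.zero_right hf s), mulVec_zero, e,
      root_zero hf htt] at h1
  by_cases hs'0 : s' = 0
  · subst hs'0
    rw [show formTv f (0 : Fin n → F) c' = 1 from gl_ext fun x => by
      rw [Unit.formTv_mulVec hf hss']; simp]
    exact M.one_mem
  have hk : c' / c ∈ F₀ := (O.fixed _).1 (by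
    rw [map_div₀, eq_neg_of_add_eq_zero_right hc, eq_neg_of_add_eq_zero_right hc', neg_div_neg_eq])
  have hsq : ∀ x ∈ F₀, formTv f s' (x * x * c) ∈ M := by
    intro x hx
    by_cases hx0 : x = 0
    · rw [hx0, show formTv f s' (0 * 0 * c) = 1 from gl_ext fun y => by
        rw [Unit.formTv_mulVec hf hss']; simp]
      exact M.one_mem
    have := hall (x • s') (hs'.smul hx) (by rw [Unit.smul_left hf, Unit.smul_right hf, hss']; ring)
      (smul_ne_zero hx0 hs'0)
    rwa [Unit.formTv_smul hf x hss', (O.fixed x).2 hx] at this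
  have h1 := hsq ((c' / c + 1) / 2) (F₀.div_mem (F₀.add_mem hk F₀.one_mem) (two_mem O))
  have h2 := hsq ((c' / c - 1) / 2) (F₀.div_mem (F₀.sub_mem hk F₀.one_mem) (two_mem O))
  have h3 := M.mul_mem h1 (M.inv_mem h2)
  convert h3 using 1
  rw [eq_mul_inv_iff_mul_eq]
  refine gl_ext fun x => ?_
  rw [gl_mul_mulVec, Unit.formTv_mulVec hf hss', Unit.formTv_mulVec hf hss', Unit.formTv_mulVec hf hss',
    Unit.add_left hf, Unit.smul_left hf, hss']
  have := O.two
  match_scalars <;> field_simp <;> ring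

/-- All transvections. -/
theorem all_centres {g : GL (Fin n) F} (hg : g ∈ M) (hnot : g ∉ ratScalar F₀ (Fin n)) {v : Fin n → F}
    (hv : f v v = 0) {c : F} (hc : c + σ c = 0) : formTv f v c ∈ M := by
  have hf := O.unit
  have hS := O.toSetting
  set C : Set (Fin n → F) := {x | ∀ c, c + σ c = 0 → formTv f x c ∈ M} with hC
  have hrat : ∀ t, Rv F₀ t → f t t = 0 → t ∈ C := fun t ht htt c hc => rational_centres O hg hnot ht htt hc
  have hback : ∀ x y k, f x x = 0 → Rv F₀ y → f y y = 0 → k ∈ F₀ →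
      x + (θ * k * f x y) • y ∈ C → x ∈ C := by
    intro x y k hx hy hyy hk h d hd
    have hk' : θ * k + σ (θ * k) = 0 := by rw [map_mul, O.theta, (O.fixed k).2 hk]; ring
    have ht := rational_centres O hg hnot hy hyy hk'
    have e : formTv f (x + (θ * k * f x y) • y) d = formTv f y (θ * k) * formTv f x d * (formTv f y (θ * k))⁻¹ := by
      have hxt : (formTv f y (θ * k) : Matrix (Fin n) (Fin n) F) *ᵥ x = x + (θ * k * f x y) • y :=
        Unit.formTv_mulVec hf hyy _ _
      have hiso := O.isometry _ ht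
      rw [← root_zero hf hx, root_conj hf hiso hx (Unit.zero_right hf x), mulVec_zero, hxt,
        root_zero hf (by rw [← hxt, hiso, hx])]
    have h1 := h d hd
    rw [e] at h1
    have h2 := M.mul_mem (M.mul_mem (M.inv_mem ht) h1) ht
    simpa [mul_assoc] using h2
  have hdep : ∀ r : F, ∀ w, Rv F₀ w → f (r • w) (r • w) = 0 → r • w ∈ C := by
    intro r w hw hrw d hd
    by_cases hr : r = 0
    · subst hr
      rw [show formTv f ((0 : F) • w) d = 1 from gl_ext fun x => by rw [Unit.formTv_mulVec hf hrw]; simp]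
      exact M.one_mem
    have hww : f w w = 0 := by
      rw [Unit.smul_left hf, Unit.smul_right hf] at hrw
      exact ((mul_eq_zero.1 hrw).resolve_left hr |> mul_eq_zero.1).resolve_left ((RingEquiv.map_ne_zero_iff σ).2 hr)
    rw [Unit.formTv_smul hf r hww]
    refine rational_centres O hg hnot hw hww ?_
    rw [map_mul, map_mul, hf.involutive]
    linear_combination (r * σ r) * hd
  -- pairs with singular second component
  have hsing : ∀ a b, Rv F₀ a → Rv F₀ b → f (a + θ • b) (a + θ • b) = 0 → f b b = 0 → f a b ≠ 0 →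
      a + θ • b ∈ C := by
    intro a b ha hb h hbb hab
    refine hback _ b (-(f a b)⁻¹) h hb hbb (F₀.neg_mem (F₀.inv_mem (O.rat _ _ ha hb))) ?_
    have e : a + θ • b + (θ * -(f a b)⁻¹ * f (a + θ • b) b) • b = a := by
      rw [Unit.add_left hf, Unit.smul_left hf, hbb]
      match_scalars <;> field_simp <;> ring
    rw [e]
    exact hrat a ha (by rw [form_self O ha hb h, hbb, mul_zero])
  obtain ⟨a, b, ha, hb, rfl⟩ := decomp O v
  suffices H : a + θ • b ∈ C from H c hc
  by_cases hb0 : b = 0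
  · rw [hb0, smul_zero, add_zero, ← one_smul F a]
    exact hdep 1 a ha (by rwa [hb0, smul_zero, add_zero, ← one_smul F a] at hv)
  by_cases hline : ∃ r : F, a = r • b
  · obtain ⟨r, rfl⟩ := hline
    rw [← add_smul] at hv ⊢
    exact hdep _ b hb hv
  push Not at hline
  have hmove : ∀ y k, Rv F₀ y → k ∈ F₀ →
      Rv F₀ (a + (θ * θ * k * f b y) • y) ∧ Rv F₀ (b + (k * f a y) • y) ∧
      a + θ • b + (θ * k * f (a + θ • b) y) • y =
        (a + (θ * θ * k * f b y) • y) + θ • (b + (k * f a y) • y) := fun y k hy hk =>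
    ⟨ha.add (hy.smul (F₀.mul_mem (F₀.mul_mem (delta_mem O) hk) (O.rat _ _ hb hy))),
      hb.add (hy.smul (F₀.mul_mem hk (O.rat _ _ ha hy))), by
        rw [Unit.add_left hf, Unit.smul_left hf]; module⟩
  have hiso : ∀ y k, Rv F₀ y → f y y = 0 → k ∈ F₀ →
      f ((a + (θ * θ * k * f b y) • y) + θ • (b + (k * f a y) • y))
        ((a + (θ * θ * k * f b y) • y) + θ • (b + (k * f a y) • y)) = 0 := by
    intro y k hy hyy hk
    have hk' : θ * k + σ (θ * k) = 0 := by rw [map_mul, O.theta, (O.fixed k).2 hk]; ring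
    have ht := rational_centres O hg hnot hy hyy hk'
    rw [← (hmove y k hy hk).2.2, ← Unit.formTv_mulVec hf hyy (θ * k) (a + θ • b), O.isometry _ ht, hv]
  by_cases hbb : f b b = 0
  · by_cases hab : f a b = 0
    · obtain ⟨y, hy, hyy, hyd, hya⟩ := exists_singular_ne hS (k := 1) (by have := hS.six; omega) ![b]
        (fun i => by fin_cases i; exact hb) ha (by
          simp only [Matrix.range_cons, Matrix.range_empty, Set.union_empty]
          intro hin
          obtain ⟨r, hr⟩ := Submodule.mem_span_singleton.1 hin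
          exact hline r hr.symm)
      have hyb : f b y = 0 := by rw [hS.symm hb hy]; exact hyd 0
      have hay : f a y ≠ 0 := by rw [hS.symm ha hy]; exact hya
      refine hback _ y 1 hv hy hyy F₀.one_mem ?_
      obtain ⟨h1, h2, h3⟩ := hmove y 1 hy F₀.one_mem
      rw [h3]
      refine hsing _ _ h1 h2 (hiso y 1 hy hyy F₀.one_mem) ?_ ?_
      · simp [Unit.add_left hf, Unit.add_right hf, Unit.smul_left hf, hS.smul_right' (O.rat _ _ ha hy),
          hbb, hyb, hyy, hS.symm hy hb]
      · rw [hyb, mul_zero, zero_smul, add_zero, one_mul, Unit.add_right hf,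
          hS.smul_right' (O.rat _ _ ha hy), hab, zero_add]
        exact mul_ne_zero hay hay
    · exact hsing a b ha hb hv hbb hab
  obtain ⟨y, hy, hyy, hyd, hyb⟩ := exists_singular_ne hS (k := 1) (by have := hS.six; omega) ![a - b]
    (fun i => by fin_cases i; exact ha.sub hb) hb (by
      simp only [Matrix.range_cons, Matrix.range_empty, Set.union_empty]
      intro hin
      obtain ⟨r, hr⟩ := Submodule.mem_span_singleton.1 hin
      have hr0 : r ≠ 0 := fun h0 => hb0 (by rw [← hr, h0, zero_smul])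
      refine hline ((1 + r) / r) ?_
      rw [div_eq_inv_mul, mul_smul, add_smul, one_smul]
      conv_rhs => arg 2; arg 1; rw [← hr]
      rw [smul_sub, sub_add_cancel, inv_smul_smul₀ hr0])
  have hby : f b y ≠ 0 := by rw [hS.symm hb hy]; exact hyb
  have hay : f a y = f b y := by
    have := hyd 0
    rw [Matrix.cons_val_zero, Unit.sub_right hf, sub_eq_zero, hS.symm hy ha, hS.symm hy hb] at this
    exact this
  set k := - f b b / (2 * f a y * f b y) with hk
  have hkF : k ∈ F₀ := F₀.div_mem (F₀.neg_mem (O.rat _ _ hb hb))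
    (F₀.mul_mem (F₀.mul_mem (two_mem O) (O.rat _ _ ha hy)) (O.rat _ _ hb hy))
  have hk2 : k * (2 * f a y * f b y) = - f b b := by
    rw [hk, div_mul_cancel₀ _ (mul_ne_zero (mul_ne_zero O.two (hay ▸ hby)) hby)]
  clear_value k
  refine hback _ y k hv hy hyy hkF ?_
  obtain ⟨h1, h2, h3⟩ := hmove y k hy hkF
  rw [h3]
  have hi := hiso y k hy hyy hkF
  set a₁ := a + (θ * θ * k * f b y) • y
  set b₁ := b + (k * f a y) • y
  have hbb1 : f b₁ b₁ = 0 := by
    simp only [b₁, Unit.add_left hf, Unit.add_right hf, Unit.smul_left hf,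
      hS.smul_right' (F₀.mul_mem hkF (O.rat _ _ ha hy)), hS.symm hy hb, hyy]
    linear_combination hk2
  by_cases hab1 : f a₁ b₁ = 0
  · by_cases hin : a₁ ∈ Submodule.span F {b₁}
    · obtain ⟨r, hr⟩ := Submodule.mem_span_singleton.1 hin
      rw [← hr, ← add_smul] at hi ⊢
      exact hdep _ b₁ h2 hi
    obtain ⟨z, hz, hzz, hzd, hza⟩ := exists_singular_ne hS (k := 1) (by have := hS.six; omega) ![b₁]
      (fun i => by fin_cases i; exact h2) h1 (by simpa using hin)
    have hzb : f b₁ z = 0 := by rw [hS.symm h2 hz]; exact hzd 0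
    have haz : f a₁ z ≠ 0 := by rw [hS.symm h1 hz]; exact hza
    refine hback _ z 1 hi hz hzz F₀.one_mem ?_
    have e : a₁ + θ • b₁ + (θ * 1 * f (a₁ + θ • b₁) z) • z = a₁ + θ • (b₁ + f a₁ z • z) := by
      rw [Unit.add_left hf, Unit.smul_left hf, hzb]; module
    rw [e]
    have hk' : θ * 1 + σ (θ * 1) = 0 := by rw [mul_one, O.theta]; ring
    refine hsing a₁ _ h1 (h2.add (hz.smul (O.rat _ _ h1 hz))) ?_ ?_ ?_
    · rw [← e, ← Unit.formTv_mulVec hf hzz (θ * 1) (a₁ + θ • b₁),
        O.isometry _ (rational_centres O hg hnot hz hzz hk'), hi]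
    · simp only [Unit.add_left hf, Unit.add_right hf, Unit.smul_left hf, hS.smul_right' (O.rat _ _ h1 hz),
        hbb1, hzb, hzz, hS.symm hz h2]
      ring
    · rw [Unit.add_right hf, hS.smul_right' (O.rat _ _ h1 hz), hab1, zero_add]
      exact mul_ne_zero haz haz
  · exact hsing a₁ b₁ h1 h2 hi hbb1 hab1

omit O

/-- The orthogonal subfield group is maximal. -/
theorem maximal_orthSubfield (S : Setting σ f F₀) (hθ0 : θ ≠ 0) (hθ : σ θ = -θ) {K : Subgroup (GL (Fin n) F)}
    (hKi : ∀ g ∈ K, Symp.IsIsometry f g)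
    (hroot : ∀ u w γ, f u u = 0 → f u w = 0 → γ + σ γ = - f w w → root f u w γ ∈ K)
    (hgen : ∀ M : Subgroup (GL (Fin n) F), (∀ v, f v v = 0 → ∀ c, c + σ c = 0 → formTv f v c ∈ M) → K ≤ M) :
    Cfsg.Geo.IsMaximalIn K (ratScalar F₀ (Fin n) ⊓ K) := by
  have h13 := S.six
  have hf := S.unit
  haveI : NeZero (2 : F) := ⟨S.two⟩
  have hsieg : ∀ u w, Rv F₀ u → Rv F₀ w → f u u = 0 → f u w = 0 → siegel f u w ∈ ratScalar F₀ (Fin n) ⊓ K := by
    intro u w hu hw huu huw
    refine ⟨mem_ratScalar_of_lines' _ (by omega) fun x hx => ⟨1, _, siegel_rv S hu hw huu huw hx, (one_smul F _).symm⟩,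
      hroot u w _ huu huw ?_⟩
    rw [map_neg, map_div₀, (S.fixed _).2 (S.rat w w hw hw), show σ (2 : F) = 2 from map_ofNat σ 2, ← neg_add,
      add_halves]
  refine ⟨lt_of_le_of_ne inf_le_right fun he => ?_, fun M hle hMK => ?_⟩
  · have O : Over σ f F₀ θ K := { S with
      isometry := hKi
      mem := fun u w hu hw h1 h2 => (hsieg u w hu hw h1 h2).2
      theta_ne := hθ0
      theta := hθ }
    obtain ⟨s, hs, hs0, hss, -⟩ := exists_singular_orth S (k := 0) (by have := S.six; omega) ![] (fun i => i.elim0)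
    obtain ⟨p, hp, -, -, hps⟩ := exists_singular_ne S (k := 0) (by have := S.six; omega) ![] (fun i => i.elim0) hs (by simp [hs0])
    have hmem := hroot s 0 θ hss (Unit.zero_right hf s) (by rw [hθ, Unit.zero_left hf]; ring)
    rw [← he, root_zero hf hss] at hmem
    obtain ⟨c, hc, hcr⟩ := UnitSymp.ratScalar_rv hmem.1
    have e1 := hcr s hs
    rw [Unit.formTv_mulVec hf hss, hss, mul_zero, zero_smul, add_zero] at e1
    obtain ⟨i, hi⟩ := Function.ne_iff.1 hs0
    have hcF : c ∈ F₀ := by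
      have := F₀.div_mem (e1 i) (hs i)
      rwa [Pi.smul_apply, smul_eq_mul, mul_div_cancel_right₀ _ (by simpa using hi)] at this
    have e2 := hcr p hp i
    rw [Unit.formTv_mulVec hf hss] at e2
    simp only [Pi.smul_apply, Pi.add_apply, smul_eq_mul] at e2
    apply theta_notMem O
    have hk := F₀.div_mem (F₀.div_mem (F₀.sub_mem (F₀.div_mem e2 hcF) (hp i)) (hs i)) (S.rat p s hp hs)
    rwa [mul_div_cancel_left₀ _ hc, add_sub_cancel_left, mul_div_cancel_right₀ _ (by simpa using hi),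
      mul_div_cancel_right₀ _ hps] at hk
  by_cases hall : M ≤ ratScalar F₀ (Fin n)
  · exact Or.inl (le_antisymm (le_inf hall hMK) hle)
  right
  refine le_antisymm hMK ?_
  have O : Over σ f F₀ θ M := { S with
    isometry := fun g hg => hKi g (hMK hg)
    mem := fun u w hu hw h1 h2 => hle (hsieg u w hu hw h1 h2)
    theta_ne := hθ0
    theta := hθ }
  obtain ⟨g, hgM, hg⟩ := SetLike.not_le_iff_exists.1 hall
  exact hgen M fun v hv c hc => all_centres O hgM hg hv hc

end CfsgLib.GeomClasses.UnitOrth
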