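import Cfsg.Agent.Lib.GeomClasses.Basic
import Cfsg.Agent.Lib.Maximal.TensorTools
import Cfsg.Agent.Lib.Orth.Siegel

/-!
Singular vectors, hyperbolic pairs, and commutators of two reflections.
-/

set_option autoImplicit false
set_option linter.unusedSectionVars false

namespace CfsgLib.GeomClasses.OrthTools

open Matrix QuadraticMap CfsgLib.Maximal.TensorTools
open scoped commutatorElement

variable {ι : Type} [Fintype ι] [DecidableEq ι] {F : Type*} [Field F]

theorem quadOf_nondegenerate {Q : (ι → F) → F} (hQ : Cfsg.Geo.IsNondegenerateQuadraticForm Q) :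
    (quadOf hQ).polarBilin.Nondegenerate := by
  refine ⟨fun x hx => ?_, fun x hx => ?_⟩ <;> by_contra h
  · obtain ⟨-, y, hy⟩ := hQ.nondegenerate x h
    exact hy (hx y)
  · obtain ⟨⟨y, hy⟩, -⟩ := hQ.nondegenerate x h
    exact hy (hx y)

variable {q : QuadraticForm F (ι → F)}

/-- The orthogonal complement. -/
noncomputable def orth (q : QuadraticForm F (ι → F)) (X : Submodule F (ι → F)) : Submodule F (ι → F) :=
  LinearMap.BilinForm.orthogonal q.polarBilin X

theorem mem_orth {X : Submodule F (ι → F)} {x : ι → F} : x ∈ orth q X ↔ ∀ y ∈ X, polar q y x = 0 :=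
  LinearMap.BilinForm.mem_orthogonal_iff

theorem finrank_orth (hq : q.polarBilin.Nondegenerate) (X : Submodule F (ι → F)) :
    Module.finrank F (orth q X) = Fintype.card ι - Module.finrank F X := by
  rw [orth, LinearMap.BilinForm.finrank_orthogonal hq, Module.finrank_fintype_fun_eq_card]

theorem finrank_inf_orth (hq : q.polarBilin.Nondegenerate) (X : Submodule F (ι → F)) (a : ι → F) :
    Module.finrank F X ≤ Module.finrank F ↥(X ⊓ orth q (Submodule.span F {a})) + 1 := by
  have h1 := Submodule.finrank_sup_add_finrank_inf_eq X (orth q (Submodule.span F {a}))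
  have h2 := Submodule.finrank_le (X ⊔ orth q (Submodule.span F {a}))
  rw [Module.finrank_fintype_fun_eq_card] at h2
  have h3 := finrank_orth hq (Submodule.span F {a})
  have h4 : Module.finrank F ↥(Submodule.span F {a}) ≤ 1 := by
    refine (finrank_span_le_card ({a} : Set (ι → F))).trans ?_
    simp
  omega

theorem mem_inf_orth {X : Submodule F (ι → F)} {a x : ι → F}
    (hx : x ∈ X ⊓ orth q (Submodule.span F {a})) : x ∈ X ∧ polar q a x = 0 :=
  ⟨hx.1, mem_orth.1 hx.2 a (Submodule.mem_span_singleton_self a)⟩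

/-- The orthogonal complement of a non-degenerate subspace is non-degenerate. -/
theorem orth_nondegenerate (hq : q.polarBilin.Nondegenerate) {X : Submodule F (ι → F)}
    (hX : ∀ x ∈ X, x ≠ 0 → ∃ y ∈ X, polar q x y ≠ 0) :
    ∀ x ∈ orth q X, x ≠ 0 → ∃ y ∈ orth q X, polar q x y ≠ 0 := by
  intro x hx hx0
  by_contra h
  push Not at h
  have hrefl : q.polarBilin.IsRefl := fun a b hab => by
    rw [QuadraticMap.polarBilin_apply_apply] at hab ⊢
    rwa [polar_comm]
  have hdd : orth q (orth q X) = X :=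
    LinearMap.BilinForm.orthogonal_orthogonal hq hrefl X
  have hxX : x ∈ X := by
    rw [← hdd]
    exact mem_orth.2 fun y hy => by rw [polar_comm]; exact h y hy
  obtain ⟨y, hy, hxy⟩ := hX x hxX hx0
  exact hxy (by rw [polar_comm]; exact mem_orth.1 hx y hy)

/-- A subspace of dimension at least three has a non-zero singular vector. -/
theorem exists_singular [Fintype F] (hq : q.polarBilin.Nondegenerate) (X : Submodule F (ι → F))
    (h3 : 3 ≤ Module.finrank F X) : ∃ x ∈ X, x ≠ 0 ∧ q x = 0 := by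
  by_contra hc
  push Not at hc
  obtain ⟨a, ha, ha0⟩ := Submodule.exists_mem_ne_zero_of_ne_bot (p := X) fun h => by
    rw [h, finrank_bot] at h3; omega
  have h2a := finrank_inf_orth hq X a
  obtain ⟨b, hb, hba⟩ : ∃ b ∈ X ⊓ orth q (Submodule.span F {a}), b ∉ Submodule.span F {a} := by
    by_contra h
    push Not at h
    have h' := Submodule.finrank_mono (show X ⊓ orth q (Submodule.span F {a}) ≤ Submodule.span F {a} from h)
    rw [finrank_span_singleton ha0] at h'
    omega
  obtain ⟨hbX, hab⟩ := mem_inf_orth hb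
  have hqa := hc a ha ha0
  have hb0 : b ≠ 0 := fun h => hba (by rw [h]; exact zero_mem _)
  have hqb := hc b hbX hb0
  by_cases h2 : (2 : F) = 0
  · have : CharP F 2 := CharTwo.of_one_ne_zero_of_two_eq_zero one_ne_zero h2
    obtain ⟨r, hr⟩ := FiniteField.isSquare_of_char_two (ringChar.eq F 2) (q b / q a)
    refine hc (b + r • a) (X.add_mem hbX (X.smul_mem _ ha)) (fun h => hba ?_) ?_
    · exact Submodule.mem_span_singleton.2 ⟨-r, by rw [neg_smul, eq_comm, eq_neg_iff_add_eq_zero, h]⟩
    · rw [QuadraticMap.map_add ⇑q, polar_smul_right, polar_comm (f := ⇑q) b a, hab, QuadraticMap.map_smul,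
        smul_eq_mul, smul_eq_mul, mul_zero, add_zero, ← hr, div_mul_cancel₀ _ hqa]
      linear_combination q b * h2
  · have h2b := finrank_inf_orth hq (X ⊓ orth q (Submodule.span F {a})) b
    obtain ⟨c, hcm, hc0⟩ := Submodule.exists_mem_ne_zero_of_ne_bot
      (p := (X ⊓ orth q (Submodule.span F {a})) ⊓ orth q (Submodule.span F {b})) fun h => by
        rw [h, finrank_bot] at h2b; omega
    obtain ⟨hcm', hbc⟩ := mem_inf_orth hcm
    obtain ⟨hcX, hac⟩ := mem_inf_orth hcm'
    obtain ⟨x, y, hxy⟩ := CfsgLib.Orth.exists_binary h2 hqa hqb (- q c)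
    refine hc (x • a + y • b + c) (X.add_mem (X.add_mem (X.smul_mem _ ha) (X.smul_mem _ hbX)) hcX) (fun h => ?_) ?_
    · have : polar q (x • a + y • b + c) c = 0 := by rw [h, polar_zero_left]
      rw [polar_add_left, polar_add_left, polar_smul_left, polar_smul_left, hac, hbc,
        CfsgLib.Orth.polar_self', smul_zero, smul_zero, zero_add, zero_add, mul_eq_zero] at this
      exact this.elim h2 (hc c hcX hc0)
    · rw [QuadraticMap.map_add ⇑q, QuadraticMap.map_add ⇑q, QuadraticMap.map_smul, QuadraticMap.map_smul,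
        polar_add_left, polar_smul_left, polar_smul_left, polar_smul_right, polar_smul_left, hab, hac, hbc]
      simp only [smul_eq_mul, mul_zero, add_zero]
      linear_combination hxy

/-- A hyperbolic pair in a non-degenerate subspace with a singular vector. -/
theorem exists_partner {X : Submodule F (ι → F)}
    (hX : ∀ x ∈ X, x ≠ 0 → ∃ y ∈ X, polar q x y ≠ 0) {u : ι → F} (hu : u ∈ X) (hu0 : u ≠ 0) (hqu : q u = 0) :
    ∃ t ∈ X, q t = 0 ∧ polar q u t = 1 := by
  obtain ⟨y, hy, huy⟩ := hX u hu hu0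
  obtain ⟨z, hz, huz⟩ : ∃ z ∈ X, polar q u z = 1 :=
    ⟨(polar q u y)⁻¹ • y, X.smul_mem _ hy, by rw [polar_smul_right, smul_eq_mul, inv_mul_cancel₀ huy]⟩
  refine ⟨z + (- q z) • u, X.add_mem hz (X.smul_mem _ hu), ?_, ?_⟩
  · rw [QuadraticMap.map_add ⇑q, QuadraticMap.map_smul, hqu, polar_smul_right, polar_comm (f := ⇑q) z u, huz]
    simp
  · rw [polar_add_right, polar_smul_right, huz, CfsgLib.Orth.polar_self', hqu]
    simp

theorem app_commutator_refl {a b x : ι → F} (ha : q a ≠ 0) (hb : q b ≠ 0) (hxb : polar q x b = 0) :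
    CfsgLib.Orth.app ⁅CfsgLib.Orth.refl q a, CfsgLib.Orth.refl q b⁆ x =
      x - (polar q x a * polar q a b ^ 2 * ((q b)⁻¹ * (q a)⁻¹ ^ 2)) • a +
        (polar q x a * polar q a b * ((q b)⁻¹ * (q a)⁻¹)) • b := by
  rw [commutatorElement_def, CfsgLib.Orth.refl_inv, CfsgLib.Orth.refl_inv]
  simp only [CfsgLib.Orth.app_mul, CfsgLib.Orth.app_refl, hxb, mul_zero, zero_smul, sub_zero, map_sub, map_smul,
    polar_comm (f := ⇑q) b a, CfsgLib.Orth.polar_self', polar_sub_left, polar_smul_left, smul_eq_mul]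
  match_scalars <;> field_simp <;> ring

theorem commutator_refl_mem {Q : (ι → F) → F} (hQ : Cfsg.Geo.IsNondegenerateQuadraticForm Q) (a b : ι → F) :
    ((⁅CfsgLib.Orth.refl (quadOf hQ) a, CfsgLib.Orth.refl (quadOf hQ) b⁆ : CfsgLib.Orth.O (quadOf hQ)) : GL ι F) ∈
      Cfsg.Geo.omegaGL Q :=
  commutator_mem_omega (Q := quadOf hQ) _ _

end CfsgLib.GeomClasses.OrthTools
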