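import Cfsg.Agent.Lib.GeomClasses.UnitSymp
import Cfsg.Agent.Lib.GeomClasses.OrthTools

/-!
The rational orthogonal space inside a unitary space: existence of suitable rational vectors, and a criterion
for a matrix to be rational up to a scalar.
-/

set_option autoImplicit false
set_option linter.unusedSectionVars false

namespace CfsgLib.GeomClasses.UnitOrth

open Matrix SympRoot

variable {n : ℕ} {F : Type*} [Field F] [Fintype F]

/-- A unitary form taking rational values on rational vectors, in odd characteristic. -/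
structure Setting (σ : F ≃+* F) (f : (Fin n → F) → (Fin n → F) → F) (F₀ : Subfield F) : Prop where
  unit : Cfsg.Geo.IsUnitaryForm σ f
  fixed : ∀ x : F, σ x = x ↔ x ∈ F₀
  rat : ∀ u v, Rv F₀ u → Rv F₀ v → f u v ∈ F₀
  two : (2 : F) ≠ 0
  six : 6 ≤ n

variable {σ : F ≃+* F} {f : (Fin n → F) → (Fin n → F) → F} {F₀ : Subfield F}

theorem Setting.symm (S : Setting σ f F₀) {u v : Fin n → F} (hu : Rv F₀ u) (hv : Rv F₀ v) : f u v = f v u := by
  rw [S.unit.herm u v, (S.fixed _).2 (S.rat v u hv hu)]

theorem Setting.smul_right' (S : Setting σ f F₀) {k : F} (hk : k ∈ F₀) (x y : Fin n → F) :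
    f x (k • y) = k * f x y := by
  rw [Unit.smul_right S.unit, (S.fixed k).2 hk]

theorem eq_zero_of_rv (S : Setting σ f F₀) {x : Fin n → F} (h : ∀ y, Rv F₀ y → f x y = 0) : x = 0 := by
  by_contra hx
  obtain ⟨-, y, hy⟩ := S.unit.nondegenerate x hx
  apply hy
  rw [pi_eq_sum_univ' y, (Unit.sesq S.unit).sum_right]
  exact Finset.sum_eq_zero fun i _ => by rw [Unit.smul_right S.unit, h _ (Rv.single i), mul_zero]

/-- A rational vector over the subfield, seen over the field. -/
def up (a : Fin n → F₀) : Fin n → F := fun i => (a i : F)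

theorem up_rv (a : Fin n → F₀) : Rv F₀ (up a) := fun i => (a i).2

theorem exists_down {v : Fin n → F} (h : Rv F₀ v) : ∃ a : Fin n → F₀, up a = v :=
  ⟨fun i => ⟨v i, h i⟩, rfl⟩

theorem up_add (a b : Fin n → F₀) : up (a + b) = up a + up b := funext fun i => by simp [up]

theorem up_smul (c : F₀) (a : Fin n → F₀) : up (c • a) = (c : F) • up a := funext fun i => by simp [up]

theorem up_zero : up (0 : Fin n → F₀) = 0 := funext fun i => by simp [up]

theorem up_injective : Function.Injective (up (n := n) (F₀ := F₀)) := fun a b h =>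
  funext fun i => Subtype.ext (congrFun h i)

variable (S : Setting σ f F₀)
include S

/-- The rational bilinear form. -/
def Setting.bil : LinearMap.BilinMap F₀ (Fin n → F₀) F₀ :=
  LinearMap.mk₂ F₀ (fun a b => ⟨f (up a) (up b), S.rat _ _ (up_rv a) (up_rv b)⟩)
    (fun a b c => Subtype.ext (by simp [up_add, Unit.add_left S.unit]))
    (fun k a c => Subtype.ext (by simp [up_smul, Unit.smul_left S.unit]))
    (fun a b c => Subtype.ext (by simp [up_add, Unit.add_right S.unit]))
    (fun k a c => Subtype.ext (by simp [up_smul, S.smul_right' k.2]))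

/-- The rational quadratic form `x ↦ f(x, x)`. -/
def Setting.quad : QuadraticForm F₀ (Fin n → F₀) := S.bil.toQuadraticMap

theorem quad_coe (a : Fin n → F₀) : ((S.quad a : F₀) : F) = f (up a) (up a) := rfl

theorem polar_coe (a b : Fin n → F₀) :
    ((QuadraticMap.polar S.quad a b : F₀) : F) = 2 * f (up a) (up b) := by
  rw [Setting.quad, LinearMap.BilinMap.polar_toQuadraticMap, two_mul]
  change f (up a) (up b) + f (up b) (up a) = _
  rw [S.symm (up_rv b) (up_rv a)]

theorem quad_nondegenerate : S.quad.polarBilin.Nondegenerate := by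
  have key : ∀ a, (∀ b, QuadraticMap.polar S.quad a b = 0) → a = 0 := by
    intro a h
    apply up_injective
    rw [up_zero]
    refine eq_zero_of_rv S fun y hy => ?_
    obtain ⟨b, rfl⟩ := exists_down hy
    have := congrArg Subtype.val (h b)
    rw [polar_coe S] at this
    exact (mul_eq_zero.1 this).resolve_left S.two
  refine ⟨fun x hx => key x fun b => hx b, fun x hx => key x fun b => ?_⟩
  rw [QuadraticMap.polar_comm]
  exact hx b

theorem two_ne_zero' : (2 : F₀) ≠ 0 := fun h => S.two (by simpa [map_ofNat] using congrArg F₀.subtype h)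

/-- The orthogonal of finitely many rational vectors over the subfield. -/
noncomputable def Setting.perpOf {k : ℕ} (d : Fin k → Fin n → F₀) : Submodule F₀ (Fin n → F₀) :=
  OrthTools.orth S.quad (Submodule.span F₀ (Set.range d))

theorem mem_perpOf {k : ℕ} {d : Fin k → Fin n → F₀} {x : Fin n → F₀} :
    x ∈ S.perpOf d ↔ ∀ i, f (up x) (up (d i)) = 0 := by
  rw [Setting.perpOf, OrthTools.mem_orth]
  constructor
  · intro h i
    have := congrArg Subtype.val (h (d i) (Submodule.subset_span ⟨i, rfl⟩))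
    rw [polar_coe S, S.symm (up_rv _) (up_rv _)] at this
    exact (mul_eq_zero.1 this).resolve_left S.two
  · intro h y hy
    induction hy using Submodule.span_induction with
    | mem y hy =>
      obtain ⟨i, rfl⟩ := hy
      refine Subtype.ext ?_
      rw [polar_coe S, S.symm (up_rv _) (up_rv _), h i, mul_zero]
      rfl
    | zero => exact QuadraticMap.polar_zero_left _ _
    | add a b _ _ ha hb => rw [QuadraticMap.polar_add_left, ha, hb, add_zero]
    | smul c a _ ha => rw [QuadraticMap.polar_smul_left, ha, smul_zero]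

theorem le_finrank_perpOf {k : ℕ} (d : Fin k → Fin n → F₀) : n - k ≤ Module.finrank F₀ (S.perpOf d) := by
  rw [Setting.perpOf, OrthTools.finrank_orth (quad_nondegenerate S), Fintype.card_fin]
  have := finrank_range_le_card (R := F₀) d
  rw [Set.finrank, Fintype.card_fin] at this
  omega

/-- A non-zero rational singular vector orthogonal to a few rational vectors. -/
theorem exists_singular_orth {k : ℕ} (hk : k + 3 ≤ n) (d : Fin k → Fin n → F) (hd : ∀ i, Rv F₀ (d i)) :
    ∃ s, Rv F₀ s ∧ s ≠ 0 ∧ f s s = 0 ∧ ∀ i, f s (d i) = 0 := by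
  choose d' hd' using fun i => exists_down (hd i)
  have := S.six
  have h3 := le_finrank_perpOf S d'
  haveI := Fintype.ofFinite F₀
  obtain ⟨x, hx, hx0, hqx⟩ := OrthTools.exists_singular (quad_nondegenerate S) (S.perpOf d') (by omega)
  refine ⟨up x, up_rv x, fun h => hx0 (up_injective (h.trans up_zero.symm)), ?_, fun i => ?_⟩
  · rw [← quad_coe S, hqx]; rfl
  · rw [← hd' i]; exact (mem_perpOf S).1 hx i

/-- A non-zero rational vector orthogonal to a few rational vectors. -/
theorem exists_orth' {k : ℕ} (hk : k < n) (d : Fin k → Fin n → F) (hd : ∀ i, Rv F₀ (d i)) :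
    ∃ s, Rv F₀ s ∧ s ≠ 0 ∧ ∀ i, f s (d i) = 0 := by
  choose d' hd' using fun i => exists_down (hd i)
  have h3 := le_finrank_perpOf S d'
  obtain ⟨x, hx, hx0⟩ := Submodule.exists_mem_ne_zero_of_ne_bot (p := S.perpOf d') fun h => by
    rw [h, finrank_bot] at h3; omega
  exact ⟨up x, up_rv x, fun h => hx0 (up_injective (h.trans up_zero.symm)),
    fun i => hd' i ▸ (mem_perpOf S).1 hx i⟩

/-- A rational vector orthogonal to given ones but not to an independent one. -/
theorem exists_orth_ne {k : ℕ} (d : Fin k → Fin n → F) (hd : ∀ i, Rv F₀ (d i)) {l : Fin n → F} (hl : Rv F₀ l)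
    (hi : l ∉ Submodule.span F (Set.range d)) : ∃ z, Rv F₀ z ∧ (∀ i, f z (d i) = 0) ∧ f z l ≠ 0 := by
  choose d' hd' using fun i => exists_down (hd i)
  obtain ⟨l', hl'⟩ := exists_down hl
  by_contra hc
  push Not at hc
  have hmem : l' ∈ Submodule.span F₀ (Set.range d') := by
    have hrefl : S.quad.polarBilin.IsRefl := fun a b h => by
      rw [QuadraticMap.polarBilin_apply_apply] at h ⊢
      rwa [QuadraticMap.polar_comm]
    rw [← LinearMap.BilinForm.orthogonal_orthogonal (quad_nondegenerate S) hrefl (Submodule.span F₀ (Set.range d'))]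
    refine (LinearMap.BilinForm.mem_orthogonal_iff).2 fun y hy => ?_
    have hy' := (mem_perpOf S (d := d')).1 hy
    refine Subtype.ext ?_
    change ((QuadraticMap.polar S.quad y l' : F₀) : F) = 0
    rw [polar_coe S, hl', hc (up y) (up_rv y) (fun i => hd' i ▸ hy' i), mul_zero]
  apply hi
  obtain ⟨c, hc'⟩ := (Submodule.mem_span_range_iff_exists_fun F₀).1 hmem
  refine (Submodule.mem_span_range_iff_exists_fun F).2 ⟨fun i => (c i : F), ?_⟩
  rw [← hl', ← hc']
  funext j
  simp [up, ← hd', Finset.sum_apply]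

/-- A vector set whose orthogonal is totally singular contains it in its span. -/
theorem perpOf_le_span {k : ℕ} (d : Fin k → Fin n → F₀) (h : ∀ x ∈ S.perpOf d, S.quad x = 0) :
    S.perpOf d ≤ Submodule.span F₀ (Set.range d) := by
  have hrefl : S.quad.polarBilin.IsRefl := fun a b h => by
    rw [QuadraticMap.polarBilin_apply_apply] at h ⊢
    rwa [QuadraticMap.polar_comm]
  intro x hx
  rw [← LinearMap.BilinForm.orthogonal_orthogonal (quad_nondegenerate S) hrefl (Submodule.span F₀ (Set.range d))]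
  refine (LinearMap.BilinForm.mem_orthogonal_iff).2 fun y hy => ?_
  have hy' : y ∈ S.perpOf d := hy
  show QuadraticMap.polar S.quad y x = 0
  rw [QuadraticMap.polar, h _ ((S.perpOf d).add_mem hy' hx), h y hy', h x hx, sub_zero, sub_zero]

/-- An anisotropic vector orthogonal to the others can be dropped from a span. -/
theorem mem_span_of_aniso {k : ℕ} {a : Fin n → F₀} {d : Fin k → Fin n → F₀} {x : Fin n → F₀}
    (ha : f (up a) (up a) ≠ 0) (had : ∀ i, f (up a) (up (d i)) = 0) (hax : f (up a) (up x) = 0)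
    (hx : x ∈ Submodule.span F₀ (Set.range (Fin.cons a d : Fin (k + 1) → Fin n → F₀))) :
    x ∈ Submodule.span F₀ (Set.range d) := by
  rw [Fin.range_cons, Submodule.mem_span_insert] at hx
  obtain ⟨c, w, hw, rfl⟩ := hx
  have hw0 : f (up a) (up w) = 0 := by
    clear hax
    induction hw using Submodule.span_induction with
    | mem y hy => obtain ⟨i, rfl⟩ := hy; exact had i
    | zero => rw [up_zero, Unit.zero_right S.unit]
    | add y z _ _ hy hz => rw [up_add, Unit.add_right S.unit, hy, hz, add_zero]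
    | smul r y _ hy => rw [up_smul, S.smul_right' r.2, hy, mul_zero]
  rw [up_add, up_smul, Unit.add_right S.unit, S.smul_right' c.2, hw0, add_zero] at hax
  have : c = 0 := Subtype.ext ((mul_eq_zero.1 hax).resolve_right ha)
  rwa [this, zero_smul, zero_add]

/-- The rational form of the previous lemma. -/
theorem exists_orth_ne' {k : ℕ} (d : Fin k → Fin n → F₀) {l : Fin n → F₀}
    (hi : l ∉ Submodule.span F₀ (Set.range d)) :
    ∃ z, Rv F₀ z ∧ (∀ i, f z (up (d i)) = 0) ∧ f z (up l) ≠ 0 := by
  by_contra hc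
  push Not at hc
  apply hi
  have hrefl : S.quad.polarBilin.IsRefl := fun a b h => by
    rw [QuadraticMap.polarBilin_apply_apply] at h ⊢
    rwa [QuadraticMap.polar_comm]
  rw [← LinearMap.BilinForm.orthogonal_orthogonal (quad_nondegenerate S) hrefl (Submodule.span F₀ (Set.range d))]
  refine (LinearMap.BilinForm.mem_orthogonal_iff).2 fun y hy => ?_
  have hy' := (mem_perpOf S (d := d)).1 hy
  refine Subtype.ext ?_
  change ((QuadraticMap.polar S.quad y l : F₀) : F) = 0
  rw [polar_coe S, hc (up y) (up_rv y) hy', mul_zero]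

/-- The core of the two following lemmas. -/
theorem exists_singular_ne_aux {k j : ℕ} (hk : k + 3 + j ≤ n) (d : Fin k → Fin n → F) (hd : ∀ i, Rv F₀ (d i))
    (hrad : ∀ X : Submodule F₀ (Fin n → F₀), (∀ x ∈ X, up x ∈ Submodule.span F (Set.range d) ∧
      ∀ i, f (up x) (d i) = 0) → Module.finrank F₀ X ≤ j)
    {l : Fin n → F} (hl : Rv F₀ l) (hi : l ∉ Submodule.span F (Set.range d)) :
    ∃ p, Rv F₀ p ∧ f p p = 0 ∧ (∀ i, f p (d i) = 0) ∧ f p l ≠ 0 := by
  choose d' hd' using fun i => exists_down (hd i)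
  obtain ⟨z, hz, hzd, hzl⟩ := exists_orth_ne S d hd hl hi
  by_cases hzz : f z z = 0
  · exact ⟨z, hz, hzz, hzd, hzl⟩
  obtain ⟨z', rfl⟩ := exists_down hz
  have hdle : Module.finrank F₀ (Submodule.span F₀ (Set.range d')) ≤ k := by
    have := finrank_range_le_card (R := F₀) d'
    rwa [Set.finrank, Fintype.card_fin] at this
  have hzd' : ∀ i, f (up z') (up (d' i)) = 0 := fun i => by rw [hd']; exact hzd i
  have hup : ∀ x ∈ Submodule.span F₀ (Set.range d'), up x ∈ Submodule.span F (Set.range d) := fun x hx => by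
    induction hx using Submodule.span_induction with
    | mem y hy => obtain ⟨i, rfl⟩ := hy; rw [hd']; exact Submodule.subset_span ⟨i, rfl⟩
    | zero => rw [up_zero]; exact Submodule.zero_mem _
    | add y z _ _ hy hz => rw [up_add]; exact Submodule.add_mem _ hy hz
    | smul r y _ hy => rw [up_smul]; exact Submodule.smul_mem _ _ hy
  set d₁ : Fin (k + 1) → Fin n → F₀ := Fin.cons z' d' with hd₁
  have hX := le_finrank_perpOf S d₁
  obtain ⟨a, ha, hqa⟩ : ∃ a ∈ S.perpOf d₁, S.quad a ≠ 0 := by
    by_contra h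
    push Not at h
    have hle : S.perpOf d₁ ≤ Submodule.span F₀ (Set.range d') := fun x hx =>
      mem_span_of_aniso S hzz hzd' (by
        rw [S.symm (up_rv _) (up_rv _)]; exact (mem_perpOf S).1 hx 0) (perpOf_le_span S d₁ h hx)
    have h1 := hrad _ fun x hx => ⟨hup _ (hle hx), fun i => by
      have := (mem_perpOf S).1 hx i.succ
      rwa [show d₁ i.succ = d' i from rfl, hd'] at this⟩
    omega
  have ha' := (mem_perpOf S).1 ha
  have haz : f (up a) (up z') = 0 := ha' 0
  have haa : f (up a) (up a) ≠ 0 := fun h => hqa (Subtype.ext (by rw [quad_coe S]; exact h))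
  set d₂ : Fin (k + 2) → Fin n → F₀ := Fin.cons a d₁ with hd₂
  have hY := le_finrank_perpOf S d₂
  obtain ⟨b, hb, hqb⟩ : ∃ b ∈ S.perpOf d₂, S.quad b ≠ 0 := by
    by_contra h
    push Not at h
    have hle : S.perpOf d₂ ≤ Submodule.span F₀ (Set.range d') := fun x hx => by
      have hx' := (mem_perpOf S).1 hx
      exact mem_span_of_aniso S hzz hzd' (by rw [S.symm (up_rv _) (up_rv _)]; exact hx' (Fin.succ 0))
        (mem_span_of_aniso S haa ha' (by rw [S.symm (up_rv _) (up_rv _)]; exact hx' 0) (perpOf_le_span S d₂ h hx))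
    have h1 := hrad _ fun x hx => ⟨hup _ (hle hx), fun i => by
      have := (mem_perpOf S).1 hx i.succ.succ
      rwa [show d₂ i.succ.succ = d' i from rfl, hd'] at this⟩
    omega
  have hb' := (mem_perpOf S).1 hb
  have hba : f (up b) (up a) = 0 := hb' 0
  have hbz : f (up b) (up z') = 0 := hb' (Fin.succ 0)
  haveI := Fintype.ofFinite F₀
  obtain ⟨x, y, hxy⟩ := CfsgLib.Orth.exists_binary (two_ne_zero' S) hqa hqb (- S.quad z')
  have hxy' := congrArg Subtype.val hxy
  push_cast at hxy'
  rw [quad_coe S, quad_coe S, quad_coe S] at hxy'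
  have key : ∀ x y : F₀, (x : F) * x * f (up a) (up a) + (y : F) * y * f (up b) (up b) = - f (up z') (up z') →
      Rv F₀ ((x : F) • up a + (y : F) • up b + up z') ∧
      f ((x : F) • up a + (y : F) • up b + up z') ((x : F) • up a + (y : F) • up b + up z') = 0 ∧
      ∀ i, f ((x : F) • up a + (y : F) • up b + up z') (d i) = 0 := by
    intro x y hxy
    refine ⟨((( up_rv a).smul x.2).add ((up_rv b).smul y.2)).add (up_rv z'), ?_, fun i => ?_⟩
    · simp only [Unit.add_left S.unit, Unit.add_right S.unit, Unit.smul_left S.unit, S.smul_right' x.2,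
        S.smul_right' y.2, haz, hbz, hba, S.symm (up_rv a) (up_rv b), S.symm (up_rv z') (up_rv a),
        S.symm (up_rv z') (up_rv b)]
      linear_combination hxy
    · have e1 : f (up a) (up (d' i)) = 0 := ha' i.succ
      have e2 : f (up b) (up (d' i)) = 0 := hb' i.succ.succ
      rw [hd'] at e1 e2
      simp [Unit.add_left S.unit, Unit.smul_left S.unit, e1, e2, hzd]
  obtain ⟨k1, k2, k3⟩ := key x y (by linear_combination hxy')
  obtain ⟨m1, m2, m3⟩ := key (-x) (-y) (by push_cast; linear_combination hxy')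
  by_cases hp : f ((x : F) • up a + (y : F) • up b + up z') l = 0
  · refine ⟨_, m1, m2, m3, fun hm => hzl (mul_left_cancel₀ S.two ?_)⟩
    simp only [Unit.add_left S.unit, Unit.smul_left S.unit, Subfield.coe_neg] at hp hm
    linear_combination hp + hm
  · exact ⟨_, k1, k2, k3, hp⟩

/-- A singular rational vector orthogonal to given ones but not to an independent one. -/
theorem exists_singular_ne {k : ℕ} (hk : 2 * k + 3 ≤ n) (d : Fin k → Fin n → F) (hd : ∀ i, Rv F₀ (d i))
    {l : Fin n → F} (hl : Rv F₀ l) (hi : l ∉ Submodule.span F (Set.range d)) :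
    ∃ p, Rv F₀ p ∧ f p p = 0 ∧ (∀ i, f p (d i) = 0) ∧ f p l ≠ 0 := by
  refine exists_singular_ne_aux S (j := k) (by omega) d hd (fun X hX => ?_) hl hi
  choose d' hd' using fun i => exists_down (hd i)
  have hle : X ≤ Submodule.span F₀ (Set.range d') := fun x hx => by
    by_contra hn
    obtain ⟨z, hz, hzd, hzx⟩ := exists_orth_ne' S d' hn
    refine hzx ?_
    have hmem := (hX x hx).1
    obtain ⟨c, hc⟩ := (Submodule.mem_span_range_iff_exists_fun F).1 hmem
    rw [← hc, (Unit.sesq S.unit).sum_right]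
    refine Finset.sum_eq_zero fun i _ => ?_
    rw [Unit.smul_right S.unit, ← hd' i, hzd i, mul_zero]
  have h1 := Submodule.finrank_mono hle
  have h2 := finrank_range_le_card (R := F₀) d'
  rw [Set.finrank, Fintype.card_fin] at h2
  omega

/-- A singular rational vector orthogonal to given ones spanning a non-degenerate space, but not to another. -/
theorem exists_singular_ne_nd {k : ℕ} (hk : k + 3 ≤ n) (d : Fin k → Fin n → F) (hd : ∀ i, Rv F₀ (d i))
    (hnd : ∀ x ∈ Submodule.span F (Set.range d), (∀ i, f x (d i) = 0) → x = 0)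
    {l : Fin n → F} (hl : Rv F₀ l) (hi : l ∉ Submodule.span F (Set.range d)) :
    ∃ p, Rv F₀ p ∧ f p p = 0 ∧ (∀ i, f p (d i) = 0) ∧ f p l ≠ 0 := by
  refine exists_singular_ne_aux S (j := 0) (by omega) d hd (fun X hX => ?_) hl hi
  rw [show X = ⊥ from (Submodule.eq_bot_iff _).2 fun x hx =>
    up_injective ((hnd _ (hX x hx).1 (hX x hx).2).trans up_zero.symm), finrank_bot]

omit S in
/-- A matrix mapping rational vectors to multiples of rational vectors is rational up to a scalar. -/
theorem mem_ratScalar_of_lines' (g : GL (Fin n) F) (hn : 0 < n)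
    (h : ∀ a, Rv F₀ a → ∃ c : F, ∃ b, Rv F₀ b ∧ (g : Matrix (Fin n) (Fin n) F) *ᵥ a = c • b) :
    g ∈ ratScalar F₀ (Fin n) := by
  let i₀ : Fin n := ⟨0, hn⟩
  obtain ⟨c, r₀, hr₀, he₀⟩ := h _ (Rv.single (F₀ := F₀) i₀)
  have hne : ∀ i : Fin n, (g : Matrix (Fin n) (Fin n) F) *ᵥ Pi.single i 1 ≠ 0 := fun i =>
    gl_mulVec_ne_zero g (by simp)
  have hc0 : c ≠ 0 := fun h0 => hne i₀ (by rw [he₀, h0, zero_smul])
  have hcol : ∀ a i, c⁻¹ * (g : Matrix (Fin n) (Fin n) F) a i ∈ F₀ := by
    intro a i
    suffices H : Rv F₀ (c⁻¹ • ((g : Matrix (Fin n) (Fin n) F) *ᵥ Pi.single i 1)) by simpa using H a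
    rcases eq_or_ne i i₀ with rfl | hi
    · rwa [he₀, smul_smul, inv_mul_cancel₀ hc0, one_smul]
    obtain ⟨d, r, hr, hei⟩ := h _ (Rv.single (F₀ := F₀) i)
    obtain ⟨e, s, hs, hes⟩ := h _ ((Rv.single (F₀ := F₀) i₀).add (Rv.single i))
    rw [mulVec_add, he₀, hei] at hes
    have hd0 : d ≠ 0 := fun h0 => hne i (by rw [hei, h0, zero_smul])
    obtain ⟨k, l, hD⟩ : ∃ k l, r₀ k * r l - r₀ l * r k ≠ 0 := by
      by_contra hall
      push Not at hall
      obtain ⟨j, hj⟩ := Function.ne_iff.1 (show r ≠ 0 from fun h0 => hne i (by rw [hei, h0, smul_zero]))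
      have hrr : r₀ = (r₀ j / r j) • r := funext fun k => by
        rw [Pi.smul_apply, smul_eq_mul, div_mul_eq_mul_div, eq_div_iff (by simpa using hj)]
        linear_combination hall k j
      have h1 : (Pi.single i₀ (1 : F) : Fin n → F) = (c * (r₀ j / r j) / d) • Pi.single i 1 :=
        gl_mulVec_injective g (show (g : Matrix (Fin n) (Fin n) F) *ᵥ Pi.single i₀ 1 =
            (g : Matrix (Fin n) (Fin n) F) *ᵥ ((c * (r₀ j / r j) / d) • Pi.single i 1) by
          rw [mulVec_smul, he₀, hei, smul_smul, div_mul_cancel₀ _ hd0, mul_smul, ← hrr])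
      simpa [Ne.symm hi] using congrFun h1 i₀
    have e1 := congrFun hes k
    have e2 := congrFun hes l
    simp only [Pi.add_apply, Pi.smul_apply, smul_eq_mul] at e1 e2
    have hN : ∀ x y : Fin n → F, Rv F₀ x → Rv F₀ y → x k * y l - x l * y k ∈ F₀ := fun x y hx hy =>
      F₀.sub_mem (F₀.mul_mem (hx k) (hy l)) (F₀.mul_mem (hx l) (hy k))
    have h1 : c * (r₀ k * r l - r₀ l * r k) = e * (s k * r l - s l * r k) := by
      linear_combination r l * e1 - r k * e2
    have h2 : d * (r₀ k * r l - r₀ l * r k) = e * (r₀ k * s l - r₀ l * s k) := by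
      linear_combination r₀ k * e2 - r₀ l * e1
    have he0 : e ≠ 0 := fun h0 => mul_ne_zero hc0 hD (by rw [h1, h0, zero_mul])
    have hN1 : s k * r l - s l * r k ≠ 0 := fun h0 => mul_ne_zero hc0 hD (by rw [h1, h0, mul_zero])
    have h3 : c⁻¹ * d ∈ F₀ := by
      have h4 : c⁻¹ * d = (r₀ k * s l - r₀ l * s k) / (s k * r l - s l * r k) := by
        rw [eq_div_iff hN1]
        field_simp
        refine mul_left_cancel₀ he0 ?_
        linear_combination c * h2 - d * h1
      rw [h4]
      exact F₀.div_mem (hN _ _ hr₀ hs) (hN _ _ hs hr)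
    rw [hei, smul_smul]
    exact hr.smul h3
  let W : Matrix (Fin n) (Fin n) F₀ := fun a i => ⟨_, hcol a i⟩
  have hW : W.map (F₀.subtype : F₀ →+* F) = c⁻¹ • (g : Matrix (Fin n) (Fin n) F) := rfl
  have hdet : W.det ≠ 0 := by
    intro h0
    have h1 : (c⁻¹ • (g : Matrix (Fin n) (Fin n) F)).det = 0 := by
      rw [← hW, ← RingHom.mapMatrix_apply, ← RingHom.map_det, h0, map_zero]
    rw [det_smul] at h1
    exact mul_ne_zero (pow_ne_zero _ (inv_ne_zero hc0))
      ((Matrix.isUnit_iff_isUnit_det _).1 g.isUnit).ne_zero h1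
  let z : GL (Fin n) F :=
    Units.map (Matrix.scalar (Fin n) : F →+* Matrix (Fin n) (Fin n) F).toMonoidHom (Units.mk0 c⁻¹ (inv_ne_zero hc0))
  have hz : z ∈ Cfsg.Geo.scalars (Fin n) F := ⟨_, rfl⟩
  have hgz : g = Matrix.GeneralLinearGroup.map (F₀.subtype : F₀ →+* F)
      (Matrix.GeneralLinearGroup.mkOfDetNeZero W hdet) * z⁻¹ := by
    rw [eq_mul_inv_iff_mul_eq]
    apply Units.ext
    ext a i
    simp [z, W, Matrix.mul_diagonal, mul_comm]
    rfl
  rw [hgz]
  exact Subgroup.mul_mem_sup ⟨_, rfl⟩ ((Cfsg.Geo.scalars (Fin n) F).inv_mem hz)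

end CfsgLib.GeomClasses.UnitOrth
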