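import Cfsg.Agent.Lib.GeomClasses.UnitSubRoot
import Cfsg.Agent.Lib.GeomClasses.UnitOrthRat
import Cfsg.Agent.Lib.GeomClasses.UnitSymp
import Cfsg.Agent.Lib.Tech46.CoprimeGen

/-!
A transvection with irrational centre gives a new coefficient; maximality of unitary subfield groups.
-/

set_option autoImplicit false
set_option linter.unusedSectionVars false

namespace CfsgLib.GeomClasses.UnitSub

open Matrix CfsgLib.GeomClasses.SkewPair
open CfsgLib.GeomClasses.SympRoot (Rv Rat')

variable {n : ℕ} {F : Type*} [Field F] [Fintype F] {σ : F ≃+* F} {f : (Fin n → F) → (Fin n → F) → F}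
  {F₀ : Subfield F}

theorem ratio_mem (S : Setting σ f F₀) {r₀ r s : Fin n → F} (hr₀ : Rv F₀ r₀) (hr : Rv F₀ r) (hs : Rv F₀ s)
    (h0 : r₀ ∉ Submodule.span F ({r} : Set (Fin n → F))) (h1 : r ∉ Submodule.span F ({r₀} : Set (Fin n → F)))
    {c d e : F} (h : c • r₀ + d • r = e • s) : c⁻¹ * d ∈ F₀ := by
  have H := S.toIsSkewHerm
  by_cases hc : c = 0
  · rw [hc, _root_.inv_zero, zero_mul]; exact F₀.zero_mem
  obtain ⟨z, hz, -, hzr, -, hzr₀⟩ := exists_iso_ne S hr hr hr₀ (by simpa using h0)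
  obtain ⟨z', hz', -, hzr₀', -, hzr'⟩ := exists_iso_ne S hr₀ hr₀ hr (by simpa using h1)
  have e1 := congrArg (f z) h
  have e2 := congrArg (f z') h
  simp only [add_right H, smul_right H, hzr, hzr₀, hzr', hzr₀', mul_one, mul_zero, add_zero, zero_add] at e1 e2
  refine S.stable' ?_
  rw [map_mul, map_inv₀, e1, e2]
  have hσe : σ e ≠ 0 := fun h0 => hc (by simpa [h0] using e1)
  rw [show (σ e * f z s)⁻¹ * (σ e * f z' s) = f z' s / f z s by field_simp]
  exact F₀.div_mem (S.rat _ _ hz' hs) (S.rat _ _ hz hs)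

/-- A matrix mapping rational isotropic vectors to multiples of rational ones is rational up to a scalar. -/
theorem mem_ratScalar_of_iso_lines (S : Setting σ f F₀) (g : GL (Fin n) F)
    (h : ∀ a, Rv F₀ a → f a a = 0 → ∃ c : F, ∃ b, Rv F₀ b ∧ (g : Matrix (Fin n) (Fin n) F) *ᵥ a = c • b) :
    g ∈ SympRoot.ratScalar F₀ (Fin n) := by
  have H := S.toIsSkewHerm
  have := S.six
  obtain ⟨a, ha, haa, -, hn⟩ := exists_avoid S (fun _ => 0) (fun _ => 0) (fun _ => SympRoot.Rv.zero)
    (fun _ => SympRoot.Rv.zero)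
  have ha0 : a ≠ 0 := fun h0 => hn (by rw [h0]; exact Submodule.zero_mem _)
  obtain ⟨c, r₀, hr₀, hga⟩ := h a ha haa
  have hgne : ∀ {x : Fin n → F}, x ≠ 0 → (g : Matrix (Fin n) (Fin n) F) *ᵥ x ≠ 0 := fun {x} hx =>
    gl_mulVec_ne_zero g hx
  have hc0 : c ≠ 0 := fun h0 => hgne ha0 (by rw [hga, h0, zero_smul])
  have hr₀0 : r₀ ≠ 0 := fun h0 => hgne ha0 (by rw [hga, h0, smul_zero])
  have hcommon : ∀ b, Rv F₀ b → f b b = 0 → Rv F₀ (c⁻¹ • ((g : Matrix (Fin n) (Fin n) F) *ᵥ b)) := by
    intro b hb hbb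
    by_cases hin : b ∈ Submodule.span F ({a} : Set (Fin n → F))
    · obtain ⟨k, rfl⟩ := Submodule.mem_span_singleton.1 hin
      obtain ⟨i, hi⟩ := Function.ne_iff.1 ha0
      have hk : k ∈ F₀ := by
        have := F₀.div_mem (hb i) (ha i)
        rwa [Pi.smul_apply, smul_eq_mul, mul_div_cancel_right₀ _ (by simpa using hi)] at this
      rw [mulVec_smul, hga, smul_comm k, inv_smul_smul₀ hc0]
      exact hr₀.smul hk
    obtain ⟨d, r, hr, hgb⟩ := h b hb hbb
    obtain ⟨t, htm, ht0, ht⟩ : ∃ t ∈ F₀, t ≠ 0 ∧ σ t * f a b + t * f b a = 0 := by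
      by_cases he : f a b = 0
      · exact ⟨1, F₀.one_mem, one_ne_zero, by rw [he, eq_zero_comm H he]; ring⟩
      · have hσ : σ (f a b) ≠ 0 := (RingEquiv.map_ne_zero_iff σ).2 he
        refine ⟨(σ (f a b))⁻¹, F₀.inv_mem (S.stable _ (S.rat _ _ ha hb)), inv_ne_zero hσ, ?_⟩
        rw [map_inv₀, S.involutive, S.skew a b, inv_mul_cancel₀ he, mul_neg, inv_mul_cancel₀ hσ, add_neg_cancel]
    obtain ⟨e, s, hs, hgs⟩ := h (a + t • b) (ha.add (hb.smul htm)) (by
      simp only [add_left H, add_right H, smul_left H, smul_right H, haa, hbb]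
      linear_combination ht)
    rw [mulVec_add, mulVec_smul, hga, hgb, smul_smul] at hgs
    have hd0 : d ≠ 0 := fun h0 => hin (by
      have : b = 0 := by_contra fun hne => hgne hne (by rw [hgb, h0, zero_smul])
      rw [this]; exact Submodule.zero_mem _)
    have h1 : r ∉ Submodule.span F ({r₀} : Set (Fin n → F)) := fun hr' => by
      obtain ⟨k, hk⟩ := Submodule.mem_span_singleton.1 hr'
      refine hin (Submodule.mem_span_singleton.2 ⟨d * k / c, gl_mulVec_injective g ?_⟩)
      show (g : Matrix (Fin n) (Fin n) F) *ᵥ ((d * k / c) • a) = (g : Matrix (Fin n) (Fin n) F) *ᵥ b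
      rw [mulVec_smul, hga, hgb, smul_smul, div_mul_cancel₀ _ hc0, mul_smul, hk]
    have h0 : r₀ ∉ Submodule.span F ({r} : Set (Fin n → F)) := fun hr' => by
      obtain ⟨k, hk⟩ := Submodule.mem_span_singleton.1 hr'
      have hk0 : k ≠ 0 := fun h0 => hr₀0 (by rw [← hk, h0, zero_smul])
      exact h1 (Submodule.mem_span_singleton.2 ⟨k⁻¹, by rw [← hk, inv_smul_smul₀ hk0]⟩)
    have := F₀.div_mem (ratio_mem S hr₀ hr hs h0 h1 hgs) htm
    rw [show c⁻¹ * (t * d) / t = c⁻¹ * d by field_simp] at this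
    rw [hgb, smul_smul]
    exact hr.smul this
  refine UnitOrth.mem_ratScalar_of_lines' g (by omega) fun x hx =>
    ⟨c, c⁻¹ • ((g : Matrix (Fin n) (Fin n) F) *ᵥ x), ?_, (smul_inv_smul₀ hc0 _).symm⟩
  obtain ⟨p, q, hp, hq, hpp, hqq, -, -, rfl⟩ :=
    exists_split S SympRoot.Rv.zero (zero_left H 0) hx (zero_left H x)
  rw [mulVec_add, smul_add]
  exact (hcommon p hp hpp).add (hcommon q hq hqq)

variable {M : Subgroup (GL (Fin n) F)} (O : Over σ f F₀ M) (hL : ∀ c ∈ longSet σ f F₀ M, c ∈ F₀)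
include O hL

/-- The centre of a transvection in `M` is not orthogonal to a rational isotropic vector. -/
theorem false_of_killed {v : Fin n → F} (hv : ∀ c : F, ∀ y, Rv F₀ y → v ≠ c • y) (hvv : f v v = 0)
    (h : formTv f v 1 ∈ M) {s : Fin n → F} (hs : Rv F₀ s) (hs0 : s ≠ 0) (hss : f s s = 0) (hvs : f v s = 0) :
    False := by
  have H := O.toIsSkewHerm
  have hsv := eq_zero_comm H hvs
  obtain ⟨z, hz, hzz, hsz, he0⟩ := exists_iso_pairing O.toSetting hs hs0 hss fun c => hv c s hs
  set e := f v z with he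
  have hh := O.root_mem s z 0 hs hz F₀.zero_mem hss hsz (by rw [map_zero, hzz, sub_zero])
  have hhv : (root f s z 0 : Matrix (Fin n) (Fin n) F) *ᵥ v = v + e • s := by
    rw [root_mulVec H hss hsz, hvs, ← he]; simp
  have h1 := O.tv_mem_conj hh hvv h
  rw [hhv, formTv_split H hss hvv hsv (map_one σ), one_mul, one_mul] at h1
  have hR := M.mul_mem (M.inv_mem h) h1
  rw [inv_mul_cancel_left] at hR
  clear h1 hhv hh
  set w := σ e • v with hw
  clear_value w
  have hσe : σ e ≠ 0 := (RingEquiv.map_ne_zero_iff σ).2 he0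
  have hsw : f s w = 0 := by rw [hw, smul_right H, hsv, mul_zero]
  have hws : f w s = 0 := eq_zero_comm H hsw
  have hww : f w w = 0 := by rw [hw, smul_left H, smul_right H, hvv, mul_zero, mul_zero]
  have hk : ∀ z', Rv F₀ z' → f z' z' = 0 → f s z' = 0 → f w z' ∈ F₀ := by
    intro z' hz' hzz' hsz'
    by_cases hin : z' ∈ Submodule.span F ({s} : Set (Fin n → F))
    · obtain ⟨m, rfl⟩ := Submodule.mem_span_singleton.1 hin
      rw [smul_right H, hws, mul_zero]
      exact F₀.zero_mem
    have hg := (O.mem_long (map_one σ) F₀.one_mem).2 z' hz' hzz'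
    have h2 := M.mul_mem (M.mul_mem hg hR) (M.inv_mem hg)
    rw [root_conj H (O.isometry _ hg) hss hsw, formTv_mulVec H hzz', formTv_mulVec H hzz', hsz', mul_zero,
      zero_smul, add_zero, one_mul] at h2
    have h3 := M.mul_mem (M.inv_mem hR) h2
    have h4 : f s (w + f w z' • z') = 0 := by rw [add_right H, smul_right H, hsw, hsz', mul_zero, add_zero]
    rw [root_inv H hss hsw, root_mul H hss (by rw [neg_right H, hsw, neg_zero]) h4, neg_add_cancel_left, hww,
      add_zero, neg_add_cancel, zero_add] at h3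
    exact O.short_mem hL (O.split ⟨hs, hz', hss, hzz', hsz', hs0, hin⟩ h3).2
  have hk' : ∀ y, Rv F₀ y → f s y = 0 → f w y ∈ F₀ := fun y hy hsy => by
    obtain ⟨p, q, hp, hq, hpp, hqq, hsp, hsq, rfl⟩ := exists_split O.toSetting hs hss hy hsy
    rw [add_right H]
    exact F₀.add_mem (hk p hp hpp hsp) (hk q hq hqq hsq)
  obtain ⟨p, hp, hpp, hps⟩ := exists_partner O.toSetting hs hs0
  have hsp : f s p = -1 := by rw [O.skew p s, hps, map_one]
  set μ := -f w p with hμ
  set a0 := w - μ • s with ha0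
  have hwa : w = a0 + μ • s := by rw [ha0, sub_add_cancel]
  have ha0p : f a0 p = 0 := by rw [ha0, sub_left O.toSetting, smul_left H, hsp, hμ]; ring
  have ha0R : Rv F₀ a0 := by
    refine rv_of_values O.toSetting fun y hy => ?_
    have hy' : f s (y + σ (f s y) • p) = 0 := by rw [add_right H, smul_right H, hsp, O.involutive]; ring
    have := hk' _ (hy.add (hp.smul (O.stable _ (O.rat _ _ hs hy)))) hy'
    rw [hwa, add_left H, smul_left H, hy', mul_zero, add_zero, add_right H, smul_right H, ha0p, mul_zero,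
      add_zero] at this
    exact this
  have hsa0 : f s a0 = 0 := by rw [ha0, sub_right O.toSetting, smul_right H, hss, hsw, mul_zero, sub_zero]
  have ha0s := eq_zero_comm H hsa0
  have ha00 : f a0 a0 = 0 := by
    rw [ha0, sub_left O.toSetting, sub_right O.toSetting, sub_right O.toSetting]
    simp only [smul_left H, smul_right H, hws, hsw, hww, hss]
    ring
  have hvw : v = (σ e)⁻¹ • w := by rw [hw, inv_smul_smul₀ hσe]
  have hind : a0 ∉ Submodule.span F ({s} : Set (Fin n → F)) := fun hin => by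
    obtain ⟨m, hm⟩ := Submodule.mem_span_singleton.1 hin
    exact hv ((σ e)⁻¹ * (m + μ)) s hs (by rw [mul_smul, add_smul, hm, ← hwa, ← hvw])
  have hμ' : μ ∉ F₀ := fun hm => hv (σ e)⁻¹ w (hwa ▸ ha0R.add (hs.smul hm)) hvw
  have hNF : e * σ e ∈ F₀ := by
    have := hk z hz hzz hsz
    rwa [hw, smul_left H, ← he, mul_comm] at this
  have hN0 : e * σ e ≠ 0 := mul_ne_zero he0 hσe
  have hfix : σ (e * σ e)⁻¹ = (e * σ e)⁻¹ := by rw [map_inv₀, map_mul, O.involutive, mul_comm]
  have h5 : formTv f w (e * σ e)⁻¹ ∈ M := by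
    rw [hw, SkewPair.formTv_smul H hvv, O.involutive, mul_comm (σ e) e, mul_inv_cancel₀ hN0]
    exact h
  rw [hwa, formTv_split H hss ha00 hsa0 hfix] at h5
  have h6 := M.mul_mem (M.inv_mem ((O.mem_long hfix (F₀.inv_mem hNF)).2 a0 ha0R ha00)) h5
  rw [inv_mul_cancel_left] at h6
  have h7 := F₀.mul_mem hNF (O.short_mem hL (O.split ⟨hs, ha0R, hss, ha00, hsa0, hs0, hind⟩ h6).2)
  rw [mul_inv_cancel_left₀ hN0] at h7
  exact hμ' (O.stable' h7)

theorem coeff_of_tv {a b u : Fin n → F} (hp : IsPair f F₀ a b) (hu : Rv F₀ u) (huu : f u u = 0)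
    (hau : f a u = 0) (hbu : f b u = 0) (hi : u ∉ Submodule.span F ({a, b} : Set (Fin n → F))) {p q : F}
    (h : formTv f (u + (p • a + q • b)) 1 ∈ M) : q ∈ F₀ := by
  have H := O.toIsSkewHerm
  have hua := eq_zero_comm H hau
  have hub := eq_zero_comm H hbu
  have hab := hp.orth
  have hba := eq_zero_comm H hab
  obtain ⟨z, hz, hzz, hza, hzb, hzu⟩ := exists_iso_ne O.toSetting hp.rv_left hp.rv_right hu hi
  set D := p • a + q • b with hD
  have hDa : f D a = 0 := by rw [hD, add_left H, smul_left H, smul_left H, hp.iso_left, hba]; ring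
  have hDu : f D u = 0 := by rw [hD, add_left H, smul_left H, smul_left H, hau, hbu]; ring
  have hDz : f D z = 0 := by
    rw [hD, add_left H, smul_left H, smul_left H, eq_zero_comm H hza, eq_zero_comm H hzb]; ring
  have hDD : f D D = 0 := by
    rw [hD]
    simp only [add_left H, add_right H, smul_left H, smul_right H, hp.iso_left, hp.iso_right, hab, hba]
    ring
  have haD := eq_zero_comm H hDa
  have huD := eq_zero_comm H hDu
  have hGG : f (u + D) (u + D) = 0 := by rw [add_left H, add_right H u u D, add_right H D u D, huu, hDD, hDu, huD]; ring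
  have haG : f a (u + D) = 0 := by rw [add_right H, hau, haD, add_zero]
  have haz := eq_zero_comm H hza
  have hh := O.root_mem a z 0 hp.rv_left hz F₀.zero_mem hp.iso_left haz (by rw [map_zero, hzz, sub_zero])
  have h1 := O.tv_mem_conj hh hGG h
  have e : (root f a z 0 : Matrix (Fin n) (Fin n) F) *ᵥ (u + D) = u + D + (-1 : F) • a := by
    rw [root_mulVec H hp.iso_left haz, add_left H, hua, hDa, add_left H, hDz, O.skew z u, hzu, map_one]
    simp
  rw [e, formTv_split H hp.iso_left hGG haG (map_one σ), map_neg, map_one] at h1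
  have h2 := M.mul_mem (M.inv_mem h) h1
  simp only [inv_mul_cancel_left, one_mul, neg_mul_neg] at h2
  have h3 := M.mul_mem h2 (O.root_mem a u (-1) hp.rv_left hu (F₀.neg_mem F₀.one_mem) hp.iso_left hau
    (by rw [map_neg, map_one, huu, sub_zero]))
  rw [root_mul H hp.iso_left (by rw [smul_right H, haG, mul_zero]) hau, smul_right H, add_right H, huu, huD,
    show (-1 : F) • (u + D) + u = (-q) • b + (-p) • a by rw [hD]; module,
    show (1 : F) + -1 + σ (-1) * (0 + 0) = 0 by ring] at h3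
  have h4 : root f a ((-q) • b + (-p) • a) 0 = root f a ((-q) • b) (-p + σ (-p)) := by
    have e1 : root f a ((-q) • b) 0 * root f a ((-p) • a) 0 = root f a ((-q) • b + (-p) • a) 0 := by
      rw [root_mul H hp.iso_left (by rw [smul_right H, hab, mul_zero]) (by rw [smul_right H, hp.iso_left, mul_zero]),
        smul_left H, smul_right H, hab, mul_zero, mul_zero, add_zero, add_zero]
    rw [← e1, root_smul_self H hp.iso_left, ← root_zero H hp.iso_left, root_mul H hp.iso_left
      (by rw [smul_right H, hab, mul_zero]) (zero_right H a), add_zero, zero_add, zero_left H, add_zero]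
  rw [h4] at h3
  simpa using F₀.neg_mem (O.short_mem hL (O.split hp h3).2)

/-- No transvection in `M` has centre pairing non-trivially with all rational isotropic vectors. -/
theorem false_of_injective {v : Fin n → F} (hvv : f v v = 0) (h : formTv f v 1 ∈ M)
    (hinj : ∀ s, Rv F₀ s → f s s = 0 → f s v = 0 → s = 0) : False := by
  classical
  have H := O.toIsSkewHerm
  obtain ⟨a, b, hp⟩ := O.exists_pair
  have hab := hp.orth
  have hba := eq_zero_comm H hab
  have haa := hp.iso_left
  have hbb := hp.iso_right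
  have hav : f a v ≠ 0 := fun h0 => hp.ne_zero (hinj a hp.rv_left haa h0)
  have hbv : f b v ≠ 0 := fun h0 => (hp.symm O).ne_zero (hinj b hp.rv_right hbb h0)
  have hva := ne_zero_comm H hav
  have hvb := ne_zero_comm H hbv
  let lin : (Fin n → F) → ((Fin n → F) →ₗ[F] F) := fun x =>
    { toFun := fun y => f y x
      map_add' := fun y z => add_left H y z x
      map_smul' := fun c y => smul_left H c y x }
  -- vectors orthogonal to the fixed space
  have hperp : ∀ x, (∀ y, f y a = 0 → f y b = 0 → f y v = 0 → f y x = 0) →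
      ∃ α β γ : F, x = α • a + β • b + γ • v := by
    intro x hx
    let L : Fin 3 → ((Fin n → F) →ₗ[F] F) := ![lin a, lin b, lin v]
    have hmem : lin x ∈ Submodule.span F (Set.range L) := mem_span_of_iInf_ker_le_ker (by
      intro y hy
      rw [Submodule.mem_iInf] at hy
      exact hx y (hy 0) (hy 1) (hy 2))
    obtain ⟨c, hc⟩ := (Submodule.mem_span_range_iff_exists_fun F).1 hmem
    refine ⟨σ (c 0), σ (c 1), σ (c 2), sub_eq_zero.1 ?_⟩
    by_contra hne
    obtain ⟨y, hy⟩ := O.nondegenerate _ hne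
    apply hy
    refine eq_zero_comm H ?_
    have e := LinearMap.congr_fun hc y
    rw [Fin.sum_univ_three] at e
    simp only [L, lin, Matrix.cons_val_zero, Matrix.cons_val_one, Matrix.cons_val, LinearMap.add_apply,
      LinearMap.smul_apply, LinearMap.coe_mk, AddHom.coe_mk, smul_eq_mul] at e
    rw [sub_right O.toSetting, add_right H, add_right H, smul_right H, smul_right H, smul_right H,
      O.involutive, O.involutive, O.involutive]
    linear_combination -e
  have hspan2 : ∀ {x : Fin n → F}, (∃ α β γ : F, x = α • a + β • b + γ • v) → f x a = 0 →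
      ∃ α β : F, x = α • a + β • b := by
    rintro x ⟨α, β, γ, rfl⟩ hxa
    simp only [add_left H, smul_left H, haa, hba, mul_zero, add_zero, zero_add] at hxa
    exact ⟨α, β, by rw [(mul_eq_zero.1 hxa).resolve_right hva, zero_smul, add_zero]⟩
  let W : Subgroup (GL (Fin n) F) :=
    { carrier := {g | ∀ y, f y a = 0 → f y b = 0 → f y v = 0 → (g : Matrix (Fin n) (Fin n) F) *ᵥ y = y}
      one_mem' := fun y _ _ _ => by simp
      mul_mem' := fun {g k} hg hk y h1 h2 h3 => by rw [gl_mul_mulVec, hk y h1 h2 h3, hg y h1 h2 h3]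
      inv_mem' := fun {g} hg y h1 h2 h3 => by
        conv_lhs => rw [← hg y h1 h2 h3]
        rw [gl_inv_mulVec_mulVec] }
  set G := M ⊓ W with hG
  have himg : ∀ g ∈ G, ∀ x, ∃ α β γ : F,
      (g : Matrix (Fin n) (Fin n) F) *ᵥ x - x = α • a + β • b + γ • v := by
    intro g hg x
    refine hperp _ fun y h1 h2 h3 => ?_
    have := O.isometry g hg.1 y x
    rw [hg.2 y h1 h2 h3] at this
    rw [sub_right O.toSetting, this, sub_self]
  have himg' : ∀ g ∈ G, ∀ c d : F,
      ∃ α β γ : F, (g : Matrix (Fin n) (Fin n) F) *ᵥ (c • a + d • b) = α • a + β • b + γ • v := by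
    intro g hg c d
    obtain ⟨α, β, γ, e⟩ := himg g hg (c • a + d • b)
    exact ⟨c + α, d + β, γ, by rw [sub_eq_iff_eq_add.1 e]; module⟩
  have himga : ∀ g ∈ G, ∃ α β γ : F, (g : Matrix (Fin n) (Fin n) F) *ᵥ a = α • a + β • b + γ • v :=
    fun g hg => by simpa using himg' g hg 1 0
  have himgb : ∀ g ∈ G, ∃ α β γ : F, (g : Matrix (Fin n) (Fin n) F) *ᵥ b = α • a + β • b + γ • v :=
    fun g hg => by simpa using himg' g hg 0 1
  -- stabilizing the plane of `a` and `b`
  have hstab : ∀ g ∈ G, (∃ α β : F, (g : Matrix (Fin n) (Fin n) F) *ᵥ a = α • a + β • b) →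
      (∃ α β : F, (g : Matrix (Fin n) (Fin n) F) *ᵥ b = α • a + β • b) →
      (g : Matrix (Fin n) (Fin n) F) *ᵥ a = a ∧ (g : Matrix (Fin n) (Fin n) F) *ᵥ b = b := by
    rintro g hg ⟨α, β, hga⟩ ⟨γ, δ, hgb⟩
    have hdet : α * δ - β * γ ≠ 0 := by
      intro h0
      have h1 : (g : Matrix (Fin n) (Fin n) F) *ᵥ (δ • a - β • b) = 0 := by
        rw [mulVec_sub, mulVec_smul, mulVec_smul, hga, hgb,
          show δ • (α • a + β • b) - β • (γ • a + δ • b) = (α * δ - β * γ) • a by module, h0, zero_smul]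
      have h2 : (g : Matrix (Fin n) (Fin n) F) *ᵥ (γ • a - α • b) = 0 := by
        rw [mulVec_sub, mulVec_smul, mulVec_smul, hga, hgb,
          show γ • (α • a + β • b) - α • (γ • a + δ • b) = (-(α * δ - β * γ)) • b by module, h0, neg_zero, zero_smul]
      have hzero : ∀ x y : F, (g : Matrix (Fin n) (Fin n) F) *ᵥ (x • a - y • b) = 0 → y = 0 := by
        intro x y h3
        have h4 : x • a - y • b = 0 := gl_mulVec_injective g (by simpa using h3)
        by_contra hy
        exact hp.indep (Submodule.mem_span_singleton.2 ⟨y⁻¹ * x, by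
          rw [mul_smul, sub_eq_zero.1 h4, inv_smul_smul₀ hy]⟩)
      have := gl_mulVec_ne_zero g hp.ne_zero
      rw [hga, hzero _ _ h1, hzero _ _ h2, zero_smul, zero_smul, add_zero] at this
      exact this rfl
    have hrat : ∀ u, Rv F₀ u → f u u = 0 → f a u = 0 → f b u = 0 →
        u ∉ Submodule.span F ({a, b} : Set (Fin n → F)) →
        Rv F₀ ((g : Matrix (Fin n) (Fin n) F) *ᵥ u - u) := by
      intro u hu huu hau hbu hi
      have hua := eq_zero_comm H hau
      have hub := eq_zero_comm H hbu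
      have e1 := O.isometry g hg.1 u a
      have e2 := O.isometry g hg.1 u b
      rw [hga, hua, add_right H, smul_right H, smul_right H] at e1
      rw [hgb, hub, add_right H, smul_right H, smul_right H] at e2
      have hσdet : σ (α * δ - β * γ) ≠ 0 := (RingEquiv.map_ne_zero_iff σ).2 hdet
      have h3 : f ((g : Matrix (Fin n) (Fin n) F) *ᵥ u) a = 0 := by
        refine (mul_eq_zero.1 ?_).resolve_left hσdet
        rw [map_sub, map_mul, map_mul]
        linear_combination σ δ * e1 - σ β * e2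
      obtain ⟨p, q, hD⟩ := hspan2 (himg g hg u) (by rw [sub_left O.toSetting, h3, hua, sub_zero])
      have hgu : (g : Matrix (Fin n) (Fin n) F) *ᵥ u = u + (p • a + q • b) := by rw [← hD, add_sub_cancel]
      have hT := O.tv_mem_conj hg.1 huu ((O.mem_long (map_one σ) F₀.one_mem).2 u hu huu)
      rw [hgu] at hT
      have hq := coeff_of_tv O hL hp hu huu hau hbu hi hT
      rw [add_comm (p • a)] at hT
      have hp' := coeff_of_tv O hL (hp.symm O) hu huu hbu hau (by rwa [Set.pair_comm]) hT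
      rw [hD]
      exact (hp.rv_left.smul hp').add (hp.rv_right.smul hq)
    obtain ⟨u, hu, huu, hau, hbu, hui⟩ := O.exists_third hp.rv_left hp.rv_right
    have hu' : Rv F₀ (u + a) := hu.add hp.rv_left
    set u' := u + a with hu'def
    have huu' : f u' u' = 0 := by
      rw [hu'def, add_left H, add_right H, add_right H, huu, hau, eq_zero_comm H hau, haa]; ring
    have hu'i : u' ∉ Submodule.span F ({a, b} : Set (Fin n → F)) := fun h => hui
      ((Submodule.add_mem_iff_left _ (Submodule.subset_span (by simp))).1 h)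
    have hu'u : u' ∉ Submodule.span F ({u} : Set (Fin n → F)) := fun h => by
      have ha' := (Submodule.add_mem_iff_right _ (Submodule.mem_span_singleton_self u)).1 h
      obtain ⟨k, hk⟩ := Submodule.mem_span_singleton.1 ha'
      have hk0 : k ≠ 0 := fun h0 => hp.ne_zero (by rw [← hk, h0, zero_smul])
      exact hui (Submodule.mem_span_pair.2 ⟨k⁻¹, 0, by rw [← hk, inv_smul_smul₀ hk0, zero_smul, add_zero]⟩)
    have hau' : f a u' = 0 := by rw [hu'def, add_right H, hau, haa, add_zero]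
    have hbu' : f b u' = 0 := by rw [hu'def, add_right H, hbu, hba, add_zero]
    have hu'u0 : f u' u = 0 := by rw [hu'def, add_left H, huu, hau, add_zero]
    have hu0 : u ≠ 0 := fun h0 => hui (by rw [h0]; exact Submodule.zero_mem _)
    have hu'0 : u' ≠ 0 := fun h0 => hu'i (by rw [h0]; exact Submodule.zero_mem _)
    have key : ∀ c : Fin n → F, (∀ x, f x a = 0 → f x b = 0 → ∃ lam : F,
        f (x - lam • c) a = 0 ∧ f (x - lam • c) b = 0 ∧ f (x - lam • c) v = 0) → f c v ≠ 0 →
        (g : Matrix (Fin n) (Fin n) F) *ᵥ c = c := by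
      intro c hc hcv
      by_contra hne
      obtain ⟨i, hi⟩ := Function.ne_iff.1 hne
      have hdiff : ∀ x, Rv F₀ x → f x x = 0 → f a x = 0 → f b x = 0 →
          x ∉ Submodule.span F ({a, b} : Set (Fin n → F)) →
          f x v / f c v * (((g : Matrix (Fin n) (Fin n) F) *ᵥ c) i - c i) ∈ F₀ := by
        intro x hx hxx hax hbx hxi
        obtain ⟨lam, l1, l2, l3⟩ := hc x (eq_zero_comm H hax) (eq_zero_comm H hbx)
        have hlam : lam = f x v / f c v := by
          rw [eq_div_iff hcv]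
          rw [sub_left O.toSetting, smul_left H, sub_eq_zero] at l3
          exact l3.symm
        have h4 := congrFun (hg.2 _ l1 l2 l3) i
        rw [mulVec_sub, mulVec_smul] at h4
        have h5 := hrat x hx hxx hax hbx hxi i
        simp only [Pi.sub_apply, Pi.smul_apply, smul_eq_mul] at h4 h5
        rw [← hlam]
        convert h5 using 1
        linear_combination -h4
      have hE : ((g : Matrix (Fin n) (Fin n) F) *ᵥ c) i - c i ≠ 0 := sub_ne_zero.2 hi
      have hκ := F₀.div_mem (hdiff u hu huu hau hbu hui) (hdiff u' hu' huu' hau' hbu' hu'i)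
      have hu'v : f u' v ≠ 0 := fun h0 => hu'0 (hinj u' hu' huu' h0)
      rw [mul_div_mul_right _ _ hE, div_div_div_cancel_right₀ hcv] at hκ
      have hz := hinj (u - (f u v / f u' v) • u') (hu.sub (hu'.smul hκ)) (by
          simp only [sub_left O.toSetting, sub_right O.toSetting, smul_left H, smul_right H, huu, huu', hu'u0,
            eq_zero_comm H hu'u0]
          ring) (by rw [sub_left O.toSetting, smul_left H, div_mul_cancel₀ _ hu'v, sub_self])
      have hκ0 : f u v / f u' v ≠ 0 := fun h0 => hu0 (by rw [sub_eq_zero.1 hz, h0, zero_smul])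
      exact hu'u (Submodule.mem_span_singleton.2 ⟨(f u v / f u' v)⁻¹,
        (congrArg ((f u v / f u' v)⁻¹ • ·) (sub_eq_zero.1 hz)).trans (inv_smul_smul₀ hκ0 u')⟩)
    refine ⟨key a (fun x h1 h2 => ⟨f x v / f a v, ?_, ?_, ?_⟩) hav,
      key b (fun x h1 h2 => ⟨f x v / f b v, ?_, ?_, ?_⟩) hbv⟩
    all_goals rw [sub_left O.toSetting, smul_left H]
    · rw [h1, haa, mul_zero, sub_zero]
    · rw [h2, hab, mul_zero, sub_zero]
    · rw [div_mul_cancel₀ _ hav, sub_self]
    · rw [h1, hba, mul_zero, sub_zero]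
    · rw [h2, hbb, mul_zero, sub_zero]
    · rw [div_mul_cancel₀ _ hbv, sub_self]
  let P : Subgroup G :=
    { carrier := {g | (g.1 : Matrix (Fin n) (Fin n) F) *ᵥ a = a ∧ (g.1 : Matrix (Fin n) (Fin n) F) *ᵥ b = b}
      one_mem' := ⟨by simp, by simp⟩
      mul_mem' := fun {g k} hg hk => ⟨by rw [Subgroup.coe_mul, gl_mul_mulVec, hk.1, hg.1],
        by rw [Subgroup.coe_mul, gl_mul_mulVec, hk.2, hg.2]⟩
      inv_mem' := fun {g} hg => ⟨by
          conv_lhs => rw [← hg.1]
          rw [Subgroup.coe_inv, gl_inv_mulVec_mulVec],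
        by
          conv_lhs => rw [← hg.2]
          rw [Subgroup.coe_inv, gl_inv_mulVec_mulVec]⟩ }
  have hPD : ∀ g ∈ P, ∀ x, ∃ α β : F, (g.1 : Matrix (Fin n) (Fin n) F) *ᵥ x = x + (α • a + β • b) := by
    intro g hg x
    have := O.isometry g.1 g.2.1 x a
    rw [hg.1] at this
    obtain ⟨α, β, e⟩ := hspan2 (himg g.1 g.2 x) (by rw [sub_left O.toSetting, this, sub_self])
    exact ⟨α, β, by rw [← e, add_sub_cancel]⟩
  have hPfix : ∀ g ∈ P, ∀ α β : F, (g.1 : Matrix (Fin n) (Fin n) F) *ᵥ (α • a + β • b) = α • a + β • b :=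
    fun g hg α β => by rw [mulVec_add, mulVec_smul, mulVec_smul, hg.1, hg.2]
  have hTG : ∀ w : Fin n → F, (w = a ∨ w = b) → ∀ c, c ∈ F₀ → σ c = c → formTv f w c ∈ G := by
    intro w hw c hc hc'
    refine ⟨(O.mem_long hc' hc).2 w (by rcases hw with rfl | rfl <;> [exact hp.rv_left; exact hp.rv_right])
      (by rcases hw with rfl | rfl <;> assumption), fun y h1 h2 _ => ?_⟩
    rcases hw with rfl | rfl
    · rw [formTv_mulVec H haa, h1, mul_zero, zero_smul, add_zero]
    · rw [formTv_mulVec H hbb, h2, mul_zero, zero_smul, add_zero]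
  let s₀ : G := ⟨formTv f a 1, hTG a (Or.inl rfl) 1 F₀.one_mem (map_one σ)⟩
  let t₀ : G := ⟨formTv f b 1, hTG b (Or.inr rfl) 1 F₀.one_mem (map_one σ)⟩
  have hs₀ : s₀ ∈ P := ⟨by simp [s₀, formTv_mulVec H haa, haa], by simp [s₀, formTv_mulVec H haa, hba]⟩
  have ht₀ : t₀ ∈ P := ⟨by simp [t₀, formTv_mulVec H hbb, hab], by simp [t₀, formTv_mulVec H hbb, hbb]⟩
  obtain ⟨p, hp'⟩ := CharP.exists F
  haveI := hp'
  haveI : Fact p.Prime := ⟨CharP.char_is_prime F p⟩
  have hPcomm : ∀ g ∈ P, ∀ k ∈ P, g * k = k * g := by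
    intro g hg k hk
    refine Subtype.ext (gl_ext fun x => ?_)
    obtain ⟨α, β, e1⟩ := hPD g hg x
    obtain ⟨α', β', e2⟩ := hPD k hk x
    rw [Subgroup.coe_mul, Subgroup.coe_mul, gl_mul_mulVec, gl_mul_mulVec, e1, e2,
      mulVec_add _ x (α' • a + β' • b), mulVec_add _ x (α • a + β • b), hPfix g hg, hPfix k hk, e1, e2]
    abel
  have hpow : ∀ g ∈ P, g ^ p = 1 := by
    intro g hg
    refine Subtype.ext (gl_ext fun x => ?_)
    obtain ⟨α, β, e1⟩ := hPD g hg x
    have hk : ∀ k : ℕ, ((g ^ k : G).1 : Matrix (Fin n) (Fin n) F) *ᵥ x = x + (k : F) • (α • a + β • b) := by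
      intro k
      induction k with
      | zero => simp
      | succ k ih =>
        rw [pow_succ', Subgroup.coe_mul, gl_mul_mulVec, ih, mulVec_add, mulVec_smul, hPfix g hg, e1, Nat.cast_succ,
          add_smul, one_smul]
        abel
    rw [hk p, CharP.cast_eq_zero, zero_smul, add_zero]
    simp
  have hPp : IsPGroup p P := fun g => ⟨1, Subtype.ext (by rw [pow_one, Subgroup.coe_pow]; exact hpow g.1 g.2)⟩
  have hN : ∀ g ∈ Subgroup.normalizer (P : Set G), g ∈ P := by
    intro g hg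
    have hperp' : ∀ w : Fin n → F, (w = a ∨ w = b) → ∀ hw : formTv f w 1 ∈ G, (⟨_, hw⟩ : G) ∈ P →
        f ((g.1 : Matrix (Fin n) (Fin n) F) *ᵥ w) a = 0 := by
      intro w hw hwG hwP
      have hww : f w w = 0 := by rcases hw with rfl | rfl <;> assumption
      have hw0 : w ≠ 0 := by
        rcases hw with rfl | rfl
        · exact hp.ne_zero
        · exact (hp.symm O).ne_zero
      have h1 := ((Subgroup.mem_normalizer_iff.1 hg ⟨_, hwG⟩).1 hwP).1
      rw [Subgroup.coe_mul, Subgroup.coe_mul, Subgroup.coe_inv, iso_tv_conj H (O.isometry g.1 g.2.1) hww,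
        formTv_mulVec H (by rw [O.isometry g.1 g.2.1, hww]), one_mul, add_eq_left, smul_eq_zero] at h1
      exact eq_zero_comm H (h1.resolve_right (gl_mulVec_ne_zero g.1 hw0))
    exact hstab g.1 g.2 (hspan2 (himga g.1 g.2) (hperp' a (Or.inl rfl) _ hs₀))
      (hspan2 (himgb g.1 g.2) (hperp' b (Or.inr rfl) _ ht₀))
  -- transfer
  have hidx : ¬ p ∣ P.index := by
    obtain ⟨m, hm⟩ := IsPGroup.iff_card.1 hPp
    rintro ⟨e, he⟩
    have h1 : p ^ (m + 1) ∣ Nat.card G := ⟨e, by rw [← P.card_mul_index, hm, he]; ring⟩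
    have h2 := (Sylow.prime_pow_dvd_card_normalizer h1 hm).trans (Subgroup.card_dvd_of_le hN)
    rw [hm] at h2
    exact absurd (Nat.le_of_dvd (pow_pos (Fact.out : p.Prime).pos m) h2)
      (not_le.2 (Nat.pow_lt_pow_right (Fact.out : p.Prime).one_lt m.lt_succ_self))
  have hNC : Subgroup.normalizer ((hPp.toSylow hidx : Sylow p G) : Set G) ≤
      Subgroup.centralizer ((hPp.toSylow hidx : Sylow p G) : Set G) := fun g hg k hk =>
    hPcomm k hk g (hN g hg)
  set K := (MonoidHom.transferSylow (hPp.toSylow hidx) hNC).ker with hKdef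
  have hnorm : K.Normal := MonoidHom.normal_ker _
  have hcompl : K.IsComplement' P := MonoidHom.ker_transferSylow_isComplement' (hPp.toSylow hidx) hNC
  have hKcard : ¬ p ∣ Nat.card K := by rwa [hcompl.index_eq_card] at hidx
  obtain ⟨pa, hpar, -, hpab, -, hpaa⟩ := exists_iso_ne O.toSetting hp.rv_right hp.rv_right hp.rv_left
    (by simpa using (hp.symm O).indep)
  obtain ⟨pb, hpbr, -, hpba, -, hpbb⟩ := exists_iso_ne O.toSetting hp.rv_left hp.rv_left hp.rv_right
    (by simpa using hp.indep)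
  have hcent : ∀ k : G, ∀ i j : ℕ, (i < p ∧ j = 1) ∨ (i = 1 ∧ j = 0) →
      k * (s₀ ^ i * t₀ ^ j) = s₀ ^ i * t₀ ^ j * k → k ∈ P := by
    intro k i j hij hk
    have hk' : ∀ x, (k.1 : Matrix (Fin n) (Fin n) F) *ᵥ (((i : F) * f x a) • a + ((j : F) * f x b) • b) =
        ((i : F) * f ((k.1 : Matrix (Fin n) (Fin n) F) *ᵥ x) a) • a +
          ((j : F) * f ((k.1 : Matrix (Fin n) (Fin n) F) *ᵥ x) b) • b := by
      intro x
      have hpw : ∀ w : Fin n → F, f w w = 0 → ∀ m : ℕ, formTv f w (1 : F) ^ m = formTv f w (m : F) := by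
        intro w hw m
        induction m with
        | zero =>
          refine gl_ext fun y => ?_
          simp [formTv_mulVec H hw]
        | succ m ih => rw [pow_succ, ih, formTv_mul H hw, Nat.cast_succ]
      have hval : ∀ y, ((s₀ ^ i * t₀ ^ j : G).1 : Matrix (Fin n) (Fin n) F) *ᵥ y =
          y + (((i : F) * f y a) • a + ((j : F) * f y b) • b) := by
        intro y
        rw [Subgroup.coe_mul, Subgroup.coe_pow, Subgroup.coe_pow, hpw a haa, hpw b hbb, gl_mul_mulVec,
          formTv_mulVec H hbb, formTv_mulVec H haa, add_left H, smul_left H, hba, mul_zero, add_zero]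
        abel
      have this : ((k.1 * (s₀ ^ i * t₀ ^ j : G).1 : GL (Fin n) F) : Matrix (Fin n) (Fin n) F) *ᵥ x =
          (((s₀ ^ i * t₀ ^ j : G).1 * k.1 : GL (Fin n) F) : Matrix (Fin n) (Fin n) F) *ᵥ x :=
        congrArg (fun t : G => (t.1 : Matrix (Fin n) (Fin n) F) *ᵥ x) hk
      rw [gl_mul_mulVec, gl_mul_mulVec, hval, hval, mulVec_add _ x, add_right_inj] at this
      exact this
    have hij' : (i : F) ≠ 0 ∨ (j : F) ≠ 0 := by
      rcases hij with ⟨-, rfl⟩ | ⟨rfl, -⟩
      · right; simp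
      · left; simp
    set g := k.1
    have ea := hk' pa
    have eb := hk' pb
    rw [hpaa, hpab, mul_zero, zero_smul, add_zero, mul_one, mulVec_smul] at ea
    rw [hpbb, hpba, mul_zero, zero_smul, zero_add, mul_one, mulVec_smul] at eb
    refine hstab g k.2 ?_ ?_
    · by_cases hi : (i : F) = 0
      · obtain ⟨α, β, γ, e⟩ := himga g k.2
        have hj := hij'.resolve_left (not_not.2 hi)
        rw [hi, zero_mul, zero_smul, zero_add] at eb
        have h1 := O.isometry g k.2.1 a b
        rw [hab] at h1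
        have h2 : f ((g : Matrix (Fin n) (Fin n) F) *ᵥ a) b = 0 := by
          have hgb : (g : Matrix (Fin n) (Fin n) F) *ᵥ b =
              f ((g : Matrix (Fin n) (Fin n) F) *ᵥ pb) b • b := by
            rw [mul_smul] at eb
            exact (smul_right_injective _ hj eb)
          have hne : f ((g : Matrix (Fin n) (Fin n) F) *ᵥ pb) b ≠ 0 := fun h0 =>
            gl_mulVec_ne_zero g (hp.symm O).ne_zero (by rw [hgb, h0, zero_smul])
          rw [hgb, smul_right H] at h1
          exact (mul_eq_zero.1 h1).resolve_left ((RingEquiv.map_ne_zero_iff σ).2 hne)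
        rw [e, add_left H, add_left H, smul_left H, smul_left H, smul_left H, hab, hbb, mul_zero, mul_zero,
          add_zero, zero_add] at h2
        exact ⟨α, β, by rw [e, (mul_eq_zero.1 h2).resolve_right hvb, zero_smul, add_zero]⟩
      · exact ⟨(i : F)⁻¹ * ((i : F) * f ((g : Matrix (Fin n) (Fin n) F) *ᵥ pa) a),
          (i : F)⁻¹ * ((j : F) * f ((g : Matrix (Fin n) (Fin n) F) *ᵥ pa) b),
          by rw [mul_smul (i : F)⁻¹, mul_smul (i : F)⁻¹, ← smul_add, ← ea, inv_smul_smul₀ hi]⟩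
    · by_cases hj : (j : F) = 0
      · obtain ⟨α, β, γ, e⟩ := himgb g k.2
        have hi := hij'.resolve_right (not_not.2 hj)
        rw [hj, zero_mul, zero_smul, add_zero] at ea
        have h1 := O.isometry g k.2.1 b a
        rw [hba] at h1
        have hga : (g : Matrix (Fin n) (Fin n) F) *ᵥ a = f ((g : Matrix (Fin n) (Fin n) F) *ᵥ pa) a • a := by
          rw [mul_smul] at ea
          exact (smul_right_injective _ hi ea)
        have hne : f ((g : Matrix (Fin n) (Fin n) F) *ᵥ pa) a ≠ 0 := fun h0 =>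
          gl_mulVec_ne_zero g hp.ne_zero (by rw [hga, h0, zero_smul])
        rw [hga, smul_right H] at h1
        exact hspan2 ⟨α, β, γ, e⟩ ((mul_eq_zero.1 h1).resolve_left ((RingEquiv.map_ne_zero_iff σ).2 hne))
      · exact ⟨(j : F)⁻¹ * ((i : F) * f ((g : Matrix (Fin n) (Fin n) F) *ᵥ pb) a),
          (j : F)⁻¹ * ((j : F) * f ((g : Matrix (Fin n) (Fin n) F) *ᵥ pb) b),
          by rw [mul_smul (j : F)⁻¹, mul_smul (j : F)⁻¹, ← smul_add, ← eb, inv_smul_smul₀ hj]⟩
  have hK : K ≤ ⊥ := Tech46.le_of_centralizers_le s₀ t₀ (hpow s₀ hs₀) (hpow t₀ ht₀) (hPcomm s₀ hs₀ t₀ ht₀) K ⊥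
    hKcard (by simp [Subgroup.normalizer_eq_top_iff.2 hnorm]) (by simp [Subgroup.normalizer_eq_top_iff.2 hnorm])
    fun i j hij k hk => by
      have hkP := hcent k i j hij (Subgroup.mem_centralizer_singleton_iff.1 hk.2)
      exact hcompl.disjoint.le_bot ⟨hk.1, hkP⟩
  rw [le_bot_iff.1 hK] at hcompl
  have htop : P = ⊤ := Subgroup.isComplement'_bot_left.1 hcompl
  have hvG : formTv f v 1 ∈ G := ⟨h, fun y _ _ h3 => by
    rw [formTv_mulVec H hvv, h3, mul_zero, zero_smul, add_zero]⟩
  have hvP : (⟨_, hvG⟩ : G) ∈ P := htop ▸ Subgroup.mem_top _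
  have h9 := hvP.1
  rw [formTv_mulVec H hvv, one_mul, add_eq_left, smul_eq_zero] at h9
  rcases h9 with h9 | h9
  · exact hav h9
  · exact hav (by rw [h9, zero_right H])

omit O hL

/-- Unitary subfield groups of odd prime degree are maximal. -/
theorem maximal_subfield (S : Setting σ f F₀) {r : ℕ} (hr : r.Prime) (hcard : Fintype.card F = Nat.card F₀ ^ r)
    {K : Subgroup (GL (Fin n) F)}
    (hKi : ∀ g ∈ K, ∀ x y, f ((g : Matrix (Fin n) (Fin n) F) *ᵥ x) ((g : Matrix (Fin n) (Fin n) F) *ᵥ y) = f x y)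
    (hroot : ∀ u w γ, f u u = 0 → f u w = 0 → σ γ = γ - f w w → root f u w γ ∈ K)
    (hgen : ∀ M : Subgroup (GL (Fin n) F), (∀ v, f v v = 0 → ∀ c, σ c = c → formTv f v c ∈ M) → K ≤ M) :
    Cfsg.Geo.IsMaximalIn K (SympRoot.ratScalar F₀ (Fin n) ⊓ K) := by
  classical
  have H := S.toIsSkewHerm
  have hT : ∀ v, f v v = 0 → ∀ c, σ c = c → formTv f v c ∈ K := fun v hv c hc => by
    rw [← root_zero H hv]
    exact hroot v 0 c hv (zero_right H v) (by rw [zero_left H, sub_zero, hc])
  have OK : Over σ f F₀ K :=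
    { S with
      isometry := hKi
      root_mem := fun u w γ _ _ _ huu huw h => hroot u w γ huu huw h }
  have hR : ∀ u w γ, Rv F₀ u → Rv F₀ w → γ ∈ F₀ → f u u = 0 → f u w = 0 → σ γ = γ - f w w →
      root f u w γ ∈ SympRoot.ratScalar F₀ (Fin n) ⊓ K := fun u w γ hu hw hγ huu huw h => by
    have hh := OK.rat_root hu hw hγ huu huw h
    exact ⟨mem_ratScalar_of_iso_lines S _ fun x hx _ => ⟨1, _, hh.2 x hx, (one_smul F _).symm⟩, hh.1⟩
  obtain ⟨ω, hω, hω'⟩ := S.moved
  obtain ⟨lam, hlam, hlam'⟩ : ∃ x : F, σ x = x ∧ x ∉ F₀ := by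
    by_contra hc
    push Not at hc
    have hall : ∀ x : F, x ∈ F₀ := fun x => by
      obtain ⟨a, b, ha, hb, he, -⟩ := OK.exists_parts hω' x
      rw [he]
      exact F₀.add_mem (hc a ha) (F₀.mul_mem hω (hc b hb))
    have h1 : Nat.card F₀ = Nat.card F := Nat.card_congr (Equiv.subtypeUnivEquiv hall)
    rw [h1, ← Nat.card_eq_fintype_card] at hcard
    have := Nat.pow_right_injective (Finite.one_lt_card (α := F))
      (show Nat.card F ^ 1 = Nat.card F ^ r by rw [pow_one]; exact hcard)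
    exact hr.one_lt.ne this
  refine ⟨lt_of_le_of_ne inf_le_right fun he => ?_, fun M hle hMK => ?_⟩
  · obtain ⟨a, b, hp⟩ := OK.exists_pair
    obtain ⟨p, hpr, -, hpa⟩ := exists_partner S hp.rv_left hp.ne_zero
    have hmem := hT a hp.iso_left lam hlam
    rw [← he] at hmem
    obtain ⟨k, hk0, hk⟩ := UnitSymp.ratScalar_rv hmem.1
    have e1 := hk b hp.rv_right
    have e2 := hk p hpr
    rw [formTv_mulVec H hp.iso_left, eq_zero_comm H hp.orth, mul_zero, zero_smul, add_zero] at e1
    rw [formTv_mulVec H hp.iso_left, hpa, mul_one, smul_add] at e2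
    obtain ⟨i, hi⟩ := Function.ne_iff.1 (hp.symm OK).ne_zero
    have hkF : k ∈ F₀ := by
      have := F₀.div_mem (e1 i) (hp.rv_right i)
      rwa [Pi.smul_apply, smul_eq_mul, mul_div_cancel_right₀ _ (by simpa using hi)] at this
    obtain ⟨j, hj⟩ := Function.ne_iff.1 hp.ne_zero
    have e3 := F₀.sub_mem (e2 j) (F₀.mul_mem hkF (hpr j))
    simp only [Pi.add_apply, Pi.smul_apply, smul_eq_mul, add_sub_cancel_left] at e3
    refine hlam' ?_
    have := F₀.div_mem (F₀.div_mem e3 hkF) (hp.rv_left j)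
    rwa [mul_div_cancel_left₀ _ hk0, mul_div_cancel_right₀ _ (by simpa using hj)] at this
  by_cases hall : M ≤ SympRoot.ratScalar F₀ (Fin n)
  · exact Or.inl (le_antisymm (le_inf hall hMK) hle)
  right
  refine le_antisymm hMK ?_
  have O : Over σ f F₀ M :=
    { S with
      isometry := fun g hg => hKi g (hMK hg)
      root_mem := fun u w γ hu hw hγ huu huw h => hle (hR u w γ hu hw hγ huu huw h) }
  obtain ⟨c, hc, hc'⟩ : ∃ c ∈ longSet σ f F₀ M, c ∉ F₀ := by
    by_contra hL
    push Not at hL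
    obtain ⟨g, hgM, hg⟩ := SetLike.not_le_iff_exists.1 hall
    obtain ⟨a, ha, haa, hirr⟩ : ∃ a, Rv F₀ a ∧ f a a = 0 ∧
        ∀ c : F, ∀ b, Rv F₀ b → (g : Matrix (Fin n) (Fin n) F) *ᵥ a ≠ c • b := by
      by_contra hno
      push Not at hno
      exact hg (mem_ratScalar_of_iso_lines S g hno)
    have hv := O.tv_mem_conj hgM haa ((O.mem_long (map_one σ) F₀.one_mem).2 a ha haa)
    have hvv : f ((g : Matrix (Fin n) (Fin n) F) *ᵥ a) ((g : Matrix (Fin n) (Fin n) F) *ᵥ a) = 0 := by
      rw [O.isometry g hgM, haa]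
    by_cases hk : ∃ s, Rv F₀ s ∧ s ≠ 0 ∧ f s s = 0 ∧ f ((g : Matrix (Fin n) (Fin n) F) *ᵥ a) s = 0
    · obtain ⟨s, hs, hs0, hss, hvs⟩ := hk
      exact false_of_killed O hL hirr hvv hv hs hs0 hss hvs
    · push Not at hk
      exact false_of_injective O hL hvv hv fun s hs hss h0 =>
        by_contra fun hne => hk s hs hne hss (eq_zero_comm H h0)
  obtain ⟨hfull, hshort⟩ := O.full_of_new hr hcard hc hc'
  exact hgen M fun v hv c hc => O.mem_of_full hfull hshort hv hc

end CfsgLib.GeomClasses.UnitSub
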