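import Cfsg.Agent.Lib.GeomClasses.RationalField
import Cfsg.Agent.Lib.GeomClasses.SkewPairMax
import Cfsg.Agent.Lib.GeomClasses.Transport
import Cfsg.Agent.Lib.GeomClasses.UnitCentres
import Cfsg.Agent.Lib.GeomClasses.UnitDecompMax
import Cfsg.Agent.Lib.GeomClasses.UnitGen
import Cfsg.Agent.Lib.GeomClasses.UnitOrthMax
import Cfsg.Agent.Lib.GeomClasses.UnitSubMax
import Cfsg.Agent.Lib.GeomClasses.UnitSymp
import Cfsg.Prelude.Def_GeometricClasses

/-!
Geometric maximal subgroups of special unitary groups in small dimension.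
-/

set_option autoImplicit false
set_option linter.unusedSectionVars false
set_option linter.style.haveILetI false
open Cfsg

namespace CfsgLib.GeomClasses.UnitClauses

open Matrix CfsgLib.GeomClasses

/-- Clause of the unitary maximality lists (general form of S5653). -/
theorem singular_subspace_maximal {F : Type*} [Field F] [Fintype F] (n q : ℕ) (hF : Fintype.card F = q ^ 2) (hn : 4 ≤ n) (W : Submodule F (Fin n → F)) (hW0 : W ≠ ⊥) (hW : Cfsg.Geo.IsTotallySingularFor (Cfsg.hermForm n F q) W) : Cfsg.Geo.IsMaximalIn (Cfsg.GU n F q ⊓ Cfsg.Geo.specialLinear (Fin n) F) (Cfsg.Geo.subspaceStabilizer W ⊓ (Cfsg.GU n F q ⊓ Cfsg.Geo.specialLinear (Fin n) F)) := by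
  have hf := UnitPow.isUnitaryForm_hermForm hF n
  set f := Cfsg.hermForm n F q with hfd
  set P := Unit.perp hf W with hP
  have hWP : W ≤ P := fun x hx => (Unit.mem_perp hf).2 fun w hw => hW x hx w hw
  have hiso : ∀ {g : GL (Fin n) F}, g ∈ Cfsg.GU n F q → Symp.IsIsometry f g := fun hg => UnitPow.mem_GU.1 hg
  have hroot : ∀ a b γ, f a a = 0 → f a b = 0 → γ + UnitPow.conj hF γ = - f b b → a ∈ W →
      UnitOrth.root f a b γ ∈ Cfsg.Geo.subspaceStabilizer W ⊓ (Cfsg.GU n F q ⊓ Cfsg.Geo.specialLinear (Fin n) F) :=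
    fun a b γ ha hab hγ haW => ⟨mem_subspaceStabilizer.2 fun x hx => by
      rw [UnitOrth.root_mulVec hf ha hab, hW x hx a haW, zero_smul, add_zero]
      exact W.add_mem hx (W.smul_mem _ haW),
      UnitPow.mem_GU.2 (UnitOrth.root_isometry hf ha hab hγ), UnitCentres.root_det hf⟩
  have hT : ∀ v, f v v = 0 → ∀ c, c + c ^ q = 0 → formTv f v c ∈ Cfsg.GU n F q ⊓ Cfsg.Geo.specialLinear (Fin n) F :=
    fun v hv c hc => ⟨UnitPow.mem_GU.2 fun x y => Unit.formTv_isometry hf hv hc x y, formTv_mem_specialLinear _ _ _⟩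
  obtain ⟨a₀, ha₀, ha₀0⟩ := Submodule.exists_mem_ne_zero_of_ne_bot hW0
  refine ⟨lt_of_le_of_ne inf_le_right fun heq => ?_, fun M hle hMle => ?_⟩
  · obtain ⟨x, hxx, hxP⟩ : ∃ x, f x x = 0 ∧ x ∉ P := by
      by_contra h
      push Not at h
      have htop := Unit.span_isotropic hf (by simp; omega) (W := P) fun v hv => h v hv
      obtain ⟨y, hy⟩ := (hf.nondegenerate a₀ ha₀0).1
      exact hy ((Unit.mem_perp hf).1 (htop ▸ Submodule.mem_top : y ∈ P) a₀ ha₀)
    obtain ⟨a, ha, hax⟩ : ∃ a ∈ W, f a x ≠ 0 := by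
      by_contra h
      push Not at h
      exact hxP ((Unit.mem_perp' hf).2 h)
    obtain ⟨c, hc0, hc⟩ := Unit.exists_skew hf.ne_refl hf.involutive
    have hg := hT x hxx c hc
    rw [← heq] at hg
    have h1 := mem_subspaceStabilizer.1 hg.1 a ha
    rw [Unit.formTv_mulVec hf hxx] at h1
    exact hxP (hWP ((W.smul_mem_iff (mul_ne_zero hc0 hax)).1 ((W.add_mem_iff_right ha).1 h1)))
  by_cases hall : M ≤ Cfsg.Geo.subspaceStabilizer W
  · exact Or.inl (le_antisymm (le_inf hall hMle) hle)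
  right
  refine le_antisymm hMle (UnitGen.specialUnitary_le_of_formTv_mem hF (by omega) (by omega) ?_)
  set C : Set (Fin n → F) := {v | ∀ c, c + c ^ q = 0 → formTv f v c ∈ M} with hC
  have hCinv : ∀ g ∈ M, ∀ v, f v v = 0 → v ∈ C → (g : Matrix (Fin n) (Fin n) F) *ᵥ v ∈ C := by
    intro g hg v hv hvC c hc
    have hgi := hiso (hMle hg).1
    have hgv : f ((g : Matrix (Fin n) (Fin n) F) *ᵥ v) ((g : Matrix (Fin n) (Fin n) F) *ᵥ v) = 0 := by
      rw [hgi, hv]
    have h1 := M.mul_mem (M.mul_mem hg (hvC c hc)) (M.inv_mem hg)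
    rwa [← UnitOrth.root_zero hf hv, UnitOrth.root_conj hf hgi hv (Unit.zero_right hf v), mulVec_zero,
      UnitOrth.root_zero hf hgv] at h1
  have hPC : ∀ v ∈ P, f v v = 0 → v ∈ C := fun v hv hvv c hc => hle
    ⟨mem_subspaceStabilizer.2 fun x hx => by
      rw [Unit.formTv_mulVec hf hvv, (Unit.mem_perp' hf).1 hv x hx, mul_zero, zero_smul, add_zero]
      exact hx, hT v hvv c hc⟩
  obtain ⟨w, hw, hww, hwP⟩ : ∃ w ∈ C, f w w = 0 ∧ w ∉ P := by
    by_contra h
    push Not at h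
    obtain ⟨g, hgM, hg⟩ := SetLike.not_le_iff_exists.1 hall
    apply hg
    set Z := Submodule.span F {v : Fin n → F | v ∈ P ∧ f v v = 0} with hZ
    have hgi := hiso (hMle hgM).1
    have hZle : Z.map (Matrix.toLin' (g : Matrix (Fin n) (Fin n) F)) ≤ Z := by
      rw [hZ, Submodule.map_span, Submodule.span_le]
      rintro _ ⟨v, ⟨hv, hvv⟩, rfl⟩
      rw [Matrix.toLin'_apply]
      have hgv : f ((g : Matrix (Fin n) (Fin n) F) *ᵥ v) ((g : Matrix (Fin n) (Fin n) F) *ᵥ v) = 0 := by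
        rw [hgi, hvv]
      exact Submodule.subset_span ⟨h _ (hCinv g hgM v hvv (hPC v hv hvv)) hgv, hgv⟩
    have hZeq := Submodule.eq_of_le_of_finrank_eq hZle (Submodule.equivMapOfInjective _ (by
      simpa [Function.Injective] using gl_mulVec_injective g) _).finrank_eq.symm
    have hZP : Z ≤ P := Submodule.span_le.2 fun v hv => hv.1
    rw [mem_subspaceStabilizer]
    intro u hu
    have huZ : u ∈ Z := Submodule.subset_span ⟨hWP hu, hW u hu u hu⟩
    set y := (g : Matrix (Fin n) (Fin n) F) *ᵥ u with hy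
    have hyZ : y ∈ Z := by
      rw [← hZeq]
      exact ⟨u, huZ, by rw [Matrix.toLin'_apply]⟩
    have hyo : ∀ z ∈ Z, f y z = 0 := by
      intro z hz
      rw [← hZeq] at hz
      obtain ⟨z', hz', rfl⟩ := hz
      rw [Matrix.toLin'_apply, hy, hgi]
      exact (Unit.mem_perp' hf).1 (hZP hz') u hu
    rw [← Unit.perp_perp hf W, Unit.mem_perp hf]
    intro p hp
    by_contra hne
    obtain ⟨a, ha⟩ := Unit.exists_isotropic_add hf (hyo y hyZ) (Unit.ne_zero_comm hf hne)
    have h1 := hyo _ (Submodule.subset_span ⟨P.add_mem hp (P.smul_mem a (hZP hyZ)), ha⟩ : p + a • y ∈ Z)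
    rw [Unit.add_right hf, Unit.smul_right hf, hyo y hyZ, mul_zero, add_zero] at h1
    exact hne h1
  intro v hv c hc
  by_cases hvP : v ∈ P
  · exact hPC v hvP hv c hc
  obtain ⟨a, ha, hwa, hva⟩ : ∃ a ∈ W, f w a ≠ 0 ∧ f v a ≠ 0 := by
    obtain ⟨a1, ha1, h1⟩ : ∃ a ∈ W, f w a ≠ 0 := by simpa [P, Unit.mem_perp] using hwP
    obtain ⟨a2, ha2, h2⟩ : ∃ a ∈ W, f v a ≠ 0 := by simpa [P, Unit.mem_perp] using hvP
    by_cases h3 : f v a1 = 0
    · by_cases h4 : f w a2 = 0
      · exact ⟨a1 + a2, W.add_mem ha1 ha2, by rwa [Unit.add_right hf, h4, add_zero],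
          by rwa [Unit.add_right hf, h3, zero_add]⟩
      · exact ⟨a2, ha2, h4, h2⟩
    · exact ⟨a1, ha1, h1, h3⟩
  set t := f v a / f w a with ht
  set w' := t • w with hw'
  have hw'a : f w' a = f v a := by rw [hw', Unit.smul_left hf, ht, div_mul_cancel₀ _ hwa]
  have hw'w' : f w' w' = 0 := by rw [hw', Unit.smul_left hf, Unit.smul_right hf, hww]; ring
  obtain ⟨γ, hab, hγ, hmove⟩ := UnitCentres.exists_root_move hf (hW a ha a ha) hw'w' hv hw'a.symm
    (hw'a ▸ hva)
  have hw'C : w' ∈ C := by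
    intro c hc
    rw [hw', Unit.formTv_smul hf t hww]
    refine hw _ ?_
    have h2 : UnitPow.conj hF (t * UnitPow.conj hF t) = t * UnitPow.conj hF t := by
      rw [map_mul, hf.involutive, mul_comm]
    show t * UnitPow.conj hF t * c + UnitPow.conj hF (t * UnitPow.conj hF t * c) = 0
    rw [map_mul, h2, UnitPow.conj_apply hF c, ← mul_add, hc, mul_zero]
  have h3 := hCinv _ (hle (hroot a _ γ (hW a ha a ha) hab hγ ha)) w' hw'w' hw'C
  rw [hmove] at h3
  exact h3 c hc

/-- Clause of the unitary maximality lists (form of S5654 including low dimensions). -/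
theorem nondegenerate_subspace_maximal_low {F : Type*} [Field F] [Fintype F] (n q : ℕ) (hF : Fintype.card F = q ^ 2) (hn : 4 ≤ n) (W : Submodule F (Fin n → F)) (hW0 : W ≠ ⊥) (hW : Cfsg.Geo.IsNondegenerateOn (Cfsg.hermForm n F q) W) (hdim : 2 * Module.finrank F W < n) (hn5 : 6 ≤ n ∨ Module.finrank F W ≤ 1) : Cfsg.Geo.IsMaximalIn (Cfsg.GU n F q ⊓ Cfsg.Geo.specialLinear (Fin n) F) (Cfsg.Geo.subspaceStabilizer W ⊓ (Cfsg.GU n F q ⊓ Cfsg.Geo.specialLinear (Fin n) F)) := by
  have hf := UnitPow.isUnitaryForm_hermForm hF n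
  set σ := UnitPow.conj hF with hσ
  set f := Cfsg.hermForm n F q with hfd
  set P := Unit.perp hf W with hP
  set I := Cfsg.GU n F q ⊓ Cfsg.Geo.specialLinear (Fin n) F with hI
  have hPn : Cfsg.Geo.IsNondegenerateOn f P := UnitCentres.perp_nondegenerate hf hW
  have hdP := Unit.finrank_perp hf W
  rw [Fintype.card_fin, ← hP] at hdP
  have hWP : ∀ x ∈ W, ∀ y ∈ P, f x y = 0 := fun x hx y hy => (Unit.mem_perp' hf).1 hy x hx
  have hdis := (Unit.isCompl_perp hf hW).disjoint
  have hdec : ∀ v, ∃ a ∈ W, ∃ b ∈ P, a + b = v := fun v =>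
    Submodule.mem_sup.1 ((Unit.isCompl_perp hf hW).sup_eq_top ▸ Submodule.mem_top)
  have hiso : ∀ {g : GL (Fin n) F}, g ∈ Cfsg.GU n F q → Symp.IsIsometry f g := fun hg => UnitPow.mem_GU.1 hg
  have hT : ∀ v, f v v = 0 → ∀ c, c + c ^ q = 0 → formTv f v c ∈ I :=
    fun v hv c hc => ⟨UnitPow.mem_GU.2 fun x y => Unit.formTv_isometry hf hv hc x y, formTv_mem_specialLinear _ _ _⟩
  have hrootI : ∀ a b γ, f a a = 0 → f a b = 0 → γ + σ γ = - f b b → UnitOrth.root f a b γ ∈ I :=
    fun a b γ ha hab hγ => ⟨UnitPow.mem_GU.2 (UnitOrth.root_isometry hf ha hab hγ), UnitCentres.root_det hf⟩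
  obtain ⟨c₀, hc₀0, hc₀⟩ := Unit.exists_skew hf.ne_refl hf.involutive
  refine ⟨lt_of_le_of_ne inf_le_right fun heq => ?_, fun M hle hMle => ?_⟩
  · obtain ⟨w₁, hw₁, hw₁0⟩ := Submodule.exists_mem_ne_zero_of_ne_bot hW0
    obtain ⟨a, ha, haa⟩ := UnitPow.exists_nonisotropic hf hW hw₁ hw₁0
    obtain ⟨p, hp, hp0⟩ := Submodule.exists_mem_ne_zero_of_ne_bot (p := P) fun h => by
      rw [h, finrank_bot] at hdP; omega
    obtain ⟨b, hb, hbb⟩ := UnitPow.exists_nonisotropic hf hPn hp hp0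
    obtain ⟨t, ht⟩ := Unit.exists_norm hf.ne_refl hf.involutive
      (show σ (- f a a / f b b) = - f a a / f b b by rw [map_div₀, map_neg, Unit.self_fixed hf, Unit.self_fixed hf])
    have hab : f b a = 0 := Unit.eq_zero_comm hf (hWP a ha b hb)
    have hvv : f (a + t • b) (a + t • b) = 0 := by
      rw [Unit.self_add_smul hf, ht, hab, mul_zero, map_zero, div_mul_cancel₀ _ hbb]; ring
    have hg := hT _ hvv c₀ hc₀
    rw [← heq] at hg
    have h1 := mem_subspaceStabilizer.1 hg.1 a ha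
    have hpair : f a (a + t • b) = f a a := by
      rw [Unit.add_right hf, Unit.smul_right hf, hWP a ha b hb, mul_zero, add_zero]
    rw [Unit.formTv_mulVec hf hvv, hpair] at h1
    have h2 : t • b ∈ W := (W.add_mem_iff_right ha).1
      ((W.smul_mem_iff (mul_ne_zero hc₀0 haa)).1 ((W.add_mem_iff_right ha).1 h1))
    have h3 := Submodule.disjoint_def.1 hdis _ h2 (P.smul_mem t hb)
    rw [h3, add_zero] at hvv
    exact haa hvv
  by_cases hall : M ≤ Cfsg.Geo.subspaceStabilizer W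
  · exact Or.inl (le_antisymm (le_inf hall hMle) hle)
  right
  refine le_antisymm hMle (UnitGen.specialUnitary_le_of_formTv_mem hF (by omega) (by omega) ?_)
  set C : Set (Fin n → F) := {v | ∀ c, c + c ^ q = 0 → formTv f v c ∈ M} with hC
  have hMi : ∀ g ∈ M, Symp.IsIsometry f g := fun g hg => hiso (hMle hg).1
  have hconjT : ∀ g ∈ M, ∀ v c, f v v = 0 →
      g * formTv f v c * g⁻¹ = formTv f ((g : Matrix (Fin n) (Fin n) F) *ᵥ v) c := by
    intro g hg v c hv
    rw [← UnitOrth.root_zero hf hv, UnitOrth.root_conj hf (hMi g hg) hv (Unit.zero_right hf v), mulVec_zero,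
      UnitOrth.root_zero hf (by rw [hMi g hg, hv])]
  have hCinv : ∀ g ∈ M, ∀ v, f v v = 0 → v ∈ C → (g : Matrix (Fin n) (Fin n) F) *ᵥ v ∈ C := by
    intro g hg v hv hvC c hc
    rw [← hconjT g hg v c hv]
    exact M.mul_mem (M.mul_mem hg (hvC c hc)) (M.inv_mem hg)
  have hPC : ∀ v ∈ P, f v v = 0 → v ∈ C := fun v hv hvv c hc => hle
    ⟨mem_subspaceStabilizer.2 fun x hx => by
      rw [Unit.formTv_mulVec hf hvv, hWP x hx v hv, mul_zero, zero_smul, add_zero]
      exact hx, hT v hvv c hc⟩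
  have hWC : ∀ v ∈ W, f v v = 0 → v ∈ C := fun v hv hvv c hc => hle
    ⟨mem_subspaceStabilizer.2 fun x hx => by
      rw [Unit.formTv_mulVec hf hvv]
      exact W.add_mem hx (W.smul_mem _ hv), hT v hvv c hc⟩
  have hPP : ∀ a b γ, a ∈ P → b ∈ P → f a a = 0 → f a b = 0 → γ + σ γ = - f b b →
      UnitOrth.root f a b γ ∈ M := fun a b γ ha hb haa hab hγ => hle
    ⟨mem_subspaceStabilizer.2 fun x hx => by
      rw [UnitOrth.root_mulVec hf haa hab, hWP x hx a ha, hWP x hx b hb]
      simpa using hx, hrootI a b γ haa hab hγ⟩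
  obtain ⟨w, hw, hww, hwW, hwP⟩ : ∃ w ∈ C, f w w = 0 ∧ w ∉ W ∧ w ∉ P := by
    by_contra h
    push Not at h
    obtain ⟨g, hgM, hg⟩ := SetLike.not_le_iff_exists.1 hall
    apply hg
    have hgi := hMi g hgM
    have himg : ∀ p ∈ P, f p p = 0 → (g : Matrix (Fin n) (Fin n) F) *ᵥ p ∈ W ∨
        (g : Matrix (Fin n) (Fin n) F) *ᵥ p ∈ P := fun p hp hpp => or_iff_not_imp_left.2
      (h _ (hCinv g hgM p hpp (hPC p hp hpp)) (by rw [hgi, hpp]))
    let L := Matrix.toLin' (g : Matrix (Fin n) (Fin n) F)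
    have hfr : Module.finrank F (P.map L) = Module.finrank F P :=
      (Submodule.equivMapOfInjective _ (by
        simpa [L, Function.Injective] using gl_mulVec_injective g) P).finrank_eq.symm
    have hall' : ∀ p ∈ P, f p p = 0 → (g : Matrix (Fin n) (Fin n) F) *ᵥ p ∈ P := by
      intro p₀ hp₀ hp₀p
      rcases himg p₀ hp₀ hp₀p with h1 | h1
      swap
      · exact h1
      by_cases hp₀0 : p₀ = 0
      · rw [hp₀0, mulVec_zero]; exact P.zero_mem
      exfalso
      have hall'' : ∀ p ∈ P, f p p = 0 → (g : Matrix (Fin n) (Fin n) F) *ᵥ p ∈ W := by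
        intro p hp hpp
        by_cases hp0 : p = 0
        · rw [hp0, mulVec_zero]; exact W.zero_mem
        obtain ⟨z, hz, hzz, h0z, hpz⟩ := UnitCentres.exists_iso_both hf hPn (by omega)
          (hPn p₀ hp₀ hp₀0).2 (hPn p hp hp0).2
        have hzW : (g : Matrix (Fin n) (Fin n) F) *ᵥ z ∈ W := (himg z hz hzz).resolve_right fun hzP => by
          apply h0z
          rw [← hgi, hWP _ h1 _ hzP]
        exact (himg p hp hpp).resolve_right fun hpP => by
          apply hpz
          rw [← hgi, Unit.eq_zero_comm hf (hWP _ hzW _ hpP)]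
      have hle' : P.map L ≤ W := Submodule.map_le_iff_le_comap.2
        (UnitCentres.le_of_iso hf hPn (by omega) fun v hv hvv => by simpa [L] using hall'' v hv hvv)
      have := Submodule.finrank_mono hle'
      omega
    have hle' : P.map L ≤ P := Submodule.map_le_iff_le_comap.2
      (UnitCentres.le_of_iso hf hPn (by omega) fun v hv hvv => by simpa [L] using hall' v hv hvv)
    have hPeq := Submodule.eq_of_le_of_finrank_eq hle' hfr
    rw [mem_subspaceStabilizer]
    intro x hx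
    rw [← Unit.perp_perp hf W, Unit.mem_perp hf]
    intro y hy
    rw [← hP, ← hPeq] at hy
    obtain ⟨y', hy', rfl⟩ := hy
    rw [Matrix.toLin'_apply, hgi]
    exact hWP x hx y' hy'
  obtain ⟨wW, hwW', wP, hwP', hwsum⟩ := hdec w
  have hwP0 : wP ≠ 0 := fun h => hwW (by rw [← hwsum, h, add_zero]; exact hwW')
  have hwW0 : wW ≠ 0 := fun h => hwP (by rw [← hwsum, h, zero_add]; exact hwP')
  -- short root elements with a centre in P and a direction in W
  let pred : (Fin n → F) → (Fin n → F) → Prop := fun u b =>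
    ∃ γ, γ + σ γ = - f b b ∧ UnitOrth.root f u b γ ∈ M
  obtain ⟨u₀, hu₀, hu₀0, hu₀u, b₀, hb₀, hb₀0, hpred₀⟩ :
      ∃ u ∈ P, u ≠ 0 ∧ f u u = 0 ∧ ∃ b ∈ W, b ≠ 0 ∧ pred u b := by
    obtain ⟨y₀, hy₀, hy₀w, hroom⟩ : ∃ y ∈ P, f y wP ≠ 0 ∧
        (y = wP ∨ 4 ≤ Module.finrank F P) := by
      by_cases hwPP : f wP wP = 0
      · obtain ⟨y, hy, hyw⟩ := (hPn wP hwP' hwP0).1
        refine ⟨y, hy, hyw, Or.inr ?_⟩
        rcases hn5 with h6 | h1
        · have hW2 : Module.finrank F W ≠ 1 ∨ 6 ≤ n := Or.inr h6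
          omega
        · exfalso
          have hwWW : f wW wW = 0 := by
            have h := hww
            rw [← hwsum, Unit.add_left hf, Unit.add_right hf, Unit.add_right hf, hWP wW hwW' wP hwP',
              Unit.eq_zero_comm hf (hWP wW hwW' wP hwP'), hwPP] at h
            simpa using h
          obtain ⟨z, hz, hzw⟩ := (hW wW hwW' hwW0).1
          have hle : Submodule.span F {wW} ≤ W := (Submodule.span_singleton_le_iff_mem _ _).2 hwW'
          have heq := Submodule.eq_of_le_of_finrank_le hle (by rw [finrank_span_singleton hwW0]; exact h1)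
          rw [← heq] at hz
          obtain ⟨k, rfl⟩ := Submodule.mem_span_singleton.1 hz
          exact hzw (by rw [Unit.smul_left hf, hwWW, mul_zero])
      · exact ⟨wP, hwP', hwPP, Or.inl rfl⟩
    obtain ⟨u, hu, hu0, huu⟩ := UnitCentres.exists_iso_any hf
      (X := P ⊓ Unit.perp hf (Submodule.span F {wP, y₀})) (by
        have h1 := Submodule.finrank_sup_add_finrank_inf_eq P (Unit.perp hf (Submodule.span F {wP, y₀}))
        have h2 := Submodule.finrank_le (P ⊔ Unit.perp hf (Submodule.span F {wP, y₀}))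
        rw [Module.finrank_fintype_fun_eq_card, Fintype.card_fin] at h2
        have h3 := Unit.finrank_perp hf (Submodule.span F {wP, y₀})
        rw [Fintype.card_fin] at h3
        classical
        have h4 := finrank_span_finset_le_card (R := F) ({wP, y₀} : Finset (Fin n → F))
        rw [Finset.coe_pair, Set.finrank] at h4
        have h5 : Finset.card ({wP, y₀} : Finset (Fin n → F)) ≤ 2 := Finset.card_le_two
        rcases hroom with rfl | h6
        · simp at h4
          omega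
        · omega)
    obtain ⟨huP, hu'⟩ := Submodule.mem_inf.1 hu
    have huw : f u wP = 0 := (Unit.mem_perp hf).1 hu' _ (Submodule.subset_span (by simp))
    have huy : f u y₀ = 0 := (Unit.mem_perp hf).1 hu' _ (Submodule.subset_span (by simp))
    have huw' : f u w = 0 := by
      rw [← hwsum, Unit.add_right hf, huw, Unit.eq_zero_comm hf (hWP wW hwW' u huP), add_zero]
    have hwu : f w u = 0 := Unit.eq_zero_comm hf huw'
    obtain ⟨γ, hγ⟩ := Unit.exists_trace hf.ne_refl hf.involutive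
      (show σ (- f y₀ y₀) = - f y₀ y₀ by rw [map_neg, Unit.self_fixed hf])
    have hh := hPP u y₀ γ huP hy₀ huu huy hγ
    set e := - f w y₀ with he
    have he0 : e ≠ 0 := by
      rw [he, neg_ne_zero, ← hwsum, Unit.add_left hf, hWP wW hwW' y₀ hy₀, zero_add]
      exact Unit.ne_zero_comm hf hy₀w
    have hhw : (UnitOrth.root f u y₀ γ : Matrix (Fin n) (Fin n) F) *ᵥ w = w + e • u := by
      rw [UnitOrth.root_mulVec hf huu huy, hwu, he]
      module
    have h1 := M.mul_mem (M.mul_mem hh (hw c₀ hc₀)) (M.inv_mem hh)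
    rw [hconjT _ hh w c₀ hww, hhw] at h1
    have hwe : f (w + e • u) (w + e • u) = 0 := by rw [← hhw, hMi _ hh, hww]
    have hlam : f u ((c₀ * σ e) • w) = 0 := by rw [Unit.smul_right hf, huw', mul_zero]
    have hsplit : formTv f (w + e • u) c₀ = formTv f w c₀ * UnitOrth.root f u ((c₀ * σ e) • w) (c₀ * e * σ e) := by
      refine gl_ext fun x => ?_
      rw [Unit.formTv_mulVec hf hwe, gl_mul_mulVec, Unit.formTv_mulVec hf hww, UnitOrth.root_mulVec hf huu hlam]
      simp only [Unit.add_left hf, Unit.add_right hf, Unit.smul_left hf, Unit.smul_right hf, map_mul, huw', hww,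
        hf.involutive, eq_neg_of_add_eq_zero_right hc₀]
      match_scalars <;> ring
    rw [hsplit] at h1
    have hR := M.mul_mem (M.inv_mem (hw c₀ hc₀)) h1
    rw [inv_mul_cancel_left] at hR
    set l := c₀ * σ e with hl
    have hl0 : l ≠ 0 := mul_ne_zero hc₀0 ((RingEquiv.map_ne_zero_iff σ).2 he0)
    obtain ⟨γ', hγ'⟩ := Unit.exists_trace hf.ne_refl hf.involutive
      (show σ (- f ((-l) • wP) ((-l) • wP)) = - f ((-l) • wP) ((-l) • wP) by rw [map_neg, Unit.self_fixed hf])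
    have huP' : f u ((-l) • wP) = 0 := by rw [Unit.smul_right hf, huw, mul_zero]
    have h2 := M.mul_mem hR (hPP u _ γ' huP (P.smul_mem _ hwP') huu huP' hγ')
    rw [UnitOrth.root_mul hf huu hlam huP', show l • w + (-l) • wP = l • wW by rw [← hwsum]; module] at h2
    refine ⟨u, huP, hu0, huu, l • wW, W.smul_mem _ hwW', smul_ne_zero hl0 hwW0, _, ?_, h2⟩
    have hc₀σ := eq_neg_of_add_eq_zero_right hc₀
    have hwPW : f wP wW = 0 := Unit.eq_zero_comm hf (hWP wW hwW' wP hwP')
    have hsum : f wW wW + f wP wP = 0 := by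
      rw [← hwsum, Unit.add_left hf, Unit.add_right hf, Unit.add_right hf, hwPW, hWP wW hwW' wP hwP'] at hww
      linear_combination hww
    simp only [Unit.smul_left hf, Unit.smul_right hf, map_neg] at hγ'
    rw [← hwsum]
    simp only [Unit.smul_left hf, Unit.smul_right hf, Unit.add_right hf, map_add, map_sub, map_mul, map_neg,
      hf.involutive, hc₀σ, Unit.self_fixed hf, hwPW, zero_add]
    linear_combination hγ' + (c₀ * σ e * σ l) * hsum
  -- transporting the centre
  have hstep : ∀ u u' b, u ∈ P → u' ∈ P → f u u = 0 → f u' u' = 0 → f u u' ≠ 0 → b ∈ W → pred u b → pred u' b := by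
    intro u u' b hu hu' huu hu'u' huu' hb hp
    obtain ⟨γ, hγ, hmem⟩ := hp
    obtain ⟨a, ha, haa, h1, h2⟩ := UnitCentres.exists_bisector hf hPn (by omega) hu hu' huu hu'u' huu'
    obtain ⟨γ', hab, hγ', hmove⟩ := UnitCentres.exists_root_move hf haa huu hu'u' (h2.trans h1.symm)
      (by rw [h1]; exact one_ne_zero)
    have hh := hPP a _ γ' ha (P.smul_mem _ (P.sub_mem hu' hu)) haa hab hγ'
    have h3 := M.mul_mem (M.mul_mem hh hmem) (M.inv_mem hh)
    rw [UnitOrth.root_conj hf (hMi _ hh) huu (Unit.eq_zero_comm hf (hWP b hb u hu)), hmove] at h3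
    refine ⟨γ, hγ, ?_⟩
    convert h3 using 2
    rw [UnitOrth.root_mulVec hf haa hab, hWP b hb a ha, Unit.smul_right hf, Unit.sub_right hf,
      hWP b hb u' hu', hWP b hb u hu]
    simp
  have hmove : ∀ u u' b, u ∈ P → u' ∈ P → u ≠ 0 → u' ≠ 0 → f u u = 0 → f u' u' = 0 → b ∈ W → pred u b →
      pred u' b := by
    intro u u' b hu hu' hu0 hu'0 huu hu'u' hb hp
    obtain ⟨z, hz, hzz, huz, hu'z⟩ := UnitCentres.exists_iso_both hf hPn (by omega) (hPn u hu hu0).2
      (hPn u' hu' hu'0).2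
    exact hstep z u' b hz hu' hzz hu'u' (Unit.ne_zero_comm hf hu'z) hb (hstep u z b hu hz huu hzz huz hb hp)
  have hzero : ∀ u ∈ P, f u u = 0 → pred u 0 := fun u hu huu =>
    ⟨0, by rw [Unit.zero_left hf, map_zero, add_zero, neg_zero],
      hPP u 0 0 hu P.zero_mem huu (Unit.zero_right hf u) (by rw [Unit.zero_left hf, map_zero, add_zero, neg_zero])⟩
  have hadd : ∀ u ∈ P, f u u = 0 → ∀ b b', b ∈ W → b' ∈ W → pred u b → pred u b' → pred u (b + b') := by
    intro u hu huu b b' hb hb' hp hp'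
    obtain ⟨γ, hγ, hm⟩ := hp
    obtain ⟨γ', hγ', hm'⟩ := hp'
    have h3 := M.mul_mem hm hm'
    rw [UnitOrth.root_mul hf huu (Unit.eq_zero_comm hf (hWP b hb u hu))
      (Unit.eq_zero_comm hf (hWP b' hb' u hu))] at h3
    refine ⟨_, ?_, h3⟩
    simp only [Unit.add_left hf, Unit.add_right hf, map_add, map_sub, Unit.conj_form hf]
    linear_combination hγ + hγ'
  have hsmul : ∀ u ∈ P, u ≠ 0 → f u u = 0 → ∀ (k : F) b, b ∈ W → pred u b → pred u (k • b) := by
    intro u hu hu0 huu k b hb hp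
    by_cases hk : k = 0
    · rw [hk, zero_smul]; exact hzero u hu huu
    have hk' : σ k ≠ 0 := (RingEquiv.map_ne_zero_iff σ).2 hk
    have huu' : f (σ k • u) (σ k • u) = 0 := by rw [Unit.smul_left hf, Unit.smul_right hf, huu]; ring
    obtain ⟨γ, hγ, hm⟩ := hmove u (σ k • u) b hu (P.smul_mem _ hu) hu0 (smul_ne_zero hk' hu0) huu huu' hb hp
    refine ⟨γ * (k * σ k), ?_, ?_⟩
    · rw [map_mul, map_mul, hf.involutive, Unit.smul_left hf, Unit.smul_right hf]
      linear_combination (k * σ k) * hγ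
    · rw [UnitOrth.root_scale hf huu (Unit.eq_zero_comm hf (hWP b hb u hu)) hk,
        mul_div_cancel_right₀ _ (mul_ne_zero hk hk')]
      exact hm
  have hfull : ∀ b ∈ W, ∀ u ∈ P, u ≠ 0 → f u u = 0 → pred u b := by
    suffices H : ∀ b ∈ W, pred u₀ b from fun b hb u hu hu0 huu => hmove u₀ u b hu₀ hu hu₀0 hu0 hu₀u huu hb (H b hb)
    let X : Submodule F (Fin n → F) :=
      { carrier := {b | b ∈ W ∧ pred u₀ b}
        zero_mem' := ⟨W.zero_mem, hzero u₀ hu₀ hu₀u⟩
        add_mem' := fun {b b'} hb hb' => ⟨W.add_mem hb.1 hb'.1, hadd u₀ hu₀ hu₀u b b' hb.1 hb'.1 hb.2 hb'.2⟩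
        smul_mem' := fun k b hb => ⟨W.smul_mem k hb.1, hsmul u₀ hu₀ hu₀0 hu₀u k b hb.1 hb.2⟩ }
    by_cases h1 : Module.finrank F W ≤ 1
    · have hle' : Submodule.span F {b₀} ≤ W := (Submodule.span_singleton_le_iff_mem _ _).2 hb₀
      have heq := Submodule.eq_of_le_of_finrank_le hle' (by rw [finrank_span_singleton hb₀0]; exact h1)
      intro b hb
      rw [← heq] at hb
      obtain ⟨k, rfl⟩ := Submodule.mem_span_singleton.1 hb
      exact hsmul u₀ hu₀ hu₀0 hu₀u k b₀ hb₀ hpred₀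
    have hgrow : ∀ b, b ∈ X → ∀ z ∈ W, f z z = 0 → f b z ≠ 0 → z ∈ X := by
      intro b hb z hz hzz hbz
      have ht := hWC z hz hzz c₀ hc₀
      obtain ⟨γ, hγ, hm⟩ := hb.2
      have h3 := M.mul_mem (M.mul_mem ht hm) (M.inv_mem ht)
      rw [UnitOrth.root_conj hf (hMi _ ht) hu₀u (Unit.eq_zero_comm hf (hWP b hb.1 u₀ hu₀)),
        Unit.formTv_mulVec hf hzz, Unit.eq_zero_comm hf (hWP z hz u₀ hu₀), mul_zero, zero_smul, add_zero] at h3
      have hb' : (formTv f z c₀ : Matrix (Fin n) (Fin n) F) *ᵥ b ∈ X :=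
        ⟨by rw [Unit.formTv_mulVec hf hzz]; exact W.add_mem hb.1 (W.smul_mem _ hz),
          γ, by rw [hMi _ ht]; exact hγ, h3⟩
      rw [Unit.formTv_mulVec hf hzz] at hb'
      exact (X.smul_mem_iff (mul_ne_zero hc₀0 hbz)).1 ((X.add_mem_iff_right hb).1 hb')
    have hb₀X : b₀ ∈ X := ⟨hb₀, hpred₀⟩
    intro b hb
    refine (UnitCentres.le_of_iso hf hW (Y := X) (by omega) (fun z hz hzz => ?_) hb).2
    by_cases hz0 : z = 0
    · rw [hz0]; exact X.zero_mem
    obtain ⟨y, hy, hyy, h0y, hzy⟩ := UnitCentres.exists_iso_both hf hW (by omega) (hW b₀ hb₀ hb₀0).2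
      (hW z hz hz0).2
    exact hgrow y (hgrow b₀ hb₀X y hy hyy h0y) z hz hzz (Unit.ne_zero_comm hf hzy)
  intro v hv c hc
  by_cases hvW : v ∈ W
  · exact hWC v hvW hv c hc
  obtain ⟨vW, hvW', vP, hvP', hvsum⟩ := hdec v
  have hvP0 : vP ≠ 0 := fun h => hvW (by rw [← hvsum, h, add_zero]; exact hvW')
  obtain ⟨y, hy, hvy⟩ := (hPn vP hvP' hvP0).2
  obtain ⟨a, ha, haa, hva⟩ := UnitCentres.exists_iso_nonorth hf hPn (by omega) (x := v) hy
    (by rwa [← hvsum, Unit.add_left hf, hWP vW hvW' y hy, zero_add])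
  have ha0 : a ≠ 0 := fun h => hva (by rw [h, Unit.zero_right hf])
  obtain ⟨y', hy', hay'⟩ := (hPn a ha ha0).2
  obtain ⟨p, hp, hpp, hap⟩ := UnitCentres.exists_iso_nonorth hf hPn (by omega) (x := a) hy' hay'
  set p' := (f v a / f p a) • p with hp'
  have hp'P : p' ∈ P := P.smul_mem _ hp
  have hp'p : f p' p' = 0 := by rw [hp', Unit.smul_left hf, Unit.smul_right hf, hpp]; ring
  have hp'a : f p' a = f v a := by
    rw [hp', Unit.smul_left hf, div_mul_cancel₀ _ (Unit.ne_zero_comm hf hap)]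
  obtain ⟨γ, hab, hγ, hmove'⟩ := UnitCentres.exists_root_move hf haa hp'p hv hp'a.symm (hp'a ▸ hva)
  set b := (f p' a)⁻¹ • (v - p') with hb
  obtain ⟨bW, hbW, bP, hbP, hbsum⟩ := hdec b
  have habW : f a bW = 0 := Unit.eq_zero_comm hf (hWP bW hbW a ha)
  have habP : f a bP = 0 := by rwa [← hbsum, Unit.add_right hf, habW, zero_add] at hab
  obtain ⟨γ₁, hγ₁, hm₁⟩ := hfull bW hbW a ha ha0 haa
  obtain ⟨γ₂, hγ₂⟩ := Unit.exists_trace hf.ne_refl hf.involutive
    (show σ (- f bP bP) = - f bP bP by rw [map_neg, Unit.self_fixed hf])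
  have hm₂ := M.mul_mem hm₁ (hPP a bP γ₂ ha hbP haa habP hγ₂)
  rw [UnitOrth.root_mul hf haa habW habP, hbsum] at hm₂
  have hbPW : f bP bW = 0 := Unit.eq_zero_comm hf (hWP bW hbW bP hbP)
  have hskew : (γ - (γ₁ + γ₂ - f bP bW)) + (γ - (γ₁ + γ₂ - f bP bW)) ^ q = 0 := by
    rw [hbPW, sub_zero, ← UnitPow.conj_apply hF, ← hσ, map_sub, map_add]
    rw [← hbsum, Unit.add_left hf, Unit.add_right hf, Unit.add_right hf, hbPW, hWP bW hbW bP hbP] at hγ
    linear_combination hγ - hγ₁ - hγ₂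
  have hm₃ := M.mul_mem hm₂ (hPC a ha haa _ hskew)
  rw [← UnitOrth.root_zero hf haa, UnitOrth.root_mul hf haa hab (Unit.zero_right hf a), add_zero,
    Unit.zero_left hf, sub_zero, add_sub_cancel] at hm₃
  have h5 := hCinv _ hm₃ p' hp'p (hPC p' hp'P hp'p)
  rw [hmove'] at h5
  exact h5 c hc

/-- Clause of the unitary maximality lists (general form of S5654). -/
theorem nondegenerate_subspace_maximal {F : Type*} [Field F] [Fintype F] (n q : ℕ) (hF : Fintype.card F = q ^ 2) (hn : 6 ≤ n) (W : Submodule F (Fin n → F)) (hW0 : W ≠ ⊥) (hW : Cfsg.Geo.IsNondegenerateOn (Cfsg.hermForm n F q) W) (hdim : 2 * Module.finrank F W < n) : Cfsg.Geo.IsMaximalIn (Cfsg.GU n F q ⊓ Cfsg.Geo.specialLinear (Fin n) F) (Cfsg.Geo.subspaceStabilizer W ⊓ (Cfsg.GU n F q ⊓ Cfsg.Geo.specialLinear (Fin n) F)) := by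
  exact nondegenerate_subspace_maximal_low n q hF (by omega) W hW0 hW hdim (Or.inl hn)

/-- Clause of the unitary maximality lists (general form of S5655). -/
theorem decomposition_maximal {F : Type*} [Field F] [Fintype F] (n q : ℕ) (hF : Fintype.card F = q ^ 2) (hn : 6 ≤ n) {t : ℕ} (k : ℕ) (D : Fin t → Submodule F (Fin n → F)) (hD : Cfsg.Geo.IsNondegenerateMDecomposition (Cfsg.hermForm n F q) k D) (hex : ¬ (k = 2 ∧ q = 2)) (hfr : k = 1 → 10 ≤ n ∨ (n = 6 ∧ 3 ≤ q)) : Cfsg.Geo.IsMaximalIn (Cfsg.GU n F q ⊓ Cfsg.Geo.specialLinear (Fin n) F) (Cfsg.Geo.decompositionStabilizer D ⊓ (Cfsg.GU n F q ⊓ Cfsg.Geo.specialLinear (Fin n) F)) := by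
  have hK : Cfsg.GU n F q ⊓ Cfsg.Geo.specialLinear (Fin n) F =
      CfsgLib.GeomClasses.UnitQr.kGrp (Cfsg.hermForm n F q) := rfl
  rw [hK]
  exact CfsgLib.GeomClasses.UnitDecomp.maximal_decomposition hF (by omega) hD hex hfr

/-- Clause of the unitary maximality lists (general form of S5657). -/
theorem pair_maximal {F : Type*} [Field F] [Fintype F] (n q : ℕ) (hF : Fintype.card F = q ^ 2) (hn : 6 ≤ n) (k : ℕ) (hk : 2 * k = n) (D : Fin 2 → Submodule F (Fin n → F)) (hD : Cfsg.Geo.IsMDecomposition k D) (hts : ∀ i, Cfsg.Geo.IsTotallySingularFor (Cfsg.hermForm n F q) (D i)) : Cfsg.Geo.IsMaximalIn (Cfsg.GU n F q ⊓ Cfsg.Geo.specialLinear (Fin n) F) (Cfsg.Geo.decompositionStabilizer D ⊓ (Cfsg.GU n F q ⊓ Cfsg.Geo.specialLinear (Fin n) F)) := by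
  classical
  have hh := UnitPow.isUnitaryForm_hermForm hF n
  set σ := UnitPow.conj hF with hσd
  obtain ⟨θ, hθ0, hθ⟩ := Unit.exists_skew hh.ne_refl hh.involutive
  have hσθ : σ θ = -θ := eq_neg_of_add_eq_zero_right hθ
  let f : (Fin n → F) → (Fin n → F) → F := fun x y => θ * Cfsg.hermForm n F q x y
  have S : SkewPair.IsSkewHerm σ f :=
    { sesq :=
        { add_left := fun x y v => by simp only [f, Unit.add_left hh, mul_add]
          smul_left := fun c x v => by simp only [f, Unit.smul_left hh]; ring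
          add_right := fun v x y => by simp only [f, Unit.add_right hh, mul_add]
          smul_right := fun c v x => by simp only [f, Unit.smul_right hh, RingEquiv.coe_toRingHom]; ring }
      involutive := hh.involutive
      skew := fun x y => by simp only [f]; rw [map_mul, hσθ, Unit.conj_form hh]; ring
      nondegenerate := fun x hx => by
        obtain ⟨y, hy⟩ := (hh.nondegenerate x hx).2
        exact ⟨y, mul_ne_zero hθ0 hy⟩
      trace := Unit.exists_trace_ne_zero hh.ne_refl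
      norms := fun c hc => by
        obtain ⟨a, ha⟩ := Unit.exists_norm hh.ne_refl hh.involutive hc
        exact ⟨a, 0, by rw [ha, zero_mul, sub_zero]⟩ }
  have P : SkewPair.Pair σ f D k :=
    { S with
      decomp := hD
      isotropic := fun i x hx y hy => by simp only [f]; rw [hts i x hx y hy, mul_zero]
      dim := Or.inr ⟨by omega, θ, hθ0, hθ⟩ }
  refine SkewPair.maximal_pair P (fun g hg x y => by simp only [f]; rw [UnitPow.mem_GU.1 hg.1])
    (fun u w γ hu huw hγ => ⟨UnitPow.mem_GU.2 fun x y => mul_left_cancel₀ hθ0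
      (SkewPair.root_isometry S hu huw hγ x y),
      mul_mem (tv_mem_specialLinear _ _) (tv_mem_specialLinear _ _)⟩)
    (fun M hM => UnitGen.specialUnitary_le_of_formTv_mem hF (by omega) (by omega) fun v hv c hc => ?_)
  have hv' : f v v = 0 := by simp only [f]; rw [hv, mul_zero]
  have h1 := hM v hv' (c / θ) (by
    rw [map_div₀, hσθ, hσd, UnitPow.conj_apply, eq_neg_of_add_eq_zero_right hc, neg_div_neg_eq])
  convert h1 using 1
  refine gl_ext fun x => ?_
  rw [Unit.formTv_mulVec hh hv, SkewPair.formTv_mulVec S hv']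
  simp only [f]
  rw [← mul_assoc, div_mul_cancel₀ _ hθ0]

/-- Clause of the unitary maximality lists (general form of S5658). -/
theorem subfield_maximal {F : Type*} [Field F] [Fintype F] (n q : ℕ) (hF : Fintype.card F = q ^ 2) (hn : 6 ≤ n) (F₀ : Subfield F) (r : ℕ) (hr : r.Prime) (hro : Odd r) (hcard : Fintype.card F = Nat.card F₀ ^ r) (P : Matrix.GeneralLinearGroup (Fin n) F) (hP : Cfsg.Geo.IsFormRationalStructure (Cfsg.hermForm n F q) F₀ 1 P) : Cfsg.Geo.IsMaximalIn (Cfsg.GU n F q ⊓ Cfsg.Geo.specialLinear (Fin n) F) (Cfsg.Geo.subfieldSubgroup F₀ P ⊓ (Cfsg.GU n F q ⊓ Cfsg.Geo.specialLinear (Fin n) F)) := by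
  classical
  have hh := UnitPow.isUnitaryForm_hermForm hF n
  let σ : F ≃+* F := UnitPow.conj hF
  have hσ2 : ∀ a, σ (σ a) = a := hh.involutive
  have hstable : ∀ x ∈ F₀, σ x ∈ F₀ := fun x hx => show x ^ q ∈ F₀ from pow_mem hx q
  let E : Subfield F := σ.toRingHom.eqLocusField (RingHom.id F)
  obtain ⟨ω, hω, hω'⟩ : ∃ ω ∈ F₀, σ ω ≠ ω := by
    by_contra hc
    push Not at hc
    obtain ⟨e, he⟩ := Unit.exists_moved hh.ne_refl
    have hle : F₀ ≤ E := fun x hx => hc x hx
    have hF₀E : F₀ = E := by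
      by_contra hne
      have htop := Rational.subfield_eq_top_of_lt hr hcard (lt_of_le_of_ne hle hne)
      exact he (show e ∈ E from htop ▸ Subfield.mem_top e)
    have hd : e - σ e ≠ 0 := sub_ne_zero.2 (Ne.symm he)
    have hb : ∀ x, σ ((x - σ x) / (e - σ e)) = (x - σ x) / (e - σ e) := fun x => by
      rw [map_div₀, map_sub, map_sub, hσ2, hσ2, ← neg_sub x, ← neg_sub e, neg_div_neg_eq]
    let φ : E × E → F := fun p => (p.1 : F) + e * p.2
    have hbij : Function.Bijective φ := by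
      constructor
      · rintro ⟨a, b⟩ ⟨a', b'⟩ h
        have h' : (a : F) + e * b = a' + e * b' := h
        have h1 := congrArg σ h'
        rw [map_add, map_add, map_mul, map_mul, show σ (a : F) = a from a.2, show σ (b : F) = b from b.2,
          show σ (a' : F) = a' from a'.2, show σ (b' : F) = b' from b'.2] at h1
        have h2 : (e - σ e) * ((b : F) - b') = 0 := by linear_combination h' - h1
        have hbb : (b : F) = b' := sub_eq_zero.1 ((mul_eq_zero.1 h2).resolve_left hd)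
        rw [hbb, add_left_inj] at h'
        exact Prod.ext (Subtype.ext h') (Subtype.ext hbb)
      · intro x
        refine ⟨(⟨x - e * ((x - σ x) / (e - σ e)), ?_⟩, ⟨(x - σ x) / (e - σ e), hb x⟩), by simp [φ]⟩
        show σ (x - e * ((x - σ x) / (e - σ e))) = x - e * ((x - σ x) / (e - σ e))
        rw [map_sub, map_mul, hb]
        field_simp
        ring
    have h1 : Nat.card F = Nat.card E ^ 2 := by
      rw [← Nat.card_congr (Equiv.ofBijective φ hbij), Nat.card_prod, pow_two]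
    rw [Nat.card_eq_fintype_card, hcard, hF₀E] at h1
    have h2 := Nat.pow_right_injective (Finite.one_lt_card (α := E)) h1
    rw [h2] at hro
    exact (Nat.not_odd_iff_even.2 even_two) hro
  set θ := ω - σ ω with hθdef
  have hθm : θ ∈ F₀ := F₀.sub_mem hω (hstable ω hω)
  have hθ0 : θ ≠ 0 := sub_ne_zero.2 (Ne.symm hω')
  have hθ : σ θ = - θ := by rw [hθdef, map_sub, hσ2]; ring
  let f : (Fin n → F) → (Fin n → F) → F := fun u v =>
    θ * Cfsg.hermForm n F q ((P : Matrix (Fin n) (Fin n) F) *ᵥ u) ((P : Matrix (Fin n) (Fin n) F) *ᵥ v)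
  have hsesq : IsSesq (σ : F →+* F) f :=
    { add_left := fun x y v => by simp only [f, mulVec_add, Unit.add_left hh, mul_add]
      smul_left := fun c x v => by simp only [f, mulVec_smul, Unit.smul_left hh]; ring
      add_right := fun v x y => by simp only [f, mulVec_add, Unit.add_right hh, mul_add]
      smul_right := fun c v x => by
        simp only [f, mulVec_smul, Unit.smul_right hh]
        change θ * (σ c * _) = σ c * (θ * _)
        ring }
  have hrat : ∀ u v, SympRoot.Rv F₀ u → SympRoot.Rv F₀ v → f u v ∈ F₀ := fun u v hu hv => by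
    have := F₀.mul_mem hθm (hP u v hu hv)
    simpa [f] using this
  have S : UnitSub.Setting σ f F₀ :=
    { sesq := hsesq
      involutive := hσ2
      skew := fun x y => by
        simp only [f, map_mul, hθ]
        rw [show σ (Cfsg.hermForm n F q _ _) = _ from Unit.conj_form hh ((P : Matrix (Fin n) (Fin n) F) *ᵥ x) _]
        ring
      nondegenerate := fun x hx => by
        obtain ⟨-, y, hy⟩ := hh.nondegenerate _ (gl_mulVec_ne_zero P hx)
        refine ⟨((P⁻¹ : GL (Fin n) F) : Matrix (Fin n) (Fin n) F) *ᵥ y, ?_⟩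
        simp only [f, gl_mulVec_inv_mulVec]
        exact mul_ne_zero hθ0 hy
      trace := Unit.exists_trace_ne_zero hh.ne_refl
      norms := fun c hc => by
        obtain ⟨a, ha⟩ := Unit.exists_norm hh.ne_refl hh.involutive (show σ c = c from hc)
        exact ⟨a, 0, by rw [zero_mul, sub_zero]; exact ha.symm⟩
      moved := ⟨ω, hω, hω'⟩
      stable := hstable
      rat := hrat
      six := hn }
  have H := S.toIsSkewHerm
  set K := (Cfsg.GU n F q ⊓ Cfsg.Geo.specialLinear (Fin n) F).comap (MulAut.conj P).toMonoidHom with hK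
  have hconj : ∀ v c, f v v = 0 → P * formTv f v c * P⁻¹ =
      formTv (Cfsg.hermForm n F q) ((P : Matrix (Fin n) (Fin n) F) *ᵥ v) (c * θ) := by
    intro v c hv
    have hv' : Cfsg.hermForm n F q ((P : Matrix (Fin n) (Fin n) F) *ᵥ v) ((P : Matrix (Fin n) (Fin n) F) *ᵥ v) = 0 :=
      (mul_eq_zero.1 hv).resolve_left hθ0
    refine gl_ext fun x => ?_
    rw [gl_mul_mulVec, gl_mul_mulVec, SkewPair.formTv_mulVec H hv, Unit.formTv_mulVec hh hv', mulVec_add,
      mulVec_smul]
    simp only [f, gl_mulVec_inv_mulVec, mul_assoc]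
  have hmem : ∀ g : GL (Fin n) F, Symp.IsIsometry f g → g ∈ Cfsg.Geo.specialLinear (Fin n) F → g ∈ K := by
    intro g hg hd
    show P * g * P⁻¹ ∈ Cfsg.GU n F q ⊓ Cfsg.Geo.specialLinear (Fin n) F
    refine ⟨UnitPow.mem_GU.2 fun x y => ?_,
      (MonoidHom.normal_ker _ : (Cfsg.Geo.specialLinear (Fin n) F).Normal).conj_mem g hd P⟩
    have := mul_left_cancel₀ hθ0 (hg (((P⁻¹ : GL (Fin n) F) : Matrix (Fin n) (Fin n) F) *ᵥ x)
      (((P⁻¹ : GL (Fin n) F) : Matrix (Fin n) (Fin n) F) *ᵥ y))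
    simpa only [gl_mul_mulVec, gl_mulVec_inv_mulVec] using this
  have hKi : ∀ g ∈ K, Symp.IsIsometry f g := by
    intro g hg u v
    have hg' : P * g * P⁻¹ ∈ Cfsg.GU n F q := hg.1
    have := UnitPow.mem_GU.1 hg' ((P : Matrix (Fin n) (Fin n) F) *ᵥ u) ((P : Matrix (Fin n) (Fin n) F) *ᵥ v)
    simp only [gl_mul_mulVec, gl_inv_mulVec_mulVec] at this
    exact congrArg (θ * ·) this
  have hroot : ∀ u w γ, f u u = 0 → f u w = 0 → σ γ = γ - f w w → SkewPair.root f u w γ ∈ K :=
    fun u w γ hu huw hγ => hmem _ (SkewPair.root_isometry H hu huw hγ)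
      (mul_mem (tv_mem_specialLinear _ _) (tv_mem_specialLinear _ _))
  have hgen : ∀ M : Subgroup (GL (Fin n) F),
      (∀ v, f v v = 0 → ∀ c, σ c = c → formTv f v c ∈ M) → K ≤ M := by
    intro M hM g hg
    have h1 := UnitGen.specialUnitary_le_of_formTv_mem hF (n := n) (by omega) (by omega)
      (M := M.map (MulAut.conj P).toMonoidHom) (fun w hw c hc => by
        obtain ⟨v, rfl⟩ : ∃ v, w = (P : Matrix (Fin n) (Fin n) F) *ᵥ v :=
          ⟨((P⁻¹ : GL (Fin n) F) : Matrix (Fin n) (Fin n) F) *ᵥ w, (gl_mulVec_inv_mulVec P w).symm⟩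
        have hv : f v v = 0 := by simp only [f, hw, mul_zero]
        have hfix : σ (c / θ) = c / θ := by
          rw [map_div₀, hθ, show σ c = -c from eq_neg_of_add_eq_zero_right hc, neg_div_neg_eq]
        exact ⟨formTv f v (c / θ), hM v hv _ hfix, (hconj v _ hv).trans (by rw [div_mul_cancel₀ _ hθ0])⟩)
      (show P * g * P⁻¹ ∈ Cfsg.GU n F q ⊓ Cfsg.Geo.specialLinear (Fin n) F from hg)
    obtain ⟨g', hg', he⟩ := h1
    rwa [(MulAut.conj P).injective he] at hg'
  have h := isMaximalIn_map (MulAut.conj P) (UnitSub.maximal_subfield S hr hcard hKi hroot hgen)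
  rw [hK, Subgroup.map_inf _ _ _ (MulAut.conj P).injective,
    Subgroup.map_comap_eq_self_of_surjective (MulAut.conj P).surjective] at h
  exact h

/-- Clause of the unitary maximality lists (general form of S5659). -/
theorem orth_subfield_maximal {F : Type*} [Field F] [Fintype F] (n q : ℕ) (hF : Fintype.card F = q ^ 2) (hn : 6 ≤ n) (hodd : Odd q) (F₀ : Subfield F) (hcard : Fintype.card F = Nat.card F₀ ^ 2) (P : Matrix.GeneralLinearGroup (Fin n) F) (hP : Cfsg.Geo.IsFormRationalStructure (Cfsg.hermForm n F q) F₀ 1 P) : Cfsg.Geo.IsMaximalIn (Cfsg.GU n F q ⊓ Cfsg.Geo.specialLinear (Fin n) F) (Cfsg.Geo.subfieldSubgroup F₀ P ⊓ (Cfsg.GU n F q ⊓ Cfsg.Geo.specialLinear (Fin n) F)) := by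
  classical
  have hh := UnitPow.isUnitaryForm_hermForm hF n
  have h2 := UnitPow.two_le hF
  have hq : Nat.card F₀ = q := by
    rw [hF] at hcard
    exact (Nat.pow_left_injective two_ne_zero hcard).symm
  let K₁ : Subfield F := (UnitPow.conj hF).toRingHom.eqLocusField (RingHom.id F)
  have hfix : ∀ x : F, UnitPow.conj hF x = x ↔ x ∈ F₀ := by
    have hle : F₀ ≤ K₁ := fun x hx => by
      show x ^ q = x
      have := congrArg Subtype.val (FiniteField.pow_card (⟨x, hx⟩ : F₀))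
      rw [← Nat.card_eq_fintype_card, hq] at this
      exact this
    have he : F₀ = K₁ := by
      by_contra hne
      have htop := Rational.subfield_eq_top_of_lt Nat.prime_two hcard (lt_of_le_of_ne hle hne)
      refine UnitPow.conj_ne_refl hF (RingEquiv.ext fun x => ?_)
      have : x ∈ K₁ := htop ▸ Subfield.mem_top x
      exact this
    exact fun x => ⟨fun h => he ▸ (h : x ∈ K₁), fun h => (he ▸ h : x ∈ K₁)⟩
  let f : (Fin n → F) → (Fin n → F) → F := fun u v =>
    Cfsg.hermForm n F q ((P : Matrix (Fin n) (Fin n) F) *ᵥ u) ((P : Matrix (Fin n) (Fin n) F) *ᵥ v)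
  have hf : Cfsg.Geo.IsUnitaryForm (UnitPow.conj hF) f :=
    { ne_refl := hh.ne_refl
      involutive := hh.involutive
      add_left := fun x y v => by simp only [f, mulVec_add, Unit.add_left hh]
      smul_left := fun c x v => by simp only [f, mulVec_smul, Unit.smul_left hh]
      herm := fun v w => hh.herm _ _
      nondegenerate := fun v hv => by
        have hv' : (P : Matrix (Fin n) (Fin n) F) *ᵥ v ≠ 0 := fun h => hv
          (gl_mulVec_injective P (show (P : Matrix (Fin n) (Fin n) F) *ᵥ v = (P : Matrix (Fin n) (Fin n) F) *ᵥ 0 by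
            rw [h, mulVec_zero]))
        obtain ⟨⟨x, hx⟩, ⟨y, hy⟩⟩ := hh.nondegenerate _ hv'
        refine ⟨⟨((P⁻¹ : GL (Fin n) F) : Matrix (Fin n) (Fin n) F) *ᵥ x, ?_⟩,
          ⟨((P⁻¹ : GL (Fin n) F) : Matrix (Fin n) (Fin n) F) *ᵥ y, ?_⟩⟩
        · simp only [f, gl_mulVec_inv_mulVec]; exact hx
        · simp only [f, gl_mulVec_inv_mulVec]; exact hy }
  set K := (Cfsg.GU n F q ⊓ Cfsg.Geo.specialLinear (Fin n) F).comap (MulAut.conj P).toMonoidHom with hK
  have hconj : ∀ v c, f v v = 0 → P * formTv f v c * P⁻¹ =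
      formTv (Cfsg.hermForm n F q) ((P : Matrix (Fin n) (Fin n) F) *ᵥ v) c := by
    intro v c hv
    refine gl_ext fun x => ?_
    rw [gl_mul_mulVec, gl_mul_mulVec, Unit.formTv_mulVec hf hv, Unit.formTv_mulVec hh hv, mulVec_add,
      mulVec_smul]
    simp only [f, gl_mulVec_inv_mulVec]
  have h2F : (2 : F) ≠ 0 := by
    intro h2
    have hp : ringChar F = 2 := by
      haveI : CharP F 2 := CharTwo.of_one_ne_zero_of_two_eq_zero one_ne_zero h2
      exact ringChar.eq F 2
    obtain ⟨k, -, hk⟩ := FiniteField.card F (ringChar F)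
    rw [hp, hF] at hk
    have hev : Even (q ^ 2) := by
      rw [hk]
      exact Nat.even_pow.2 ⟨even_two, k.pos.ne'⟩
    exact (Nat.not_even_iff_odd.2 hodd) (Nat.even_pow.1 hev).1
  have hrat : ∀ u v, SympRoot.Rv F₀ u → SympRoot.Rv F₀ v → f u v ∈ F₀ := fun u v hu hv => by
    simpa using hP u v hu hv
  have S : UnitOrth.Setting (UnitPow.conj hF) f F₀ := ⟨hf, hfix, hrat, h2F, hn⟩
  obtain ⟨θ, hθ0, hθ⟩ := Unit.exists_skew hh.ne_refl hh.involutive
  have hmem : ∀ g : GL (Fin n) F, Symp.IsIsometry f g → g ∈ Cfsg.Geo.specialLinear (Fin n) F → g ∈ K := by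
    intro g hg hd
    show P * g * P⁻¹ ∈ Cfsg.GU n F q ⊓ Cfsg.Geo.specialLinear (Fin n) F
    refine ⟨UnitPow.mem_GU.2 fun x y => ?_,
      (MonoidHom.normal_ker _ : (Cfsg.Geo.specialLinear (Fin n) F).Normal).conj_mem g hd P⟩
    have := hg (((P⁻¹ : GL (Fin n) F) : Matrix (Fin n) (Fin n) F) *ᵥ x)
      (((P⁻¹ : GL (Fin n) F) : Matrix (Fin n) (Fin n) F) *ᵥ y)
    simpa only [f, gl_mul_mulVec, gl_mulVec_inv_mulVec] using this
  have hKi : ∀ g ∈ K, Symp.IsIsometry f g := by
    intro g hg u v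
    have hg' : P * g * P⁻¹ ∈ Cfsg.GU n F q := hg.1
    have := UnitPow.mem_GU.1 hg' ((P : Matrix (Fin n) (Fin n) F) *ᵥ u) ((P : Matrix (Fin n) (Fin n) F) *ᵥ v)
    simpa only [gl_mul_mulVec, gl_inv_mulVec_mulVec] using this
  have hroot : ∀ u w γ, f u u = 0 → f u w = 0 → γ + UnitPow.conj hF γ = - f w w →
      UnitOrth.root f u w γ ∈ K := fun u w γ hu huw hγ =>
    hmem _ (UnitOrth.root_isometry hf hu huw hγ)
      (mul_mem (tv_mem_specialLinear _ _) (tv_mem_specialLinear _ _))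
  have hgen : ∀ M : Subgroup (GL (Fin n) F),
      (∀ v, f v v = 0 → ∀ c, c + UnitPow.conj hF c = 0 → formTv f v c ∈ M) → K ≤ M := by
    intro M hM g hg
    have h1 := UnitGen.specialUnitary_le_of_formTv_mem hF (n := n) (by omega) (by omega)
      (M := M.map (MulAut.conj P).toMonoidHom) (fun w hw c hc => by
        obtain ⟨v, rfl⟩ : ∃ v, w = (P : Matrix (Fin n) (Fin n) F) *ᵥ v :=
          ⟨((P⁻¹ : GL (Fin n) F) : Matrix (Fin n) (Fin n) F) *ᵥ w, (gl_mulVec_inv_mulVec P w).symm⟩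
        exact ⟨formTv f v c, hM v hw c hc, hconj v c hw⟩) (show P * g * P⁻¹ ∈ Cfsg.GU n F q ⊓ Cfsg.Geo.specialLinear (Fin n) F from hg)
    obtain ⟨g', hg', he⟩ := h1
    rwa [(MulAut.conj P).injective he] at hg'
  have h := isMaximalIn_map (MulAut.conj P)
    (UnitOrth.maximal_orthSubfield S hθ0 (eq_neg_of_add_eq_zero_right hθ) hKi hroot hgen)
  rw [hK, Subgroup.map_inf _ _ _ (MulAut.conj P).injective,
    Subgroup.map_comap_eq_self_of_surjective (MulAut.conj P).surjective] at h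
  exact h

/-- Clause of the unitary maximality lists (general form of S5660). -/
theorem symp_subfield_maximal {F : Type*} [Field F] [Fintype F] (n q : ℕ) (hF : Fintype.card F = q ^ 2) (hn : 6 ≤ n) (F₀ : Subfield F) (hcard : Fintype.card F = Nat.card F₀ ^ 2) (ζ : F) (hζ0 : ζ ≠ 0) (hζ : ζ + ζ ^ q = 0) (P : Matrix.GeneralLinearGroup (Fin n) F) (hP : Cfsg.Geo.IsFormRationalStructure (Cfsg.hermForm n F q) F₀ ζ P) (halt : ∀ u : Fin n → F, (∀ i, u i ∈ F₀) → Cfsg.hermForm n F q (Matrix.mulVec (P : Matrix (Fin n) (Fin n) F) u) (Matrix.mulVec (P : Matrix (Fin n) (Fin n) F) u) = 0) : Cfsg.Geo.IsMaximalIn (Cfsg.GU n F q ⊓ Cfsg.Geo.specialLinear (Fin n) F) (Cfsg.Geo.subfieldSubgroup F₀ P ⊓ (Cfsg.GU n F q ⊓ Cfsg.Geo.specialLinear (Fin n) F)) := by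
  classical
  have hh := UnitPow.isUnitaryForm_hermForm hF n
  have h2 := UnitPow.two_le hF
  have hq : Nat.card F₀ = q := by
    rw [hF] at hcard
    exact (Nat.pow_left_injective two_ne_zero hcard).symm
  let K₁ : Subfield F := (UnitPow.conj hF).toRingHom.eqLocusField (RingHom.id F)
  have hfix : ∀ x : F, UnitPow.conj hF x = x ↔ x ∈ F₀ := by
    have hle : F₀ ≤ K₁ := fun x hx => by
      show x ^ q = x
      have := congrArg Subtype.val (FiniteField.pow_card (⟨x, hx⟩ : F₀))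
      rw [← Nat.card_eq_fintype_card, hq] at this
      exact this
    have he : F₀ = K₁ := by
      by_contra hne
      have htop := Rational.subfield_eq_top_of_lt Nat.prime_two hcard (lt_of_le_of_ne hle hne)
      refine UnitPow.conj_ne_refl hF (RingEquiv.ext fun x => ?_)
      have : x ∈ K₁ := htop ▸ Subfield.mem_top x
      exact this
    exact fun x => ⟨fun h => he ▸ (h : x ∈ K₁), fun h => (he ▸ h : x ∈ K₁)⟩
  let f : (Fin n → F) → (Fin n → F) → F := fun u v =>
    Cfsg.hermForm n F q ((P : Matrix (Fin n) (Fin n) F) *ᵥ u) ((P : Matrix (Fin n) (Fin n) F) *ᵥ v)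
  have hf : Cfsg.Geo.IsUnitaryForm (UnitPow.conj hF) f :=
    { ne_refl := hh.ne_refl
      involutive := hh.involutive
      add_left := fun x y v => by simp only [f, mulVec_add, Unit.add_left hh]
      smul_left := fun c x v => by simp only [f, mulVec_smul, Unit.smul_left hh]
      herm := fun v w => hh.herm _ _
      nondegenerate := fun v hv => by
        have hv' : (P : Matrix (Fin n) (Fin n) F) *ᵥ v ≠ 0 := fun h => hv
          (gl_mulVec_injective P (show (P : Matrix (Fin n) (Fin n) F) *ᵥ v = (P : Matrix (Fin n) (Fin n) F) *ᵥ 0 by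
            rw [h, mulVec_zero]))
        obtain ⟨⟨x, hx⟩, ⟨y, hy⟩⟩ := hh.nondegenerate _ hv'
        refine ⟨⟨((P⁻¹ : GL (Fin n) F) : Matrix (Fin n) (Fin n) F) *ᵥ x, ?_⟩,
          ⟨((P⁻¹ : GL (Fin n) F) : Matrix (Fin n) (Fin n) F) *ᵥ y, ?_⟩⟩
        · simp only [f, gl_mulVec_inv_mulVec]; exact hx
        · simp only [f, gl_mulVec_inv_mulVec]; exact hy }
  set K := (Cfsg.GU n F q ⊓ Cfsg.Geo.specialLinear (Fin n) F).comap (MulAut.conj P).toMonoidHom with hK
  have hconj : ∀ v c, f v v = 0 → P * formTv f v c * P⁻¹ =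
      formTv (Cfsg.hermForm n F q) ((P : Matrix (Fin n) (Fin n) F) *ᵥ v) c := by
    intro v c hv
    refine gl_ext fun x => ?_
    rw [gl_mul_mulVec, gl_mul_mulVec, Unit.formTv_mulVec hf hv, Unit.formTv_mulVec hh hv, mulVec_add,
      mulVec_smul]
    simp only [f, gl_mulVec_inv_mulVec]
  have hKi : K ≤ UnitSymp.isoGroup f := by
    intro g hg u v
    have hg' : P * g * P⁻¹ ∈ Cfsg.GU n F q := hg.1
    have := UnitPow.mem_GU.1 hg' ((P : Matrix (Fin n) (Fin n) F) *ᵥ u) ((P : Matrix (Fin n) (Fin n) F) *ᵥ v)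
    simpa only [gl_mul_mulVec, gl_inv_mulVec_mulVec] using this
  have hTK : ∀ v, f v v = 0 → ∀ c, c + UnitPow.conj hF c = 0 → formTv f v c ∈ K := by
    intro v hv c hc
    show P * formTv f v c * P⁻¹ ∈ Cfsg.GU n F q ⊓ Cfsg.Geo.specialLinear (Fin n) F
    rw [hconj v c hv]
    exact ⟨UnitPow.mem_GU.2 fun x y => Unit.formTv_isometry hh hv hc x y, formTv_mem_specialLinear _ _ _⟩
  have hgen : ∀ M : Subgroup (GL (Fin n) F),
      (∀ v, f v v = 0 → ∀ c, c + UnitPow.conj hF c = 0 → formTv f v c ∈ M) → K ≤ M := by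
    intro M hM g hg
    have h1 := UnitGen.specialUnitary_le_of_formTv_mem hF (n := n) (by omega) (by omega)
      (M := M.map (MulAut.conj P).toMonoidHom) (fun w hw c hc => by
        obtain ⟨v, rfl⟩ : ∃ v, w = (P : Matrix (Fin n) (Fin n) F) *ᵥ v :=
          ⟨((P⁻¹ : GL (Fin n) F) : Matrix (Fin n) (Fin n) F) *ᵥ w, (gl_mulVec_inv_mulVec P w).symm⟩
        exact ⟨formTv f v c, hM v hw c hc, hconj v c hw⟩) (show P * g * P⁻¹ ∈ Cfsg.GU n F q ⊓ Cfsg.Geo.specialLinear (Fin n) F from hg)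
    obtain ⟨g', hg', he⟩ := h1
    rwa [(MulAut.conj P).injective he] at hg'
  have h := isMaximalIn_map (MulAut.conj P)
    (UnitSymp.maximal_sympSubfield hf (by simp; omega) hfix hζ0 hζ hP
      (fun u hu => halt u hu) hKi hTK hgen)
  rw [hK, Subgroup.map_inf _ _ _ (MulAut.conj P).injective,
    Subgroup.map_comap_eq_self_of_surjective (MulAut.conj P).surjective] at h
  exact h

end CfsgLib.GeomClasses.UnitClauses
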