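import Cfsg.Agent.Lib.GeomClasses.OrthClasses
import Cfsg.Agent.Lib.OrthOmega.Invariant

/-!
Eichler elements: they lie in `Ω` and generate it; centres with full root groups; invariant subspaces.
-/

set_option autoImplicit false
set_option linter.unusedSectionVars false

namespace CfsgLib.GeomClasses.OrthEich

open Matrix QuadraticMap CfsgLib.Maximal.TensorTools CfsgLib.Orth

variable {ι : Type} [Fintype ι] [DecidableEq ι] {F : Type*} [Field F] [Fintype F]
  {q : QuadraticForm F (ι → F)}

theorem finrank_pair_le (a b : ι → F) : Module.finrank F (Submodule.span F ({a, b} : Set (ι → F))) ≤ 2 := by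
  classical
  have h1 := finrank_span_finset_le_card (R := F) ({a, b} : Finset (ι → F))
  rw [Finset.coe_pair, Set.finrank] at h1
  exact h1.trans Finset.card_le_two

theorem mem_orth_pair {a b x : ι → F} :
    x ∈ OrthTools.orth q (Submodule.span F ({a, b} : Set (ι → F))) ↔ polar q a x = 0 ∧ polar q b x = 0 := by
  rw [OrthTools.mem_orth]
  refine ⟨fun h => ⟨h a (Submodule.subset_span (by simp)), h b (Submodule.subset_span (by simp))⟩,
    fun h y hy => ?_⟩
  obtain ⟨r, s, rfl⟩ := Submodule.mem_span_pair.1 hy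
  simp [polar_add_left, polar_smul_left, h.1, h.2]

variable (hq : q.polarBilin.Nondegenerate) (hn : 7 ≤ Fintype.card ι)
include hq hn

/-- An anisotropic vector orthogonal to two given ones. -/
theorem exists_aniso_orth (a b : ι → F) : ∃ c, q c ≠ 0 ∧ polar q a c = 0 ∧ polar q b c = 0 := by
  by_contra hc
  push Not at hc
  have h1 := two_finrank_le hq (W := OrthTools.orth q (Submodule.span F ({a, b} : Set (ι → F))))
    fun x hx => by
      by_contra h0
      exact hc x h0 (mem_orth_pair.1 hx).1 (mem_orth_pair.1 hx).2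
  have h2 := OrthTools.finrank_orth hq (Submodule.span F ({a, b} : Set (ι → F)))
  have h3 := finrank_pair_le (F := F) a b
  omega

/-- A product of two reflections with equal values lies in `Ω`. -/
theorem pair_mem {a b : ι → F} (ha : q a ≠ 0) (hab : q a = q b) : refl q a * refl q b ∈ commutator (O q) := by
  classical
  by_cases h2 : (2 : F) = 0
  · haveI := CfsgLib.OrthOmega.charP_two_of_two_eq_zero h2
    have hgen := reflClosure_eq_top hq (Or.inr (by omega))
    rw [commutator_eq_ker_dickson hq hgen, MonoidHom.mem_ker, map_mul, dicksonHom_refl hq hgen ha,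
      dicksonHom_refl hq hgen (hab ▸ ha)]
    exact neg_one_mul (-1 : ℤˣ) |>.trans (neg_neg _)
  · obtain ⟨g, hg⟩ := conj_of_eq_value h2 ha hab
    rw [commutator_eq_closure]
    exact Subgroup.subset_closure (pair_mem_commutator hg)

/-- The Eichler elements lie in `Ω`. -/
theorem eich_mem {u a : ι → F} (hu : q u = 0) (ha : polar q u a = 0) : eich q u a ∈ commutator (O q) := by
  have hne : ∀ a, polar q u a = 0 → q a ≠ 0 → eich q u a ∈ commutator (O q) := fun a ha h0 => by
    rw [eich_eq_refl_mul hu ha h0]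
    refine pair_mem hq hn h0 ?_
    rw [QuadraticMap.map_add ⇑q, QuadraticMap.map_smul, polar_smul_right, hu, polar_comm (f := ⇑q) a u, ha]
    simp
  by_cases h0 : q a = 0
  · obtain ⟨c, hc, huc, hac⟩ := exists_aniso_orth hq hn u a
    have h1 : polar q u (a + c) = 0 := by rw [polar_add_right, ha, huc, add_zero]
    have h2 : q (a + c) ≠ 0 := by rwa [QuadraticMap.map_add ⇑q, h0, hac, add_zero, zero_add]
    rw [show a = a + c + -c by abel, ← eich_add hu h1 (by rw [polar_neg_right, huc, neg_zero])]
    exact mul_mem (hne _ h1 h2)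
      (hne _ (by rw [polar_neg_right, huc, neg_zero]) (by rwa [QuadraticMap.map_neg]))
  · exact hne a ha h0

/-- The Eichler elements generate `Ω`. -/
theorem commutator_le {M : Subgroup (O q)} (hM : ∀ u a, q u = 0 → polar q u a = 0 → eich q u a ∈ M) :
    commutator (O q) ≤ M := by
  classical
  by_cases h2 : (2 : F) = 0
  · haveI := CfsgLib.OrthOmega.charP_two_of_two_eq_zero h2
    have hgen := reflClosure_eq_top hq (Or.inr (by omega))
    have hadj : ∀ a b, q a = 1 → q b = 1 → polar q a b = 0 → refl q a * refl q b ∈ M := by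
      intro a b ha hb hab
      have hu : q (b - a) = 0 := by
        rw [sub_eq_add_neg, QuadraticMap.map_add ⇑q, QuadraticMap.map_neg, polar_neg_right,
          polar_comm (f := ⇑q) b a, ha, hb, hab]
        linear_combination h2
      have hua : polar q (b - a) a = 0 := by
        rw [polar_sub_left, polar_comm (f := ⇑q) b a, hab, polar_self', ha]
        linear_combination -h2
      have := hM _ _ hu hua
      rwa [eich_eq_refl_mul hu hua (by rw [ha]; exact one_ne_zero), ha, one_smul, add_sub_cancel] at this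
    have hnorm : ∀ v, q v ≠ 0 → ∃ w, q w = 1 ∧ refl q v = refl q w := by
      intro v hv
      obtain ⟨t, ht⟩ := FiniteField.isSquare_of_char_two (ringChar.eq F 2) (q v)⁻¹
      have ht0 : t ≠ 0 := fun h0 => inv_ne_zero hv (by rw [ht, h0, mul_zero])
      exact ⟨t • v, by rw [QuadraticMap.map_smul, ← ht, smul_eq_mul, inv_mul_cancel₀ hv], (refl_smul ht0 v).symm⟩
    have hpair : ∀ v w, q v ≠ 0 → q w ≠ 0 → refl q v * refl q w ∈ M := by
      intro v w hv hw
      obtain ⟨a, ha, ea⟩ := hnorm v hv
      obtain ⟨b, hb, eb⟩ := hnorm w hw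
      obtain ⟨c, hc, hac, hbc⟩ := exists_aniso_orth hq hn a b
      obtain ⟨t, ht⟩ := FiniteField.isSquare_of_char_two (ringChar.eq F 2) (q c)⁻¹
      have hc1 : q (t • c) = 1 := by rw [QuadraticMap.map_smul, ← ht, smul_eq_mul, inv_mul_cancel₀ hc]
      have h1 := hadj a _ ha hc1 (by rw [polar_smul_right, hac, smul_zero])
      have h3 := hadj _ b hc1 hb (by rw [polar_comm, polar_smul_right, hbc, smul_zero])
      have := M.mul_mem h1 h3
      rwa [mul_assoc, ← mul_assoc (refl q (t • c)), refl_mul_self, one_mul, ← ea, ← eb] at this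
    rw [commutator_eq_ker_dickson hq hgen]
    intro g hg
    suffices H : (dicksonHom hq hgen g = 1 → g ∈ M) ∧
        (dicksonHom hq hgen g = -1 → ∀ v, q v ≠ 0 → refl q v * g ∈ M) from H.1 hg
    clear hg
    have hg : g ∈ reflClosure q := by rw [hgen]; trivial
    induction hg using Subgroup.closure_induction_left with
    | one => exact ⟨fun _ => M.one_mem, fun h => absurd h (by rw [map_one]; decide)⟩
    | mul_left x hx y _ ih =>
      obtain ⟨w, rfl⟩ := hx
      by_cases hw : q w = 0
      · rwa [refl_eq_one hw, one_mul]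
      rw [map_mul, dicksonHom_refl hq hgen hw]
      refine ⟨fun h => ih.2 ?_ w hw, fun h v hv => ?_⟩
      · simpa [neg_one_mul, neg_eq_iff_eq_neg] using h
      · rw [← mul_assoc]
        exact M.mul_mem (hpair v w hv hw) (ih.1 (by simpa [neg_one_mul] using h))
    | inv_mul_cancel x hx y _ ih =>
      obtain ⟨w, rfl⟩ := hx
      rw [refl_inv]
      by_cases hw : q w = 0
      · rwa [refl_eq_one hw, one_mul]
      rw [map_mul, dicksonHom_refl hq hgen hw]
      refine ⟨fun h => ih.2 ?_ w hw, fun h v hv => ?_⟩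
      · simpa [neg_one_mul, neg_eq_iff_eq_neg] using h
      · rw [← mul_assoc]
        exact M.mul_mem (hpair v w hv hw) (ih.1 (by simpa [neg_one_mul] using h))
  · rw [commutator_eq_siegelClosure hq h2 (by omega)]
    refine (Subgroup.closure_le _).2 ?_
    rintro _ ⟨u, v, c, hu, -, huv, rfl⟩
    exact hM u _ hu (by rw [polar_smul_right, huv, smul_zero])

/-- A singular vector pairing non-trivially with two non-zero singular vectors. -/
theorem exists_link {u z : ι → F} (hu : q u = 0) (hu0 : u ≠ 0) (hz : q z = 0) (hz0 : z ≠ 0) :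
    ∃ y, q y = 0 ∧ polar q y u ≠ 0 ∧ polar q y z ≠ 0 := by
  have hX : ∀ x ∈ (⊤ : Submodule F (ι → F)), x ≠ 0 → ∃ y ∈ (⊤ : Submodule F (ι → F)), polar q x y ≠ 0 :=
    fun x _ hx => by
      obtain ⟨a, ha⟩ := exists_polar_eq_one hq hx
      exact ⟨a, trivial, by rw [ha]; exact one_ne_zero⟩
  have huu : polar q u u = 0 := by rw [polar_self', hu, mul_zero]
  by_cases he : polar q u z = 0
  · obtain ⟨t, -, ht, hut⟩ := OrthTools.exists_partner hX trivial hu0 hu
    obtain ⟨s, -, hs, hzs⟩ := OrthTools.exists_partner hX trivial hz0 hz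
    by_cases h1 : polar q t z = 0
    · by_cases h2 : polar q s u = 0
      · refine ⟨t + s + (-polar q t s) • u, ?_, ?_, ?_⟩
        · simp only [QuadraticMap.map_add ⇑q, QuadraticMap.map_smul, polar_add_left, polar_smul_right, ht, hs, hu,
            polar_comm (f := ⇑q) t u, hut, h2, smul_eq_mul]
          ring
        · simp [polar_add_left, polar_smul_left, polar_comm (f := ⇑q) t u, hut, h2, huu]
        · simp [polar_add_left, polar_smul_left, h1, polar_comm (f := ⇑q) s z, hzs, he]
      · exact ⟨s, hs, h2, by rw [polar_comm, hzs]; exact one_ne_zero⟩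
    · exact ⟨t, ht, by rw [polar_comm, hut]; exact one_ne_zero, h1⟩
  · obtain ⟨w, hw, huw, hzw⟩ := exists_aniso_orth hq hn u z
    set e := polar q u z with hedef
    set lam := -q w / e
    refine ⟨u + lam • z + w, ?_, ?_, ?_⟩
    · simp only [QuadraticMap.map_add ⇑q, QuadraticMap.map_smul, polar_add_left, polar_smul_left, polar_smul_right,
        hu, hz, huw, hzw, smul_eq_mul, ← hedef, lam]
      field_simp
      ring
    · simp [polar_add_left, polar_smul_left, huu, polar_comm (f := ⇑q) z u, ← hedef, polar_comm (f := ⇑q) w u,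
        huw, lam, hw, he]
    · simp [polar_add_left, polar_smul_left, ← hedef, polar_self', hz, polar_comm (f := ⇑q) w z, hzw, he]

omit hn in
/-- A singular vector of a non-degenerate subspace pairing non-trivially with a given vector. -/
theorem exists_singular_pairing {X : Submodule F (ι → F)}
    (hX : ∀ x ∈ X, x ≠ 0 → ∃ y ∈ X, polar q x y ≠ 0) (h3 : 3 ≤ Module.finrank F X) {s y : ι → F}
    (hy : y ∈ X) (hsy : polar q s y ≠ 0) : ∃ w ∈ X, q w = 0 ∧ polar q s w ≠ 0 := by
  obtain ⟨a, ha, ha0, hqa⟩ := OrthTools.exists_singular hq X h3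
  obtain ⟨b, hb, hqb, hab⟩ := OrthTools.exists_partner hX ha ha0 hqa
  by_cases h1 : polar q s a = 0
  · by_cases h2 : polar q s b = 0
    · set y' := y - polar q y b • a - polar q y a • b with hy'
      have h4 : polar q y' a = 0 := by
        simp [hy', polar_sub_left, polar_smul_left, polar_self', hqa, polar_comm (f := ⇑q) b a, hab]
      have h5 : polar q y' b = 0 := by
        simp [hy', polar_sub_left, polar_smul_left, polar_self', hqb, hab]
      have hy'X : y' ∈ X := X.sub_mem (X.sub_mem hy (X.smul_mem _ ha)) (X.smul_mem _ hb)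
      refine ⟨y' + a + (-q y') • b, X.add_mem (X.add_mem hy'X ha) (X.smul_mem _ hb), ?_, ?_⟩
      · simp only [QuadraticMap.map_add ⇑q, QuadraticMap.map_smul, polar_add_left, polar_smul_right, hqa, hqb, h4,
          h5, hab, smul_eq_mul]
        ring
      · rw [polar_add_right, polar_add_right, polar_smul_right, h1, h2, hy', polar_sub_right, polar_sub_right,
          polar_smul_right, polar_smul_right, h1, h2]
        simpa using hsy
    · exact ⟨b, hb, hqb, h2⟩
  · exact ⟨a, ha, hqa, h1⟩

omit hn in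
/-- A non-degenerate subspace of dimension at least three takes every value. -/
theorem exists_value_in {X : Submodule F (ι → F)}
    (hX : ∀ x ∈ X, x ≠ 0 → ∃ y ∈ X, polar q x y ≠ 0) (h3 : 3 ≤ Module.finrank F X) (c : F) :
    ∃ x ∈ X, q x = c := by
  obtain ⟨a, ha, ha0, hqa⟩ := OrthTools.exists_singular hq X h3
  obtain ⟨b, hb, hqb, hab⟩ := OrthTools.exists_partner hX ha ha0 hqa
  refine ⟨a + c • b, X.add_mem ha (X.smul_mem _ hb), ?_⟩
  rw [QuadraticMap.map_add ⇑q, QuadraticMap.map_smul, polar_smul_right, hqa, hqb, hab]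
  simp

omit hn in
/-- A subspace invariant under the Eichler elements of a non-degenerate subspace, and not orthogonal to it,
contains it. -/
theorem absorb {S X : Submodule F (ι → F)} (hX : ∀ x ∈ X, x ≠ 0 → ∃ y ∈ X, polar q x y ≠ 0)
    (h3 : 3 ≤ Module.finrank F X)
    (hinv : ∀ w ∈ X, ∀ a ∈ X, q w = 0 → polar q w a = 0 → ∀ s ∈ S, app (eich q w a) s ∈ S)
    {s y : ι → F} (hs : s ∈ S) (hy : y ∈ X) (hsy : polar q s y ≠ 0) : X ≤ S := by
  have key : ∀ s ∈ S, ∀ w ∈ X, q w = 0 → polar q s w ≠ 0 → ∀ a ∈ X, polar q w a = 0 → a ∈ S := by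
    intro s hs w hw hqw hsw a ha hwa
    have hw0 : w ≠ 0 := fun h => hsw (by rw [h, polar_zero_right])
    obtain ⟨r, hr, hqr, hwr⟩ := OrthTools.exists_partner hX hw hw0 hqw
    obtain ⟨Y, hYX, hYd, hY, -, hYn⟩ := OrthClasses.remove_pair hq hX hw hr hqw hqr hwr
    obtain ⟨c₁, hc₁, hc₁0⟩ := Submodule.exists_mem_ne_zero_of_ne_bot (p := Y) fun h => by
      rw [h, finrank_bot] at hYd; omega
    obtain ⟨c₂, hc₂, hc⟩ := hYn c₁ hc₁ hc₁0
    have hD : ∀ b ∈ X, polar q w b = 0 → polar q s w • b + (-(polar q s b) - q b * polar q s w) • w ∈ S := by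
      intro b hb hwb
      have := S.sub_mem (hinv w hw b hb hqw hwb s hs) hs
      rwa [app_eich hqw hwb, add_assoc, add_sub_cancel_left] at this
    have h1 := hD c₁ (hYX hc₁) (hY c₁ hc₁).1
    have h2 := hD c₂ (hYX hc₂) (hY c₂ hc₂).1
    have h4 := hD (c₁ + c₂) (X.add_mem (hYX hc₁) (hYX hc₂))
      (by rw [polar_add_right, (hY c₁ hc₁).1, (hY c₂ hc₂).1, add_zero])
    have h5 := S.sub_mem (S.sub_mem h4 h1) h2
    have hwS : w ∈ S := by
      refine (Submodule.smul_mem_iff S (mul_ne_zero hc hsw)).1 ?_
      have := S.neg_mem h5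
      convert this using 1
      rw [polar_add_right, QuadraticMap.map_add ⇑q c₁ c₂]
      module
    refine (Submodule.smul_mem_iff S hsw).1 ?_
    have := S.sub_mem (hD a ha hwa) (S.smul_mem (-(polar q s a) - q a * polar q s w) hwS)
    rwa [add_sub_cancel_right] at this
  obtain ⟨w, hw, hqw, hsw⟩ := exists_singular_pairing hq hX h3 hy hsy
  have hwS : w ∈ S := key s hs w hw hqw hsw w hw (by rw [polar_self', hqw, mul_zero])
  obtain ⟨r, hr, hqr, hwr⟩ := OrthTools.exists_partner hX hw (fun h => hsw (by rw [h, polar_zero_right])) hqw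
  have hrS : r ∈ S := key w hwS r hr hqr (by rw [hwr]; exact one_ne_zero) r hr (by rw [polar_self', hqr, mul_zero])
  intro x hx
  have h1 : x - polar q w x • r ∈ S := key s hs w hw hqw hsw _ (X.sub_mem hx (X.smul_mem _ hr))
    (by rw [polar_sub_right, polar_smul_right, hwr, smul_eq_mul, mul_one, sub_self])
  simpa using S.add_mem h1 (S.smul_mem (polar q w x) hrS)

/-! ### Centres -/

omit hq hn in
/-- All Eichler elements with centre `u` lie in `M`. -/
def Full (M : Subgroup (O q)) (u : ι → F) : Prop :=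
  q u = 0 ∧ ∀ a, polar q u a = 0 → eich q u a ∈ M

omit hq hn in
theorem full_zero (M : Subgroup (O q)) : Full M (0 : ι → F) :=
  ⟨QuadraticMap.map_zero q, fun a _ => by rw [eich_zero_left]; exact M.one_mem⟩

omit hq hn in
theorem full_conj {M : Subgroup (O q)} {g : O q} (hg : g ∈ M) {u : ι → F} (hu : Full M u) :
    Full M (app g u) := by
  refine ⟨by rw [Q_app, hu.1], fun a ha => ?_⟩
  have ha' : polar q u (app g⁻¹ a) = 0 := by rwa [← polar_app g, app_app_inv]
  have := M.mul_mem (M.mul_mem hg (hu.2 _ ha')) (M.inv_mem hg)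
  rwa [eich_conj hu.1 ha', app_app_inv] at this

omit hq hn in
theorem eich_smul_left {u a : ι → F} (hu : q u = 0) (ha : polar q u a = 0) (t : F) :
    eich q (t • u) a = eich q u (t • a) := by
  refine ext_app fun x => ?_
  rw [app_eich (by rw [QuadraticMap.map_smul, hu, smul_zero]) (by rw [polar_smul_left, ha, smul_zero]),
    app_eich hu (by rw [polar_smul_right, ha, smul_zero]), polar_smul_right, polar_smul_right, QuadraticMap.map_smul]
  simp only [smul_eq_mul]
  match_scalars <;> ring

omit hq hn in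
theorem full_smul {M : Subgroup (O q)} {u : ι → F} (hu : Full M u) (t : F) : Full M (t • u) := by
  refine ⟨by rw [QuadraticMap.map_smul, hu.1, smul_zero], fun a ha => ?_⟩
  rcases eq_or_ne t 0 with rfl | ht
  · rw [zero_smul, eich_zero_left]; exact M.one_mem
  have ha' : polar q u a = 0 := by
    rw [polar_smul_left, smul_eq_mul] at ha
    exact (mul_eq_zero.1 ha).resolve_left ht
  rw [eich_smul_left hu.1 ha']
  exact hu.2 _ (by rw [polar_smul_right, ha', smul_zero])

omit hq hn in
theorem app_eich_move {u x y : ι → F} (hu : q u = 0) (hx : q x = 0) (hy : q y = 0) (hxu : polar q x u = 1)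
    (hyu : polar q y u = 1) : polar q u (y - x) = 0 ∧ app (eich q u (y - x)) x = y := by
  have h1 : polar q u (y - x) = 0 := by
    rw [polar_sub_right, polar_comm (f := ⇑q) u y, polar_comm (f := ⇑q) u x, hxu, hyu, sub_self]
  refine ⟨h1, ?_⟩
  have hQ : q (y - x) = -polar q x y := by
    rw [sub_eq_add_neg y x, QuadraticMap.map_add ⇑q, QuadraticMap.map_neg, polar_neg_right,
      polar_comm (f := ⇑q) y x, hx, hy]
    ring
  rw [app_eich hu h1, hxu, hQ, polar_sub_right, polar_self', hx]
  simp

omit hq hn in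
theorem full_step {M : Subgroup (O q)} {u x y : ι → F} (hu : Full M u) (hx : Full M x) (hy : q y = 0)
    (hxu : polar q x u ≠ 0) (hyu : polar q y u ≠ 0) : Full M y := by
  obtain ⟨h1, h2⟩ := app_eich_move hu.1 (x := (polar q x u)⁻¹ • x) (y := (polar q y u)⁻¹ • y)
    (by rw [QuadraticMap.map_smul, hx.1, smul_zero]) (by rw [QuadraticMap.map_smul, hy, smul_zero])
    (by rw [polar_smul_left, smul_eq_mul, inv_mul_cancel₀ hxu])
    (by rw [polar_smul_left, smul_eq_mul, inv_mul_cancel₀ hyu])
  have h3 := full_conj (hu.2 _ h1) (full_smul hx (polar q x u)⁻¹)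
  rw [h2] at h3
  have h4 := full_smul h3 (polar q y u)
  rwa [smul_inv_smul₀ hyu] at h4

/-- Two full centres which are not orthogonal give everything. -/
theorem commutator_le_of_pair {M : Subgroup (O q)} {u x : ι → F} (hu : Full M u) (hx : Full M x)
    (hxu : polar q x u ≠ 0) : commutator (O q) ≤ M := by
  refine commutator_le hq hn fun z a hz hza => ?_
  rcases eq_or_ne z 0 with rfl | hz0
  · rw [eich_zero_left]; exact M.one_mem
  obtain ⟨y, hy, hyu, hyz⟩ := exists_link hq hn hu.1 (fun h => hxu (by rw [h, polar_zero_right])) hz hz0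
  have hy' : Full M y := full_step hu hx hy hxu hyu
  exact (full_step hy' hu hz (by rwa [polar_comm]) (by rwa [polar_comm])).2 a hza

omit hq hn in
/-- The stabilizer of a subspace inside the orthogonal group. -/
def stab (q : QuadraticForm F (ι → F)) (W : Submodule F (ι → F)) : Subgroup (O q) :=
  (Cfsg.Geo.subspaceStabilizer W).comap (O q).subtype

omit hq hn in
theorem mem_stab {W : Submodule F (ι → F)} {g : O q} : g ∈ stab q W ↔ ∀ x ∈ W, app g x ∈ W :=
  mem_subspaceStabilizer

omit hq hn in
/-- Maximality inside the orthogonal group gives maximality inside the linear group. -/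
theorem maximal_transport {Q : (ι → F) → F} (hQ : Cfsg.Geo.IsNondegenerateQuadraticForm Q)
    {W : Submodule F (ι → F)}
    (h : Cfsg.Geo.IsMaximalIn (commutator (O (quadOf hQ))) (stab (quadOf hQ) W ⊓ commutator (O (quadOf hQ)))) :
    Cfsg.Geo.IsMaximalIn (Cfsg.Geo.omegaGL Q) (Cfsg.Geo.subspaceStabilizer W ⊓ Cfsg.Geo.omegaGL Q) := by
  set i := (O (quadOf hQ)).subtype with hi
  have hinj : Function.Injective i := Subtype.val_injective
  have hΩ : Cfsg.Geo.omegaGL Q = (commutator (O (quadOf hQ))).map i := rfl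
  have hH : Cfsg.Geo.subspaceStabilizer W ⊓ Cfsg.Geo.omegaGL Q =
      (stab (quadOf hQ) W ⊓ commutator (O (quadOf hQ))).map i := by
    rw [hΩ, Subgroup.map_inf _ _ _ hinj, stab, ← hi, Subgroup.map_comap_eq, inf_comm i.range, inf_assoc,
      inf_eq_right.2 (Subgroup.map_le_range i _)]
  rw [hH, hΩ]
  refine ⟨lt_of_le_of_ne (Subgroup.map_mono h.1.le) fun e => h.1.ne (Subgroup.map_injective hinj e),
    fun M h1 h2 => ?_⟩
  have h3 : M = (M.comap i).map i := by
    rw [Subgroup.map_comap_eq, inf_eq_right.2 (h2.trans (Subgroup.map_le_range i _))]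
  rcases h.2 (M.comap i) (Subgroup.map_le_iff_le_comap.1 h1)
    (by rw [← Subgroup.map_le_map_iff_of_injective hinj, ← h3]; exact h2) with h' | h'
  · left; rw [h3, h']
  · right; rw [h3, h']

end CfsgLib.GeomClasses.OrthEich
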