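import Cfsg.Agent.Lib.GeomClasses.Basic

/-!
Two-argument forms that are linear in the first argument, their transvections, and full-axis lemmas.
-/

set_option autoImplicit false
set_option linter.unusedSimpArgs false

namespace CfsgLib.GeomClasses

open Matrix
open scoped MatrixGroups

variable {ι : Type} [Fintype ι] [DecidableEq ι] {F : Type*} [Field F]

/-- A two-argument form which is linear in the first and σ-semilinear in the second argument. -/
structure IsSesq (σ : F →+* F) (f : (ι → F) → (ι → F) → F) : Prop where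
  add_left : ∀ x y v, f (x + y) v = f x v + f y v
  smul_left : ∀ (c : F) (x v : ι → F), f (c • x) v = c * f x v
  add_right : ∀ v x y, f v (x + y) = f v x + f v y
  smul_right : ∀ (c : F) (v x : ι → F), f v (c • x) = σ c * f v x

theorem IsSesq.zero_left {σ : F →+* F} {f : (ι → F) → (ι → F) → F} (hf : IsSesq σ f) (v : ι → F) :
    f 0 v = 0 := by
  simpa using hf.smul_left 0 0 v

theorem IsSesq.zero_right {σ : F →+* F} {f : (ι → F) → (ι → F) → F} (hf : IsSesq σ f) (v : ι → F) :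
    f v 0 = 0 := by
  simpa using hf.smul_right 0 v 0

theorem IsSesq.neg_left {σ : F →+* F} {f : (ι → F) → (ι → F) → F} (hf : IsSesq σ f) (x v : ι → F) :
    f (-x) v = - f x v := by
  simpa using hf.smul_left (-1) x v

theorem IsSesq.sub_left {σ : F →+* F} {f : (ι → F) → (ι → F) → F} (hf : IsSesq σ f) (x y v : ι → F) :
    f (x - y) v = f x v - f y v := by
  rw [sub_eq_add_neg, hf.add_left, hf.neg_left, sub_eq_add_neg]

theorem IsSesq.sum_left {σ : F →+* F} {f : (ι → F) → (ι → F) → F} (hf : IsSesq σ f)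
    {κ : Type*} (s : Finset κ) (g : κ → (ι → F)) (v : ι → F) :
    f (∑ i ∈ s, g i) v = ∑ i ∈ s, f (g i) v :=
  map_sum (AddMonoidHom.mk' (fun x => f x v) (fun x y => hf.add_left x y v)) g s

theorem IsSesq.sum_right {σ : F →+* F} {f : (ι → F) → (ι → F) → F} (hf : IsSesq σ f)
    {κ : Type*} (s : Finset κ) (g : κ → (ι → F)) (v : ι → F) :
    f v (∑ i ∈ s, g i) = ∑ i ∈ s, f v (g i) :=
  map_sum (AddMonoidHom.mk' (fun x => f v x) (fun x y => hf.add_right v x y)) g s

/-- The vector representing the functional x ↦ f(x, v). -/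
def fVec (f : (ι → F) → (ι → F) → F) (v : ι → F) : ι → F := fun i => f (Pi.single i 1) v

theorem IsSesq.fVec_dot {σ : F →+* F} {f : (ι → F) → (ι → F) → F} (hf : IsSesq σ f) (v x : ι → F) :
    fVec f v ⬝ᵥ x = f x v := by
  conv_rhs => rw [pi_eq_sum_univ' x, hf.sum_left]
  refine Finset.sum_congr rfl fun i _ => ?_
  rw [hf.smul_left]
  exact mul_comm _ _

theorem IsSesq.fVec_add {σ : F →+* F} {f : (ι → F) → (ι → F) → F} (hf : IsSesq σ f) (v w : ι → F) :
    fVec f (v + w) = fVec f v + fVec f w := funext fun _ => hf.add_right _ _ _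

theorem IsSesq.fVec_smul {σ : F →+* F} {f : (ι → F) → (ι → F) → F} (hf : IsSesq σ f) (c : F) (v : ι → F) :
    fVec f (c • v) = σ c • fVec f v := funext fun _ => hf.smul_right _ _ _

theorem dot_right_cancel {φ ψ : ι → F} (h : ∀ x, φ ⬝ᵥ x = ψ ⬝ᵥ x) : φ = ψ :=
  dotProduct_eq _ _ h

/-- A functional vanishing on the kernel of a non-zero functional is a multiple of it. -/
theorem exists_smul_of_ker_le {φ ψ : ι → F} (hφ : φ ≠ 0) (h : ∀ a, φ ⬝ᵥ a = 0 → ψ ⬝ᵥ a = 0) :
    ∃ c : F, ψ = c • φ := by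
  obtain ⟨i, hi⟩ := Function.ne_iff.1 hφ
  have hi' : φ i ≠ 0 := hi
  refine ⟨ψ i / φ i, funext fun j => ?_⟩
  have := h (Pi.single j 1 - (φ j / φ i) • Pi.single i 1)
    (by simp [dotProduct_sub, dotProduct_smul, hi'])
  simp [dotProduct_sub, dotProduct_smul, sub_eq_zero] at this
  rw [this]
  simp [mul_comm, mul_div_assoc']

/-- The preimages of two proper kernels do not cover the space. -/
theorem exists_dot_ne_zero_both {φ ψ : ι → F} (hφ : φ ≠ 0) (hψ : ψ ≠ 0) :
    ∃ x, φ ⬝ᵥ x ≠ 0 ∧ ψ ⬝ᵥ x ≠ 0 := by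
  obtain ⟨a, ha⟩ : ∃ a, φ ⬝ᵥ a ≠ 0 := by
    by_contra h
    push Not at h
    exact hφ (dot_right_cancel fun x => by simp [h x])
  obtain ⟨b, hb⟩ : ∃ b, ψ ⬝ᵥ b ≠ 0 := by
    by_contra h
    push Not at h
    exact hψ (dot_right_cancel fun x => by simp [h x])
  by_cases h1 : ψ ⬝ᵥ a = 0
  · by_cases h2 : φ ⬝ᵥ b = 0
    · exact ⟨a + b, by simp [dotProduct_add, h2, ha], by simp [dotProduct_add, h1, hb]⟩
    · exact ⟨b, h2, hb⟩
  · exact ⟨a, ha, h1⟩

theorem IsSesq.fVec_ne_zero {σ : F →+* F} {f : (ι → F) → (ι → F) → F} (hf : IsSesq σ f)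
    (hnd : Cfsg.Geo.IsNondegenerateForm f) {v : ι → F} (hv : v ≠ 0) : fVec f v ≠ 0 := by
  intro h
  obtain ⟨x, hx⟩ := (hnd v hv).1
  exact hx (by rw [← hf.fVec_dot, h, zero_dotProduct])

/-- The vectors fVec f v span the whole dual space. -/
theorem IsSesq.span_fVec {σ : F →+* F} {f : (ι → F) → (ι → F) → F} (hf : IsSesq σ f)
    (hnd : Cfsg.Geo.IsNondegenerateForm f) {S : Submodule F (ι → F)} (hS : ∀ v, fVec f v ∈ S) :
    S = ⊤ := by
  by_contra hne
  obtain ⟨x, hx, hxS⟩ := S.exists_le_ker_of_lt_top (lt_top_iff_ne_top.2 hne)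
  obtain ⟨a, ha⟩ : ∃ a : ι → F, ∀ y, x y = y ⬝ᵥ a := by
    refine ⟨fun i => x (Pi.single i 1), fun y => ?_⟩
    conv_lhs => rw [pi_eq_sum_univ' y]
    simp [dotProduct]
  have ha0 : a ≠ 0 := by
    intro h0
    exact hx (LinearMap.ext fun y => by simp [ha y, h0])
  obtain ⟨w, hw⟩ := (hnd a ha0).2
  apply hw
  rw [← hf.fVec_dot, ← ha]
  exact hxS (hS w)

/-- The transvection x ↦ x + c f(x, v) v. -/
noncomputable def formTv (f : (ι → F) → (ι → F) → F) (v : ι → F) (c : F) : GL ι F :=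
  tv v (c • fVec f v)

theorem IsSesq.formTv_mulVec {σ : F →+* F} {f : (ι → F) → (ι → F) → F} (hf : IsSesq σ f)
    {v : ι → F} (hv : f v v = 0) (c : F) (x : ι → F) :
    (formTv f v c : Matrix ι ι F) *ᵥ x = x + (c * f x v) • v := by
  rw [formTv, tv_mulVec (by simp [hf.fVec_dot, hv]), smul_dotProduct, hf.fVec_dot, smul_eq_mul]

theorem IsSesq.formTv_form {σ : F →+* F} {f : (ι → F) → (ι → F) → F} (hf : IsSesq σ f)
    {v : ι → F} (hv : f v v = 0) (c : F) (x y : ι → F) :
    f ((formTv f v c : Matrix ι ι F) *ᵥ x) ((formTv f v c : Matrix ι ι F) *ᵥ y) =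
      f x y + (c * f x v) * f v y + σ (c * f y v) * f x v := by
  rw [hf.formTv_mulVec hv, hf.formTv_mulVec hv, hf.add_left, hf.add_right, hf.add_right,
    hf.smul_right, hf.smul_left, hf.smul_left, hf.smul_right, hv]
  ring

theorem formTv_mem_specialLinear (f : (ι → F) → (ι → F) → F) (v : ι → F) (c : F) :
    formTv f v c ∈ Cfsg.Geo.specialLinear ι F := tv_mem_specialLinear _ _

/-- A subspace of axes invariant under the transvection at u contains fVec f u unless it kills u. -/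
theorem fVec_mem_of_invariant {σ : F →+* F} {f : (ι → F) → (ι → F) → F} (hf : IsSesq σ f)
    {M : Subgroup (GL ι F)} {u : ι → F} (hu : f u u = 0) {c : F} (hc : c ≠ 0) (hM : formTv f u c ∈ M)
    {φ : ι → F} (hφ : φ ∈ fullAxes M) (hφu : φ ⬝ᵥ u ≠ 0) : fVec f u ∈ fullAxes M := by
  have hdot : (c • fVec f u) ⬝ᵥ u = 0 := by simp [hf.fVec_dot, hu]
  have := (fullAxes M).sub_mem (fullAxes_invariant hM hφ) hφ
  rw [formTv, tv_inv hdot, tv_val (by simp [hf.fVec_dot, hu]), vecMul_add, vecMul_one,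
    vecMul_vecMulVec, add_sub_cancel_left] at this
  have h2 := (fullAxes M).smul_mem (-(c * φ ⬝ᵥ u))⁻¹ this
  convert h2 using 1
  simp [dotProduct_neg, smul_smul]
  field_simp
  simp

end CfsgLib.GeomClasses
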