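import Cfsg.Agent.Lib.GeomClasses.Forms

/-!
Unitary forms given as functions over a finite field: trace and norm of the involution, isotropic
vectors, unitary transvections and their centres in a subgroup.
-/

set_option autoImplicit false
set_option linter.unusedSimpArgs false
set_option linter.unusedSectionVars false

namespace CfsgLib.GeomClasses.Unit

open Matrix
open scoped MatrixGroups

section field

variable {F : Type*} [Field F] {σ : F ≃+* F}

theorem exists_moved (hσ : σ ≠ RingEquiv.refl F) : ∃ a : F, σ a ≠ a := by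
  by_contra h
  push Not at h
  exact hσ (RingEquiv.ext h)

theorem exists_skew (hσ : σ ≠ RingEquiv.refl F) (hσ2 : ∀ a, σ (σ a) = a) :
    ∃ c : F, c ≠ 0 ∧ c + σ c = 0 := by
  obtain ⟨a, ha⟩ := exists_moved hσ
  exact ⟨a - σ a, sub_ne_zero.2 (Ne.symm ha), by rw [map_sub, hσ2]; ring⟩

theorem exists_trace_ne_zero (hσ : σ ≠ RingEquiv.refl F) : ∃ e : F, e + σ e ≠ 0 := by
  by_contra h
  push Not at h
  have h1 := h 1
  rw [map_one] at h1
  obtain ⟨a, ha⟩ := exists_moved hσ
  exact ha (by linear_combination h a - a * h1)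

theorem exists_trace (hσ : σ ≠ RingEquiv.refl F) (hσ2 : ∀ a, σ (σ a) = a) {b : F} (hb : σ b = b) :
    ∃ l : F, l + σ l = b := by
  obtain ⟨e, he⟩ := exists_trace_ne_zero hσ
  have hfix : σ (e + σ e) = e + σ e := by rw [map_add, hσ2, add_comm]
  refine ⟨b / (e + σ e) * e, ?_⟩
  rw [map_mul, map_div₀, hb, hfix]
  field_simp

variable [Fintype F]

/-- The norm onto the fixed field is surjective. -/
theorem exists_norm (hσ : σ ≠ RingEquiv.refl F) (hσ2 : ∀ a, σ (σ a) = a) {b : F} (hb : σ b = b) : ∃ x : F, x * σ x = b := by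
  by_cases hb0 : b = 0
  · exact ⟨0, by simp [hb0]⟩
  let su : Fˣ →* Fˣ := Units.map (σ : F →+* F).toMonoidHom
  let N : Fˣ →* Fˣ :=
    { toFun := fun x => x * su x
      map_one' := by simp
      map_mul' := fun x y => by rw [map_mul, mul_mul_mul_comm] }
  let P : Fˣ →* Fˣ :=
    { toFun := fun x => x / su x
      map_one' := by simp
      map_mul' := fun x y => by rw [map_mul, mul_div_mul_comm] }
  have hsu : ∀ x : Fˣ, ((su x : Fˣ) : F) = σ x := fun x => rfl
  have hker : P.range = N.ker := by
    refine le_antisymm ?_ ?_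
    · rintro _ ⟨z, rfl⟩
      rw [MonoidHom.mem_ker]
      change z / su z * su (z / su z) = 1
      rw [map_div]
      have : su (su z) = z := Units.ext (by rw [hsu, hsu, hσ2])
      rw [this, div_mul_div_cancel, div_self']
    · intro x hx
      rw [MonoidHom.mem_ker] at hx
      have hx' : (x : F) * σ x = 1 := by
        have := congrArg Units.val hx
        simpa [N, hsu] using this
      by_cases h1 : 1 + (x : F) = 0
      · obtain ⟨c, hc, hc'⟩ := exists_skew hσ hσ2
        refine ⟨Units.mk0 c hc, Units.ext ?_⟩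
        change ((Units.mk0 c hc / su (Units.mk0 c hc) : Fˣ) : F) = x
        rw [Units.val_div_eq_div_val, hsu, Units.val_mk0, eq_neg_of_add_eq_zero_right hc',
          eq_neg_of_add_eq_zero_right h1, div_neg, div_self hc]
      · refine ⟨Units.mk0 _ h1, Units.ext ?_⟩
        change ((Units.mk0 _ h1 / su (Units.mk0 _ h1) : Fˣ) : F) = x
        rw [Units.val_div_eq_div_val, hsu, Units.val_mk0, map_add, map_one,
          div_eq_iff (by
            intro h
            exact h1 (σ.injective (by rw [map_add, map_one, h, map_zero])))]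
        linear_combination -hx'
  have hle : N.range ≤ P.ker := by
    rintro _ ⟨z, rfl⟩
    rw [MonoidHom.mem_ker]
    change z * su z / su (z * su z) = 1
    have : su (su z) = z := Units.ext (by rw [hsu, hsu, hσ2])
    rw [map_mul, this, mul_comm (su z) z, div_self']
  have hcard : Nat.card N.range = Nat.card P.ker := by
    have h1 : Nat.card N.ker * Nat.card N.range = Nat.card Fˣ := by
      rw [← N.ker.card_mul_index, Subgroup.index_ker]
    have h2 : Nat.card P.ker * Nat.card P.range = Nat.card Fˣ := by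
      rw [← P.ker.card_mul_index, Subgroup.index_ker]
    rw [← hker, ← h2, mul_comm (Nat.card P.ker)] at h1
    exact Nat.eq_of_mul_eq_mul_left Nat.card_pos h1
  have heq := Subgroup.eq_of_le_of_card_ge hle hcard.ge
  have hbm : Units.mk0 b hb0 ∈ P.ker := by
    rw [MonoidHom.mem_ker]
    change Units.mk0 b hb0 / su (Units.mk0 b hb0) = 1
    rw [div_eq_one]
    exact Units.ext (by rw [hsu, Units.val_mk0, hb])
  rw [← heq] at hbm
  obtain ⟨x, hx⟩ := hbm
  exact ⟨x, congrArg Units.val hx⟩

end field

variable {ι : Type} [Fintype ι] [DecidableEq ι] {F : Type*} [Field F] {σ : F ≃+* F}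
  {f : (ι → F) → (ι → F) → F}

theorem sesq (hf : Cfsg.Geo.IsUnitaryForm σ f) : IsSesq (σ : F →+* F) f where
  add_left := hf.add_left
  smul_left := hf.smul_left
  add_right v x y := by rw [hf.herm v (x + y), hf.add_left, map_add, ← hf.herm, ← hf.herm]
  smul_right c v x := by
    rw [hf.herm v (c • x), hf.smul_left, map_mul, ← hf.herm]
    rfl

theorem add_left (hf : Cfsg.Geo.IsUnitaryForm σ f) (x y v : ι → F) : f (x + y) v = f x v + f y v :=
  hf.add_left x y v

theorem add_right (hf : Cfsg.Geo.IsUnitaryForm σ f) (v x y : ι → F) : f v (x + y) = f v x + f v y :=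
  (sesq hf).add_right v x y

theorem smul_left (hf : Cfsg.Geo.IsUnitaryForm σ f) (c : F) (x v : ι → F) :
    f (c • x) v = c * f x v :=
  hf.smul_left c x v

theorem smul_right (hf : Cfsg.Geo.IsUnitaryForm σ f) (c : F) (v x : ι → F) :
    f v (c • x) = σ c * f v x :=
  (sesq hf).smul_right c v x

theorem sub_left (hf : Cfsg.Geo.IsUnitaryForm σ f) (x y v : ι → F) : f (x - y) v = f x v - f y v :=
  (sesq hf).sub_left x y v

theorem sub_right (hf : Cfsg.Geo.IsUnitaryForm σ f) (v x y : ι → F) : f v (x - y) = f v x - f v y := by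
  have := add_right hf v (x - y) y
  rw [sub_add_cancel] at this
  rw [this, add_sub_cancel_right]

theorem zero_left (hf : Cfsg.Geo.IsUnitaryForm σ f) (v : ι → F) : f 0 v = 0 := (sesq hf).zero_left v

theorem zero_right (hf : Cfsg.Geo.IsUnitaryForm σ f) (v : ι → F) : f v 0 = 0 := (sesq hf).zero_right v

theorem self_fixed (hf : Cfsg.Geo.IsUnitaryForm σ f) (v : ι → F) : σ (f v v) = f v v := (hf.herm v v).symm

theorem conj_form (hf : Cfsg.Geo.IsUnitaryForm σ f) (v w : ι → F) : σ (f v w) = f w v :=
  (hf.herm w v).symm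

theorem ne_zero_comm (hf : Cfsg.Geo.IsUnitaryForm σ f) {x y : ι → F} (h : f x y ≠ 0) : f y x ≠ 0 :=
  fun h' => h (by rw [hf.herm x y, h', map_zero])

theorem eq_zero_comm (hf : Cfsg.Geo.IsUnitaryForm σ f) {x y : ι → F} (h : f x y = 0) : f y x = 0 := by
  rw [hf.herm y x, h, map_zero]

theorem self_add_smul (hf : Cfsg.Geo.IsUnitaryForm σ f) (x v : ι → F) (a : F) :
    f (x + a • v) (x + a • v) =
      f x x + a * σ a * f v v + (a * f v x + σ (a * f v x)) := by
  rw [add_left hf, add_right hf, add_right hf, smul_left hf, smul_left hf, smul_right hf,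
    smul_right hf, map_mul, conj_form hf]
  ring

theorem formTv_mulVec (hf : Cfsg.Geo.IsUnitaryForm σ f) {v : ι → F} (hv : f v v = 0) (c : F)
    (x : ι → F) : (formTv f v c : Matrix ι ι F) *ᵥ x = x + (c * f x v) • v :=
  (sesq hf).formTv_mulVec hv c x

theorem formTv_isometry (hf : Cfsg.Geo.IsUnitaryForm σ f) {v : ι → F} (hv : f v v = 0) {c : F}
    (hc : c + σ c = 0) (x y : ι → F) :
    f ((formTv f v c : Matrix ι ι F) *ᵥ x) ((formTv f v c : Matrix ι ι F) *ᵥ y) = f x y := by
  rw [(sesq hf).formTv_form hv]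
  change f x y + c * f x v * f v y + σ (c * f y v) * f x v = f x y
  rw [map_mul, conj_form hf]
  linear_combination (f x v * f v y) * hc

theorem formTv_mem_similarity (hf : Cfsg.Geo.IsUnitaryForm σ f) {v : ι → F} (hv : f v v = 0) {c : F}
    (hc : c + σ c = 0) :
    formTv f v c ∈ Cfsg.Geo.similarityGroup f ⊓ Cfsg.Geo.specialLinear ι F :=
  ⟨⟨1, fun x y => by rw [formTv_isometry hf hv hc, Units.val_one, one_mul]⟩,
    formTv_mem_specialLinear _ _ _⟩

theorem formTv_smul (hf : Cfsg.Geo.IsUnitaryForm σ f) (a : F) {v : ι → F} (hv : f v v = 0) (c : F) :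
    formTv f (a • v) c = formTv f v (a * σ a * c) := by
  apply gl_ext
  intro x
  rw [formTv_mulVec hf (by rw [smul_left hf, smul_right hf, hv, mul_zero, mul_zero]), formTv_mulVec hf hv,
    smul_right hf, smul_smul]
  congr 2
  ring

theorem exists_orth_ne_zero (hn : 2 ≤ Fintype.card ι) (φ : ι → F) : ∃ y : ι → F, y ≠ 0 ∧ φ ⬝ᵥ y = 0 := by
  obtain ⟨i, j, hij⟩ := Fintype.exists_pair_of_one_lt_card (α := ι) (by omega)
  by_cases h : φ i = 0
  · exact ⟨Pi.single i 1, by simp, by simpa using h⟩
  · refine ⟨φ j • Pi.single i 1 - φ i • Pi.single j 1, fun h0 => ?_, ?_⟩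
    · have := congrFun h0 j
      simp [Pi.single_apply, Ne.symm hij] at this
      exact h this
    · simp [dotProduct_sub, dotProduct_smul, mul_comm]

variable [Fintype F]

theorem exists_isotropic (hf : Cfsg.Geo.IsUnitaryForm σ f) (hn : 2 ≤ Fintype.card ι) :
    ∃ v : ι → F, v ≠ 0 ∧ f v v = 0 := by
  obtain ⟨i, -⟩ := Fintype.exists_pair_of_one_lt_card (α := ι) (by omega)
  let a : ι → F := Pi.single i 1
  by_cases ha : f a a = 0
  · exact ⟨a, by simp [a], ha⟩
  obtain ⟨b, hb, hab⟩ := exists_orth_ne_zero hn (fVec f a)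
  rw [(sesq hf).fVec_dot] at hab
  by_cases hbb : f b b = 0
  · exact ⟨b, hb, hbb⟩
  obtain ⟨x, hx⟩ := exists_norm hf.ne_refl hf.involutive
    (show σ (- f a a / f b b) = - f a a / f b b by rw [map_div₀, map_neg, self_fixed hf, self_fixed hf])
  refine ⟨a + x • b, fun h => ?_, ?_⟩
  · have := congrArg (fun z => f z a) h
    simp only [add_left hf, smul_left hf, zero_left hf, hab, mul_zero, add_zero] at this
    exact ha this
  · rw [self_add_smul hf, hx, hab, mul_zero, map_zero, div_mul_cancel₀ _ hbb]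
    ring

/-- Every vector not orthogonal to an isotropic v can be made isotropic by adding a multiple of v. -/
theorem exists_isotropic_add (hf : Cfsg.Geo.IsUnitaryForm σ f) {v : ι → F} (hv : f v v = 0)
    {x : ι → F} (hxv : f x v ≠ 0) : ∃ a : F, f (x + a • v) (x + a • v) = 0 := by
  obtain ⟨l, hl⟩ := exists_trace hf.ne_refl hf.involutive
    (show σ (- f x x) = - f x x by rw [map_neg, self_fixed hf])
  refine ⟨l / f v x, ?_⟩
  rw [self_add_smul hf, hv, mul_zero, add_zero, div_mul_cancel₀ _ (ne_zero_comm hf hxv)]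
  linear_combination hl

/-- The isotropic vectors span the space. -/
theorem span_isotropic (hf : Cfsg.Geo.IsUnitaryForm σ f) (hn : 2 ≤ Fintype.card ι)
    {W : Submodule F (ι → F)} (hW : ∀ v, f v v = 0 → v ∈ W) : W = ⊤ := by
  obtain ⟨v, hv0, hv⟩ := exists_isotropic hf hn
  have key : ∀ x, f x v ≠ 0 → x ∈ W := fun x hx => by
    obtain ⟨a, ha⟩ := exists_isotropic_add hf hv hx
    simpa using W.sub_mem (hW _ ha) (W.smul_mem a (hW v hv))
  obtain ⟨y, hy⟩ := (hf.nondegenerate v hv0).1
  rw [Submodule.eq_top_iff']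
  intro x
  by_cases hx : f x v = 0
  · have := W.sub_mem (key (x + y) (by rwa [add_left hf, hx, zero_add])) (key y hy)
    rwa [add_sub_cancel_right] at this
  · exact key x hx

/-! ### Perpendicular subspaces -/

/-- The dot product as a bilinear form. -/
def dotForm (ι : Type) [Fintype ι] (F : Type*) [Field F] : LinearMap.BilinForm F (ι → F) :=
  LinearMap.mk₂ F (fun x y => x ⬝ᵥ y) (fun x y z => add_dotProduct x y z)
    (fun c x y => smul_dotProduct c x y) (fun x y z => dotProduct_add x y z)
    (fun c x y => dotProduct_smul c x y)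

theorem dotForm_nondegenerate : (dotForm ι F).Nondegenerate := by
  constructor
  · intro x hx
    exact dot_right_cancel fun y => (hx y).trans (zero_dotProduct y).symm
  · intro x hx
    exact dot_right_cancel fun y => by
      rw [zero_dotProduct, dotProduct_comm]
      exact hx y

/-- The vectors annihilated by every member of S under the dot product. -/
def dotAnn (S : Submodule F (ι → F)) : Submodule F (ι → F) := (dotForm ι F).orthogonal S

theorem mem_dotAnn {S : Submodule F (ι → F)} {x : ι → F} : x ∈ dotAnn S ↔ ∀ φ ∈ S, φ ⬝ᵥ x = 0 :=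
  Iff.rfl

theorem finrank_dotAnn (S : Submodule F (ι → F)) :
    Module.finrank F (dotAnn S) + Module.finrank F S = Fintype.card ι := by
  have h := LinearMap.BilinForm.finrank_orthogonal (dotForm_nondegenerate (ι := ι) (F := F)) S
  have h2 : Module.finrank F S ≤ Module.finrank F (ι → F) := Submodule.finrank_le S
  rw [Module.finrank_fintype_fun_eq_card] at h h2
  rw [dotAnn, h]
  omega

theorem fVec_injective (hf : Cfsg.Geo.IsUnitaryForm σ f) : Function.Injective (fVec f) := by
  intro v w h
  by_contra hne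
  obtain ⟨x, hx⟩ := (hf.nondegenerate _ (sub_ne_zero.2 hne)).1
  apply hx
  rw [sub_right hf, ← (sesq hf).fVec_dot, ← (sesq hf).fVec_dot, h, sub_self]

/-- The image of a subspace under the semilinear map fVec. -/
def fImage (hf : Cfsg.Geo.IsUnitaryForm σ f) (W : Submodule F (ι → F)) : Submodule F (ι → F) where
  carrier := fVec f '' (W : Set (ι → F))
  zero_mem' := ⟨0, W.zero_mem, funext fun _ => zero_right hf _⟩
  add_mem' := by
    rintro _ _ ⟨v, hv, rfl⟩ ⟨w, hw, rfl⟩
    exact ⟨v + w, W.add_mem hv hw, (sesq hf).fVec_add v w⟩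
  smul_mem' := by
    rintro c _ ⟨v, hv, rfl⟩
    refine ⟨σ c • v, W.smul_mem _ hv, ?_⟩
    rw [(sesq hf).fVec_smul]
    change σ (σ c) • _ = _
    rw [hf.involutive]

theorem finrank_fImage (hf : Cfsg.Geo.IsUnitaryForm σ f) (W : Submodule F (ι → F)) :
    Module.finrank F (fImage hf W) = Module.finrank F W := by
  classical
  have h1 := Module.card_eq_pow_finrank (K := F) (V := fImage hf W)
  have h2 := Module.card_eq_pow_finrank (K := F) (V := W)
  have h3 : Fintype.card (fImage hf W) = Fintype.card W := by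
    rw [← Nat.card_eq_fintype_card, ← Nat.card_eq_fintype_card]
    exact Nat.card_image_of_injective (fVec_injective hf) (W : Set (ι → F))
  exact Nat.pow_right_injective Fintype.one_lt_card (h1.symm.trans (h3.trans h2))

/-- The perpendicular of a subspace. -/
def perp (hf : Cfsg.Geo.IsUnitaryForm σ f) (W : Submodule F (ι → F)) : Submodule F (ι → F) :=
  dotAnn (fImage hf W)

theorem mem_perp (hf : Cfsg.Geo.IsUnitaryForm σ f) {W : Submodule F (ι → F)} {x : ι → F} :
    x ∈ perp hf W ↔ ∀ w ∈ W, f x w = 0 := by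
  refine ⟨fun h w hw => ?_, fun h => ?_⟩
  · rw [← (sesq hf).fVec_dot]
    exact mem_dotAnn.1 h _ ⟨w, hw, rfl⟩
  · rw [perp, mem_dotAnn]
    rintro _ ⟨w, hw, rfl⟩
    rw [(sesq hf).fVec_dot]
    exact h w hw

theorem mem_perp' (hf : Cfsg.Geo.IsUnitaryForm σ f) {W : Submodule F (ι → F)} {x : ι → F} :
    x ∈ perp hf W ↔ ∀ w ∈ W, f w x = 0 :=
  (mem_perp hf).trans
    ⟨fun h w hw => eq_zero_comm hf (h w hw), fun h w hw => eq_zero_comm hf (h w hw)⟩

theorem finrank_perp (hf : Cfsg.Geo.IsUnitaryForm σ f) (W : Submodule F (ι → F)) :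
    Module.finrank F (perp hf W) + Module.finrank F W = Fintype.card ι := by
  have := finrank_dotAnn (fImage hf W)
  rwa [finrank_fImage] at this

theorem perp_perp (hf : Cfsg.Geo.IsUnitaryForm σ f) (W : Submodule F (ι → F)) :
    perp hf (perp hf W) = W := by
  refine (Submodule.eq_of_le_of_finrank_eq (fun x hx => (mem_perp hf).2 fun w hw =>
    (mem_perp' hf).1 hw x hx) ?_).symm
  have h1 := finrank_perp hf W
  have h2 := finrank_perp hf (perp hf W)
  omega

theorem isCompl_perp (hf : Cfsg.Geo.IsUnitaryForm σ f) {W : Submodule F (ι → F)}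
    (hW : Cfsg.Geo.IsNondegenerateOn f W) : IsCompl W (perp hf W) := by
  have hd : Disjoint W (perp hf W) := by
    rw [Submodule.disjoint_def]
    intro x hx hx'
    by_contra hne
    obtain ⟨y, hy, hxy⟩ := (hW x hx hne).2
    exact hxy ((mem_perp hf).1 hx' y hy)
  refine ⟨hd, codisjoint_iff.2 (Submodule.eq_top_of_finrank_eq ?_)⟩
  have h1 := finrank_perp hf W
  have h2 := Submodule.finrank_sup_add_finrank_inf_eq W (perp hf W)
  rw [disjoint_iff.1 hd, finrank_bot] at h2
  rw [Module.finrank_fintype_fun_eq_card]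
  omega

/-- A subspace all of whose vectors are isotropic is totally singular. -/
theorem le_perp_of_isotropic (hf : Cfsg.Geo.IsUnitaryForm σ f) {P : Submodule F (ι → F)}
    (hP : ∀ x ∈ P, f x x = 0) : P ≤ perp hf P := by
  intro x hx
  rw [mem_perp]
  intro y hy
  by_contra hne
  obtain ⟨e, he⟩ := exists_trace_ne_zero hf.ne_refl
  have h := hP _ (P.add_mem hx (P.smul_mem (e / f y x) hy))
  rw [self_add_smul hf, hP x hx, hP y hy, div_mul_cancel₀ _ (ne_zero_comm hf hne)] at h
  exact he (by linear_combination h)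

end CfsgLib.GeomClasses.Unit
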