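import Cfsg.Agent.Lib.GeomClasses.RationalField
import Cfsg.Agent.Lib.GeomClasses.Transport


/-! The linear groups of small dimension: general form of a maximality theorem. -/

set_option autoImplicit false

namespace CfsgLib.GeomClasses.MaxLinear.SubfieldCase

open Matrix CfsgLib.GeomClasses CfsgLib.GeomClasses.Rational

variable {n : ℕ} {F : Type*} [Field F]

/-- The rational matrices times scalars. -/
def base (F₀ : Subfield F) (n : ℕ) : Subgroup (Matrix.GeneralLinearGroup (Fin n) F) :=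
  (Matrix.GeneralLinearGroup.map (F₀.subtype : F₀ →+* F)).range ⊔ Cfsg.Geo.scalars (Fin n) F

theorem exists_scalar_rat {F₀ : Subfield F} {g : Matrix.GeneralLinearGroup (Fin n) F} (hg : g ∈ base F₀ n) :
    ∃ c : F, c ≠ 0 ∧ ∀ i j, c * (g : Matrix (Fin n) (Fin n) F) i j ∈ F₀ := by
  rw [base, Subgroup.mem_sup_of_normal_right] at hg
  obtain ⟨y, ⟨a, rfl⟩, z, hz, rfl⟩ := hg
  obtain ⟨c, hc⟩ := (Cfsg.Geo.mem_scalars_iff z).1 hz
  refine ⟨(c : F)⁻¹, inv_ne_zero c.ne_zero, fun i j => ?_⟩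
  rw [Units.val_mul, hc, mul_smul_comm, mul_one, Matrix.smul_apply, smul_eq_mul, ← mul_assoc,
    inv_mul_cancel₀ c.ne_zero, one_mul]
  exact ((a : Matrix (Fin n) (Fin n) F₀) i j).2

theorem mem_base_of_products (hn : 3 ≤ n) {F₀ : Subfield F} (g : Matrix.GeneralLinearGroup (Fin n) F)
    (h : ∀ i j, i ≠ j → ∀ a b, (g : Matrix (Fin n) (Fin n) F) a i *
      ((g⁻¹ : Matrix.GeneralLinearGroup (Fin n) F) : Matrix (Fin n) (Fin n) F) j b ∈ F₀) :
    g ∈ base F₀ n := by
  set gi := ((g⁻¹ : Matrix.GeneralLinearGroup (Fin n) F) : Matrix (Fin n) (Fin n) F) with hgi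
  have hrow : ∀ j, ∃ b, gi j b ≠ 0 := by
    intro j
    by_contra hz
    push Not at hz
    have h1 : gi * (g : Matrix (Fin n) (Fin n) F) = 1 := Units.inv_mul g
    have h2 := congrFun (congrFun h1 j) j
    rw [Matrix.mul_apply, Matrix.one_apply_eq, Finset.sum_eq_zero (fun l _ => by rw [hz l, zero_mul])] at h2
    exact zero_ne_one h2
  have hcol : ∀ i, ∃ a, (g : Matrix (Fin n) (Fin n) F) a i ≠ 0 := by
    intro i
    by_contra hz
    push Not at hz
    have h1 : gi * (g : Matrix (Fin n) (Fin n) F) = 1 := Units.inv_mul g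
    have h2 := congrFun (congrFun h1 i) i
    rw [Matrix.mul_apply, Matrix.one_apply_eq, Finset.sum_eq_zero (fun l _ => by rw [hz l, mul_zero])] at h2
    exact zero_ne_one h2
  let j₀ : Fin n := ⟨0, by omega⟩
  let j₁ : Fin n := ⟨1, by omega⟩
  obtain ⟨b₀, hb₀⟩ := hrow j₀
  obtain ⟨b₁, hb₁⟩ := hrow j₁
  set w := gi j₀ b₀ with hw
  have hrat : ∀ a i, w * (g : Matrix (Fin n) (Fin n) F) a i ∈ F₀ := by
    intro a i
    by_cases hi : i = j₀
    · -- compare the rows j₀ and j₁ through a third column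
      let i₂ : Fin n := ⟨2, by omega⟩
      obtain ⟨k, hk⟩ := hcol i₂
      have e1 := h i₂ j₀ (by simp [i₂, j₀]) k b₀
      have e2 := h i₂ j₁ (by simp [i₂, j₁]) k b₁
      have e3 := h i j₁ (by simp [hi, j₀, j₁]) a b₁
      have e4 := F₀.mul_mem e3 (F₀.div_mem e1 e2)
      rwa [← hw, mul_div_mul_left _ _ hk, mul_assoc, mul_div_cancel₀ _ hb₁, mul_comm] at e4
    · rw [mul_comm]; exact h i j₀ hi a b₀
  let W : Matrix (Fin n) (Fin n) F₀ := fun a i => ⟨_, hrat a i⟩
  have hW : W.map (F₀.subtype : F₀ →+* F) = w • (g : Matrix (Fin n) (Fin n) F) := rfl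
  have hdet : W.det ≠ 0 := by
    intro h0
    have h1 : (w • (g : Matrix (Fin n) (Fin n) F)).det = 0 := by
      rw [← hW, ← RingHom.mapMatrix_apply, ← RingHom.map_det, h0, map_zero]
    rw [det_smul] at h1
    exact mul_ne_zero (pow_ne_zero _ hb₀) ((Matrix.isUnit_iff_isUnit_det _).1 g.isUnit).ne_zero h1
  let z : Matrix.GeneralLinearGroup (Fin n) F :=
    Units.map (Matrix.scalar (Fin n) : F →+* Matrix (Fin n) (Fin n) F).toMonoidHom (Units.mk0 w hb₀)
  have hz : z ∈ Cfsg.Geo.scalars (Fin n) F := ⟨_, rfl⟩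
  have hgz : g = Matrix.GeneralLinearGroup.map (F₀.subtype : F₀ →+* F)
      (Matrix.GeneralLinearGroup.mkOfDetNeZero W hdet) * z⁻¹ := by
    rw [eq_mul_inv_iff_mul_eq]
    apply Units.ext
    ext a i
    simp [z, W, Matrix.mul_diagonal, mul_comm]
    rfl
  rw [hgz]
  exact Subgroup.mul_mem_sup ⟨_, rfl⟩ ((Cfsg.Geo.scalars (Fin n) F).inv_mem hz)

theorem tv_mem_base {F₀ : Subfield F} (a α : Fin n → F₀) (h : α ⬝ᵥ a = 0) :
    tv (up a) (up α) ∈ base F₀ n ⊓ Cfsg.Geo.specialLinear (Fin n) F := by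
  refine ⟨Subgroup.mem_sup_left ⟨tv a α, ?_⟩, tv_mem_specialLinear _ _⟩
  apply Units.ext
  ext i j
  rw [tv_val (up_dot_zero h)]
  simp [Matrix.GeneralLinearGroup.map, tv_val h, up, vecMulVec_apply, Matrix.one_apply]
  split_ifs <;> simp

theorem maximal_base [Fintype F] (hn : 4 ≤ n) {F₀ : Subfield F} {r : ℕ} (hr : r.Prime)
    (hcard : Fintype.card F = Nat.card F₀ ^ r) :
    Cfsg.Geo.IsMaximalIn (Cfsg.Geo.specialLinear (Fin n) F)
      (base F₀ n ⊓ Cfsg.Geo.specialLinear (Fin n) F) := by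
  obtain ⟨lam, hlam⟩ : ∃ x : F, x ∉ F₀ := by
    by_contra h
    push Not at h
    have h1 : Nat.card F₀ = Nat.card F := Nat.card_congr (Equiv.subtypeUnivEquiv h)
    rw [h1, ← Nat.card_eq_fintype_card] at hcard
    have := Nat.pow_right_injective (Finite.one_lt_card (α := F)) (show Nat.card F ^ 1 = Nat.card F ^ r by
      rw [pow_one]; exact hcard)
    exact hr.one_lt.ne this
  refine ⟨lt_of_le_of_ne inf_le_right fun heq => ?_, fun M hle hMle => ?_⟩
  · let i : Fin n := ⟨0, by omega⟩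
    let j : Fin n := ⟨1, by omega⟩
    have hij : i ≠ j := by simp [i, j]
    have hd : (lam • Pi.single j (1 : F) : Fin n → F) ⬝ᵥ Pi.single i 1 = 0 := by simp [hij.symm]
    have hg : tv (Pi.single i (1 : F)) (lam • Pi.single j 1) ∈ Cfsg.Geo.specialLinear (Fin n) F :=
      tv_mem_specialLinear _ _
    rw [← heq] at hg
    obtain ⟨c, hc, hcrat⟩ := exists_scalar_rat hg.1
    have e1 := hcrat i i
    have e2 := hcrat i j
    simp only [tv_val hd, Matrix.add_apply, vecMulVec_apply] at e1 e2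
    simp [hij, Matrix.one_apply] at e1 e2
    exact hlam (by simpa [mul_div_cancel_left₀ lam hc] using F₀.div_mem e2 e1)
  · by_cases hall : M ≤ base F₀ n
    · exact Or.inl (le_antisymm (le_inf hall hMle) hle)
    right
    refine le_antisymm hMle ?_
    have hM : HasRat M F₀ := fun a α h => hle (tv_mem_base a α h)
    apply specialLinear_le_of_hasNew (by omega) hM hr hcard
    obtain ⟨g, hgM, hg⟩ := SetLike.not_le_iff_exists.1 hall
    obtain ⟨i, j, hij, a, b, hab⟩ : ∃ i j, i ≠ j ∧ ∃ a b, (g : Matrix (Fin n) (Fin n) F) a i *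
        ((g⁻¹ : Matrix.GeneralLinearGroup (Fin n) F) : Matrix (Fin n) (Fin n) F) j b ∉ F₀ := by
      by_contra h
      push Not at h
      exact hg (mem_base_of_products (by omega) g h)
    have hmem := M.mul_mem (M.mul_mem hgM (hM (Pi.single i 1) (Pi.single j 1) (by simp [hij.symm])))
      (M.inv_mem hgM)
    have hd : (Pi.single j (1 : F) : Fin n → F) ⬝ᵥ Pi.single i 1 = 0 := by simp [hij.symm]
    rw [up_single, up_single, conj_tv g hd] at hmem
    refine hasNew_of_irrational (by omega) hM hMle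
      (by rw [← dotProduct_mulVec, gl_inv_mulVec_mulVec, hd]) hmem (i := a) (j := b) ?_
    simpa using hab

theorem maximal_subfield {F : Type*} [Field F] [Fintype F] (n : ℕ) (hn : 4 ≤ n) (F₀ : Subfield F) (r : ℕ) (hr : r.Prime) (hcard : Fintype.card F = Nat.card F₀ ^ r) (P : Matrix.GeneralLinearGroup (Fin n) F) : Cfsg.Geo.IsMaximalIn (Cfsg.Geo.specialLinear (Fin n) F) (Cfsg.Geo.subfieldSubgroup F₀ P ⊓ Cfsg.Geo.specialLinear (Fin n) F) := by
  have h := isMaximalIn_map (MulAut.conj P) (maximal_base hn hr hcard)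
  rw [Subgroup.map_inf _ _ _ (MulAut.conj P).injective, map_conj_specialLinear] at h
  exact h

end CfsgLib.GeomClasses.MaxLinear.SubfieldCase
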