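import Cfsg.Agent.Lib.GeomClasses.Basic


/-! The linear groups of small dimension: general form of a maximality theorem. -/

set_option autoImplicit false

namespace CfsgLib.GeomClasses.MaxLinear.SubspaceCase

open Matrix CfsgLib.GeomClasses

theorem maximal_subspace {F : Type*} [Field F] [Fintype F] (n : ℕ)  (W : Submodule F (Fin n → F)) (hW0 : W ≠ ⊥) (hW1 : W ≠ ⊤) : Cfsg.Geo.IsMaximalIn (Cfsg.Geo.specialLinear (Fin n) F) (Cfsg.Geo.subspaceStabilizer W ⊓ Cfsg.Geo.specialLinear (Fin n) F) := by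
  refine ⟨lt_of_le_of_ne inf_le_right fun heq => ?_, fun M hle hMle => ?_⟩
  · obtain ⟨w, hw, hw0⟩ := Submodule.exists_mem_ne_zero_of_ne_bot hW0
    obtain ⟨x, -, hxW⟩ := SetLike.exists_of_lt (lt_top_iff_ne_top.2 hW1)
    obtain ⟨ψ, hψ, hψx⟩ := exists_separating (F := F) (W := Submodule.span F {x}) (u := w) (by
      intro h
      obtain ⟨c, rfl⟩ := Submodule.mem_span_singleton.1 h
      have hc : c ≠ 0 := by rintro rfl; simp at hw0
      exact hxW ((W.smul_mem_iff hc).1 hw))
    have hd : ψ ⬝ᵥ x = 0 := hψx x (Submodule.mem_span_singleton_self x)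
    have hg : tv x ψ ∈ Cfsg.Geo.specialLinear (Fin n) F := tv_mem_specialLinear _ _
    rw [← heq] at hg
    have := mem_subspaceStabilizer.1 hg.1 w hw
    rw [tv_mulVec hd] at this
    exact hxW ((W.smul_mem_iff hψ).1 ((W.add_mem_iff_right hw).1 this))
  · by_cases hall : M ≤ Cfsg.Geo.subspaceStabilizer W
    · exact Or.inl (le_antisymm (le_inf hall hMle) hle)
    right
    refine le_antisymm hMle (specialLinear_le_of_fullAxes_eq_top ?_)
    obtain ⟨g, hgM, hg⟩ := SetLike.not_le_iff_exists.1 hall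
    have hann : ∀ φ : Fin n → F, (∀ v ∈ W, φ ⬝ᵥ v = 0) → φ ∈ fullAxes M := fun φ hφ v hv =>
      hle ⟨mem_subspaceStabilizer.2 fun x hx => by
        rwa [tv_mulVec hv, hφ x hx, zero_smul, add_zero], tv_mem_specialLinear _ _⟩
    -- an axis which does not vanish on W
    obtain ⟨φ, hφ, w, hw, hφw⟩ : ∃ φ ∈ fullAxes M, ∃ w ∈ W, φ ⬝ᵥ w ≠ 0 := by
      by_contra h
      push Not at h
      apply hg
      have hgi : g⁻¹ ∈ Cfsg.Geo.subspaceStabilizer W := mem_subspaceStabilizer.2 fun v hv => by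
        by_contra hne
        obtain ⟨φ, hφ, hφW⟩ := exists_separating hne
        apply hφ
        rw [dotProduct_mulVec]
        exact h _ (fullAxes_invariant hgM (hann φ hφW)) v hv
      simpa using (Cfsg.Geo.subspaceStabilizer W).inv_mem hgi
    rw [Submodule.eq_top_iff']
    have hperp : ∀ ψ : Fin n → F, ψ ⬝ᵥ w = 0 → ψ ∈ fullAxes M := by
      intro ψ hψ
      have hm : tv w ψ ∈ M := hle ⟨mem_subspaceStabilizer.2 fun x hx => by
        rw [tv_mulVec hψ]
        exact W.add_mem hx (W.smul_mem _ hw), tv_mem_specialLinear _ _⟩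
      have := (fullAxes M).sub_mem hφ (fullAxes_invariant hm hφ)
      rw [tv_inv hψ, tv_val (by simp [hψ]), vecMul_add, vecMul_one, vecMul_vecMulVec, sub_add_cancel_left,
        dotProduct_neg, neg_smul, neg_neg] at this
      exact (Submodule.smul_mem_iff _ hφw).1 this
    intro ψ
    have h1 : ψ - (ψ ⬝ᵥ w / φ ⬝ᵥ w) • φ ∈ fullAxes M := hperp _ (by
      rw [sub_dotProduct, smul_dotProduct, smul_eq_mul, div_mul_cancel₀ _ hφw, sub_self])
    simpa using (fullAxes M).add_mem h1 ((fullAxes M).smul_mem (ψ ⬝ᵥ w / φ ⬝ᵥ w) hφ)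

end CfsgLib.GeomClasses.MaxLinear.SubspaceCase
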