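import Cfsg.Agent.Lib.GeomClasses.Rational

/-!
The scalars occurring in all elementary positions of a subgroup form a subfield.
-/

set_option autoImplicit false
set_option linter.unusedSimpArgs false
set_option linter.unusedSectionVars false

namespace CfsgLib.GeomClasses.Rational

open Matrix
open scoped MatrixGroups

variable {n : ℕ} {F : Type*} [Field F] [Fintype F] {F₀ : Subfield F}

/-- A subfield strictly above a maximal proper subfield of prime index is everything. -/
theorem subfield_eq_top_of_lt {r : ℕ} (hr : r.Prime) (hcard : Fintype.card F = Nat.card F₀ ^ r)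
    {K : Subfield F} (h : F₀ < K) : K = ⊤ := by
  classical
  let i : F₀ →+* K := Subring.inclusion (show F₀.toSubring ≤ K.toSubring from h.le)
  letI : Algebra F₀ K := i.toAlgebra
  have h1 : Nat.card K = Nat.card F₀ ^ Module.finrank F₀ K := Module.natCard_eq_pow_finrank
  have h2 : Nat.card F = Nat.card K ^ Module.finrank K F := Module.natCard_eq_pow_finrank
  rw [h1, ← pow_mul, Nat.card_eq_fintype_card, hcard] at h2
  have hab := Nat.pow_right_injective (Finite.one_lt_card (α := F₀)) h2
  rcases (Nat.prime_mul_iff.1 (hab ▸ hr)) with ⟨-, hb⟩ | ⟨-, ha⟩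
  · rw [eq_top_iff]
    intro x _
    have hK : Nat.card K = Nat.card F := by
      rw [Module.natCard_eq_pow_finrank (K := K) (V := F), hb, pow_one]
    have := (Set.ncard_univ F ▸ hK : Nat.card K = (Set.univ : Set F).ncard)
    have hset : (K : Set F) = Set.univ :=
      Set.eq_of_subset_of_ncard_le (Set.subset_univ _) (by rw [← this]; exact le_rfl)
    exact (Set.ext_iff.1 hset x).2 trivial
  · exfalso
    rw [ha, pow_one] at h1
    exact h.ne (SetLike.ext' (Set.eq_of_subset_of_ncard_le (h.le : (F₀ : Set F) ⊆ K) (le_of_eq h1)))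

theorem elementary_mul {M : Subgroup (GL (Fin n) F)} {i j l : Fin n} (hij : i ≠ j) (hil : i ≠ l)
    (hlj : l ≠ j) {a b : F} (ha : tv (Pi.single i (1 : F)) (a • Pi.single l 1) ∈ M)
    (hb : tv (Pi.single l (1 : F)) (b • Pi.single j 1) ∈ M) :
    tv (Pi.single i (1 : F)) ((a * b) • Pi.single j 1) ∈ M := by
  have h1 : (a • Pi.single l (1 : F) : Fin n → F) ⬝ᵥ Pi.single i 1 = 0 := by simp [hil.symm]
  have h2 : (b • Pi.single j (1 : F) : Fin n → F) ⬝ᵥ Pi.single l 1 = 0 := by simp [hlj.symm]
  have e1 : (b • Pi.single j (1 : F) : Fin n → F) ⬝ᵥ Pi.single i 1 = 0 := by simp [hij.symm]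
  have e2 : (a • Pi.single l (1 : F) : Fin n → F) ⬝ᵥ Pi.single l 1 = a := by simp
  have h := M.mul_mem (M.mul_mem ha hb) (M.inv_mem ha)
  rw [tv_conj_tv h1 h2, e1, zero_smul, sub_zero, e2] at h
  have h' := M.mul_mem (M.inv_mem hb) h
  rw [tv_inv h2, tv_mul_tv_left (by simp [h2]) (by simp [dotProduct_add, h2, e1]),
    neg_add_cancel_left, tv_smul_comm e1, smul_smul] at h'
  exact h'

/-- The scalars occurring in every elementary position. -/
def scalarSubring (hn : 2 < n) {M : Subgroup (GL (Fin n) F)} (hM : HasRat M F₀) : Subring F where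
  carrier := {μ | ∀ i j : Fin n, i ≠ j → tv (Pi.single i (1 : F)) (μ • Pi.single j 1) ∈ M}
  one_mem' := fun i j hij => by
    have := hM (Pi.single i 1) (Pi.single j 1) (by simp [hij.symm])
    simpa [up_single] using this
  zero_mem' := fun i j hij => by
    have := hM (Pi.single i 1) 0 (by simp)
    simpa [up_zero, up_single] using this
  add_mem' := fun {a b} ha hb i j hij => by
    rw [add_smul, ← tv_mul_tv_right (by simp [hij.symm]) (by simp [hij.symm])]
    exact M.mul_mem (ha i j hij) (hb i j hij)
  neg_mem' := fun {a} ha i j hij => by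
    have h := M.inv_mem (ha i j hij)
    rwa [tv_inv (by simp [hij.symm]), ← neg_one_smul F (Pi.single i (1 : F) : Fin n → F),
      tv_smul_comm (by simp [hij.symm]), smul_smul, neg_one_mul] at h
  mul_mem' := fun {a b} ha hb i j hij => by
    obtain ⟨l, hl⟩ : ∃ l : Fin n, l ∉ ({i, j} : Finset (Fin n)) := Finset.exists_mem_notMem_of_card_lt_card
      (s := ({i, j} : Finset (Fin n))) (t := Finset.univ)
      (lt_of_le_of_lt Finset.card_le_two (by simpa using hn)) |>.imp fun _ h => h.2
    simp only [Finset.mem_insert, Finset.mem_singleton, not_or] at hl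
    obtain ⟨hli, hlj⟩ := hl
    exact elementary_mul hij (Ne.symm hli) hlj (ha i l (Ne.symm hli)) (hb l j hlj)

/-- With a new scalar in all elementary positions, a maximal subfield gives the special linear group. -/
theorem specialLinear_le_of_hasNew {M : Subgroup (GL (Fin n) F)} (hn : 2 < n) (hM : HasRat M F₀) {r : ℕ}
    (hr : r.Prime) (hcard : Fintype.card F = Nat.card F₀ ^ r) (h : HasNew M F₀) :
    Cfsg.Geo.specialLinear (Fin n) F ≤ M := by
  obtain ⟨μ, hμ, hμM⟩ := h
  let K : Subfield F :=
    { scalarSubring hn hM with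
      inv_mem' := fun x hx => by
        by_cases h0 : x = 0
        · subst h0; rw [_root_.inv_zero]; exact hx
        have h2 : x ^ (Fintype.card F - 2) * x = 1 := by
          rw [← pow_succ, show Fintype.card F - 2 + 1 = Fintype.card F - 1 by
            have := Fintype.one_lt_card (α := F); omega, FiniteField.pow_card_sub_one_eq_one x h0]
        rw [← eq_inv_of_mul_eq_one_left h2]
        exact Subring.pow_mem _ hx _ }
  have hle : F₀ ≤ K := fun x hx i j hij => by
    have := hM (Pi.single i 1) ((⟨x, hx⟩ : F₀) • Pi.single j 1) (by simp [hij.symm])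
    rwa [up_smul, up_single, up_single] at this
  have hK : K = ⊤ := subfield_eq_top_of_lt hr hcard
    (lt_of_le_of_ne hle fun heq => hμ (by rw [heq]; exact hμM))
  have hall : ∀ x : F, x ∈ scalarSubring hn hM := fun x => by
    have hx : x ∈ K := hK ▸ Subfield.mem_top x
    exact hx
  apply specialLinear_le_of_fullAxes_eq_top
  have hsingle : ∀ j : Fin n, (Pi.single j 1 : Fin n → F) ∈ fullAxes M := by
    intro j v hv
    let T : AddSubgroup (Fin n → F) :=
      { carrier := {u | (Pi.single j 1 : Fin n → F) ⬝ᵥ u = 0 ∧ tv u (Pi.single j 1) ∈ M}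
        zero_mem' := ⟨by simp, by rw [tv_zero_left]; exact M.one_mem⟩
        add_mem' := fun {a b} ha hb => ⟨by rw [dotProduct_add, ha.1, hb.1, add_zero],
          tv_mul_tv_left ha.1 hb.1 ▸ M.mul_mem ha.2 hb.2⟩
        neg_mem' := fun {a} ha => ⟨by rw [dotProduct_neg, ha.1, neg_zero],
          tv_inv ha.1 ▸ M.inv_mem ha.2⟩ }
    have hT : ∑ i, v i • (Pi.single i 1 : Fin n → F) ∈ T := by
      refine T.sum_mem fun i _ => ?_
      by_cases hi : i = j
      · subst hi
        simp at hv
        rw [hv, zero_smul]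
        exact T.zero_mem
      · refine ⟨by simp [hi], ?_⟩
        rw [tv_smul_comm (by simp [hi])]
        exact hall (v i) i j hi
    rw [← pi_eq_sum_univ' v] at hT
    exact hT.2
  rw [Submodule.eq_top_iff']
  intro φ
  rw [pi_eq_sum_univ' φ]
  exact Submodule.sum_mem _ fun j _ => (fullAxes M).smul_mem _ (hsingle j)

end CfsgLib.GeomClasses.Rational
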