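import Cfsg.Agent.Lib.GeomClasses.OrthCplx

/-!
Root groups of singular planes: an overgroup of the normaliser of a quadratic field of similarities contains
all of them.
-/

set_option autoImplicit false
set_option linter.unusedSectionVars false

namespace CfsgLib.GeomClasses.OrthCplx

open Matrix QuadraticMap CfsgLib.Orth CfsgLib.Maximal.TensorTools CfsgLib.GeomClasses.OrthEich

variable {ι : Type} [Fintype ι] [DecidableEq ι] {F : Type*} [Field F] [Fintype F]
  {q : QuadraticForm F (ι → F)} {J : (ι → F) →ₗ[F] (ι → F)} {α c : F}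

/-- The long root group of the singular plane through `u` and `a` lies in `M`. -/
structure Root (M : Subgroup (O q)) (u a : ι → F) : Prop where
  su : q u = 0
  sa : q a = 0
  orth : polar q u a = 0
  mem : ∀ t : F, eich q u (t • a) ∈ M

theorem Root.symm {M : Subgroup (O q)} {u a : ι → F} (h : Root M u a) : Root M a u := by
  refine ⟨h.sa, h.su, by rw [polar_comm]; exact h.orth, fun t => ?_⟩
  have h1 := h.mem (-t)
  rw [OrthPair.eich_swap h.su (by rw [QuadraticMap.map_smul, h.sa, smul_zero])
      (by rw [polar_smul_right, h.orth, smul_zero]),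
    eich_smul_left h.sa (by rw [polar_neg_right, polar_comm, h.orth, neg_zero]), neg_smul, smul_neg, neg_neg] at h1
  exact h1

theorem Root.conj {M : Subgroup (O q)} {u a : ι → F} (h : Root M u a) {g : O q} (hg : g ∈ M) :
    Root M (app g u) (app g a) := by
  refine ⟨by rw [Q_app, h.su], by rw [Q_app, h.sa], by rw [polar_app, h.orth], fun t => ?_⟩
  have := M.mul_mem (M.mul_mem hg (h.mem t)) (M.inv_mem hg)
  rwa [eich_conj h.su (by rw [polar_smul_right, h.orth, smul_zero]), map_smul] at this

/-- The commutator formula. -/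
theorem Root.comm {M : Subgroup (O q)} {u a v b : ι → F} (h : Root M u a) (h' : Root M v b)
    (huv : polar q u v ≠ 0) (hub : polar q u b = 0) (hav : polar q a v = 0) (hab : polar q a b = 0) :
    Root M a b := by
  refine ⟨h.sa, h'.sa, hab, fun t => ?_⟩
  set s := t / polar q u v with hs
  have hsa : q (s • a) = 0 := by rw [QuadraticMap.map_smul, h.sa, smul_zero]
  have hus : polar q u (s • a) = 0 := by rw [polar_smul_right, h.orth, smul_zero]
  have hg := h.mem s
  have e1 : app (eich q u (s • a)) v = v + t • a := by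
    rw [app_eich h.su hus, hsa, polar_smul_right, polar_comm (f := ⇑q) v a, hav, polar_comm (f := ⇑q) v u, smul_smul,
      hs, mul_div_cancel₀ _ huv]
    simp
  have e2 : app (eich q u (s • a)) b = b := by
    rw [app_eich h.su hus, hsa, polar_smul_right, polar_comm (f := ⇑q) b u, hub, polar_comm (f := ⇑q) b a, hab]
    simp
  have h1 := (h'.conj hg).symm.mem (-1)
  rw [e1, e2, neg_one_smul] at h1
  have h2 := h'.symm.mem 1
  rw [one_smul] at h2
  have hbv : polar q b v = 0 := by rw [polar_comm]; exact h'.orth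
  have hba : polar q b a = 0 := by rw [polar_comm]; exact hab
  have h3 := M.mul_mem h2 h1
  rw [eich_add h'.sa hbv (by rw [polar_neg_right, polar_add_right, polar_smul_right, hbv, hba, smul_zero, add_zero, neg_zero]),
    show v + -(v + t • a) = -(t • a) by abel,
    ← OrthPair.eich_swap (by rw [QuadraticMap.map_smul, h.sa, smul_zero]) h'.sa (by rw [polar_smul_left, hab, smul_zero]),
    eich_smul_left h.sa hab] at h3
  exact h3

variable (C : Cplx q J α c)
include C

/-- The root groups of the `J`-lines commute with `J`. -/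
theorem app_kline {u : ι → F} (hu : q u = 0) (t : F) (x : ι → F) :
    app (eich q u (t • J u)) (J x) = J (app (eich q u (t • J u)) x) := by
  have h1 : polar q u (t • J u) = 0 := by rw [polar_smul_right, C.self_J, hu]; simp
  have h2 : q (t • J u) = 0 := by rw [QuadraticMap.map_smul, C.qJ, hu]; simp
  rw [app_eich hu h1, app_eich hu h1, h2, polar_smul_right, polar_smul_right, C.adj x u, polar_JJ C,
    map_add, map_add, map_smul, map_smul, map_smul, C.sq]
  simp only [smul_eq_mul]
  module

variable {M : Subgroup (O q)} (hk : ∀ u, q u = 0 → Root M u (J u))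
include hk

theorem allA_step {u a : ι → F} (h : Root M u a) (hua : polar q (J u) a = 0) (ha : a ∉ jspan J ![u])
    (hu0 : u ≠ 0) {w : ι → F} (hw : q w = 0) (huw : polar q u w = 0) (hJuw : polar q (J u) w = 0)
    (hwW : w ∉ jspan J ![u, a]) : Root M u w := by
  have hW := jinv_jspan C ![u, a]
  have hu : u ∈ jspan J ![u, a] := mem_jspan ![u, a] 0
  set S := Submodule.span F ({u, J u, a, w} : Set (ι → F)) with hS
  have hsub : ∀ x ∈ S, ∃ d : F, x - d • w ∈ jspan J ![u, a] := by
    intro x hx
    induction hx using Submodule.span_induction with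
    | mem x hx =>
      rcases hx with rfl | rfl | rfl | rfl
      · exact ⟨0, by simpa using hu⟩
      · exact ⟨0, by simpa using map_mem_jspan ![u, a] 0⟩
      · exact ⟨0, by simpa using mem_jspan ![u, x] 1⟩
      · exact ⟨1, by simp⟩
    | zero => exact ⟨0, by simp⟩
    | add x y _ _ hx hy =>
      obtain ⟨d, hd⟩ := hx
      obtain ⟨e, he⟩ := hy
      refine ⟨d + e, ?_⟩
      have := Submodule.add_mem _ hd he
      convert this using 1
      module
    | smul s x _ hx =>
      obtain ⟨d, hd⟩ := hx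
      refine ⟨s * d, ?_⟩
      have := Submodule.smul_mem _ s hd
      convert this using 1
      module
  have hJw : J w ∉ S := fun hm => by
    obtain ⟨d, hd⟩ := hsub _ hm
    exact one_ne_zero (coeff_zero C hW hwW (a := -d) (b := 1) (by convert hd using 1; module)).2
  have hJa : J a ∉ S := fun hm => by
    obtain ⟨x, y, hxy⟩ : ∃ x y : F, J a - (x • a + y • w) ∈ jspan J ![u] := by
      rw [hS, Submodule.mem_span_insert] at hm
      obtain ⟨x1, z1, hz1, e1⟩ := hm
      obtain ⟨x2, z2, hz2, rfl⟩ := Submodule.mem_span_insert.1 hz1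
      obtain ⟨x, y, rfl⟩ := Submodule.mem_span_pair.1 hz2
      refine ⟨x, y, ?_⟩
      rw [e1]
      convert Submodule.add_mem _ (Submodule.smul_mem _ x1 (mem_jspan (J := J) ![u] 0))
        (Submodule.smul_mem _ x2 (map_mem_jspan (J := J) ![u] 0)) using 1
      simp only [Matrix.cons_val_zero]
      module
    rcases eq_or_ne y 0 with rfl | hy
    · exact one_ne_zero (coeff_zero C (jinv_jspan C ![u]) ha (a := -x) (b := 1) (by convert hxy using 1; module)).2
    · apply hwW
      refine (Submodule.smul_mem_iff _ hy).1 ?_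
      have hle : jspan J ![u] ≤ jspan J ![u, a] := Submodule.span_le.2 (by
        rintro _ ⟨i | i, rfl⟩ <;> fin_cases i
        · exact mem_jspan ![u, a] 0
        · exact map_mem_jspan ![u, a] 0)
      have := Submodule.sub_mem _ (Submodule.sub_mem _ (map_mem_jspan (J := J) ![u, a] 1)
        (Submodule.smul_mem _ x (mem_jspan (J := J) ![u, a] 1))) (hle hxy)
      convert this using 1
      simp only [Matrix.cons_val_one, Matrix.cons_val_zero]
      module
  obtain ⟨v₀, h0, h0a, h0w⟩ := exists_pairing_two C hJa hJw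
  obtain ⟨v, hv, hveq⟩ := exists_singular_eq C (jinv_jspan C ![u, a, w]) (finrank_jspan _) v₀
    (Or.inr ⟨_, map_mem_jspan (J := J) ![u, a, w] 1, by
      show q (J a) = 0
      rw [C.qJ, h.sa, mul_zero], h0a⟩)
  have eu : polar q u v = 0 := (hveq u (mem_jspan ![u, a, w] 0)).trans (h0 u (Submodule.subset_span (by simp)))
  have eJu : polar q (J u) v = 0 :=
    (hveq _ (map_mem_jspan ![u, a, w] 0)).trans (h0 _ (Submodule.subset_span (by simp)))
  have ea : polar q a v = 0 := (hveq a (mem_jspan ![u, a, w] 1)).trans (h0 a (Submodule.subset_span (by simp)))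
  have ew : polar q w v = 0 := (hveq w (mem_jspan ![u, a, w] 2)).trans (h0 w (Submodule.subset_span (by simp)))
  have eJa : polar q (J a) v ≠ 0 := fun e => h0a ((hveq _ (map_mem_jspan ![u, a, w] 1)).symm.trans e)
  have eJw : polar q (J w) v ≠ 0 := fun e => h0w ((hveq _ (map_mem_jspan ![u, a, w] 2)).symm.trans e)
  have huJv : polar q u (J v) = 0 := by rw [polar_J_right C, eu, eJu]; ring
  have huJw : polar q u (J w) = 0 := by rw [polar_J_right C, huw, hJuw]; ring
  have huv : Root M u v := h.symm.comm (hk v hv).symm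
    (by rw [polar_J_right C, ea, mul_zero, zero_sub]; exact neg_ne_zero.2 eJa) ea huJv eu
  exact huv.symm.comm (hk w hw).symm (by rw [polar_comm]; exact eJw) (by rw [polar_comm]; exact ew) huJw huw

theorem mem_self {u w : ι → F} (hu : q u = 0) (hw : w ∈ jspan J ![u]) : Root M u w := by
  obtain ⟨d, hd⟩ := (Submodule.mem_span_range_iff_exists_fun F).1 hw
  simp only [Fintype.sum_sum_type, Fin.sum_univ_one, Sum.elim_inl, Sum.elim_inr, Matrix.cons_val_zero] at hd
  subst hd
  have h1 : polar q u (J u) = 0 := by rw [C.self_J, hu, mul_zero]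
  refine ⟨hu, by rw [q_comb C, hu, mul_zero], ?_, fun t => ?_⟩
  · rw [polar_add_right, polar_smul_right, polar_smul_right, h1, polar_self', hu]
    simp
  · rw [smul_add, smul_smul, smul_smul,
      ← eich_add hu (by rw [polar_smul_right, polar_self', hu]; simp) (by rw [polar_smul_right, h1, smul_zero]),
      eich_smul_self hu, one_mul]
    exact (hk u hu).mem _

theorem allA_from {u a : ι → F} (h : Root M u a) (hua : polar q (J u) a = 0) (ha : a ∉ jspan J ![u])
    (hu0 : u ≠ 0) {w : ι → F} (hw : q w = 0) (huw : polar q u w = 0) (hJuw : polar q (J u) w = 0) :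
    Root M u w := by
  by_cases hw1 : w ∈ jspan J ![u]
  · exact mem_self C hk h.su hw1
  by_cases hw2 : w ∈ jspan J ![u, a]
  · obtain ⟨v, hv, hvW, hqv⟩ := exists_link' C (S := jspan J ![u]) (W := jspan J ![u, a]) (by
      have := C.card
      have := finrank_jspan (J := J) ![u]
      have := finrank_jspan (J := J) ![u, a]
      omega)
    have e1 := OrthTools.mem_orth.1 hv _ (mem_jspan ![u] 0)
    have e2 := OrthTools.mem_orth.1 hv _ (map_mem_jspan ![u] 0)
    have hv1 : v ∉ jspan J ![u] := fun hm => hvW ((Submodule.span_le.2 (by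
        rintro _ ⟨i | i, rfl⟩ <;> fin_cases i
        · exact mem_jspan ![u, a] 0
        · exact map_mem_jspan ![u, a] 0) : jspan J ![u] ≤ jspan J ![u, a]) hm)
    exact allA_step C hk (allA_step C hk h hua ha hu0 hqv e1 e2 hvW) e2 hv1 hu0 hw huw hJuw fun hm =>
      hw1 (indep_link C (mem_jspan ![u, a] 0) (jinv_jspan C _) hvW hw2 hm)
  · exact allA_step C hk h hua ha hu0 hw huw hJuw hw2

theorem allA {u₀ a₀ : ι → F} (h : Root M u₀ a₀) (hua : polar q (J u₀) a₀ = 0) (ha : a₀ ∉ jspan J ![u₀])
    (hu₀ : u₀ ≠ 0) {u w : ι → F} (hu : q u = 0) (hu0 : u ≠ 0) (hw : q w = 0) (huw : polar q u w = 0)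
    (hJuw : polar q (J u) w = 0) : Root M u w := by
  by_cases hsep : u ∉ jspan J ![u₀] ∧ polar q u₀ u = 0 ∧ polar q (J u₀) u = 0
  · -- orthogonal lines: go directly
    obtain ⟨hu1, hp, hp'⟩ := hsep
    have hzr := (allA_from C hk h hua ha hu₀ hu hp hp').symm
    have hp'' : polar q (J u) u₀ = 0 := by
      rw [C.adj, polar_comm (f := ⇑q) u u₀, hp, polar_comm (f := ⇑q) u (J u₀), hp']; ring
    refine allA_from C hk hzr hp'' (fun hm => hu1 ?_) hu0 hw huw hJuw
    obtain ⟨d, hd⟩ := (Submodule.mem_span_range_iff_exists_fun F).1 hm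
    simp only [Fintype.sum_sum_type, Fin.sum_univ_one, Sum.elim_inl, Sum.elim_inr, Matrix.cons_val_zero] at hd
    by_contra hu2
    obtain ⟨e1, e2⟩ := coeff_zero C (jinv_jspan C ![u₀]) hu2 (a := d (.inl 0)) (b := d (.inr 0))
      (by rw [hd]; exact mem_jspan ![u₀] 0)
    rw [e1, e2, zero_smul, zero_smul, add_zero] at hd
    exact hu₀ hd.symm
  obtain ⟨z, hz, hzW, hqz⟩ := exists_link C (W := jspan J ![u₀, u]) (finrank_jspan _) (by
    by_cases hu1 : u ∈ jspan J ![u₀]
    · refine Or.inl ((Submodule.finrank_mono (Submodule.span_le.2 ?_ :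
        jspan J ![u₀, u] ≤ jspan J ![u₀])).trans (finrank_jspan _))
      rintro _ ⟨i | i, rfl⟩ <;> fin_cases i
      · exact mem_jspan ![u₀] 0
      · exact hu1
      · exact map_mem_jspan ![u₀] 0
      · exact jinv_jspan C ![u₀] _ hu1
    · refine Or.inr (rad_pair C h.su ?_)
      by_contra hc
      push Not at hc
      exact hsep ⟨hu1, hc⟩)
  have hz0 : z ≠ 0 := fun e => hzW (e ▸ Submodule.zero_mem _)
  have a1 := OrthTools.mem_orth.1 hz _ (mem_jspan ![u₀, u] 0)
  have a2 := OrthTools.mem_orth.1 hz _ (map_mem_jspan ![u₀, u] 0)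
  have b1 := OrthTools.mem_orth.1 hz _ (mem_jspan ![u₀, u] 1)
  have b2 := OrthTools.mem_orth.1 hz _ (map_mem_jspan ![u₀, u] 1)
  simp only [Matrix.cons_val_zero, Matrix.cons_val_one] at a1 a2 b1 b2
  have hzu : polar q (J z) u₀ = 0 := by rw [C.adj, polar_comm (f := ⇑q) z u₀, a1, polar_comm (f := ⇑q) z (J u₀), a2]; ring
  have hzu' : polar q (J z) u = 0 := by rw [C.adj, polar_comm (f := ⇑q) z u, b1, polar_comm (f := ⇑q) z (J u), b2]; ring
  have hnot : u₀ ∉ jspan J ![z] := by
    intro hm
    obtain ⟨d, hd⟩ := (Submodule.mem_span_range_iff_exists_fun F).1 hm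
    simp only [Fintype.sum_sum_type, Fin.sum_univ_one, Sum.elim_inl, Sum.elim_inr, Matrix.cons_val_zero] at hd
    obtain ⟨e1, e2⟩ := coeff_zero C (jinv_jspan C ![u₀, u]) hzW
      (a := d (.inl 0)) (b := d (.inr 0)) (by rw [hd]; exact mem_jspan ![u₀, u] 0)
    rw [e1, e2, zero_smul, zero_smul, add_zero] at hd
    exact hu₀ hd.symm
  have hzr : Root M z u := allA_from C hk (allA_from C hk h hua ha hu₀ hqz a1 a2).symm hzu hnot hz0 hu
    (by rw [polar_comm]; exact b1) hzu'
  have hznot : z ∉ jspan J ![u] := fun hm => hzW ((Submodule.span_le.2 (by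
      rintro _ ⟨i | i, rfl⟩ <;> fin_cases i
      · exact mem_jspan ![u₀, u] 1
      · exact map_mem_jspan ![u₀, u] 1) : jspan J ![u] ≤ jspan J ![u₀, u]) hm)
  exact allA_from C hk hzr.symm b2 hznot hu0 hw huw hJuw

/-- One root group of a plane which is not a `J`-line gives one which is moreover `J`-orthogonal. -/
theorem exists_caseA {u a : ι → F} (h : Root M u a) (ha : a ∉ jspan J ![u]) (hu0 : u ≠ 0) :
    ∃ b, Root M u b ∧ polar q (J u) b = 0 ∧ b ∉ jspan J ![u] := by
  by_cases hua : polar q (J u) a = 0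
  · exact ⟨a, h, hua, ha⟩
  obtain ⟨z, hz, hzW, hqz⟩ := exists_link C (W := jspan J ![u, a]) (finrank_jspan _)
    (Or.inr (rad_pair C h.su (Or.inr hua)))
  set v := J u + z with hv
  have e1 := OrthTools.mem_orth.1 hz _ (mem_jspan ![u, a] 0)
  have e2 := OrthTools.mem_orth.1 hz _ (map_mem_jspan ![u, a] 0)
  have e3 := OrthTools.mem_orth.1 hz _ (mem_jspan ![u, a] 1)
  simp only [Matrix.cons_val_zero, Matrix.cons_val_one] at e1 e2 e3
  have hqv : q v = 0 := by rw [hv, QuadraticMap.map_add ⇑q, C.qJ, h.su, hqz, e2]; simp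
  have huv : polar q u v = 0 := by rw [hv, polar_add_right, C.self_J, h.su, e1]; simp
  have hJuv : polar q (J u) v = 0 := by rw [hv, polar_add_right, polar_self', C.qJ, h.su, e2]; simp
  have hav : polar q a v ≠ 0 := by
    rw [hv, polar_add_right, e3, add_zero, polar_comm]; exact hua
  have hvu : v ∉ jspan J ![u, a] := fun hm => hzW (by
    simpa [hv] using Submodule.sub_mem _ hm (map_mem_jspan (J := J) ![u, a] 0))
  have hv1 : Root M v (polar q a (J v) • v + (-polar q a v) • J v) :=
    mem_self C hk hqv (Submodule.add_mem _ (Submodule.smul_mem _ _ (mem_jspan ![v] 0))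
      (Submodule.smul_mem _ _ (map_mem_jspan ![v] 0)))
  refine ⟨_, h.symm.comm hv1 hav ?_ huv ?_, ?_, fun hm => hav ?_⟩
  · rw [polar_add_right, polar_smul_right, polar_smul_right]; simp only [smul_eq_mul]; ring
  · rw [polar_add_right, polar_smul_right, polar_smul_right, polar_J_right C u v, huv, hJuv]; simp
  · rw [polar_add_right, polar_smul_right, polar_smul_right, polar_JJ C, huv, hJuv]; simp
  · have hle : jspan J ![u] ≤ jspan J ![u, a] := Submodule.span_le.2 (by
      rintro _ ⟨i | i, rfl⟩ <;> fin_cases i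
      · exact mem_jspan ![u, a] 0
      · exact map_mem_jspan ![u, a] 0)
    have := (coeff_zero C (jinv_jspan C ![u, a]) hvu (hle hm)).2
    exact neg_eq_zero.1 this

/-- All root groups. -/
theorem root_all (hA : ∀ u w, q u = 0 → u ≠ 0 → q w = 0 → polar q u w = 0 → polar q (J u) w = 0 → Root M u w)
    {b d : ι → F} (hb : q b = 0) (hb0 : b ≠ 0) (hd : q d = 0) (hbd : polar q b d = 0) : Root M b d := by
  by_cases hJ : polar q (J b) d = 0
  · exact hA b d hb hb0 hd hbd hJ
  have hd0 : d ≠ 0 := fun e => hJ (by rw [e, polar_zero_right])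
  obtain ⟨u, hu, huW, hqu⟩ := exists_link C (W := jspan J ![b, d]) (finrank_jspan _)
    (Or.inr (rad_pair C hb (Or.inr hJ)))
  obtain ⟨v₀, h0, h0u⟩ := exists_pairing C huW
  obtain ⟨v, hv, hveq⟩ := exists_singular_eq C (jinv_jspan C ![b, d, u]) (finrank_jspan _) v₀
    (Or.inr ⟨u, mem_jspan ![b, d, u] 2, hqu, h0u⟩)
  have huv : polar q u v ≠ 0 := fun e => h0u ((hveq u (mem_jspan ![b, d, u] 2)).symm.trans e)
  have hd1 : polar q d v = 0 := (hveq d (mem_jspan ![b, d, u] 1)).trans (h0 d (mem_jspan ![b, d] 1))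
  have hb1 : polar q b v = 0 := (hveq b (mem_jspan ![b, d, u] 0)).trans (h0 b (mem_jspan ![b, d] 0))
  have hb2 : polar q (J b) v = 0 :=
    (hveq _ (map_mem_jspan ![b, d, u] 0)).trans (h0 _ (map_mem_jspan ![b, d] 0))
  have hd2 : polar q (J d) v = 0 :=
    (hveq _ (map_mem_jspan ![b, d, u] 1)).trans (h0 _ (map_mem_jspan ![b, d] 1))
  have ub := OrthTools.mem_orth.1 hu _ (mem_jspan ![b, d] 0)
  have uJb := OrthTools.mem_orth.1 hu _ (map_mem_jspan ![b, d] 0)
  have ud := OrthTools.mem_orth.1 hu _ (mem_jspan ![b, d] 1)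
  simp only [Matrix.cons_val_zero, Matrix.cons_val_one] at ub uJb ud
  exact (hA b u hb hb0 hqu ub uJb).symm.comm (hA d v hd hd0 hv hd1 hd2).symm huv
    (by rw [polar_comm]; exact ud) hb1 hbd

theorem commutator_le_of_moved {u a : ι → F} (h : Root M u a) (ha : a ∉ jspan J ![u]) (hu0 : u ≠ 0) :
    commutator (O q) ≤ M := by
  obtain ⟨b, hb, hub, hbn⟩ := exists_caseA C hk h ha hu0
  have hall : ∀ x y, q x = 0 → x ≠ 0 → q y = 0 → polar q x y = 0 → eich q x y ∈ M := fun x y hx hx0 hy hxy => by
    have := (root_all C hk (fun _ _ hu hu0' hw huw hJuw => allA C hk hb hub hbn hu0 hu hu0' hw huw hJuw)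
      hx hx0 hy hxy).mem 1
    rwa [one_smul] at this
  refine OrthEich.commutator_le C.nondeg (by have := C.card; omega) fun x y hx hxy => ?_
  rcases eq_or_ne x 0 with rfl | hx0
  · rw [eich_zero_left]; exact M.one_mem
  by_cases hy : q y = 0
  · exact hall x y hx hx0 hy hxy
  obtain ⟨z, hz, hxz, hyz⟩ := eq_add_singular C hx hxy hy
  rw [show y = (y + z) + -z by abel,
    ← eich_add hx (by rw [polar_add_right, hxy, hxz, add_zero]) (by rw [polar_neg_right, hxz, neg_zero])]
  exact M.mul_mem (hall x _ hx hx0 hyz (by rw [polar_add_right, hxy, hxz, add_zero]))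
    (hall x _ hx hx0 (by rw [QuadraticMap.map_neg, hz]) (by rw [polar_neg_right, hxz, neg_zero]))

end CfsgLib.GeomClasses.OrthCplx
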