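import Cfsg.Agent.Lib.GeomClasses.Forms

/-!
Symplectic forms given as functions: perpendicular subspaces, generation of the isometries by
transvections, and the closure properties of transvection centres in a subgroup.
-/

set_option autoImplicit false
set_option linter.unusedSimpArgs false
set_option linter.unusedSectionVars false

namespace CfsgLib.GeomClasses.Symp

open Matrix
open scoped MatrixGroups

variable {ι : Type} [Fintype ι] [DecidableEq ι] {F : Type*} [Field F]
  {f : (ι → F) → (ι → F) → F}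

theorem sesq (hf : Cfsg.Geo.IsSymplecticForm f) : IsSesq (RingHom.id F) f :=
  ⟨hf.bilinear.add_left, hf.bilinear.smul_left, hf.bilinear.add_right, hf.bilinear.smul_right⟩

theorem add_left (hf : Cfsg.Geo.IsSymplecticForm f) (x y v : ι → F) : f (x + y) v = f x v + f y v :=
  hf.bilinear.add_left x y v

theorem add_right (hf : Cfsg.Geo.IsSymplecticForm f) (v x y : ι → F) : f v (x + y) = f v x + f v y :=
  hf.bilinear.add_right v x y

theorem smul_left (hf : Cfsg.Geo.IsSymplecticForm f) (c : F) (x v : ι → F) :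
    f (c • x) v = c * f x v :=
  hf.bilinear.smul_left c x v

theorem smul_right (hf : Cfsg.Geo.IsSymplecticForm f) (c : F) (v x : ι → F) :
    f v (c • x) = c * f v x :=
  hf.bilinear.smul_right c v x

theorem neg_left (hf : Cfsg.Geo.IsSymplecticForm f) (x v : ι → F) : f (-x) v = - f x v :=
  (sesq hf).neg_left x v

theorem neg_right (hf : Cfsg.Geo.IsSymplecticForm f) (v x : ι → F) : f v (-x) = - f v x := by
  simpa using smul_right hf (-1) v x

theorem sub_left (hf : Cfsg.Geo.IsSymplecticForm f) (x y v : ι → F) : f (x - y) v = f x v - f y v :=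
  (sesq hf).sub_left x y v

theorem sub_right (hf : Cfsg.Geo.IsSymplecticForm f) (v x y : ι → F) : f v (x - y) = f v x - f v y := by
  rw [sub_eq_add_neg, add_right hf, neg_right hf, sub_eq_add_neg]

theorem zero_left (hf : Cfsg.Geo.IsSymplecticForm f) (v : ι → F) : f 0 v = 0 := (sesq hf).zero_left v

theorem zero_right (hf : Cfsg.Geo.IsSymplecticForm f) (v : ι → F) : f v 0 = 0 := (sesq hf).zero_right v

theorem ne_zero_comm (hf : Cfsg.Geo.IsSymplecticForm f) {x y : ι → F} (h : f x y ≠ 0) : f y x ≠ 0 := by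
  rw [hf.skew]
  simpa using h

/-- The form as a bilinear form. -/
def bil (hf : Cfsg.Geo.IsSymplecticForm f) : LinearMap.BilinForm F (ι → F) :=
  LinearMap.mk₂ F f (add_left hf) (smul_left hf) (add_right hf) (smul_right hf)

@[simp] theorem bil_apply (hf : Cfsg.Geo.IsSymplecticForm f) (x y : ι → F) : bil hf x y = f x y := rfl

theorem bil_isRefl (hf : Cfsg.Geo.IsSymplecticForm f) : (bil hf).IsRefl := fun x y h => by
  rw [bil_apply] at h ⊢
  rw [hf.skew, h, neg_zero]

theorem bil_nondegenerate (hf : Cfsg.Geo.IsSymplecticForm f) : (bil hf).Nondegenerate := by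
  constructor
  · intro x hx
    by_contra hne
    obtain ⟨y, hy⟩ := (hf.nondegenerate x hne).2
    exact hy (hx y)
  · intro x hx
    by_contra hne
    obtain ⟨y, hy⟩ := (hf.nondegenerate x hne).1
    exact hy (hx y)

/-- The perpendicular of a subspace. -/
def perp (hf : Cfsg.Geo.IsSymplecticForm f) (W : Submodule F (ι → F)) : Submodule F (ι → F) :=
  (bil hf).orthogonal W

theorem mem_perp (hf : Cfsg.Geo.IsSymplecticForm f) {W : Submodule F (ι → F)} {x : ι → F} :
    x ∈ perp hf W ↔ ∀ w ∈ W, f w x = 0 := Iff.rfl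

theorem mem_perp' (hf : Cfsg.Geo.IsSymplecticForm f) {W : Submodule F (ι → F)} {x : ι → F} :
    x ∈ perp hf W ↔ ∀ w ∈ W, f x w = 0 := by
  refine forall₂_congr fun w _ => ?_
  rw [bil_apply, hf.skew, neg_eq_zero]

theorem finrank_perp (hf : Cfsg.Geo.IsSymplecticForm f) (W : Submodule F (ι → F)) :
    Module.finrank F (perp hf W) + Module.finrank F W = Fintype.card ι := by
  have h := LinearMap.BilinForm.finrank_orthogonal (bil_nondegenerate hf) W
  have h2 : Module.finrank F W ≤ Module.finrank F (ι → F) := Submodule.finrank_le W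
  rw [Module.finrank_fintype_fun_eq_card] at h h2
  rw [perp, h]
  omega

theorem perp_perp (hf : Cfsg.Geo.IsSymplecticForm f) (W : Submodule F (ι → F)) :
    perp hf (perp hf W) = W :=
  LinearMap.BilinForm.orthogonal_orthogonal (bil_nondegenerate hf) (bil_isRefl hf) W

theorem perp_anti (hf : Cfsg.Geo.IsSymplecticForm f) {W U : Submodule F (ι → F)} (h : W ≤ U) :
    perp hf U ≤ perp hf W :=
  LinearMap.BilinForm.orthogonal_le h

theorem isCompl_perp (hf : Cfsg.Geo.IsSymplecticForm f) {W : Submodule F (ι → F)}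
    (hW : Cfsg.Geo.IsNondegenerateOn f W) : IsCompl W (perp hf W) := by
  apply LinearMap.BilinForm.isCompl_orthogonal_of_restrict_nondegenerate (bil_isRefl hf)
  constructor
  · intro x hx
    by_contra hne
    obtain ⟨y, hy, hxy⟩ := (hW x.1 x.2 (fun h => hne (Subtype.ext h))).2
    exact hxy (hx ⟨y, hy⟩)
  · intro x hx
    by_contra hne
    obtain ⟨y, hy, hxy⟩ := (hW x.1 x.2 (fun h => hne (Subtype.ext h))).1
    exact hxy (hx ⟨y, hy⟩)

theorem exists_decomp (hf : Cfsg.Geo.IsSymplecticForm f) {W : Submodule F (ι → F)}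
    (hW : Cfsg.Geo.IsNondegenerateOn f W) (x : ι → F) :
    ∃ a ∈ W, ∃ b ∈ perp hf W, a + b = x :=
  Submodule.mem_sup.1 ((isCompl_perp hf hW).sup_eq_top ▸ Submodule.mem_top)

/-- The set of isometries of f inside GL. -/
def IsIsometry (f : (ι → F) → (ι → F) → F) (g : GL ι F) : Prop :=
  ∀ u v, f ((g : Matrix ι ι F) *ᵥ u) ((g : Matrix ι ι F) *ᵥ v) = f u v

theorem formTv_isometry (hf : Cfsg.Geo.IsSymplecticForm f) (v : ι → F) (c : F) :
    IsIsometry f (formTv f v c) := by
  intro x y
  rw [(sesq hf).formTv_form (hf.alternating v), hf.skew v y, RingHom.id_apply]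
  ring

theorem formTv_mulVec (hf : Cfsg.Geo.IsSymplecticForm f) (v : ι → F) (c : F) (x : ι → F) :
    (formTv f v c : Matrix ι ι F) *ᵥ x = x + (c * f x v) • v :=
  (sesq hf).formTv_mulVec (hf.alternating v) c x

theorem formTv_mul (hf : Cfsg.Geo.IsSymplecticForm f) (v : ι → F) (c d : F) :
    formTv f v c * formTv f v d = formTv f v (c + d) := by
  apply gl_ext
  intro x
  rw [gl_mul_mulVec, formTv_mulVec hf, formTv_mulVec hf, formTv_mulVec hf, add_left hf,
    smul_left hf, hf.alternating, mul_zero, add_zero, add_assoc, ← add_smul]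
  congr 2
  ring

theorem formTv_inv (hf : Cfsg.Geo.IsSymplecticForm f) (v : ι → F) (c : F) :
    (formTv f v c)⁻¹ = formTv f v (-c) := by
  apply inv_eq_of_mul_eq_one_right
  rw [formTv_mul hf, add_neg_cancel]
  apply gl_ext
  intro x
  simp [formTv_mulVec hf]

theorem formTv_smul (hf : Cfsg.Geo.IsSymplecticForm f) (a : F) (v : ι → F) (c : F) :
    formTv f (a • v) c = formTv f v (a * a * c) := by
  apply gl_ext
  intro x
  rw [formTv_mulVec hf, formTv_mulVec hf, smul_right hf, smul_smul]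
  congr 2
  ring

theorem conj_formTv (hf : Cfsg.Geo.IsSymplecticForm f) {g : GL ι F} (hg : IsIsometry f g)
    (v : ι → F) (c : F) :
    g * formTv f v c * g⁻¹ = formTv f ((g : Matrix ι ι F) *ᵥ v) c := by
  apply gl_ext
  intro x
  obtain ⟨y, rfl⟩ : ∃ y, x = (g : Matrix ι ι F) *ᵥ y :=
    ⟨((g⁻¹ : GL ι F) : Matrix ι ι F) *ᵥ x, (gl_mulVec_inv_mulVec g x).symm⟩
  rw [gl_mul_mulVec, gl_mul_mulVec, gl_inv_mulVec_mulVec, formTv_mulVec hf, formTv_mulVec hf,
    mulVec_add, mulVec_smul, hg]

theorem isometry_mul {g h : GL ι F} (hg : IsIsometry f g) (hh : IsIsometry f h) :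
    IsIsometry f (g * h) := fun u v => by
  rw [gl_mul_mulVec, gl_mul_mulVec, hg, hh]

theorem formTv_move (hf : Cfsg.Geo.IsSymplecticForm f) {a b : ι → F} (h : f a b ≠ 0) :
    (formTv f (b - a) (f a b)⁻¹ : Matrix ι ι F) *ᵥ a = b := by
  rw [formTv_mulVec hf, sub_right hf, hf.alternating, sub_zero, inv_mul_cancel₀ h, one_smul,
    add_sub_cancel]

/-- Transvections generate the isometry group. -/
theorem isometry_mem_of_formTv_mem (hf : Cfsg.Geo.IsSymplecticForm f) {M : Subgroup (GL ι F)}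
    (hM : ∀ v c, formTv f v c ∈ M) {g : GL ι F} (hg : IsIsometry f g) : g ∈ M := by
  suffices H : ∀ k, ∀ g : GL ι F, IsIsometry f g →
      Fintype.card ι - Module.finrank F
        (LinearMap.ker (Matrix.toLin' (g : Matrix ι ι F) - LinearMap.id)) = k → g ∈ M from
    H _ g hg rfl
  intro k
  induction k using Nat.strong_induction_on with
  | _ k ih =>
  intro g hg hk
  have mem_fix : ∀ (h : GL ι F) (x : ι → F),
      x ∈ LinearMap.ker (Matrix.toLin' (h : Matrix ι ι F) - LinearMap.id) ↔
        (h : Matrix ι ι F) *ᵥ x = x := fun h x => by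
    simp [sub_eq_zero]
  by_cases hall : ∀ x, (g : Matrix ι ι F) *ᵥ x = x
  · rw [show g = 1 from gl_ext fun x => by simp [hall x]]
    exact M.one_mem
  push Not at hall
  obtain ⟨x, hx⟩ := hall
  have horth : ∀ w, (g : Matrix ι ι F) *ᵥ w = w → ∀ y, f w ((g : Matrix ι ι F) *ᵥ y - y) = 0 := by
    intro w hw y
    have h1 := hg w y
    rw [hw] at h1
    rw [sub_right hf, h1, sub_self]
  suffices Ht : ∃ t : GL ι F, t ∈ M ∧ IsIsometry f t ∧
      (t : Matrix ι ι F) *ᵥ ((g : Matrix ι ι F) *ᵥ x) = x ∧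
      ∀ w, (g : Matrix ι ι F) *ᵥ w = w → (t : Matrix ι ι F) *ᵥ w = w by
    obtain ⟨t, htM, hti, htx, htfix⟩ := Ht
    have hlt : LinearMap.ker (Matrix.toLin' (g : Matrix ι ι F) - LinearMap.id) <
        LinearMap.ker (Matrix.toLin' ((t * g : GL ι F) : Matrix ι ι F) - LinearMap.id) := by
      refine lt_of_le_of_ne (fun w hw => ?_) fun heq => hx ?_
      · rw [mem_fix] at hw ⊢
        rw [gl_mul_mulVec, hw, htfix w hw]
      · rw [← mem_fix, heq, mem_fix, gl_mul_mulVec, htx]
    have h1 := Submodule.finrank_lt_finrank_of_lt hlt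
    have h2 := Submodule.finrank_le
      (LinearMap.ker (Matrix.toLin' ((t * g : GL ι F) : Matrix ι ι F) - LinearMap.id))
    rw [Module.finrank_fintype_fun_eq_card] at h2
    have := ih _ (by omega) (t * g) (isometry_mul hti hg) rfl
    simpa using M.mul_mem (M.inv_mem htM) this
  set gx := (g : Matrix ι ι F) *ᵥ x with hgx
  have hfix : ∀ a b : ι → F, ∀ c : F, ∀ w, f w a = 0 → f w b = 0 →
      (formTv f (b - a) c : Matrix ι ι F) *ᵥ w = w := by
    intro a b c w ha hb
    simp [formTv_mulVec hf, sub_right hf, ha, hb]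
  by_cases h0 : f gx x = 0
  · obtain ⟨y, hy1, hy2⟩ : ∃ y, f x ((g : Matrix ι ι F) *ᵥ y - y) ≠ 0 ∧
        f gx ((g : Matrix ι ι F) *ᵥ y - y) ≠ 0 := by
      have key : ∀ p, (∀ y, f p ((g : Matrix ι ι F) *ᵥ y - y) = 0) → (g : Matrix ι ι F) *ᵥ p = p := by
        intro p hp
        by_contra hne
        obtain ⟨z, hz⟩ := (hf.nondegenerate _ (sub_ne_zero.2 hne)).2
        apply hz
        have h1 := hp (((g⁻¹ : GL ι F) : Matrix ι ι F) *ᵥ z)
        have h2 := hg p (((g⁻¹ : GL ι F) : Matrix ι ι F) *ᵥ z)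
        rw [gl_mulVec_inv_mulVec] at h1 h2
        rw [sub_right hf, ← h2, sub_eq_zero] at h1
        rw [sub_left hf, h1, sub_self]
      obtain ⟨a, ha⟩ : ∃ a, f x ((g : Matrix ι ι F) *ᵥ a - a) ≠ 0 := by
        by_contra h
        push Not at h
        exact hx (key x h)
      obtain ⟨b, hb⟩ : ∃ b, f gx ((g : Matrix ι ι F) *ᵥ b - b) ≠ 0 := by
        by_contra h
        push Not at h
        exact hx (gl_mulVec_injective g (key gx h))
      by_cases h1 : f gx ((g : Matrix ι ι F) *ᵥ a - a) = 0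
      · by_cases h2 : f x ((g : Matrix ι ι F) *ᵥ b - b) = 0
        · refine ⟨a + b, ?_, ?_⟩ <;>
            simp only [mulVec_add, add_sub_add_comm, add_right hf, h1, h2, add_zero, zero_add]
          · exact ha
          · exact hb
        · exact ⟨b, h2, hb⟩
      · exact ⟨a, ha, h1⟩
    set r := (g : Matrix ι ι F) *ᵥ y - y with hr
    have hxz : f (x + r) x ≠ 0 := by
      rw [add_left hf, hf.alternating, zero_add]
      exact ne_zero_comm hf hy1
    have hgz : f gx (x + r) ≠ 0 := by rwa [add_right hf, h0, zero_add]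
    refine ⟨formTv f (x - (x + r)) (f (x + r) x)⁻¹ * formTv f (x + r - gx) (f gx (x + r))⁻¹,
      M.mul_mem (hM _ _) (hM _ _),
      isometry_mul (formTv_isometry hf _ _) (formTv_isometry hf _ _), ?_, fun w hw => ?_⟩
    · rw [gl_mul_mulVec, formTv_move hf hgz, formTv_move hf hxz]
    · have hwr : f w r = 0 := horth w hw y
      have hwx : f w (gx - x) = 0 := horth w hw x
      rw [gl_mul_mulVec]
      have e1 : (formTv f (x + r - gx) (f gx (x + r))⁻¹ : Matrix ι ι F) *ᵥ w = w := by
        rw [formTv_mulVec hf, show x + r - gx = r - (gx - x) by abel, sub_right hf, hwr, hwx]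
        simp
      rw [e1, formTv_mulVec hf, show x - (x + r) = -r by abel, neg_right hf, hwr]
      simp
  · refine ⟨formTv f (x - gx) (f gx x)⁻¹, hM _ _, formTv_isometry hf _ _, formTv_move hf h0,
      fun w hw => ?_⟩
    rw [formTv_mulVec hf, show x - gx = -(gx - x) by abel, neg_right hf, horth w hw x]
    simp

/-- The centres of full transvection groups inside M. -/
def centres (f : (ι → F) → (ι → F) → F) (M : Subgroup (GL ι F)) : Set (ι → F) :=
  {v | ∀ c, formTv f v c ∈ M}

theorem mem_centres {M : Subgroup (GL ι F)} {v : ι → F} :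
    v ∈ centres f M ↔ ∀ c, formTv f v c ∈ M := Iff.rfl

theorem centres_smul (hf : Cfsg.Geo.IsSymplecticForm f) {M : Subgroup (GL ι F)} {v : ι → F}
    (hv : v ∈ centres f M) (a : F) : a • v ∈ centres f M := fun c => by
  rw [formTv_smul hf]
  exact hv _

theorem centres_invariant (hf : Cfsg.Geo.IsSymplecticForm f) {M : Subgroup (GL ι F)} {g : GL ι F}
    (hg : g ∈ M) (hgi : IsIsometry f g) {v : ι → F} (hv : v ∈ centres f M) :
    (g : Matrix ι ι F) *ᵥ v ∈ centres f M := fun c => by
  rw [← conj_formTv hf hgi]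
  exact M.mul_mem (M.mul_mem hg (hv c)) (M.inv_mem hg)

theorem centres_step (hf : Cfsg.Geo.IsSymplecticForm f) {M : Subgroup (GL ι F)} {x y : ι → F}
    (hx : x ∈ centres f M) (hy : y ∈ centres f M) (hxy : f x y ≠ 0) (a : F) :
    x + a • y ∈ centres f M := by
  have := centres_invariant hf (hy (a / f x y)) (formTv_isometry hf _ _) hx
  rwa [formTv_mulVec hf, div_mul_cancel₀ _ hxy] at this

/-! ### The standard form -/

theorem sympForm_eq (m : ℕ) (u v : Fin m ⊕ Fin m → F) :
    Cfsg.sympForm m F u v =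
      ∑ i, (u (.inr i) * v (.inl i) - u (.inl i) * v (.inr i)) := by
  rw [Cfsg.sympForm, Matrix.J, fromBlocks_mulVec, dotProduct, Fintype.sum_sum_type,
    ← Finset.sum_add_distrib]
  refine Finset.sum_congr rfl fun i _ => ?_
  simp [neg_mulVec]
  ring

theorem isSymplecticForm_sympForm (m : ℕ) : Cfsg.Geo.IsSymplecticForm (Cfsg.sympForm m F) where
  bilinear :=
    { add_left := fun x y v => add_dotProduct _ _ _
      smul_left := fun c x v => smul_dotProduct _ _ _
      add_right := fun v x y => by simp [Cfsg.sympForm, mulVec_add, dotProduct_add]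
      smul_right := fun c v x => by simp [Cfsg.sympForm, mulVec_smul, dotProduct_smul] }
  skew := fun v w => by
    rw [sympForm_eq, sympForm_eq, ← Finset.sum_neg_distrib]
    exact Finset.sum_congr rfl fun i _ => by ring
  alternating := fun v => by
    rw [sympForm_eq]
    exact Finset.sum_eq_zero fun i _ => by ring
  nondegenerate := by
    intro v hv
    obtain ⟨j, hj⟩ := Function.ne_iff.1 hv
    have hj' : v j ≠ 0 := hj
    cases j with
    | inl i =>
      refine ⟨⟨Pi.single (.inr i) 1, ?_⟩, ⟨Pi.single (.inr i) 1, ?_⟩⟩ <;>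
        simpa [sympForm_eq, Pi.single_apply] using hj'
    | inr i =>
      refine ⟨⟨Pi.single (.inl i) 1, ?_⟩, ⟨Pi.single (.inl i) 1, ?_⟩⟩ <;>
        simpa [sympForm_eq, Pi.single_apply] using hj'

theorem mem_spGL {m : ℕ} {g : GL (Fin m ⊕ Fin m) F} :
    g ∈ Cfsg.spGL m F ↔ IsIsometry (Cfsg.sympForm m F) g := Iff.rfl

theorem formTv_mem_spGL (m : ℕ) (v : Fin m ⊕ Fin m → F) (c : F) :
    formTv (Cfsg.sympForm m F) v c ∈ Cfsg.spGL m F :=
  formTv_isometry (isSymplecticForm_sympForm m) v c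

theorem eq_spGL_of_centres {m : ℕ} {M : Subgroup (GL (Fin m ⊕ Fin m) F)} (hle : M ≤ Cfsg.spGL m F)
    (h : ∀ v, v ∈ centres (Cfsg.sympForm m F) M) : M = Cfsg.spGL m F :=
  le_antisymm hle fun _ hg =>
    isometry_mem_of_formTv_mem (isSymplecticForm_sympForm m) (fun v c => h v c) hg

theorem centres_invariant_spGL {m : ℕ} {M : Subgroup (GL (Fin m ⊕ Fin m) F)}
    (hle : M ≤ Cfsg.spGL m F) {g : GL (Fin m ⊕ Fin m) F} (hg : g ∈ M) {v : Fin m ⊕ Fin m → F}
    (hv : v ∈ centres (Cfsg.sympForm m F) M) :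
    (g : Matrix (Fin m ⊕ Fin m) (Fin m ⊕ Fin m) F) *ᵥ v ∈ centres (Cfsg.sympForm m F) M :=
  centres_invariant (isSymplecticForm_sympForm m) hg (hle hg) hv

end CfsgLib.GeomClasses.Symp
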