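import Cfsg.Agent.Lib.GeomClasses.FrameStep

/-!
Sign changes in a group in which every element fixing two frame lines is a signed permutation, and the dihedral
argument in a form that applies to line stabilisers.
-/

set_option autoImplicit false
set_option linter.unusedSectionVars false

namespace CfsgLib.GeomClasses.Frame

open QuadraticMap CfsgLib.Orth

variable {ι : Type} [Fintype ι] [DecidableEq ι] {F : Type*} [Field F]
  {q : QuadraticForm F (ι → F)} {n : ℕ} {b : Fin n → ι → F} {c : F} (h : IsFrame q b c)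
include h

/-- A unit vector whose reflection is a signed permutation is a frame vector or lies on two frame vectors. -/
theorem IsFrame.short_of_mono {v : ι → F} (hv : q v = c) (hm : Mono b (refl q v)) :
    (∃ j, v = b j ∨ v = -b j) ∨ ∃ k l, k ≠ l ∧ (∀ o, o ≠ k → o ≠ l → co q b c o v = 0) ∧
      2 * co q b c k v ^ 2 = 1 ∧ 2 * co q b c l v ^ 2 = 1 := by
  classical
  have hco : ∀ i o, co q b c o (app (refl q v) (b i)) =
      (if i = o then 1 else 0) - 2 * co q b c i v * co q b c o v := fun i o => by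
    rw [h.co_refl_unit hv, h.co_b, ip_comm (b i) v]; rfl
  by_cases hone : ∃ j, ∀ o, o ≠ j → co q b c o v = 0
  · obtain ⟨j, hj⟩ := hone
    left
    refine ⟨j, ?_⟩
    have hvj : v = co q b c j v • b j := h.ext_co fun o => by
      rw [co_smul, h.co_b]
      split_ifs with ho
      · rw [← ho, mul_one]
      · rw [mul_zero, hj o (Ne.symm ho)]
    have h1 := (h.unit_iff v).1 hv
    rw [hvj, ip_smul_left, ip_smul_right, h.ip_b, if_pos rfl, mul_one] at h1
    rcases mul_self_eq_one_iff.1 h1 with e | e <;> [left; right] <;> rw [hvj, e] <;> simp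
  push Not at hone
  obtain ⟨k, hk⟩ : ∃ k, co q b c k v ≠ 0 := by
    by_contra hc
    push Not at hc
    have h1 := h.sum_sq hv
    simp [hc] at h1
  obtain ⟨l, hlk, hl⟩ := hone k
  right
  have key : ∀ i, co q b c i v ≠ 0 → ∀ o, o ≠ i → co q b c o v ≠ 0 →
      (∀ o', o' ≠ i → o' ≠ o → co q b c o' v = 0) ∧ 2 * co q b c i v ^ 2 = 1 := by
    intro i hi o hoi ho
    obtain ⟨j, hj⟩ := hm i
    have hzero : ∀ x, x ≠ j → co q b c x (app (refl q v) (b i)) = 0 := fun x hx => by
      rcases hj with e | e <;> simp [e, co_neg, h.co_b_ne (Ne.symm hx)]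
    have hjo : j = o := by
      by_contra hne
      have := hzero o (Ne.symm hne)
      rw [hco, if_neg (Ne.symm hoi), zero_sub, neg_eq_zero] at this
      exact mul_ne_zero (mul_ne_zero h.two hi) ho this
    subst hjo
    refine ⟨fun o' h1 h2 => ?_, ?_⟩
    · have := hzero o' h2
      rw [hco, if_neg (Ne.symm h1), zero_sub, neg_eq_zero] at this
      exact (mul_eq_zero.1 this).resolve_left (mul_ne_zero h.two hi)
    · have := hzero i (Ne.symm hoi)
      rw [hco, if_pos rfl] at this
      linear_combination -this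
  obtain ⟨h1, h2⟩ := key k hk l hlk hl
  exact ⟨k, l, Ne.symm hlk, h1, h2, (key l hl k (Ne.symm hlk) hk).2⟩

variable {X : Subgroup (O q)} (hX : HasGens b X)
include hX

omit hX in
theorem IsFrame.app_sgn_univ (x : ι → F) : app (h.sgn Finset.univ) x = -x :=
  h.ext_co fun i => by rw [h.co_sgn, if_pos (Finset.mem_univ i), co_neg]

omit hX in
theorem IsFrame.commute_univ (g : O q) : Commute g (h.sgn Finset.univ) :=
  ext_app fun x => by simp only [app_mul, h.app_sgn_univ, map_neg]

omit hX in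
theorem IsFrame.sgn_compl (J : Finset (Fin n)) : h.sgn Jᶜ = h.sgn Finset.univ * h.sgn J := by
  rw [h.sgn_mul]
  congr 1
  ext l
  simp [Finset.mem_symmDiff]

omit hX in
theorem IsFrame.line_inj {i j : Fin n} (e : b i = b j ∨ b i = -b j) : i = j := by
  by_contra hne
  rcases e with e | e <;> have := congrArg (co q b c i) e <;>
    simp [co_neg, h.co_b_self, h.co_b_ne (Ne.symm hne)] at this

theorem IsFrame.sgn_mem (K : Finset (Fin n)) (hK : Even K.card) : h.sgn K ∈ X := by
  classical
  suffices H : ∀ r (K : Finset (Fin n)), K.card = 2 * r → h.sgn K ∈ X by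
    obtain ⟨r, hr⟩ := hK
    exact H r K (by omega)
  intro r
  induction r with
  | zero =>
    intro K hK
    rw [Finset.card_eq_zero.1 (by omega : K.card = 0), h.sgn_empty]
    exact X.one_mem
  | succ r ih =>
    intro K hK
    obtain ⟨i, hi, j, hj, hij⟩ := Finset.one_lt_card.1 (by omega : 1 < K.card)
    have e : h.sgn K = h.sgn {i, j} * h.sgn ((K.erase i).erase j) := by
      rw [h.sgn_mul]
      congr 1
      ext l
      by_cases hli : l = i <;> by_cases hlj : l = j <;> simp_all [Finset.mem_symmDiff]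
    rw [e, h.sgn_pair hij]
    refine X.mul_mem (hX.signs _ _ hij) (ih _ ?_)
    rw [Finset.card_erase_of_mem (Finset.mem_erase.2 ⟨Ne.symm hij, hj⟩), Finset.card_erase_of_mem hi]
    omega

omit h hX in
/-- Two commuting involutions of three points have a common fixed point. -/
theorem three_commute : ∀ σ τ : Fin 3 → Fin 3, (∀ a, σ (σ a) = a) → (∀ a, τ (τ a) = a) →
    (∀ a, σ (τ a) = τ (σ a)) → ∃ a, σ a = a ∧ τ a = a := by decide +kernel

/-- The action of a signed involution on the frame reflections. -/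
theorem IsFrame.involution_data {z : O q} (hz2 : z * z = 1) (hz : Mono b z) :
    ∃ σ : Fin n → Fin n, (∀ i, σ (σ i) = i) ∧ (∀ i, app z (b i) = b (σ i) ∨ app z (b i) = -b (σ i)) ∧
      ∀ i, z * refl q (b i) * z⁻¹ = refl q (b (σ i)) := by
  choose σ hσ using hz
  have hzz : ∀ v, app z (app z v) = v := fun v => by rw [← app_mul, hz2, app_one]
  refine ⟨σ, fun i => (h.line_inj (by
    have h1 := hzz (b i)
    rcases hσ i with e1 | e1 <;> rcases hσ (σ i) with e2 | e2 <;> rw [e1] at h1 <;>
      simp only [map_neg, e2, neg_neg] at h1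
    · exact Or.inl h1.symm
    · exact Or.inr h1.symm
    · exact Or.inr h1.symm
    · exact Or.inl h1.symm)).symm, hσ, fun i => ?_⟩
  rw [refl_conj]
  rcases hσ i with e1 | e1 <;> rw [e1]
  rw [refl_neg]

/-- The dihedral argument: if sign changes are controlled then all elements are signed permutations. -/
theorem IsFrame.all_mono_core [Finite F] {Y : Subgroup (O q)} (Good : Finset (Fin n) → Prop)
    (hcom : ∀ K, Good K → ∀ x ∈ Y, Commute x (h.sgn K) → Mono b x)
    (hconj : ∀ K, Good K → ∀ g ∈ Y, Mono b (g * h.sgn K * g⁻¹) → Mono b g)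
    (E J : Finset (Fin n)) (hEY : h.sgn E ∈ Y) (huY : h.sgn J ∈ Y) (hGE : Good E) (hGJ : Good J)
    (hL' : ∀ L : Finset (Fin n), L.card = E.card → (∃ g ∈ Y, g * h.sgn E * g⁻¹ = h.sgn L) →
      (L ≠ E → Good (symmDiff L E)) ∧ L ≠ J ∧ Good (symmDiff L J)) :
    ∀ g ∈ Y, Mono b g := by
  classical
  intro g hg
  set s := g * h.sgn E * g⁻¹ with hsdef
  set u := h.sgn J with hudef
  have hsY : s ∈ Y := Y.mul_mem (Y.mul_mem hg hEY) (Y.inv_mem hg)
  have hinv : ∀ K, h.sgn K * h.sgn K = 1 := fun K => by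
    rw [h.sgn_mul, symmDiff_self, Finset.bot_eq_empty, h.sgn_empty]
  have hu2 : u⁻¹ = u := inv_eq_of_mul_eq_one_right (hinv J)
  have hs2 : s⁻¹ = s := inv_eq_of_mul_eq_one_right (by
    rw [hsdef, show g * h.sgn E * g⁻¹ * (g * h.sgn E * g⁻¹) = g * (h.sgn E * h.sgn E) * g⁻¹ by group, hinv,
      mul_one, mul_inv_cancel])
  have huu : u * u = 1 := hinv J
  have hss : s * s = 1 := by rw [← mul_inv_cancel s, hs2]
  set h' := s * u with hh'
  obtain ⟨hsh, huh, hhu, hhs⟩ := inv_pair hss huu
  rw [← hh'] at hsh huh hhu hhs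
  have hh'Y : h' ∈ Y := Y.mul_mem hsY huY
  have hpow : ∀ k : ℤ, h' ^ k * g * h.sgn E * (h' ^ k * g)⁻¹ = h' ^ k * s * (h' ^ k)⁻¹ := fun k => by
    rw [hsdef]; group
  have hgk : ∀ k : ℤ, h' ^ k * g ∈ Y := fun k => Y.mul_mem (Y.zpow_mem hh'Y k) hg
  have hcmem : ∀ k : ℤ, h' ^ k * s * (h' ^ k)⁻¹ ∈ Y := fun k =>
    Y.mul_mem (Y.mul_mem (Y.zpow_mem hh'Y k) hsY) (Y.inv_mem (Y.zpow_mem hh'Y k))
  rcases Nat.even_or_odd' (orderOf h') with ⟨m, hm | hm⟩
  · have hm0 : 0 < m := by have := orderOf_pos h'; omega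
    set z := h' ^ (m : ℤ) with hzdef
    have hz1 : z ≠ 1 := by
      rw [hzdef, zpow_natCast]
      exact pow_ne_one_of_lt_orderOf (by omega) (by omega)
    have hzz : h' ^ (2 * (m : ℤ)) = 1 := by
      rw [show (2 * (m : ℤ)) = ((2 * m : ℕ) : ℤ) by push_cast; ring, zpow_natCast, ← hm, pow_orderOf_eq_one]
    have hzinv : z⁻¹ = z := inv_eq_of_mul_eq_one_right (by rw [hzdef, ← zpow_add, ← two_mul, hzz])
    have hcomm : ∀ t : O q, t * h' * t⁻¹ = h'⁻¹ → Commute z t := by
      intro t ht
      have h1 : t * z * t⁻¹ = z := by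
        rw [hzdef, ← conj_zpow, ht, inv_zpow]; exact hzinv
      exact (show t * z = z * t by
        calc t * z = t * z * t⁻¹ * t := by group
          _ = _ := by rw [h1]).symm
    have hzY : z ∈ Y := Y.zpow_mem hh'Y _
    have hzmono : Mono b z := hcom J hGJ _ hzY (hcomm u huh)
    rcases Nat.even_or_odd' m with ⟨k, hk | hk⟩
    · have hzs : z * s = h' ^ (k : ℤ) * s * (h' ^ (k : ℤ))⁻¹ := by
        rw [conj_shift hsh, hzdef, hk]; push_cast; rfl
      set g' := g⁻¹ * h' ^ (k : ℤ) * g
      have hg'Y : g' ∈ Y := Y.mul_mem (Y.mul_mem (Y.inv_mem hg) (Y.zpow_mem hh'Y _)) hg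
      set y := g⁻¹ * (z * s) * g with hydef
      have hy : y = g' * h.sgn E * g'⁻¹ := by
        change y = g⁻¹ * h' ^ (k : ℤ) * g * h.sgn E * (g⁻¹ * h' ^ (k : ℤ) * g)⁻¹
        rw [hydef, hzs, hsdef]; group
      have hyY : y ∈ Y := Y.mul_mem (Y.mul_mem (Y.inv_mem hg) (Y.mul_mem hzY hsY)) hg
      have hyE : Commute y (h.sgn E) := by
        have h1 : Commute (z * s) s := (hcomm s hsh).mul_left (Commute.refl s)
        have h2 := h1.map (MulAut.conj g⁻¹).toMonoidHom
        simp only [MulEquiv.coe_toMonoidHom, MulAut.conj_apply, inv_inv] at h2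
        rwa [show g⁻¹ * s * g = h.sgn E by rw [hsdef]; group] at h2
      have hymono : Mono b y := hcom E hGE _ hyY hyE
      rw [hy] at hymono
      have hg' : Mono b g' := hconj E hGE _ (Y.mul_mem (Y.mul_mem (Y.inv_mem hg) (Y.zpow_mem hh'Y _)) hg) hymono
      obtain ⟨L, hLc, hL⟩ := h.sgn_conj hg' E
      have hzg : g * h.sgn (symmDiff L E) * g⁻¹ = z := by
        rw [← h.sgn_mul, ← hL, ← hy, hydef, show g⁻¹ * (z * s) * g * h.sgn E = g⁻¹ * (z * s) * (g * h.sgn E) by
          group, show g * h.sgn E = s * g by rw [hsdef]; group,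
          show g * (g⁻¹ * (z * s) * (s * g)) * g⁻¹ = z * (s * s) by group, hss, mul_one]
      refine hconj (symmDiff L E) ((hL' L (by rw [hLc]) ⟨g', hg'Y, hL⟩).1 fun e => ?_) _ hg (by rw [hzg]; exact hzmono)
      rw [e, symmDiff_self, Finset.bot_eq_empty, h.sgn_empty, mul_one, mul_inv_cancel] at hzg
      exact hz1 hzg.symm
    · have hzu : z * u = h' ^ (k : ℤ) * s * (h' ^ (k : ℤ))⁻¹ := by
        rw [conj_shift hsh, hzdef, hk]
        push_cast
        rw [zpow_add_one, mul_assoc, mul_assoc]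
        congr 1
        rw [← hhu, mul_assoc, huu, mul_one]
      have hzuY : z * u ∈ Y := Y.mul_mem hzY huY
      have hzumono : Mono b (z * u) :=
        hcom J hGJ _ hzuY ((hcomm u huh).mul_left (Commute.refl u))
      rw [hzu, ← hpow] at hzumono
      have hg' := hconj E hGE _ (hgk _) hzumono
      obtain ⟨L, hLc, hL⟩ := h.sgn_conj hg' E
      rw [hpow, ← hzu] at hL
      have hzJ : z = h.sgn (symmDiff L J) := by rw [← h.sgn_mul, ← hL, mul_assoc, huu, mul_one]
      have hs : Mono b s := hcom (symmDiff L J)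
        (hL' L (by rw [hLc]) ⟨h' ^ (k : ℤ) * g, hgk _, by rw [hpow, ← hzu, hL]⟩).2.2 _ hsY (hzJ ▸ (hcomm s hsh).symm)
      exact hconj E hGE _ hg hs
  · exfalso
    have hone : h' ^ (2 * (m : ℤ) + 1) = 1 := by
      rw [show (2 * (m : ℤ) + 1) = ((2 * m + 1 : ℕ) : ℤ) by push_cast; ring, zpow_natCast, ← hm,
        pow_orderOf_eq_one]
    have hus : h' ^ (m : ℤ) * s * (h' ^ (m : ℤ))⁻¹ = u := by
      have h1 : h' ^ (2 * (m : ℤ)) = h'⁻¹ := by
        rw [zpow_add_one] at hone
        exact eq_inv_of_mul_eq_one_left hone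
      rw [conj_shift hsh, h1, hhs]
    rw [← hpow] at hus
    have hg' := hconj E hGE _ (hgk _) (by rw [hus]; exact h.mono_sgn J)
    obtain ⟨L, hLc, hL⟩ := h.sgn_conj hg' E
    rw [hus] at hL
    exact (hL' L (by rw [hLc]) ⟨_, hgk (m : ℤ), by rw [hus, hL]⟩).2.1 (h.sgn_inj hL).symm

variable (H0 : ∀ g ∈ X, ∀ a a', a ≠ a' → (app g (b a) = b a ∨ app g (b a) = -b a) →
  (app g (b a') = b a' ∨ app g (b a') = -b a') → Mono b g)
include H0

/-- An element commuting with a sign change on three vectors maps one of them to a frame line. -/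
theorem IsFrame.line_of_triple (hn : 5 ≤ n) {i j l : Fin n} (hij : i ≠ j) (hil : i ≠ l) (hjl : j ≠ l) {x : O q}
    (hx : x ∈ X) (hcomm : Commute x (h.sgn {i, j, l})) :
    ∃ o p, o ∈ ({i, j, l} : Finset (Fin n)) ∧ p ∈ ({i, j, l} : Finset (Fin n)) ∧
      (app x⁻¹ (b o) = b p ∨ app x⁻¹ (b o) = -b p) := by
  classical
  set J : Finset (Fin n) := {i, j, l} with hJ
  obtain ⟨o₀, ho₀, o₁, ho₁, ho⟩ : ∃ o ∈ Jᶜ, ∃ o' ∈ Jᶜ, o ≠ o' := by
    refine Finset.one_lt_card.1 ?_
    rw [Finset.card_compl, Fintype.card_fin]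
    have := Finset.card_le_three (a := i) (b := j) (c := l)
    rw [← hJ] at this
    omega
  rw [Finset.mem_compl] at ho₀ ho₁
  have hzero : ∀ o p, ¬ (o ∈ J ↔ p ∈ J) → co q b c p (app x⁻¹ (b o)) = 0 := by
    intro o p hop
    have h1 : app x⁻¹ (app (h.sgn J) (b o)) = app (h.sgn J) (app x⁻¹ (b o)) := by
      rw [← app_mul, ← app_mul, hcomm.inv_left.eq]
    have h2 := congrArg (co q b c p) h1
    rw [h.co_sgn, h.sgn_b] at h2
    refine (mul_eq_zero.1 (show 2 * co q b c p (app x⁻¹ (b o)) = 0 from ?_)).resolve_left h.two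
    by_cases ho : o ∈ J
    · have hp : p ∉ J := fun hp => hop (iff_of_true ho hp)
      rw [if_pos ho, if_neg hp, map_neg, co_neg] at h2
      linear_combination -h2
    · have hp : p ∈ J := by
        by_contra hp
        exact hop (iff_of_false ho hp)
      rw [if_neg ho, if_pos hp] at h2
      linear_combination h2
  have hout : ∀ m : O q, (∀ o ∉ J, app m (b o) = b o) → ∀ o ∉ J, app (x * m * x⁻¹) (b o) = b o := by
    intro m hm o ho
    rw [app_mul, app_mul, h.fix_of_co (S := Jᶜ) (fun p hp => hm p (Finset.mem_compl.1 hp))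
      (fun p hp => hzero o p (fun hh => ho (hh.2 (by simpa using hp)))), app_app_inv]
  let e : Fin 3 → Fin n := ![i, j, l]
  have heJ : ∀ k, e k ∈ J := fun k => by fin_cases k <;> simp [e, J]
  have hJe : ∀ p ∈ J, ∃ k, e k = p := by
    intro p hp
    simp only [J, Finset.mem_insert, Finset.mem_singleton] at hp
    rcases hp with rfl | rfl | rfl
    · exact ⟨0, rfl⟩
    · exact ⟨1, rfl⟩
    · exact ⟨2, rfl⟩
  have he : Function.Injective e := by
    intro a d had
    have := Ne.symm hij
    have := Ne.symm hil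
    have := Ne.symm hjl
    fin_cases a <;> fin_cases d <;> simp only [e] at had <;> first | rfl | exact absurd had (by assumption)
  have hperm : ∀ m ∈ X, m * m = 1 → (∀ o ∉ J, app m (b o) = b o) → ∃ σ : Fin 3 → Fin 3,
      (∀ k, app (x * m * x⁻¹) (b (e k)) = b (e (σ k)) ∨ app (x * m * x⁻¹) (b (e k)) = -b (e (σ k))) ∧
      ∀ k, σ (σ k) = k := by
    intro m hm hmm hmfix
    set z := x * m * x⁻¹ with hz
    have hzz : ∀ v, app z (app z v) = v := fun v => by
      rw [← app_mul, hz, show x * m * x⁻¹ * (x * m * x⁻¹) = x * (m * m) * x⁻¹ by group, hmm, mul_one,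
        mul_inv_cancel, app_one]
    have hmono : Mono b z := H0 _ (X.mul_mem (X.mul_mem hx hm) (X.inv_mem hx)) o₀ o₁ ho
      (Or.inl (hout m hmfix o₀ ho₀)) (Or.inl (hout m hmfix o₁ ho₁))
    have hex : ∀ k, ∃ k', app z (b (e k)) = b (e k') ∨ app z (b (e k)) = -b (e k') := by
      intro k
      obtain ⟨p, hp⟩ := hmono (e k)
      by_cases hpJ : p ∈ J
      · obtain ⟨k', rfl⟩ := hJe p hpJ
        exact ⟨k', hp⟩
      · exfalso
        refine hpJ ?_
        have hfix := hout m hmfix p hpJ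
        have : b (e k) = b p ∨ b (e k) = -b p := by
          have h1 := hzz (b (e k))
          rcases hp with e1 | e1 <;> rw [e1] at h1
          · rw [hfix] at h1
            exact Or.inl h1.symm
          · rw [map_neg, hfix] at h1
            exact Or.inr h1.symm
        rw [← h.line_inj this]
        exact heJ k
    choose σ hσ using hex
    refine ⟨σ, hσ, fun k => he (h.line_inj ?_).symm⟩
    have h1 := hzz (b (e k))
    rcases hσ k with e1 | e1 <;> rcases hσ (σ k) with e2 | e2 <;> rw [e1] at h1 <;>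
      simp only [map_neg, e2, neg_neg] at h1
    · exact Or.inl h1.symm
    · exact Or.inr h1.symm
    · exact Or.inr h1.symm
    · exact Or.inl h1.symm
  set s₁ := refl q (b i) * refl q (b j) with hs₁
  set s₂ := refl q (b j) * refl q (b l) with hs₂
  have hs₁' : s₁ = h.sgn {i, j} := (h.sgn_pair hij).symm
  have hs₂' : s₂ = h.sgn {j, l} := (h.sgn_pair hjl).symm
  have hsq : ∀ K, h.sgn K * h.sgn K = 1 := fun K => by
    rw [h.sgn_mul, symmDiff_self, Finset.bot_eq_empty, h.sgn_empty]
  have hfixout : ∀ K : Finset (Fin n), K ⊆ J → ∀ o ∉ J, app (h.sgn K) (b o) = b o := fun K hK o ho => by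
    rw [h.sgn_b, if_neg fun hh => ho (hK hh)]
  obtain ⟨σ, hσ, hσ2⟩ := hperm s₁ (hX.signs _ _ hij) (hs₁' ▸ hsq _)
    (hs₁' ▸ hfixout _ (by simp [J, Finset.insert_subset_iff]))
  obtain ⟨τ, hτ, hτ2⟩ := hperm s₂ (hX.signs _ _ hjl) (hs₂' ▸ hsq _)
    (hs₂' ▸ hfixout _ (by simp [J, Finset.insert_subset_iff]))
  have hs12 : s₁ * s₂ = s₂ * s₁ := by rw [hs₁', hs₂', h.sgn_mul, h.sgn_mul, symmDiff_comm]
  obtain ⟨k, hk₁, hk₂⟩ := three_commute σ τ hσ2 hτ2 fun k => he (h.line_inj (by
    have h1 : app (x * s₁ * x⁻¹) (app (x * s₂ * x⁻¹) (b (e k))) =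
        app (x * s₂ * x⁻¹) (app (x * s₁ * x⁻¹) (b (e k))) := by
      simp only [← app_mul]
      rw [show x * s₁ * x⁻¹ * (x * s₂ * x⁻¹) = x * (s₁ * s₂) * x⁻¹ by group, hs12]
      congr 1
      group
    rcases hτ k with e1 | e1 <;> rcases hσ (τ k) with e2 | e2 <;> rcases hσ k with e3 | e3 <;>
      rcases hτ (σ k) with e4 | e4 <;> rw [e1, e3] at h1 <;> simp only [map_neg, e2, e4, neg_neg] at h1 <;>
      first | exact Or.inl h1 | exact Or.inr h1 | exact Or.inr (neg_eq_iff_eq_neg.1 h1) | exact Or.inl (neg_injective h1)))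
  set y := app x⁻¹ (b (e k)) with hy
  have hyo : ∀ o ∉ J, co q b c o y = 0 := fun o ho => hzero _ o fun hh => ho (hh.1 (heJ k))
  have hey : ∀ s, (app (x * s * x⁻¹) (b (e k)) = b (e k) ∨ app (x * s * x⁻¹) (b (e k)) = -b (e k)) →
      app s y = y ∨ app s y = -y := by
    intro s hs
    have h1 : app s y = app x⁻¹ (app (x * s * x⁻¹) (b (e k))) := by simp [hy, app_inv_app]
    rcases hs with e1 | e1 <;> rw [h1, e1] <;> [left; right] <;> simp [hy]
  have hsplit : ∀ (a d p : Fin n), a ≠ d → p ≠ a → p ≠ d →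
      (app (h.sgn {a, d}) y = y ∨ app (h.sgn {a, d}) y = -y) →
      (co q b c a y = 0 ∧ co q b c d y = 0) ∨ co q b c p y = 0 := by
    intro a d p _ hpa hpd hh
    rcases hh with e1 | e1
    · left
      constructor
      · have := congrArg (co q b c a) e1
        rw [h.co_sgn, if_pos (by simp)] at this
        exact (mul_eq_zero.1 (show 2 * co q b c a y = 0 by linear_combination -this)).resolve_left h.two
      · have := congrArg (co q b c d) e1
        rw [h.co_sgn, if_pos (by simp)] at this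
        exact (mul_eq_zero.1 (show 2 * co q b c d y = 0 by linear_combination -this)).resolve_left h.two
    · right
      have := congrArg (co q b c p) e1
      rw [h.co_sgn, if_neg (by simp [hpa, hpd]), co_neg] at this
      exact (mul_eq_zero.1 (show 2 * co q b c p y = 0 by linear_combination this)).resolve_left h.two
  have h1 := hsplit i j l hij (Ne.symm hil) (Ne.symm hjl) (hs₁' ▸ hey s₁ (by have := hσ k; rwa [hk₁] at this))
  have h2 := hsplit j l i hjl hij hil (hs₂' ▸ hey s₂ (by have := hτ k; rwa [hk₂] at this))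
  obtain ⟨p, hp⟩ : ∃ p, ∀ o, o ≠ p → co q b c o y = 0 := by
    rcases h1 with ⟨a1, a2⟩ | a1
    · refine ⟨l, fun o ho => ?_⟩
      by_cases hoJ : o ∈ J
      · simp only [J, Finset.mem_insert, Finset.mem_singleton] at hoJ
        rcases hoJ with rfl | rfl | rfl
        · exact a1
        · exact a2
        · exact absurd rfl ho
      · exact hyo o hoJ
    · rcases h2 with ⟨a2, -⟩ | a2
      · refine ⟨i, fun o ho => ?_⟩
        by_cases hoJ : o ∈ J
        · simp only [J, Finset.mem_insert, Finset.mem_singleton] at hoJ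
          rcases hoJ with rfl | rfl | rfl
          · exact absurd rfl ho
          · exact a2
          · exact a1
        · exact hyo o hoJ
      · refine ⟨j, fun o ho => ?_⟩
        by_cases hoJ : o ∈ J
        · simp only [J, Finset.mem_insert, Finset.mem_singleton] at hoJ
          rcases hoJ with rfl | rfl | rfl
          · exact a2
          · exact absurd rfl ho
          · exact a1
        · exact hyo o hoJ
  have hyp : y = co q b c p y • b p := h.ext_co fun o => by
    rw [co_smul, h.co_b]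
    split_ifs with ho
    · rw [ho, mul_one]
    · rw [mul_zero]; exact hp o (Ne.symm ho)
  have hunit : co q b c p y * co q b c p y = 1 := by
    have h3 : ip q c y y = 1 := by rw [hy, ip_app, h.ip_b, if_pos rfl]
    rwa [hyp, ip_smul_left, ip_smul_right, h.ip_b, if_pos rfl, mul_one] at h3
  refine ⟨e k, p, heJ k, ?_, ?_⟩
  · by_contra hpJ
    have := hyo p hpJ
    rw [this, mul_zero] at hunit
    exact zero_ne_one hunit
  · rcases mul_self_eq_one_iff.1 hunit with e1 | e1 <;> [left; right] <;> rw [← hy, hyp, e1] <;> simp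

end CfsgLib.GeomClasses.Frame
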