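import Cfsg.Agent.Lib.GeomClasses.FrameUnit
import Cfsg.Agent.Lib.GeomClasses.FrameSign

/-!
For seven and for at least nine frame vectors, a group containing the frame generators and anything else contains
`Ω`. With nine or more vectors the dihedral argument applies directly. With seven it is first run inside the
stabiliser of a frame line, where the roots on two vectors are excluded by the climb.
-/

set_option autoImplicit false
set_option linter.unusedSectionVars false

namespace CfsgLib.GeomClasses.Frame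

open QuadraticMap CfsgLib.Orth

variable {ι : Type} [Fintype ι] [DecidableEq ι] {F : Type*} [Field F] [Fintype F]
  {q : QuadraticForm F (ι → F)} {n : ℕ} {b : Fin n → ι → F} {c : F} (h : IsFrame q b c)
  {X : Subgroup (O q)} (hX : HasGens b X)
  (H0 : ∀ g ∈ X, ∀ a a', a ≠ a' → (app g (b a) = b a ∨ app g (b a) = -b a) →
    (app g (b a') = b a' ∨ app g (b a') = -b a') → Mono b g)
include h

omit h in
/-- The elements of `X` fixing a frame line. -/
def lineStab (X : Subgroup (O q)) (b : Fin n → ι → F) (a : Fin n) : Subgroup (O q) where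
  carrier := {g | g ∈ X ∧ (app g (b a) = b a ∨ app g (b a) = -b a)}
  mul_mem' {g g'} hg hg' := ⟨X.mul_mem hg.1 hg'.1, by
    rcases hg.2 with e | e <;> rcases hg'.2 with e' | e' <;> simp [app_mul, e, e']⟩
  one_mem' := ⟨X.one_mem, Or.inl (app_one _)⟩
  inv_mem' {g} hg := ⟨X.inv_mem hg.1, by
    have h1 := app_inv_app g (b a)
    rcases hg.2 with e | e <;> rw [e] at h1
    · exact Or.inl h1
    · rw [map_neg] at h1; exact Or.inr (neg_eq_iff_eq_neg.1 h1)⟩

omit h in
theorem one_lt_card_sdiff_symm {L J : Finset (Fin n)} : (J \ L).card ≤ (symmDiff L J).card :=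
  Finset.card_le_card fun _ hx => Finset.mem_symmDiff.2 (Or.inr (Finset.mem_sdiff.1 hx))

omit h in
theorem card_symmDiff_le' (L J : Finset (Fin n)) : (symmDiff L J).card ≤ L.card + J.card :=
  (Finset.card_le_card fun x hx => by
    rcases Finset.mem_symmDiff.1 hx with ⟨h1, -⟩ | ⟨h1, -⟩ <;> simp [h1]).trans (Finset.card_union_le L J)

theorem IsFrame.commute_pair_of_invol {z : O q} {σ : Fin n → Fin n}
    (hzr : ∀ i, z * refl q (b i) * z⁻¹ = refl q (b (σ i))) {i j : Fin n} (hij : i ≠ j)
    (he : (σ i = i ∧ σ j = j) ∨ (σ i = j ∧ σ j = i)) : Commute z (h.sgn {i, j}) := by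
  rw [h.sgn_pair hij]
  refine mul_inv_eq_iff_eq_mul.1 ?_
  rw [show z * (refl q (b i) * refl q (b j)) * z⁻¹ = (z * refl q (b i) * z⁻¹) * (z * refl q (b j) * z⁻¹) by group,
    hzr, hzr]
  rcases he with ⟨e1, e2⟩ | ⟨e1, e2⟩ <;> rw [e1, e2]
  rw [← h.sgn_pair hij, ← h.sgn_pair (Ne.symm hij), Finset.pair_comm]

theorem IsFrame.sgn_sq (K : Finset (Fin n)) : h.sgn K * h.sgn K = 1 := by
  rw [h.sgn_mul, symmDiff_self, Finset.bot_eq_empty, h.sgn_empty]

theorem IsFrame.conj_sgn_sq (g : O q) (K : Finset (Fin n)) :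
    g * h.sgn K * g⁻¹ * (g * h.sgn K * g⁻¹) = 1 := by
  rw [show g * h.sgn K * g⁻¹ * (g * h.sgn K * g⁻¹) = g * (h.sgn K * h.sgn K) * g⁻¹ by group, h.sgn_sq, mul_one,
    mul_inv_cancel]

omit h in
theorem commute_conj {g y t : O q} (hc : Commute (g * t * g⁻¹) y) : Commute (g⁻¹ * y * g) t := by
  have h2 := hc.symm.map (MulAut.conj g⁻¹).toMonoidHom
  simp only [MulEquiv.coe_toMonoidHom, MulAut.conj_apply, inv_inv] at h2
  rwa [show g⁻¹ * (g * t * g⁻¹) * g = t by group] at h2

include hX H0

/-- Nine or more frame vectors: the elements commuting with a middle sign change are signed permutations. -/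
theorem IsFrame.commute_middle (hn : 9 ≤ n) {K : Finset (Fin n)} (hK : 2 ≤ K.card ∧ K.card + 2 ≤ n) {x : O q}
    (hx : x ∈ X) (hcomm : Commute x (h.sgn K)) : Mono b x := by
  by_cases h1 : K.card + 5 ≤ n
  · exact h.commute_mono hX H0 (by omega) h1 hx hcomm
  have hc : Kᶜ.card = n - K.card := by rw [Finset.card_compl, Fintype.card_fin]
  refine h.commute_mono hX H0 (J := Kᶜ) (by omega) (by omega) hx ?_
  rw [h.sgn_compl]
  exact (h.commute_univ x).mul_right hcomm

/-- Nine or more frame vectors: conjugates of pairs. -/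
theorem IsFrame.conj_pair (hn : 9 ≤ n) {g : O q} (hg : g ∈ X) {K : Finset (Fin n)} (hK : K.card = 2)
    (hz : Mono b (g * h.sgn K * g⁻¹)) : Mono b g := by
  obtain ⟨P, hcard, hfix, hout⟩ := h.card_moved rfl hz
  refine h.line_of_invariant hX H0 (by omega) hg (P := P) (by omega) fun m hm hmfix => ?_
  refine h.commute_middle hX H0 hn (K := K) (by omega) (X.mul_mem (X.mul_mem (X.inv_mem hg) hm) hg) ?_
  refine commute_conj (g := g) (y := m) ?_
  refine ext_app fun x => ?_
  rw [← h.expand x, map_sum, map_sum]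
  refine Finset.sum_congr rfl fun l _ => ?_
  rw [map_smul, map_smul]
  congr 1
  rw [app_mul _ m, app_mul m]
  by_cases hl : l ∈ P
  · rw [hfix l hl]
    refine h.fix_of_co hfix fun j hj => ?_
    rw [co]
    conv_lhs => arg 4; rw [← hmfix j hj]
    rw [ip_app, h.ip_b, if_neg fun e : l = j => hj (e ▸ hl)]
  · obtain ⟨j, hj, e⟩ := hout l hl
    rw [hmfix l hl]
    rcases e with e | e <;> rw [e] <;> simp [hmfix j hj]

/-- Nine or more frame vectors: all elements are signed permutations. -/
theorem IsFrame.all_mono_nine (hn : 9 ≤ n) : ∀ g ∈ X, Mono b g := by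
  classical
  intro g hg
  obtain ⟨E, -, hE⟩ := Finset.exists_subset_card_eq (s := (Finset.univ : Finset (Fin n))) (n := 2) (by simp; omega)
  obtain ⟨J, -, hJc⟩ := Finset.exists_subset_card_eq (s := (Finset.univ : Finset (Fin n))) (n := 4) (by simp; omega)
  refine h.all_mono_core hX (Y := X) (fun K => 2 ≤ K.card ∧ K.card + 2 ≤ n)
    (fun K hK x hx => h.commute_middle hX H0 hn hK hx) (fun K hK g hg hz => ?_)
    E J (h.sgn_mem hX _ (by rw [hE]; decide)) (h.sgn_mem hX _ (by rw [hJc]; decide)) ⟨by omega, by omega⟩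
    ⟨by omega, by omega⟩ (fun L hL _ => ?_) g hg
  · obtain ⟨σ, hσσ, hσ, hzr⟩ := h.involution_data hX (h.conj_sgn_sq g K) hz
    obtain ⟨i, j, hij, he⟩ : ∃ i j, i ≠ j ∧ ((σ i = i ∧ σ j = j) ∨ (σ i = j ∧ σ j = i)) := by
      by_cases hmove : ∃ i, σ i ≠ i
      · obtain ⟨i, hi⟩ := hmove
        exact ⟨i, σ i, Ne.symm hi, Or.inr ⟨rfl, hσσ i⟩⟩
      · push Not at hmove
        exact ⟨⟨0, by omega⟩, ⟨1, by omega⟩, by simp, Or.inl ⟨hmove _, hmove _⟩⟩
    have hy : Mono b (g⁻¹ * h.sgn {i, j} * g) :=
      h.commute_middle hX H0 hn hK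
        (X.mul_mem (X.mul_mem (X.inv_mem hg) (h.sgn_mem hX _ (by simp [Finset.card_pair hij]))) hg)
        (commute_conj (h.commute_pair_of_invol hzr hij he))
    simpa using h.mono_inv (h.conj_pair hX H0 hn (X.inv_mem hg) (Finset.card_pair hij) (by rwa [inv_inv]))
  · rw [hE] at hL
    refine ⟨fun hne => ⟨?_, ?_⟩, fun e => ?_, ?_, ?_⟩
    · exact one_lt_card_symmDiff (by omega) (by rw [hL, hE]) (by simpa [← Finset.bot_eq_empty] using hne)
    · have := card_symmDiff_le' L E
      omega
    · rw [e] at hL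
      omega
    · refine le_trans ?_ one_lt_card_sdiff_symm
      have := Finset.le_card_sdiff L J
      omega
    · have := card_symmDiff_le' L J
      omega

variable (hn7 : n = 7)
include hn7

theorem IsFrame.mono_of_fix_line {x : O q} (hx : x ∈ X) {a o p : Fin n}
    (ha : app x (b a) = b a ∨ app x (b a) = -b a) (hoa : o ≠ a)
    (he : app x (b o) = b p ∨ app x (b o) = -b p) : Mono b x := by
  refine h.mono_of_lines hX H0 (by omega) hx hoa ?_ he ha
  intro e
  subst e
  have h1 : ip q c (app x (b o)) (app x (b p)) = 0 := by rw [ip_app, h.ip_b, if_neg hoa]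
  have h2 := h.ip_b p p
  rw [if_pos rfl] at h2
  rcases he with e | e <;> rcases ha with e' | e' <;> simp [e, e', ip_neg_left, ip_neg_right, h2] at h1

/-- An element fixing a frame line commutes with a sign change only as a signed permutation. -/
theorem IsFrame.commute_stab {a : Fin n} {K : Finset (Fin n)} (hK : (K.erase a).Nonempty)
    (hK' : (Kᶜ.erase a).Nonempty) {x : O q} (hx : x ∈ lineStab X b a) (hcomm : Commute x (h.sgn K)) :
    Mono b x := by
  classical
  obtain ⟨hxX, hxa⟩ := hx
  have hcs : Commute x (h.sgn {a}) := by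
    rw [h.sgn_single]
    refine mul_inv_eq_iff_eq_mul.1 ?_
    rw [refl_conj]
    rcases hxa with e | e <;> rw [e]
    rw [refl_neg]
  have herase : ∀ L : Finset (Fin n), Commute x (h.sgn L) → Commute x (h.sgn (L.erase a)) := by
    intro L hL
    by_cases hmem : a ∈ L
    · have e : L.erase a = symmDiff L {a} := by
        ext l
        by_cases hl : l = a <;> simp [hl, hmem, Finset.mem_symmDiff]
      rw [e, ← h.sgn_mul]
      exact hL.mul_right hcs
    · rwa [Finset.erase_eq_of_notMem hmem]
  have hK1 := herase K hcomm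
  have hK2 : Commute x (h.sgn (Kᶜ.erase a)) := herase Kᶜ (by
    rw [h.sgn_compl]; exact (h.commute_univ x).mul_right hcomm)
  have hsum : (K.erase a).card + (Kᶜ.erase a).card = 6 := by
    have h1 : Kᶜ.card = n - K.card := by rw [Finset.card_compl, Fintype.card_fin]
    have h2 : K.card ≤ n := by simpa using Finset.card_le_univ K
    by_cases hmem : a ∈ K
    · rw [Finset.card_erase_of_mem hmem, Finset.erase_eq_of_notMem (by simp [hmem])]
      have := Finset.card_pos.2 ⟨a, hmem⟩
      omega
    · rw [Finset.erase_eq_of_notMem hmem, Finset.card_erase_of_mem (by simp [hmem])]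
      have := Finset.card_pos.2 ⟨a, Finset.mem_compl.2 hmem⟩
      omega
  have key : ∀ L : Finset (Fin n), a ∉ L → 1 ≤ L.card → L.card ≤ 3 → Commute x (h.sgn L) → Mono b x := by
    intro L haL h1 h3 hL
    rcases (show L.card = 1 ∨ L.card = 2 ∨ L.card = 3 by omega) with e | e | e
    · obtain ⟨o, rfl⟩ := Finset.card_eq_one.1 e
      have hoa : o ≠ a := fun e' => haL (by simp [e'])
      refine h.mono_of_fix_line hX H0 hn7 hxX hxa hoa (p := o) ?_
      have hunit : ip q c (app x (b o)) (app x (b o)) = 1 := by rw [ip_app, h.ip_b, if_pos rfl]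
      have hz : ∀ l, l ≠ o → co q b c l (app x (b o)) = 0 := fun l hl => by
        have h4 := congrArg (fun t => co q b c l (app t (b o))) hL.eq
        simp only [app_mul, h.sgn_b, Finset.mem_singleton, if_pos, map_neg, co_neg, h.co_sgn, if_neg hl] at h4
        exact (mul_eq_zero.1 (show 2 * co q b c l (app x (b o)) = 0 by linear_combination -h4)).resolve_left h.two
      have hv : app x (b o) = co q b c o (app x (b o)) • b o := h.ext_co fun l => by
        rw [co_smul, h.co_b]
        split_ifs with hl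
        · rw [← hl, mul_one]
        · rw [mul_zero, hz l (Ne.symm hl)]
      rw [hv, ip_smul_left, ip_smul_right, h.ip_b, if_pos rfl, mul_one] at hunit
      rcases mul_self_eq_one_iff.1 hunit with e1 | e1 <;> [left; right] <;> rw [hv, e1] <;> simp
    · exact h.commute_mono hX H0 (by omega) (by omega) hxX hL
    · obtain ⟨i, j, l, hij, hil, hjl, rfl⟩ := Finset.card_eq_three.1 e
      obtain ⟨o, p, ho, -, he⟩ := h.line_of_triple hX H0 (by omega) hij hil hjl hxX hL
      have hm := h.mono_of_fix_line hX H0 hn7 (X.inv_mem hxX) ((lineStab X b a).inv_mem ⟨hxX, hxa⟩).2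
        (fun e' => haL (by rw [← e']; exact ho)) he
      simpa using h.mono_inv hm
  rcases Nat.lt_or_ge (K.erase a).card 4 with hlt | hge
  · exact key _ (by simp) (Finset.card_pos.2 hK) (by omega) hK1
  · exact key _ (by simp) (Finset.card_pos.2 hK') (by omega) hK2

variable (hroot : ∀ f, Phi q b c X f → 3 ≤ (supp q b c f).card → (supp q b c f).card + 2 ≤ n → False)
include hroot

/-- A root avoiding two frame vectors is a frame vector or lies on two with equal squares. -/
theorem IsFrame.root_short {f : ι → F} (hf : Phi q b c X f) (hle : (supp q b c f).card + 2 ≤ n) :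
    (∃ j, f = b j ∨ f = -b j) ∨ ∃ i j, i ≠ j ∧ supp q b c f = {i, j} ∧
      2 * co q b c i f ^ 2 = 1 ∧ 2 * co q b c j f ^ 2 = 1 := by
  classical
  rcases Nat.lt_or_ge (supp q b c f).card 3 with h3 | h3
  · rcases Nat.lt_or_ge (supp q b c f).card 2 with h2 | h2
    · exact Or.inl (h.eq_of_supp_one hf.1 (by omega))
    · obtain ⟨i, j, hij, hs⟩ := Finset.card_eq_two.1 (show (supp q b c f).card = 2 by omega)
      have hsp : ∀ i j, i ≠ j → supp q b c f = {i, j} → 2 * co q b c j f ^ 2 = 1 := fun i j hij hs => by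
        by_contra hne
        obtain ⟨g, hg, hgc⟩ := h.supp_two_step hX (by omega) hf hij hs hne
        exact hroot g hg (by omega) (by omega)
      exact Or.inr ⟨i, j, hij, hs, hsp j i (Ne.symm hij) (by rw [hs, Finset.pair_comm]), hsp i j hij hs⟩
  · exact (hroot f hf h3 hle).elim

/-- No element fixing a frame line sends another frame vector half way between two. -/
theorem IsFrame.no_diagonal {g : O q} {a : Fin n} (hg : g ∈ lineStab X b a) {i k l : Fin n} (hia : i ≠ a)
    (hkl : k ≠ l) (hout : ∀ o, o ≠ k → o ≠ l → co q b c o (app g (b i)) = 0)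
    (hk : 2 * co q b c k (app g (b i)) ^ 2 = 1) (hl : 2 * co q b c l (app g (b i)) ^ 2 = 1) : False := by
  classical
  obtain ⟨hgX, hga⟩ := hg
  set v := app g (b i) with hv
  set s := co q b c k v with hsdef
  have hs0 : s ≠ 0 := fun e => one_ne_zero (α := F) (by rw [← hk, e]; ring)
  have hl0 : co q b c l v ≠ 0 := fun e => one_ne_zero (α := F) (by rw [← hl, e]; ring)
  have hvP : Phi q b c X v := h.phi_move hX (h.phi_b hX i) hgX hga
  have hva : co q b c a v = 0 := by
    have h1 : ip q c v (app g (b a)) = 0 := by rw [hv, ip_app, h.ip_b, if_neg hia]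
    rcases hga with e | e <;> rw [e] at h1
    · exact h1
    · rwa [ip_neg_right, neg_eq_zero] at h1
  have hka : k ≠ a := fun e => hs0 (by rw [hsdef, e, hva])
  have hla : l ≠ a := fun e => hl0 (by rw [e, hva])
  -- the preimages of the other frame vectors
  have hpre : ∀ o, o ≠ a → o ≠ k → o ≠ l → ∃ p p', p ≠ p' ∧ p ≠ i ∧ p ≠ a ∧
      supp q b c (app g⁻¹ (b o)) = {p, p'} ∧ 2 * co q b c p (app g⁻¹ (b o)) ^ 2 = 1 ∧
      2 * co q b c p' (app g⁻¹ (b o)) ^ 2 = 1 ∧ p' ≠ i ∧ p' ≠ a := by
    intro o hoa hok hol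
    obtain ⟨hgX', hga'⟩ := (lineStab X b a).inv_mem ⟨hgX, hga⟩
    set u := app g⁻¹ (b o) with hu
    have huP : Phi q b c X u := h.phi_move hX (h.phi_b hX o) hgX' hga'
    have hui : co q b c i u = 0 := by
      have : ip q c (app g u) (app g (b i)) = 0 := by
        rw [hu, app_app_inv, ← hv, ip_comm]; exact hout o hok hol
      rwa [ip_app] at this
    have hua : co q b c a u = 0 := by
      have h1 : ip q c u (app g⁻¹ (b a)) = 0 := by rw [hu, ip_app, h.ip_b, if_neg hoa]
      rcases hga' with e | e <;> rw [e] at h1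
      · exact h1
      · rwa [ip_neg_right, neg_eq_zero] at h1
    have hle : (supp q b c u).card + 2 ≤ n := by
      have hsub : supp q b c u ⊆ ({i, a} : Finset (Fin n))ᶜ := fun y hy => by
        simp only [Finset.mem_compl, Finset.mem_insert, Finset.mem_singleton, not_or]
        exact ⟨fun e => mem_supp.1 hy (e ▸ hui), fun e => mem_supp.1 hy (e ▸ hua)⟩
      have := Finset.card_le_card hsub
      rw [Finset.card_compl, Fintype.card_fin, Finset.card_pair hia] at this
      omega
    rcases h.root_short hX H0 hn7 hroot huP hle with ⟨j, hj⟩ | ⟨p, p', hpp, hs, h1, h2⟩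
    · exfalso
      have hja : j ≠ a := by
        rintro rfl
        rcases hj with e | e <;> rw [e] at hua <;> simp [co_neg, h.co_b_self] at hua
      have hmono : Mono b g := h.mono_of_fix_line hX H0 hn7 hgX hga hja (p := o) (by
        rcases hj with e | e
        · left; rw [← e, hu, app_app_inv]
        · right; rw [← neg_eq_iff_eq_neg.2 e, map_neg, hu, app_app_inv])
      obtain ⟨r, hr⟩ := hmono i
      rw [← hv] at hr
      rcases eq_or_ne k r with rfl | hkr
      · rcases hr with e | e <;> rw [e] at hl0 <;> simp [co_neg, h.co_b_ne hkl] at hl0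
      · rcases hr with e | e <;> rw [hsdef, e] at hs0 <;> simp [co_neg, h.co_b_ne (Ne.symm hkr)] at hs0
    · have hmem : ∀ y ∈ ({p, p'} : Finset (Fin n)), y ≠ i ∧ y ≠ a := fun y hy => by
        rw [← hs] at hy
        exact ⟨fun e => mem_supp.1 hy (e ▸ hui), fun e => mem_supp.1 hy (e ▸ hua)⟩
      exact ⟨p, p', hpp, (hmem p (by simp)).1, (hmem p (by simp)).2, hs, h1, h2, (hmem p' (by simp)).1,
        (hmem p' (by simp)).2⟩
  -- two of three have the same support
  obtain ⟨m, m', hmm, hm, hm', heq⟩ : ∃ m m', m ≠ m' ∧ (m ≠ a ∧ m ≠ k ∧ m ≠ l) ∧ (m' ≠ a ∧ m' ≠ k ∧ m' ≠ l) ∧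
      supp q b c (app g⁻¹ (b m)) = supp q b c (app g⁻¹ (b m')) := by
    by_contra hc
    push Not at hc
    obtain ⟨T, hT, hTc⟩ := Finset.exists_subset_card_eq (s := ({a, k, l} : Finset (Fin n))ᶜ) (n := 3) (by
      rw [Finset.card_compl, Fintype.card_fin]
      have := Finset.card_le_three (a := a) (b := k) (c := l)
      omega)
    have hTm : ∀ y ∈ T, y ≠ a ∧ y ≠ k ∧ y ≠ l := fun y hy => by simpa using hT hy
    have hdis : ∀ y ∈ T, ∀ y' ∈ T, y ≠ y' →
        Disjoint (supp q b c (app g⁻¹ (b y))) (supp q b c (app g⁻¹ (b y'))) := by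
      intro y hy y' hy' hne
      obtain ⟨p₁, p₁', hp₁, -, -, hs₁, -⟩ := hpre y (hTm y hy).1 (hTm y hy).2.1 (hTm y hy).2.2
      obtain ⟨p₂, p₂', hp₂, -, -, hs₂, -⟩ := hpre y' (hTm y' hy').1 (hTm y' hy').2.1 (hTm y' hy').2.2
      set S₁ := supp q b c (app g⁻¹ (b y)) with hS₁
      set S₂ := supp q b c (app g⁻¹ (b y')) with hS₂
      have hc1 : S₁.card = 2 := by rw [hs₁, Finset.card_pair hp₁]
      have hc2 : S₂.card = 2 := by rw [hs₂, Finset.card_pair hp₂]
      have hne2 : (S₁ ∩ S₂).card ≠ 2 := fun e => hc y y' hne (hTm y hy) (hTm y' hy') (by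
        rw [← hS₁, ← hS₂]
        exact (Finset.eq_of_subset_of_card_le (Finset.inter_subset_left (s₁ := S₁) (s₂ := S₂))
          (by rw [e, hc1])).symm.trans
          (Finset.eq_of_subset_of_card_le (Finset.inter_subset_right (s₁ := S₁) (s₂ := S₂)) (by rw [e, hc2])))
      have hne1 : (S₁ ∩ S₂).card ≠ 1 := fun e => by
        obtain ⟨p, hp⟩ := Finset.card_eq_one.1 e
        have hpm : p ∈ S₁ ∩ S₂ := by rw [hp]; simp
        rw [Finset.mem_inter] at hpm
        have h1 : ip q c (app g⁻¹ (b y)) (app g⁻¹ (b y')) = 0 := by rw [ip_app, h.ip_b, if_neg hne]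
        rw [h.ip_eq_sum, Finset.sum_eq_single p] at h1
        · exact mul_ne_zero (mem_supp.1 (hS₁ ▸ hpm.1)) (mem_supp.1 (hS₂ ▸ hpm.2)) h1
        · intro z _ hz
          by_contra h0
          have : z ∈ S₁ ∩ S₂ := Finset.mem_inter.2
            ⟨mem_supp.2 fun e => h0 (by rw [e, zero_mul]), mem_supp.2 fun e => h0 (by rw [e, mul_zero])⟩
          rw [hp, Finset.mem_singleton] at this
          exact hz this
        · simp
      have hle := Finset.card_le_card (Finset.inter_subset_left : S₁ ∩ S₂ ⊆ S₁)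
      rw [Finset.disjoint_iff_inter_eq_empty, ← Finset.card_eq_zero]
      omega
    have h1 : (T.biUnion fun y => supp q b c (app g⁻¹ (b y))).card = 6 := by
      have h2' : ∀ y ∈ T, (supp q b c (app g⁻¹ (b y))).card = 2 := fun y hy => by
        obtain ⟨p₁, p₁', hp₁, -, -, hs₁, -⟩ := hpre y (hTm y hy).1 (hTm y hy).2.1 (hTm y hy).2.2
        rw [hs₁, Finset.card_pair hp₁]
      rw [Finset.card_biUnion fun y hy y' hy' hne => hdis y hy y' hy' hne, Finset.sum_congr rfl h2',
        Finset.sum_const, hTc, smul_eq_mul]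
    have h2 : (T.biUnion fun y => supp q b c (app g⁻¹ (b y))) ⊆ ({i, a} : Finset (Fin n))ᶜ := fun z hz => by
      obtain ⟨y, hy, hzy⟩ := Finset.mem_biUnion.1 hz
      obtain ⟨p₁, p₁', -, e1, e2, hs₁, -, -, e3, e4⟩ := hpre y (hTm y hy).1 (hTm y hy).2.1 (hTm y hy).2.2
      rw [hs₁, Finset.mem_insert, Finset.mem_singleton] at hzy
      rcases hzy with rfl | rfl <;> simp [e1, e2, e3, e4]
    have := Finset.card_le_card h2
    rw [h1, Finset.card_compl, Fintype.card_fin, Finset.card_pair hia] at this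
    omega
  obtain ⟨p, p', hpp, hpi, hpa, hs, hA, hB, -, -⟩ := hpre m hm.1 hm.2.1 hm.2.2
  obtain ⟨r, r', hrr, -, -, hs', hC', hD', -, -⟩ := hpre m' hm'.1 hm'.2.1 hm'.2.2
  set u := app g⁻¹ (b m) with hu
  set u' := app g⁻¹ (b m') with hu'
  rw [hs, hs'] at heq
  have hC : ∀ y ∈ ({p, p'} : Finset (Fin n)), 2 * co q b c y u' ^ 2 = 1 := fun y hy => by
    rw [heq, Finset.mem_insert, Finset.mem_singleton] at hy
    rcases hy with rfl | rfl
    · exact hC'
    · exact hD'
  have hCp := hC p (by simp)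
  have hDp := hC p' (by simp)
  set A := co q b c p u with hAdef
  set B := co q b c p' u with hBdef
  set C := co q b c p u' with hCdef
  set D := co q b c p' u' with hDdef
  have hA0 : A ≠ 0 := fun e => one_ne_zero (α := F) (by rw [← hA, e]; ring)
  have hC0 : C ≠ 0 := fun e => one_ne_zero (α := F) (by rw [← hCp, e]; ring)
  have hu0 : ∀ y, y ≠ p → y ≠ p' → co q b c y u = 0 ∧ co q b c y u' = 0 := fun y h1 h2 =>
    ⟨notMem_supp.1 (by rw [hs]; simp [h1, h2]), notMem_supp.1 (by rw [hs', ← heq]; simp [h1, h2])⟩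
  have horth : A * C + B * D = 0 := by
    have h1 : ip q c u u' = 0 := by rw [hu, hu', ip_app, h.ip_b, if_neg hmm]
    rwa [h.ip_eq_sum_of (s := {p, p'}) (fun y hy => (hu0 y (by simp at hy; exact hy.1) (by simp at hy; exact hy.2)).1),
      Finset.sum_pair hpp] at h1
  have hbp : b p = A • u + C • u' := by
    refine h.ext_co fun y => ?_
    rw [co_add, co_smul, co_smul, h.co_b]
    rcases eq_or_ne y p with rfl | h1
    · rw [if_pos rfl, ← hAdef, ← hCdef]
      refine mul_left_cancel₀ h.two ?_
      linear_combination -hA - hCp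
    rcases eq_or_ne y p' with rfl | h2
    · rw [if_neg hpp, ← hBdef, ← hDdef, eq_comm]
      refine (mul_eq_zero.1 (show (2 * A) * (A * B + C * D) = 0 from ?_)).resolve_left (mul_ne_zero h.two hA0)
      linear_combination 2 * D * horth + B * hA - B * hDp
    · rw [if_neg (Ne.symm h1), (hu0 y h1 h2).1, (hu0 y h1 h2).2]; ring
  -- a long root
  obtain ⟨σ, hσk, hσl⟩ : ∃ σ : Equiv.Perm (Fin n), σ k = i ∧ σ l = p := by
    refine ⟨Equiv.swap (Equiv.swap k i l) p * Equiv.swap k i, ?_, ?_⟩
    · rw [Equiv.Perm.mul_apply, Equiv.swap_apply_left, Equiv.swap_apply_of_ne_of_ne ?_ (Ne.symm hpi)]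
      intro e
      exact hkl ((Equiv.swap k i).injective (by rw [Equiv.swap_apply_left]; exact e))
    · rw [Equiv.Perm.mul_apply, Equiv.swap_apply_left]
  have hvs : (supp q b c v).card + 2 ≤ n := by
    have := Finset.card_le_card (supp_subset.2 fun y hy => hout y (by simp at hy; exact hy.1) (by simp at hy; exact hy.2) :
      supp q b c v ⊆ {k, l})
    have := Finset.card_le_two (a := k) (b := l)
    omega
  have hd : Phi q b c X (s • (b i + b p)) := by
    refine h.phi_of_sq hX (h.phi_perm hX hvP hvs σ) fun y => ?_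
    rw [co_smul, co_add, h.co_perm, h.co_b, h.co_b]
    rcases eq_or_ne y i with rfl | hyi
    · rw [if_pos rfl, if_neg hpi, σ.symm_apply_eq.2 hσk.symm]; ring
    rcases eq_or_ne y p with rfl | hyp
    · rw [if_pos rfl, if_neg (Ne.symm hyi), σ.symm_apply_eq.2 hσl.symm]
      exact mul_left_cancel₀ h.two (by linear_combination hk - hl)
    · rw [if_neg (Ne.symm hyi), if_neg (Ne.symm hyp), hout]
      · ring
      · exact fun e => hyi (by rw [← hσk, ← e, Equiv.apply_symm_apply])
      · exact fun e => hyp (by rw [← hσl, ← e, Equiv.apply_symm_apply])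
  have himg := h.phi_move hX hd hgX hga
  have e : app g (s • (b i + b p)) = s • (v + (A • b m + C • b m')) := by
    rw [map_smul, map_add, ← hv, hbp, map_add, map_smul, map_smul, hu, hu', app_app_inv, app_app_inv]
  rw [e] at himg
  set w := s • (v + (A • b m + C • b m')) with hw
  have hco : ∀ y, co q b c y w = s * (co q b c y v + (A * (if m = y then 1 else 0) +
      C * (if m' = y then 1 else 0))) := fun y => by
    rw [hw, co_smul, co_add, co_add, co_smul, co_smul, h.co_b, h.co_b]
  have h3 : ({k, l, m} : Finset (Fin n)) ⊆ supp q b c w := fun y hy => by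
    simp only [Finset.mem_insert, Finset.mem_singleton] at hy
    rw [mem_supp, hco]
    rcases hy with rfl | rfl | rfl
    · rw [if_neg hm.2.1, if_neg hm'.2.1]; simpa [← hsdef] using hs0
    · rw [if_neg hm.2.2, if_neg hm'.2.2]; simpa using ⟨hs0, hl0⟩
    · rw [if_pos rfl, if_neg (Ne.symm hmm), hout _ hm.2.1 hm.2.2]; simpa using ⟨hs0, hA0⟩
  have h4 : supp q b c w ⊆ {k, l, m, m'} := supp_subset.2 fun y hy => by
    simp only [Finset.mem_insert, Finset.mem_singleton, not_or] at hy
    rw [hco, if_neg (Ne.symm hy.2.2.1), if_neg (Ne.symm hy.2.2.2), hout _ hy.1 hy.2.1]; ring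
  have c3 := Finset.card_le_card h3
  rw [Finset.card_insert_of_notMem (by simp [hkl, Ne.symm hm.2.1]), Finset.card_pair (Ne.symm hm.2.2)] at c3
  have c4 := (Finset.card_le_card h4).trans Finset.card_le_four
  exact hroot w himg (by omega) (by omega)

/-- In seven dimensions the stabiliser of a frame line consists of signed permutations. -/
theorem IsFrame.mono_stab (a : Fin n) : ∀ g ∈ lineStab X b a, Mono b g := by
  classical
  intro g hg
  have hpairY : ∀ i, i ≠ a → h.sgn {i, a} ∈ lineStab X b a := fun i hi =>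
    ⟨h.sgn_mem hX _ (by simp [Finset.card_pair hi]), Or.inr (by rw [h.sgn_b, if_pos (by simp)])⟩
  have hpairY' : ∀ i j, i ≠ j → i ≠ a → j ≠ a → h.sgn {i, j} ∈ lineStab X b a := fun i j hij hi hj =>
    ⟨h.sgn_mem hX _ (by simp [Finset.card_pair hij]), Or.inl (by
      rw [h.sgn_b, if_neg (by simp [Ne.symm hi, Ne.symm hj])])⟩
  -- a fixed frame line other than `b a`
  have fixed : ∀ g ∈ lineStab X b a, ∀ K : Finset (Fin n), (K.erase a).Nonempty → (Kᶜ.erase a).Nonempty →
      ∀ i, i ≠ a → (app (g * h.sgn K * g⁻¹) (b i) = b i ∨ app (g * h.sgn K * g⁻¹) (b i) = -b i) →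
      (app (g * h.sgn K * g⁻¹) (b a) = b a ∨ app (g * h.sgn K * g⁻¹) (b a) = -b a) → Mono b g := by
    intro g hg K hK hK' i hia hi ha
    set z := g * h.sgn K * g⁻¹ with hz
    have hcomm : Commute z (h.sgn {i, a}) := by
      rw [h.sgn_pair hia]
      refine mul_inv_eq_iff_eq_mul.1 ?_
      rw [show z * (refl q (b i) * refl q (b a)) * z⁻¹ = (z * refl q (b i) * z⁻¹) * (z * refl q (b a) * z⁻¹) by
        group, refl_conj, refl_conj]
      rcases hi with e | e <;> rcases ha with e' | e' <;> rw [e, e'] <;> simp [refl_neg]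
    have hy : Mono b (g⁻¹ * h.sgn {i, a} * g) := h.commute_stab hX H0 hn7 hK hK'
      ((lineStab X b a).mul_mem ((lineStab X b a).mul_mem ((lineStab X b a).inv_mem hg) (hpairY i hia)) hg)
      (commute_conj hcomm)
    obtain ⟨hgX', hga'⟩ := (lineStab X b a).inv_mem hg
    set v := app g⁻¹ (b i) with hv
    have hmv : Mono b (refl q v) := by
      have e1 : g⁻¹ * h.sgn {i, a} * g = refl q v * refl q (b a) := by
        rw [h.sgn_pair hia, show g⁻¹ * (refl q (b i) * refl q (b a)) * g =
          (g⁻¹ * refl q (b i) * g⁻¹⁻¹) * (g⁻¹ * refl q (b a) * g⁻¹⁻¹) by group, refl_conj, refl_conj, ← hv]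
        rcases hga' with e | e <;> rw [e]
        rw [refl_neg]
      rw [e1] at hy
      have := mono_mul hy (h.mono_refl_b a)
      rwa [mul_assoc, refl_mul_self, mul_one] at this
    rcases h.short_of_mono (by rw [hv, Q_app, h.val]) hmv with ⟨j, hj⟩ | ⟨k, l, hkl, hout, hk, hl⟩
    · have := h.mono_of_fix_line hX H0 hn7 hgX' hga' hia hj
      simpa using h.mono_inv this
    · exact (h.no_diagonal hX H0 hn7 hroot ⟨hgX', hga'⟩ hia hkl hout hk hl).elim
  obtain ⟨E, hEs, hE⟩ := Finset.exists_subset_card_eq (s := (Finset.univ : Finset (Fin n)).erase a) (n := 2)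
    (by simp; omega)
  obtain ⟨j, hj⟩ := exists_outside (S := insert a E) (by have := Finset.card_insert_le a E; omega)
  simp only [Finset.mem_insert, not_or] at hj
  have hEa : a ∉ E := fun e => by simpa using hEs e
  obtain ⟨e₁, e₂, he₁₂, hEeq⟩ := Finset.card_eq_two.1 hE
  have hcardJ : ({j, a} : Finset (Fin n)).card = 2 := Finset.card_pair hj.1
  have hgood : ∀ K : Finset (Fin n), (K.erase a).Nonempty → K.card ≤ 4 →
      (K.erase a).Nonempty ∧ (Kᶜ.erase a).Nonempty := by
    refine fun K hK hc => ⟨hK, Finset.card_pos.1 ?_⟩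
    have h1 : Kᶜ.card - 1 ≤ (Kᶜ.erase a).card := Finset.pred_card_le_card_erase
    have h2 : Kᶜ.card = n - K.card := by rw [Finset.card_compl, Fintype.card_fin]
    omega
  refine h.all_mono_core hX (Y := lineStab X b a) (fun K => (K.erase a).Nonempty ∧ (Kᶜ.erase a).Nonempty)
    (fun K hK x hx => h.commute_stab hX H0 hn7 hK.1 hK.2 hx) (fun K hK g hg hz => ?_) E {j, a}
    (by
      rw [hEeq]
      exact hpairY' e₁ e₂ he₁₂ (fun e => hEa (by rw [hEeq, e]; simp)) (fun e => hEa (by rw [hEeq, e]; simp)))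
    (hpairY j hj.1) (hgood E (by rw [Finset.erase_eq_of_notMem hEa]; exact Finset.card_pos.1 (by omega)) (by omega))
    (hgood _ ⟨j, by simp [hj.1]⟩ (by omega)) (fun L hL hLg => ?_) g hg
  · have hzsq := h.conj_sgn_sq g K
    obtain ⟨σ, hσσ, hσ, hzr⟩ := h.involution_data hX hzsq hz
    have hzY : g * h.sgn K * g⁻¹ ∈ {g : O q | app g (b a) = b a ∨ app g (b a) = -b a} := by
      have hmul : ∀ x y : O q, (app x (b a) = b a ∨ app x (b a) = -b a) →
          (app y (b a) = b a ∨ app y (b a) = -b a) → (app (x * y) (b a) = b a ∨ app (x * y) (b a) = -b a) := by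
        intro x y hx hy
        rcases hx with e | e <;> rcases hy with e' | e' <;> simp [app_mul, e, e']
      refine hmul _ _ (hmul _ _ hg.2 ?_) ((lineStab X b a).inv_mem hg).2
      rw [h.sgn_b]
      split_ifs <;> simp
    by_cases hex : ∃ i, i ≠ a ∧ σ i = i
    · obtain ⟨i, hia, hi⟩ := hex
      exact fixed g hg K hK.1 hK.2 i hia (by have := hσ i; rwa [hi] at this) hzY
    push Not at hex
    obtain ⟨i, hia⟩ : ∃ i, i ≠ a := ⟨j, hj.1⟩
    have hsia : σ i ≠ a := fun e => by
      have hsa : σ a = a := (h.line_inj (by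
        rcases hσ a with e1 | e1 <;> rcases hzY with e2 | e2 <;> rw [e1] at e2
        · exact Or.inl e2
        · exact Or.inr e2
        · exact Or.inr (neg_eq_iff_eq_neg.1 e2)
        · exact Or.inl (neg_injective e2)))
      exact hia (by rw [← hσσ i, e, hsa])
    have hne := hex i hia
    set K' : Finset (Fin n) := {i, σ i} with hK'
    have hK'c : K'.card = 2 := Finset.card_pair (Ne.symm hne)
    have hy : Mono b (g⁻¹ * h.sgn K' * g) := h.commute_stab hX H0 hn7 hK.1 hK.2
      ((lineStab X b a).mul_mem ((lineStab X b a).mul_mem ((lineStab X b a).inv_mem hg)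
        (hpairY' i (σ i) (Ne.symm hne) hia hsia)) hg)
      (commute_conj (h.commute_pair_of_invol hzr (Ne.symm hne) (Or.inr ⟨rfl, hσσ i⟩)))
    obtain ⟨P, hP, hPfix, -⟩ := h.card_moved (g := g⁻¹) (K := K') rfl (by rwa [inv_inv])
    obtain ⟨p, hp⟩ : (P.erase a).Nonempty := Finset.card_pos.1 (by
      have : P.card - 1 ≤ (P.erase a).card := Finset.pred_card_le_card_erase
      omega)
    obtain ⟨hpa, hpP⟩ := Finset.mem_erase.1 hp
    have hm := fixed g⁻¹ ((lineStab X b a).inv_mem hg) K'
      (hgood K' ⟨i, by simp [K', hia]⟩ (by omega)).1 (hgood K' ⟨i, by simp [K', hia]⟩ (by omega)).2 p hpa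
      (Or.inl (hPfix p hpP)) (by
        rcases hg.2 with e | e <;> rcases ((lineStab X b a).inv_mem hg).2 with e' | e' <;>
          simp [app_mul, e, e', h.sgn_b, K', Ne.symm hia, Ne.symm hsia])
    simpa using h.mono_inv hm
  · rw [hE] at hL
    obtain ⟨g', hg', hgL⟩ := hLg
    have hLa : a ∉ L := fun haL => by
      have h1 := congrArg (fun t => app t (b a)) hgL
      simp only [app_mul, h.sgn_b L a, if_pos haL] at h1
      have h2 : app (h.sgn E) (app g'⁻¹ (b a)) = app g'⁻¹ (b a) := by
        rcases ((lineStab X b a).inv_mem hg').2 with e | e <;> rw [e] <;> simp [h.sgn_b, hEa]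
      rw [h2, app_app_inv] at h1
      have h3 : b a = -b a := h1
      have := congrArg (co q b c a) h3
      rw [co_neg, h.co_b_self] at this
      exact h.two (by linear_combination this)
    obtain ⟨x, hxL, hxj⟩ : ∃ x ∈ L, x ≠ j := by
      obtain ⟨x, hx, y, hy, hxy⟩ := Finset.one_lt_card.1 (show 1 < L.card by omega)
      rcases eq_or_ne x j with rfl | hxj
      · exact ⟨y, hy, Ne.symm hxy⟩
      · exact ⟨x, hx, hxj⟩
    refine ⟨fun hne => hgood _ ?_ ?_, fun e => hLa (by rw [e]; simp), hgood _ ?_ ?_⟩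
    · rw [Finset.erase_eq_of_notMem (by simp [Finset.mem_symmDiff, hLa, hEa])]
      exact Finset.nonempty_iff_ne_empty.2 (by simpa [← Finset.bot_eq_empty] using hne)
    · have := card_symmDiff_le' L E
      omega
    · refine ⟨x, ?_⟩
      have hxa : x ≠ a := fun e => hLa (e ▸ hxL)
      simp [Finset.mem_symmDiff, hxL, hxj, hxa]
    · have := card_symmDiff_le' L ({j, a} : Finset (Fin n))
      omega

/-- Seven frame vectors: all elements are signed permutations. -/
theorem IsFrame.all_mono_seven : ∀ g ∈ X, Mono b g := by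
  classical
  intro g hg
  have H1 : ∀ x ∈ X, ∀ a, (app x (b a) = b a ∨ app x (b a) = -b a) → Mono b x := fun x hx a ha =>
    h.mono_stab hX H0 hn7 hroot a x ⟨hx, ha⟩
  have hcom : ∀ K : Finset (Fin n), K.Nonempty ∧ Kᶜ.Nonempty → ∀ x ∈ X, Commute x (h.sgn K) → Mono b x := by
    intro K hK x hx hcomm
    have hcc : Commute x (h.sgn Kᶜ) := by
      rw [h.sgn_compl]; exact (h.commute_univ x).mul_right hcomm
    have hsum : K.card + Kᶜ.card = n := by rw [Finset.card_add_card_compl, Fintype.card_fin]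
    have key : ∀ L : Finset (Fin n), 1 ≤ L.card → L.card ≤ 3 → Commute x (h.sgn L) → Mono b x := by
      intro L h1 h3 hL
      rcases (show L.card = 1 ∨ L.card = 2 ∨ L.card = 3 by omega) with e | e | e
      · obtain ⟨o, rfl⟩ := Finset.card_eq_one.1 e
        refine H1 x hx o ?_
        have hunit : ip q c (app x (b o)) (app x (b o)) = 1 := by rw [ip_app, h.ip_b, if_pos rfl]
        have hz : ∀ l, l ≠ o → co q b c l (app x (b o)) = 0 := fun l hl => by
          have h4 := congrArg (fun t => co q b c l (app t (b o))) hL.eq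
          simp only [app_mul, h.sgn_b, Finset.mem_singleton, if_pos, map_neg, co_neg, h.co_sgn, if_neg hl] at h4
          exact (mul_eq_zero.1 (show 2 * co q b c l (app x (b o)) = 0 by linear_combination -h4)).resolve_left h.two
        have hv : app x (b o) = co q b c o (app x (b o)) • b o := h.ext_co fun l => by
          rw [co_smul, h.co_b]
          split_ifs with hl
          · rw [← hl, mul_one]
          · rw [mul_zero, hz l (Ne.symm hl)]
        rw [hv, ip_smul_left, ip_smul_right, h.ip_b, if_pos rfl, mul_one] at hunit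
        rcases mul_self_eq_one_iff.1 hunit with e1 | e1 <;> [left; right] <;> rw [hv, e1] <;> simp
      · exact h.commute_mono hX H0 (by omega) (by omega) hx hL
      · obtain ⟨i, j, l, hij, hil, hjl, rfl⟩ := Finset.card_eq_three.1 e
        obtain ⟨o, p, -, -, he⟩ := h.line_of_triple hX H0 (by omega) hij hil hjl hx hL
        obtain ⟨p', hp'⟩ := exists_outside (S := ({p} : Finset (Fin n))) (by simp; omega)
        obtain ⟨o', ho'⟩ := exists_outside (S := ({o} : Finset (Fin n))) (by simp; omega)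
        obtain ⟨m, hm, hmm, hmb, -⟩ := h.exists_move₂ hX (by omega) (l := p) (l' := p') (p := o) (p' := o')
          (Ne.symm (by simpa using hp')) (Ne.symm (by simpa using ho'))
        have := mono_mul (h.mono_inv hmm) (H1 (m * x⁻¹) (X.mul_mem hm (X.inv_mem hx)) o (by
          rcases he with e1 | e1 <;> simp [app_mul, e1, hmb]))
        rw [inv_mul_cancel_left] at this
        simpa using h.mono_inv this
    rcases Nat.lt_or_ge K.card 4 with hlt | hge
    · exact key K (Finset.card_pos.2 hK.1) (by omega) hcomm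
    · exact key _ (Finset.card_pos.2 hK.2) (by omega) hcc
  obtain ⟨E, -, hE⟩ := Finset.exists_subset_card_eq (s := (Finset.univ : Finset (Fin n))) (n := 2) (by simp; omega)
  obtain ⟨J, -, hJc⟩ := Finset.exists_subset_card_eq (s := (Finset.univ : Finset (Fin n))) (n := 4) (by simp; omega)
  have hgood : ∀ K : Finset (Fin n), 1 ≤ K.card → K.card ≤ 6 → K.Nonempty ∧ Kᶜ.Nonempty := fun K h1 h6 =>
    ⟨Finset.card_pos.1 h1, Finset.card_pos.1 (by rw [Finset.card_compl, Fintype.card_fin]; omega)⟩
  refine h.all_mono_core hX (Y := X) (fun K => K.Nonempty ∧ Kᶜ.Nonempty) hcom (fun K hK g hg hz => ?_)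
    E J (h.sgn_mem hX _ (by rw [hE]; decide)) (h.sgn_mem hX _ (by rw [hJc]; decide)) (hgood E (by omega) (by omega))
    (hgood J (by omega) (by omega)) (fun L hL _ => ?_) g hg
  · obtain ⟨σ, hσσ, hσ, hzr⟩ := h.involution_data hX (h.conj_sgn_sq g K) hz
    let π : Equiv.Perm (Fin n) := ⟨σ, σ, hσσ, hσσ⟩
    obtain ⟨a, ha⟩ := Equiv.Perm.exists_fixed_point_of_prime (p := 2) (n := 1) (σ := π)
      (by rw [Fintype.card_fin, hn7]; decide) (Equiv.ext fun i => by
        rw [pow_one, pow_two, Equiv.Perm.mul_apply, Equiv.Perm.one_apply]; exact hσσ i)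
    set z := g * h.sgn K * g⁻¹ with hzdef
    have hcomm : Commute z (h.sgn {a}ᶜ) := by
      rw [h.sgn_compl]
      refine (h.commute_univ z).mul_right (mul_inv_eq_iff_eq_mul.1 ?_)
      rw [h.sgn_single, hzr, show σ a = a from ha]
    have hy : Mono b (g⁻¹ * h.sgn {a}ᶜ * g) := hcom K hK _ (X.mul_mem (X.mul_mem (X.inv_mem hg) (h.sgn_mem hX _ (by
      rw [Finset.card_compl, Fintype.card_fin, Finset.card_singleton, hn7]; decide))) hg) (commute_conj hcomm)
    set v := app g⁻¹ (b a) with hv
    have hmv : Mono b (refl q v) := by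
      have e1 : refl q v = h.sgn Finset.univ * (g⁻¹ * h.sgn {a}ᶜ * g) := by
        rw [h.sgn_compl, ← mul_assoc, ← mul_assoc, ← mul_assoc, ← (h.commute_univ g⁻¹).eq,
          mul_assoc g⁻¹ (h.sgn Finset.univ), h.sgn_sq, mul_one, h.sgn_single, hv, ← refl_conj g⁻¹, inv_inv]
      rw [e1]
      exact mono_mul (h.mono_sgn _) hy
    suffices Mono b g⁻¹ by simpa using h.mono_inv this
    rcases h.short_of_mono (by rw [hv, Q_app, h.val]) hmv with ⟨j, hj⟩ | ⟨k, l, hkl, hout, -, -⟩
    · obtain ⟨p', hp'⟩ := exists_outside (S := ({j} : Finset (Fin n))) (by simp; omega)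
      obtain ⟨o', ho'⟩ := exists_outside (S := ({a} : Finset (Fin n))) (by simp; omega)
      obtain ⟨m, hm, hmm, hmb, -⟩ := h.exists_move₂ hX (by omega) (l := j) (l' := p') (p := a) (p' := o')
        (Ne.symm (by simpa using hp')) (Ne.symm (by simpa using ho'))
      have := mono_mul (h.mono_inv hmm) (H1 (m * g⁻¹) (X.mul_mem hm (X.inv_mem hg)) a (by
        rcases hj with e | e <;> simp [app_mul, ← hv, e, hmb]))
      rwa [inv_mul_cancel_left] at this
    · refine h.line_of_invariant hX H0 (by omega) (X.inv_mem hg) (P := ({k, l} : Finset (Fin n))ᶜ) (by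
        rw [Finset.card_compl, Fintype.card_fin, Finset.card_pair hkl]; omega) fun m hm hmfix => ?_
      rw [inv_inv]
      refine H1 _ (X.mul_mem (X.mul_mem hg hm) (X.inv_mem hg)) a (Or.inl ?_)
      rw [app_mul, app_mul, h.fix_of_co (S := {k, l}) (fun y hy => hmfix y (by rw [Finset.mem_compl, not_not]; exact hy))
        (fun y hy => hout y (by simp at hy; exact hy.1) (by simp at hy; exact hy.2)), hv, app_app_inv]
  · rw [hE] at hL
    refine ⟨fun hne => hgood _ ?_ ?_, fun e => ?_, hgood _ ?_ ?_⟩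
    · exact le_of_lt (one_lt_card_symmDiff (by omega) (by rw [hL, hE]) (by simpa [← Finset.bot_eq_empty] using hne))
    · have := card_symmDiff_le' L E
      omega
    · rw [e] at hL
      omega
    · refine le_trans ?_ one_lt_card_sdiff_symm
      have := Finset.le_card_sdiff L J
      omega
    · have := card_symmDiff_le' L J
      omega

omit H0 hn7 hroot in
/-- For seven or at least nine frame vectors, a subgroup with the frame generators and an element that is no
signed permutation contains `Ω`. -/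
theorem IsFrame.commutator_le_of_not_mono' (p : ℕ) [Fact p.Prime] [CharP F p] (hcard : Nat.card F = p)
    (hn : n = 7 ∨ 9 ≤ n) {g : O q} (hg : g ∈ X) (hne : ¬ Mono b g) : commutator (O q) ≤ X := by
  by_contra hc
  have hroot : ∀ f, Phi q b c X f → 3 ≤ (supp q b c f).card → (supp q b c f).card + 2 ≤ n → False :=
    fun f hf h3 hle => hc (h.commutator_le_of_root hX p hcard (by omega) hf h3 hle)
  have H0 : ∀ g ∈ X, ∀ a a', a ≠ a' → (app g (b a) = b a ∨ app g (b a) = -b a) →
      (app g (b a') = b a' ∨ app g (b a') = -b a') → Mono b g := fun x hx a a' haa ha ha' => by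
    by_contra hx'
    obtain ⟨f, hf, hf3, hfn⟩ := h.exists_start hX (by omega) hx haa ha ha' hx'
    exact hroot f hf hf3 hfn
  rcases hn with h7 | h9
  · exact hne (h.all_mono_seven hX H0 h7 hroot g hg)
  · exact hne (h.all_mono_nine hX H0 h9 g hg)

end CfsgLib.GeomClasses.Frame
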