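import Cfsg.Agent.Lib.GeomClasses.Forms

/-!
Components of vectors for a decomposition into independent subspaces of equal dimension.
-/

set_option autoImplicit false
set_option linter.unusedSimpArgs false
set_option linter.unusedSectionVars false

namespace CfsgLib.GeomClasses.Decomp

open Matrix
open scoped MatrixGroups

variable {ι : Type} [Fintype ι] [DecidableEq ι] {F : Type*} [Field F] {t m : ℕ}
  {D : Fin t → Submodule F (ι → F)}

theorem isInternal (hD : Cfsg.Geo.IsMDecomposition m D) : DirectSum.IsInternal D :=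
  DirectSum.isInternal_submodule_of_iSupIndep_of_iSup_eq_top hD.indep hD.iSup_eq_top

/-- The i-th component of a vector. -/
noncomputable def comp (hD : Cfsg.Geo.IsMDecomposition m D) (i : Fin t) : (ι → F) →ₗ[F] (ι → F) :=
  (D i).subtype ∘ₗ DirectSum.component F (Fin t) (fun i => D i) i ∘ₗ
    (LinearEquiv.ofBijective (DirectSum.coeLinearMap D) (isInternal hD)).symm.toLinearMap

theorem comp_mem (hD : Cfsg.Geo.IsMDecomposition m D) (i : Fin t) (x : ι → F) : comp hD i x ∈ D i :=
  Subtype.coe_prop _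

theorem comp_of_mem (hD : Cfsg.Geo.IsMDecomposition m D) {i : Fin t} {x : ι → F} (hx : x ∈ D i) :
    comp hD i x = x :=
  congrArg Subtype.val ((isInternal hD).ofBijective_coeLinearMap_same ⟨x, hx⟩)

theorem comp_of_mem_ne (hD : Cfsg.Geo.IsMDecomposition m D) {i j : Fin t} (h : j ≠ i) {x : ι → F}
    (hx : x ∈ D j) : comp hD i x = 0 :=
  congrArg Subtype.val ((isInternal hD).ofBijective_coeLinearMap_of_ne h ⟨x, hx⟩)

theorem sum_comp (hD : Cfsg.Geo.IsMDecomposition m D) (x : ι → F) : ∑ i, comp hD i x = x := by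
  conv_rhs => rw [← (LinearEquiv.ofBijective (DirectSum.coeLinearMap D) (isInternal hD)).apply_symm_apply x]
  set z := (LinearEquiv.ofBijective (DirectSum.coeLinearMap D) (isInternal hD)).symm x with hz
  change ∑ i, comp hD i x = DirectSum.coeLinearMap D z
  conv_rhs => rw [← DirectSum.sum_univ_of z, map_sum]
  refine Finset.sum_congr rfl fun i _ => ?_
  rw [DirectSum.coeLinearMap_of]
  rfl

theorem eq_of_comp (hD : Cfsg.Geo.IsMDecomposition m D) {x y : ι → F}
    (h : ∀ i, comp hD i x = comp hD i y) : x = y := by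
  rw [← sum_comp hD x, ← sum_comp hD y]
  exact Finset.sum_congr rfl fun i _ => h i

theorem comp_sum (hD : Cfsg.Geo.IsMDecomposition m D) (a : Fin t → (ι → F)) (ha : ∀ i, a i ∈ D i)
    (j : Fin t) : comp hD j (∑ i, a i) = a j := by
  rw [map_sum, Finset.sum_eq_single j (fun i _ hi => comp_of_mem_ne hD hi (ha i)) (by simp),
    comp_of_mem hD (ha j)]

theorem comp_add_of_mem_ne (hD : Cfsg.Geo.IsMDecomposition m D) {i j : Fin t} (h : j ≠ i)
    (x : ι → F) {y : ι → F} (hy : y ∈ D j) : comp hD i (x + y) = comp hD i x := by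
  rw [map_add, comp_of_mem_ne hD h hy, add_zero]

theorem comp_add_of_mem (hD : Cfsg.Geo.IsMDecomposition m D) {i : Fin t}
    (x : ι → F) {y : ι → F} (hy : y ∈ D i) : comp hD i (x + y) = comp hD i x + y := by
  rw [map_add, comp_of_mem hD hy]

theorem mem_of_comp_eq_zero (hD : Cfsg.Geo.IsMDecomposition m D) {i : Fin t} {x : ι → F}
    (h : ∀ j, j ≠ i → comp hD j x = 0) : x ∈ D i := by
  rw [← sum_comp hD x, Finset.sum_eq_single i (fun j _ hj => h j hj) (by simp)]
  exact comp_mem hD i x

/-- The set of indices of non-zero components. -/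
noncomputable def supp (hD : Cfsg.Geo.IsMDecomposition m D) (x : ι → F) : Finset (Fin t) :=
  {i | comp hD i x ≠ 0}.toFinite.toFinset

theorem mem_supp (hD : Cfsg.Geo.IsMDecomposition m D) {x : ι → F} {i : Fin t} :
    i ∈ supp hD x ↔ comp hD i x ≠ 0 := by
  simp [supp]

theorem exists_ne_zero (hD : Cfsg.Geo.IsMDecomposition m D) (i : Fin t) : ∃ v ∈ D i, v ≠ 0 := by
  refine Submodule.exists_mem_ne_zero_of_ne_bot fun h => ?_
  have := hD.finrank_eq i
  rw [h, finrank_bot] at this
  exact absurd this hD.pos.ne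

/-- An element sending each member into some member permutes the members. -/
theorem mem_stabilizer_of_image (hD : Cfsg.Geo.IsMDecomposition m D) {g : GL ι F}
    (h : ∀ i, ∃ j, ∀ v ∈ D i, (g : Matrix ι ι F) *ᵥ v ∈ D j) :
    g ∈ Cfsg.Geo.decompositionStabilizer D := by
  choose s hs using h
  have hmap : ∀ i, (D i).map (Matrix.toLin' (g : Matrix ι ι F)) = D (s i) := fun i => by
    apply Submodule.eq_of_le_of_finrank_eq
    · rintro _ ⟨v, hv, rfl⟩
      rw [Matrix.toLin'_apply]
      exact hs i v hv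
    · rw [← (Submodule.equivMapOfInjective _ (by
        simpa [Function.Injective] using gl_mulVec_injective g) (D i)).finrank_eq, hD.finrank_eq,
        hD.finrank_eq]
  have hinj : Function.Injective s := by
    intro i j hij
    by_contra hne
    obtain ⟨v, hv, hv0⟩ := exists_ne_zero hD i
    have h1 : (g : Matrix ι ι F) *ᵥ v ∈ D (s j) := hij ▸ hs i v hv
    rw [← hmap j] at h1
    obtain ⟨w, hw, hwv⟩ := h1
    rw [Matrix.toLin'_apply] at hwv
    rw [gl_mulVec_injective g hwv] at hw
    exact hv0 (by rw [← comp_of_mem hD hv, comp_of_mem_ne hD (Ne.symm hne) hw])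
  exact ⟨Equiv.ofBijective s (Finite.injective_iff_bijective.1 hinj), hmap⟩

/-- An element which does not permute the members moves some vector of a member to one with two
non-zero components. -/
theorem exists_two_le_supp_of_notMem (hD : Cfsg.Geo.IsMDecomposition m D) {g : GL ι F}
    (hg : g ∉ Cfsg.Geo.decompositionStabilizer D) :
    ∃ i, ∃ v ∈ D i, 2 ≤ (supp hD ((g : Matrix ι ι F) *ᵥ v)).card := by
  by_contra h
  push Not at h
  apply hg
  apply mem_stabilizer_of_image hD
  intro i
  obtain ⟨v, hv, hv0⟩ := exists_ne_zero hD i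
  obtain ⟨j, hj⟩ : ∃ j, comp hD j ((g : Matrix ι ι F) *ᵥ v) ≠ 0 := by
    by_contra h'
    push Not at h'
    exact gl_mulVec_ne_zero g hv0 (eq_of_comp hD fun l => by simp [h' l])
  refine ⟨j, fun w hw => mem_of_comp_eq_zero hD fun l hl => ?_⟩
  have hv1 : comp hD l ((g : Matrix ι ι F) *ᵥ v) = 0 := by
    by_contra hne
    have := h i v hv
    have h2 : 1 < (supp hD ((g : Matrix ι ι F) *ᵥ v)).card :=
      Finset.one_lt_card.2 ⟨j, (mem_supp hD).2 hj, l, (mem_supp hD).2 hne, Ne.symm hl⟩
    omega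
  by_contra hwl
  by_cases hwj : comp hD j ((g : Matrix ι ι F) *ᵥ w) = 0
  · have h2 : 1 < (supp hD ((g : Matrix ι ι F) *ᵥ (v + w))).card :=
      Finset.one_lt_card.2 ⟨j, (mem_supp hD).2 (by rwa [mulVec_add, map_add, hwj, add_zero]), l,
        (mem_supp hD).2 (by rwa [mulVec_add, map_add, hv1, zero_add]), Ne.symm hl⟩
    have := h i (v + w) ((D i).add_mem hv hw)
    omega
  · have h2 : 1 < (supp hD ((g : Matrix ι ι F) *ᵥ w)).card :=
      Finset.one_lt_card.2 ⟨j, (mem_supp hD).2 hwj, l, (mem_supp hD).2 hwl, Ne.symm hl⟩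
    have := h i w hw
    omega

/-- Components of an image under an element permuting the members. -/
theorem comp_mulVec (hD : Cfsg.Geo.IsMDecomposition m D) {g : GL ι F} {σ : Equiv.Perm (Fin t)}
    (hg : ∀ i, (D i).map (Matrix.toLin' (g : Matrix ι ι F)) = D (σ i)) (i : Fin t) (x : ι → F) :
    comp hD (σ i) ((g : Matrix ι ι F) *ᵥ x) = (g : Matrix ι ι F) *ᵥ comp hD i x := by
  have hm : ∀ j, (g : Matrix ι ι F) *ᵥ comp hD j x ∈ D (σ j) := fun j => by
    rw [← hg j]
    exact ⟨_, comp_mem hD j x, by simp⟩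
  conv_lhs => rw [← sum_comp hD x, mulVec_sum, map_sum]
  rw [Finset.sum_eq_single i (fun j _ hj => comp_of_mem_ne hD (σ.injective.ne hj) (hm j)) (by simp),
    comp_of_mem hD (hm i)]

/-- The form is the sum of its restrictions to the members. -/
theorem form_eq_sum (hD : Cfsg.Geo.IsMDecomposition m D) {σ : F →+* F}
    {f : (ι → F) → (ι → F) → F} (hf : IsSesq σ f)
    (horth : ∀ i j, i ≠ j → Cfsg.Geo.AreOrthogonalFor f (D i) (D j)) (x y : ι → F) :
    f x y = ∑ i, f (comp hD i x) (comp hD i y) := by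
  conv_lhs => rw [← sum_comp hD x, ← sum_comp hD y, hf.sum_left]
  refine Finset.sum_congr rfl fun i _ => ?_
  rw [hf.sum_right, Finset.sum_eq_single i
    (fun j _ hj => horth i j (Ne.symm hj) _ (comp_mem hD i x) _ (comp_mem hD j y)) (by simp)]

/-- Pairing with a vector of a member only sees that component. -/
theorem form_comp_left (hD : Cfsg.Geo.IsMDecomposition m D) {σ : F →+* F}
    {f : (ι → F) → (ι → F) → F} (hf : IsSesq σ f)
    (horth : ∀ i j, i ≠ j → Cfsg.Geo.AreOrthogonalFor f (D i) (D j)) {i : Fin t} (x : ι → F)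
    {y : ι → F} (hy : y ∈ D i) : f x y = f (comp hD i x) y := by
  rw [form_eq_sum hD hf horth x y, Finset.sum_eq_single i
    (fun j _ hj => by rw [comp_of_mem_ne hD (Ne.symm hj) hy, hf.zero_right]) (by simp),
    comp_of_mem hD hy]

end CfsgLib.GeomClasses.Decomp
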