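import Cfsg.Agent.Lib.GeomClasses.OrthEich
import Cfsg.Agent.Lib.GeomClasses.Decomp

/-!
Orthonormal frames of a quadratic space in odd characteristic: coordinates, signed permutations, sign changes.
-/

set_option autoImplicit false
set_option linter.unusedSectionVars false

namespace CfsgLib.GeomClasses.Frame

open Matrix QuadraticMap CfsgLib.Orth

variable {ι : Type} [Fintype ι] [DecidableEq ι] {F : Type*} [Field F]
  {q : QuadraticForm F (ι → F)} {n : ℕ} {b : Fin n → ι → F} {c : F}

/-- An orthogonal basis of vectors of the same value `c`. -/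
structure IsFrame (q : QuadraticForm F (ι → F)) (b : Fin n → ι → F) (c : F) : Prop where
  nondeg : q.polarBilin.Nondegenerate
  two : (2 : F) ≠ 0
  c_ne : c ≠ 0
  val : ∀ i, q (b i) = c
  orth : ∀ i j, i ≠ j → polar q (b i) (b j) = 0
  card_eq : Fintype.card ι = n

/-- The inner product for which the frame is orthonormal. -/
def ip (q : QuadraticForm F (ι → F)) (c : F) (x y : ι → F) : F := polar q x y / (2 * c)

/-- Coordinates in the frame. -/
def co (q : QuadraticForm F (ι → F)) (b : Fin n → ι → F) (c : F) (i : Fin n) (x : ι → F) : F :=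
  ip q c x (b i)

section Inner

theorem ip_comm (x y : ι → F) : ip q c x y = ip q c y x := by rw [ip, ip, polar_comm]

theorem ip_add_left (x y z : ι → F) : ip q c (x + y) z = ip q c x z + ip q c y z := by
  rw [ip, ip, ip, polar_add_left, add_div]

theorem ip_smul_left (s : F) (x z : ι → F) : ip q c (s • x) z = s * ip q c x z := by
  rw [ip, ip, polar_smul_left, smul_eq_mul, mul_div_assoc]

theorem ip_add_right (x y z : ι → F) : ip q c x (y + z) = ip q c x y + ip q c x z := by
  rw [ip, ip, ip, polar_add_right, add_div]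

theorem ip_smul_right (s : F) (x z : ι → F) : ip q c x (s • z) = s * ip q c x z := by
  rw [ip, ip, polar_smul_right, smul_eq_mul, mul_div_assoc]

theorem ip_neg_left (x z : ι → F) : ip q c (-x) z = -ip q c x z := by
  rw [ip, ip, polar_neg_left, neg_div]

theorem ip_neg_right (x z : ι → F) : ip q c x (-z) = -ip q c x z := by
  rw [ip, ip, polar_neg_right, neg_div]

theorem ip_sub_left (x y z : ι → F) : ip q c (x - y) z = ip q c x z - ip q c y z := by
  rw [ip, ip, ip, polar_sub_left, sub_div]

theorem ip_sub_right (x y z : ι → F) : ip q c x (y - z) = ip q c x y - ip q c x z := by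
  rw [ip, ip, ip, polar_sub_right, sub_div]

@[simp] theorem ip_zero_left (z : ι → F) : ip q c 0 z = 0 := by rw [ip, polar_zero_left, zero_div]

@[simp] theorem ip_zero_right (z : ι → F) : ip q c z 0 = 0 := by rw [ip, polar_zero_right, zero_div]

theorem ip_sum_left {α : Type*} (s : Finset α) (f : α → ι → F) (z : ι → F) :
    ip q c (∑ i ∈ s, f i) z = ∑ i ∈ s, ip q c (f i) z := by
  classical
  induction s using Finset.induction_on with
  | empty => simp
  | insert a s ha ih => rw [Finset.sum_insert ha, Finset.sum_insert ha, ip_add_left, ih]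

theorem ip_app (g : O q) (x y : ι → F) : ip q c (app g x) (app g y) = ip q c x y := by
  rw [ip, ip, polar_app]

theorem co_add (i : Fin n) (x y : ι → F) : co q b c i (x + y) = co q b c i x + co q b c i y :=
  ip_add_left ..

theorem co_sub (i : Fin n) (x y : ι → F) : co q b c i (x - y) = co q b c i x - co q b c i y :=
  ip_sub_left ..

theorem co_smul (i : Fin n) (s : F) (x : ι → F) : co q b c i (s • x) = s * co q b c i x :=
  ip_smul_left ..

theorem co_neg (i : Fin n) (x : ι → F) : co q b c i (-x) = -co q b c i x :=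
  ip_neg_left ..

@[simp] theorem co_zero (i : Fin n) : co q b c i 0 = 0 := ip_zero_left _

theorem co_sum {α : Type*} (i : Fin n) (s : Finset α) (f : α → ι → F) :
    co q b c i (∑ j ∈ s, f j) = ∑ j ∈ s, co q b c i (f j) :=
  ip_sum_left ..

end Inner

variable (h : IsFrame q b c)
include h

theorem IsFrame.two_c : 2 * c ≠ 0 := mul_ne_zero h.two h.c_ne

theorem IsFrame.ip_self (x : ι → F) : ip q c x x = q x / c := by
  rw [ip, polar_self', mul_div_mul_left _ _ h.two]

theorem IsFrame.ip_b (i j : Fin n) : ip q c (b i) (b j) = if i = j then 1 else 0 := by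
  split_ifs with hij
  · subst hij
    rw [h.ip_self, h.val, div_self h.c_ne]
  · rw [ip, h.orth i j hij, zero_div]

theorem IsFrame.co_b (i j : Fin n) : co q b c i (b j) = if j = i then 1 else 0 :=
  h.ip_b j i

theorem IsFrame.co_b_self (i : Fin n) : co q b c i (b i) = 1 := by rw [h.co_b, if_pos rfl]

theorem IsFrame.co_b_ne {i j : Fin n} (hij : j ≠ i) : co q b c i (b j) = 0 := by
  rw [h.co_b, if_neg hij]

theorem IsFrame.co_comb (a : Fin n → F) (i : Fin n) : co q b c i (∑ j, a j • b j) = a i := by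
  simp [co_sum, co_smul, h.co_b]

theorem IsFrame.linearIndependent : LinearIndependent F b := by
  rw [Fintype.linearIndependent_iff]
  intro a ha i
  rw [← h.co_comb a i, ha, co_zero]

theorem IsFrame.span_top : Submodule.span F (Set.range b) = ⊤ :=
  h.linearIndependent.span_eq_top_of_card_eq_finrank' (by
    rw [Fintype.card_fin, Module.finrank_fintype_fun_eq_card, h.card_eq])

theorem IsFrame.expand (x : ι → F) : ∑ i, co q b c i x • b i = x := by
  have hx : x ∈ Submodule.span F (Set.range b) := by rw [h.span_top]; trivial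
  obtain ⟨a, rfl⟩ := (Submodule.mem_span_range_iff_exists_fun F).1 hx
  simp [h.co_comb]

theorem IsFrame.ext_co {x y : ι → F} (hxy : ∀ i, co q b c i x = co q b c i y) : x = y := by
  rw [← h.expand x, ← h.expand y]
  simp [hxy]

theorem IsFrame.ip_eq_sum (x y : ι → F) : ip q c x y = ∑ i, co q b c i x * co q b c i y := by
  conv_lhs => rw [← h.expand x]
  rw [ip_sum_left]
  refine Finset.sum_congr rfl fun i _ => ?_
  rw [ip_smul_left, ip_comm (b i), co, co]

theorem IsFrame.ip_eq_sum_of {s : Finset (Fin n)} {x : ι → F} (hs : ∀ i ∉ s, co q b c i x = 0) (y : ι → F) :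
    ip q c x y = ∑ i ∈ s, co q b c i x * co q b c i y := by
  rw [h.ip_eq_sum]
  exact (Finset.sum_subset (Finset.subset_univ s) fun i _ hi => by rw [hs i hi, zero_mul]).symm

theorem IsFrame.q_eq (x : ι → F) : q x = c * ip q c x x := by
  rw [h.ip_self, mul_div_cancel₀ _ h.c_ne]

theorem IsFrame.unit_iff (x : ι → F) : q x = c ↔ ip q c x x = 1 := by
  rw [h.q_eq]
  exact ⟨fun hx => mul_left_cancel₀ h.c_ne (by rw [hx, mul_one]), fun hx => by rw [hx, mul_one]⟩

theorem IsFrame.sum_sq {x : ι → F} (hx : q x = c) : ∑ i, co q b c i x ^ 2 = 1 := by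
  rw [← (h.unit_iff x).1 hx, h.ip_eq_sum]
  exact Finset.sum_congr rfl fun i _ => sq _

theorem IsFrame.refl_unit {v : ι → F} (hv : q v = c) (x : ι → F) :
    app (refl q v) x = x - (2 * ip q c x v) • v := by
  rw [app_refl, hv, ip]
  congr 2
  field_simp [h.two, h.c_ne]

theorem IsFrame.co_refl_unit {v : ι → F} (hv : q v = c) (x : ι → F) (i : Fin n) :
    co q b c i (app (refl q v) x) = co q b c i x - 2 * ip q c x v * co q b c i v := by
  rw [h.refl_unit hv, co_sub, co_smul]

theorem IsFrame.co_refl_b (j : Fin n) (x : ι → F) (i : Fin n) :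
    co q b c i (app (refl q (b j)) x) = if i = j then -co q b c i x else co q b c i x := by
  rw [h.co_refl_unit (h.val j), h.co_b]
  by_cases hij : j = i
  · subst hij
    rw [if_pos rfl, if_pos rfl]
    change co q b c j x - 2 * co q b c j x * 1 = -co q b c j x
    ring
  · rw [if_neg hij, if_neg (Ne.symm hij), mul_zero, sub_zero]

theorem IsFrame.q_diff {i j : Fin n} (hij : i ≠ j) : q (b i - b j) = 2 * c := by
  rw [sub_eq_add_neg, QuadraticMap.map_add ⇑q, QuadraticMap.map_neg, polar_neg_right, h.orth i j hij, h.val, h.val]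
  ring

theorem IsFrame.co_swap {i j : Fin n} (hij : i ≠ j) (x : ι → F) (l : Fin n) :
    co q b c l (app (refl q (b i - b j)) x) = co q b c (Equiv.swap i j l) x := by
  have h1 : (q (b i - b j))⁻¹ * polar q x (b i - b j) = co q b c i x - co q b c j x := by
    rw [h.q_diff hij, polar_sub_right, co, co, ip, ip, ← sub_div, div_eq_inv_mul]
  rw [app_refl, h1, co_sub, co_smul, co_sub]
  rcases eq_or_ne l i with rfl | hli
  · rw [Equiv.swap_apply_left, h.co_b_self, h.co_b_ne (Ne.symm hij)]
    ring
  rcases eq_or_ne l j with rfl | hlj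
  · rw [Equiv.swap_apply_right, h.co_b_self, h.co_b_ne hij]
    ring
  · rw [Equiv.swap_apply_of_ne_of_ne hli hlj, h.co_b_ne (Ne.symm hli), h.co_b_ne (Ne.symm hlj)]
    ring

theorem IsFrame.swap_b {i j : Fin n} (hij : i ≠ j) (l : Fin n) :
    app (refl q (b i - b j)) (b l) = b (Equiv.swap i j l) :=
  h.ext_co fun k => by
    rw [h.co_swap hij, h.co_b, h.co_b]
    by_cases hlk : l = Equiv.swap i j k
    · rw [if_pos hlk, if_pos (by rw [hlk, Equiv.swap_apply_self])]
    · rw [if_neg hlk, if_neg fun e : Equiv.swap i j l = k => hlk (by rw [← e, Equiv.swap_apply_self])]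

omit h

/-- The element maps each frame vector to a frame vector up to sign. -/
def Mono (b : Fin n → ι → F) (g : O q) : Prop := ∀ i, ∃ j, app g (b i) = b j ∨ app g (b i) = -b j

section Mono

theorem mono_mul {g g' : O q} (hg : Mono b g) (hg' : Mono b g') : Mono b (g * g') := by
  intro i
  obtain ⟨j, hj⟩ := hg' i
  obtain ⟨k, hk⟩ := hg j
  refine ⟨k, ?_⟩
  rw [app_mul]
  rcases hj with e | e <;> rcases hk with e' | e' <;> simp [e, e']

theorem mono_one : Mono b (1 : O q) := fun i => ⟨i, Or.inl (app_one _)⟩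

include h in
theorem IsFrame.mono_inv {g : O q} (hg : Mono b g) : Mono b g⁻¹ := by
  choose s hs using hg
  have hinj : Function.Injective s := by
    intro i j hij
    by_contra hne
    have h1 : ip q c (app g (b i)) (app g (b j)) = 0 := by rw [ip_app, h.ip_b, if_neg hne]
    have h2 := h.ip_b (s j) (s j)
    rw [if_pos rfl] at h2
    rcases hs i with e | e <;> rcases hs j with e' | e' <;>
      simp [e, e', hij, ip_neg_left, ip_neg_right, h2] at h1
  intro i
  obtain ⟨j, rfl⟩ := (Finite.injective_iff_surjective.1 hinj) i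
  refine ⟨j, ?_⟩
  rcases hs j with e | e
  · left; rw [← e, app_inv_app]
  · right
    have : app g⁻¹ (app g (b j)) = b j := app_inv_app g (b j)
    rw [e, map_neg] at this
    exact neg_eq_iff_eq_neg.1 this

include h in
theorem IsFrame.mono_conj {g m : O q} (hm : Mono b m) : Mono b (m * g * m⁻¹) ↔ Mono b g := by
  refine ⟨fun hg => ?_, fun hg => mono_mul (mono_mul hm hg) (h.mono_inv hm)⟩
  have := mono_mul (mono_mul (h.mono_inv hm) hg) hm
  rwa [show m⁻¹ * (m * g * m⁻¹) * m = g by group] at this

theorem mono_of_fix {g : O q} {i : Fin n} {v : ι → F} (hv : app g v = b i ∨ app g v = -b i) :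
    app g⁻¹ (b i) = v ∨ app g⁻¹ (b i) = -v := by
  rcases hv with e | e
  · left; rw [← e, app_inv_app]
  · right; rw [← neg_eq_iff_eq_neg.2 e, map_neg, app_inv_app]

end Mono

include h

theorem IsFrame.mono_refl_b (j : Fin n) : Mono b (refl q (b j)) := by
  intro i
  refine ⟨i, ?_⟩
  rcases eq_or_ne i j with rfl | hij
  · exact Or.inr (app_refl_self (by rw [h.val]; exact h.c_ne))
  · exact Or.inl (app_refl_of_ortho (h.orth i j hij))

theorem IsFrame.mono_swap {i j : Fin n} (hij : i ≠ j) : Mono b (refl q (b i - b j)) :=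
  fun l => ⟨_, Or.inl (h.swap_b hij l)⟩

theorem IsFrame.cycle_b {i j k : Fin n} (hij : i ≠ j) (hjk : j ≠ k) (l : Fin n) :
    app (refl q (b i - b j) * refl q (b j - b k)) (b l) = b (Equiv.swap i j (Equiv.swap j k l)) := by
  rw [app_mul, h.swap_b hjk, h.swap_b hij]

/-- The sign change on a set of frame vectors, as a linear map. -/
noncomputable def sgnMap (q : QuadraticForm F (ι → F)) (b : Fin n → ι → F) (c : F) (K : Finset (Fin n)) :
    (ι → F) →ₗ[F] (ι → F) where
  toFun x := ∑ i, (if i ∈ K then -co q b c i x else co q b c i x) • b i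
  map_add' x y := by
    rw [← Finset.sum_add_distrib]
    refine Finset.sum_congr rfl fun i _ => ?_
    rw [← add_smul, co_add]
    split_ifs <;> simp only [neg_add]
  map_smul' s x := by
    rw [RingHom.id_apply, Finset.smul_sum]
    refine Finset.sum_congr rfl fun i _ => ?_
    rw [smul_smul, co_smul]
    split_ifs <;> simp only [mul_neg]

theorem IsFrame.co_sgnMap (K : Finset (Fin n)) (i : Fin n) (x : ι → F) :
    co q b c i (sgnMap q b c K x) = if i ∈ K then -co q b c i x else co q b c i x :=
  h.co_comb (fun j => if j ∈ K then -co q b c j x else co q b c j x) i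

theorem IsFrame.sgnMap_sgnMap (K : Finset (Fin n)) :
    (sgnMap q b c K).comp (sgnMap q b c K) = LinearMap.id :=
  LinearMap.ext fun x => h.ext_co fun i => by
    rw [LinearMap.comp_apply, LinearMap.id_apply, h.co_sgnMap, h.co_sgnMap]
    split_ifs <;> simp

theorem IsFrame.q_sgnMap (K : Finset (Fin n)) (x : ι → F) : q (sgnMap q b c K x) = q x := by
  rw [h.q_eq, h.q_eq x, h.ip_eq_sum, h.ip_eq_sum]
  congr 1
  refine Finset.sum_congr rfl fun i _ => ?_
  rw [h.co_sgnMap]
  split_ifs <;> ring

/-- The sign change on a set of frame vectors. -/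
noncomputable def IsFrame.sgn (K : Finset (Fin n)) : O q :=
  mkO _ _ (h.sgnMap_sgnMap K) (h.sgnMap_sgnMap K) (h.q_sgnMap K)

theorem IsFrame.co_sgn (K : Finset (Fin n)) (i : Fin n) (x : ι → F) :
    co q b c i (app (h.sgn K) x) = if i ∈ K then -co q b c i x else co q b c i x := by
  rw [IsFrame.sgn, app_mkO, h.co_sgnMap]

theorem IsFrame.sgn_b (K : Finset (Fin n)) (i : Fin n) :
    app (h.sgn K) (b i) = if i ∈ K then -b i else b i := by
  refine h.ext_co fun l => ?_
  rw [h.co_sgn]
  rcases eq_or_ne i l with rfl | hil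
  · split_ifs <;> simp [co_neg]
  · rw [h.co_b_ne hil]
    split_ifs <;> simp [co_neg, h.co_b_ne hil]

theorem IsFrame.mono_sgn (K : Finset (Fin n)) : Mono b (h.sgn K) := by
  intro i
  refine ⟨i, ?_⟩
  rw [h.sgn_b]
  split_ifs <;> simp

theorem IsFrame.sgn_inj {K L : Finset (Fin n)} (he : h.sgn K = h.sgn L) : K = L := by
  ext i
  have h1 := congrArg (fun g => co q b c i (app g (b i))) he
  simp only [h.co_sgn, h.co_b_self] at h1
  have : (-1 : F) ≠ 1 := fun e => h.two (by linear_combination -e)
  by_cases hK : i ∈ K <;> by_cases hL : i ∈ L <;> simp [hK, hL] at h1 ⊢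
  · exact this h1
  · exact this h1.symm

theorem IsFrame.sgn_mul (K L : Finset (Fin n)) : h.sgn K * h.sgn L = h.sgn (symmDiff K L) :=
  ext_app fun x => h.ext_co fun i => by
    rw [app_mul, h.co_sgn, h.co_sgn, h.co_sgn]
    by_cases hK : i ∈ K <;> by_cases hL : i ∈ L <;> simp [hK, hL, Finset.mem_symmDiff]

theorem IsFrame.sgn_empty : h.sgn ∅ = 1 :=
  ext_app fun x => h.ext_co fun i => by simp [h.co_sgn]

theorem IsFrame.sgn_single (i : Fin n) : h.sgn {i} = refl q (b i) :=
  ext_app fun x => h.ext_co fun l => by simp [h.co_sgn, h.co_refl_b]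

theorem IsFrame.sgn_pair {i j : Fin n} (hij : i ≠ j) : h.sgn {i, j} = refl q (b i) * refl q (b j) := by
  rw [← h.sgn_single i, ← h.sgn_single j, h.sgn_mul]
  congr 1
  ext l
  by_cases hi : l = i <;> by_cases hj : l = j <;> simp_all [Finset.mem_symmDiff]

/-- Conjugating a sign change by a signed permutation gives a sign change. -/
theorem IsFrame.sgn_conj {m : O q} (hm : Mono b m) (K : Finset (Fin n)) :
    ∃ L : Finset (Fin n), L.card = K.card ∧ m * h.sgn K * m⁻¹ = h.sgn L := by
  classical
  choose s hs using hm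
  have hinj : Function.Injective s := by
    intro i j hij
    by_contra hne
    have h1 : ip q c (app m (b i)) (app m (b j)) = 0 := by rw [ip_app, h.ip_b, if_neg hne]
    have h2 := h.ip_b (s j) (s j)
    rw [if_pos rfl] at h2
    rcases hs i with e | e <;> rcases hs j with e' | e' <;>
      simp [e, e', hij, ip_neg_left, ip_neg_right, h2] at h1
  refine ⟨K.image s, Finset.card_image_of_injective _ hinj, ext_app fun x => ?_⟩
  obtain ⟨y, rfl⟩ : ∃ y, app m y = x := ⟨app m⁻¹ x, app_app_inv m x⟩
  rw [app_mul, app_mul, app_inv_app]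
  conv_lhs => rw [← h.expand y]
  conv_rhs => rw [← h.expand y]
  simp only [map_sum, map_smul]
  refine Finset.sum_congr rfl fun i _ => ?_
  congr 1
  have hmem : s i ∈ K.image s ↔ i ∈ K := by simp [hinj.eq_iff]
  rcases hs i with e | e
  · rw [h.sgn_b, e, h.sgn_b]
    by_cases hi : i ∈ K <;> simp [hi, hmem, e]
  · rw [h.sgn_b, e, map_neg, h.sgn_b]
    by_cases hi : i ∈ K <;> simp [hi, hmem, e]

/-- The permutation of the frame vectors, as a linear map. -/
noncomputable def permMap (q : QuadraticForm F (ι → F)) (b : Fin n → ι → F) (c : F) (σ : Equiv.Perm (Fin n)) :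
    (ι → F) →ₗ[F] (ι → F) where
  toFun x := ∑ i, co q b c i x • b (σ i)
  map_add' x y := by
    rw [← Finset.sum_add_distrib]
    exact Finset.sum_congr rfl fun i _ => by rw [co_add, add_smul]
  map_smul' s x := by
    rw [RingHom.id_apply, Finset.smul_sum]
    exact Finset.sum_congr rfl fun i _ => by rw [co_smul, smul_smul]

theorem IsFrame.co_permMap (σ : Equiv.Perm (Fin n)) (i : Fin n) (x : ι → F) :
    co q b c i (permMap q b c σ x) = co q b c (σ.symm i) x := by
  change co q b c i (∑ j, co q b c j x • b (σ j)) = _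
  rw [co_sum, Finset.sum_eq_single (σ.symm i)]
  · rw [co_smul, Equiv.apply_symm_apply, h.co_b_self, mul_one]
  · intro j _ hj
    rw [co_smul, h.co_b_ne (fun e => hj (by rw [← e, Equiv.symm_apply_apply])), mul_zero]
  · simp

/-- The permutation of the frame vectors. -/
noncomputable def IsFrame.perm (σ : Equiv.Perm (Fin n)) : O q :=
  mkO (permMap q b c σ) (permMap q b c σ⁻¹)
    (LinearMap.ext fun x => h.ext_co fun i => by
      simp [LinearMap.comp_apply, h.co_permMap, Equiv.Perm.inv_def])
    (LinearMap.ext fun x => h.ext_co fun i => by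
      simp [LinearMap.comp_apply, h.co_permMap, Equiv.Perm.inv_def])
    fun x => by
      rw [h.q_eq, h.q_eq x, h.ip_eq_sum, h.ip_eq_sum]
      simp only [h.co_permMap]
      rw [Equiv.sum_comp σ.symm fun i => co q b c i x * co q b c i x]

theorem IsFrame.co_perm (σ : Equiv.Perm (Fin n)) (i : Fin n) (x : ι → F) :
    co q b c i (app (h.perm σ) x) = co q b c (σ.symm i) x := by
  rw [IsFrame.perm, app_mkO, h.co_permMap]

theorem IsFrame.perm_b (σ : Equiv.Perm (Fin n)) (i : Fin n) : app (h.perm σ) (b i) = b (σ i) :=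
  h.ext_co fun l => by
    rw [h.co_perm, h.co_b, h.co_b]
    by_cases hl : i = σ.symm l
    · rw [if_pos hl, if_pos (by rw [hl, Equiv.apply_symm_apply])]
    · rw [if_neg hl, if_neg fun e : σ i = l => hl (by rw [← e, Equiv.symm_apply_apply])]

theorem IsFrame.mono_perm (σ : Equiv.Perm (Fin n)) : Mono b (h.perm σ) :=
  fun i => ⟨σ i, Or.inl (h.perm_b σ i)⟩

theorem IsFrame.perm_mul (σ τ : Equiv.Perm (Fin n)) : h.perm (σ * τ) = h.perm σ * h.perm τ :=
  ext_app fun x => h.ext_co fun i => by
    rw [app_mul, h.co_perm, h.co_perm, h.co_perm]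
    rfl

theorem IsFrame.perm_one : h.perm 1 = 1 :=
  ext_app fun x => h.ext_co fun i => by rw [h.co_perm, app_one]; rfl

theorem IsFrame.perm_swap {i j : Fin n} (hij : i ≠ j) : h.perm (Equiv.swap i j) = refl q (b i - b j) :=
  ext_app fun x => h.ext_co fun l => by rw [h.co_perm, h.co_swap hij, Equiv.symm_swap]

omit h

/-- The subgroup contains the even sign changes and the products of two transpositions. -/
structure HasGens (b : Fin n → ι → F) (X : Subgroup (O q)) : Prop where
  signs : ∀ i j, i ≠ j → refl q (b i) * refl q (b j) ∈ X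
  perms : ∀ i j k l, i ≠ j → k ≠ l → refl q (b i - b j) * refl q (b k - b l) ∈ X

variable {X : Subgroup (O q)}

/-- The even permutations lie in the group. -/
theorem IsFrame.perm_mem (h : IsFrame q b c) (hX : HasGens b X) {σ : Equiv.Perm (Fin n)}
    (hσ : Equiv.Perm.sign σ = 1) : h.perm σ ∈ X := by
  by_cases hn : n ≤ 1
  · have : Subsingleton (Fin n) := Fin.subsingleton_iff_le_one.2 hn
    rw [Subsingleton.elim σ 1, h.perm_one]
    exact X.one_mem
  let i₀ : Fin n := ⟨0, by omega⟩
  let i₁ : Fin n := ⟨1, by omega⟩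
  have h01 : i₀ ≠ i₁ := by simp [i₀, i₁]
  suffices H : ∀ τ : Equiv.Perm (Fin n), (Equiv.Perm.sign τ = 1 → h.perm τ ∈ X) ∧
      (Equiv.Perm.sign τ = -1 → refl q (b i₀ - b i₁) * h.perm τ ∈ X) from (H σ).1 hσ
  intro τ
  induction τ using Equiv.Perm.swap_induction_on with
  | one => exact ⟨fun _ => by rw [h.perm_one]; exact X.one_mem, fun e => by simp at e⟩
  | swap_mul f x y hxy ih =>
    rw [map_mul, Equiv.Perm.sign_swap hxy, h.perm_mul, h.perm_swap hxy]
    refine ⟨fun e => ?_, fun e => ?_⟩
    · have := X.mul_mem (hX.perms x y i₀ i₁ hxy h01) (ih.2 (by rw [← e]; simp))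
      rwa [mul_assoc, ← mul_assoc (refl q (b i₀ - b i₁)), refl_mul_self, one_mul] at this
    · rw [← mul_assoc]
      exact X.mul_mem (hX.perms i₀ i₁ x y h01 hxy) (ih.1 (by simpa using e))

/-- Two frame vectors move to any two. -/
theorem IsFrame.exists_move₂ (h : IsFrame q b c) (hX : HasGens b X) (hn : 4 ≤ n) {l l' p p' : Fin n} (hl : l ≠ l')
    (hp : p ≠ p') : ∃ m ∈ X, Mono b m ∧ app m (b l) = b p ∧ app m (b l') = b p' := by
  classical
  set τ := Equiv.swap (Equiv.swap l p l') p' * Equiv.swap l p with hτ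
  have hτl : τ l = p := by
    rw [hτ, Equiv.Perm.mul_apply, Equiv.swap_apply_left, Equiv.swap_apply_of_ne_of_ne ?_ hp]
    intro e
    exact hl ((Equiv.swap l p).injective (by rw [Equiv.swap_apply_left]; exact e))
  have hτl' : τ l' = p' := by rw [hτ, Equiv.Perm.mul_apply, Equiv.swap_apply_left]
  rcases Int.units_eq_one_or (Equiv.Perm.sign τ) with e | e
  · exact ⟨h.perm τ, h.perm_mem hX e, h.mono_perm τ, by rw [h.perm_b, hτl], by rw [h.perm_b, hτl']⟩
  obtain ⟨k, hk, k', hk', hkk⟩ : ∃ k ∈ ({p, p'} : Finset (Fin n))ᶜ, ∃ k' ∈ ({p, p'} : Finset (Fin n))ᶜ, k ≠ k' := by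
    refine Finset.one_lt_card.1 ?_
    rw [Finset.card_compl, Fintype.card_fin, Finset.card_pair hp]
    omega
  simp only [Finset.mem_compl, Finset.mem_insert, Finset.mem_singleton, not_or] at hk hk'
  refine ⟨h.perm (Equiv.swap k k' * τ), h.perm_mem hX ?_, h.mono_perm _, ?_, ?_⟩
  · rw [map_mul, e, Equiv.Perm.sign_swap hkk]; rfl
  · rw [h.perm_b, Equiv.Perm.mul_apply, hτl, Equiv.swap_apply_of_ne_of_ne (Ne.symm hk.1) (Ne.symm hk'.1)]
  · rw [h.perm_b, Equiv.Perm.mul_apply, hτl', Equiv.swap_apply_of_ne_of_ne (Ne.symm hk.2) (Ne.symm hk'.2)]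

end CfsgLib.GeomClasses.Frame
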