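import Cfsg.Agent.Lib.GeomClasses.Forms
import Cfsg.Agent.Lib.Maximal.TensorTools

/-!
Tensor products of forms that are linear in the first and semilinear in the second argument.
-/

set_option autoImplicit false
set_option linter.unusedSectionVars false

namespace CfsgLib.GeomClasses.Tensor

open Matrix CfsgLib.Maximal.TensorTools
open scoped Kronecker

variable {ι : Type} [Fintype ι] [DecidableEq ι] {F : Type*} [Field F]

theorem sesq_expand {σ : F →+* F} {κ : Type} [Fintype κ] [DecidableEq κ] {f : (κ → F) → (κ → F) → F}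
    (hf : IsSesq σ f) (v w : κ → F) :
    f v w = ∑ a, ∑ b, v a * Cfsg.Geo.gramMatrix f a b * σ (w b) := by
  conv_lhs => rw [pi_eq_sum_univ' v, pi_eq_sum_univ' w, hf.sum_left]
  refine Finset.sum_congr rfl fun a _ => ?_
  rw [hf.smul_left, hf.sum_right, Finset.mul_sum]
  refine Finset.sum_congr rfl fun b _ => ?_
  rw [hf.smul_right, Cfsg.Geo.gramMatrix]
  ring

/-- The tensor form on pure tensors. -/
theorem form_pure {n₁ n₂ : ℕ} {σ : F →+* F} {σ' : F → F} (hσ : ∀ x, σ x = σ' x)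
    {f : (ι → F) → (ι → F) → F} {f₁ : (Fin n₁ → F) → (Fin n₁ → F) → F}
    {f₂ : (Fin n₂ → F) → (Fin n₂ → F) → F} (h₁ : IsSesq σ f₁) (h₂ : IsSesq σ f₂)
    {e : ι ≃ Fin n₁ × Fin n₂} {P : GL ι F}
    (hT : Cfsg.Geo.IsTensorFormStructure σ' f f₁ f₂ e P) :
    ∃ c : F, c ≠ 0 ∧ ∀ v w v' w',
      f (coord e P (CfsgLib.Maximal.TensorTools.pure v w)) (coord e P (CfsgLib.Maximal.TensorTools.pure v' w')) =
        c * (f₁ v v' * f₂ w w') := by
  obtain ⟨c, hc, h⟩ := hT
  refine ⟨c, hc, fun v w v' w' => ?_⟩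
  rw [coord_apply, coord_apply, h]
  congr 1
  rw [sesq_expand h₁ v v', sesq_expand h₂ w w', Finset.sum_mul_sum]
  simp only [Cfsg.Geo.formOfGram, CfsgLib.Maximal.TensorTools.pure, ← hσ, map_mul, Fintype.sum_prod_type,
    Matrix.kroneckerMap_apply, Finset.sum_mul_sum]
  exact Finset.sum_congr rfl fun a _ => Finset.sum_congr rfl fun a' _ =>
    Finset.sum_congr rfl fun b _ => Finset.sum_congr rfl fun b' _ => by ring

end CfsgLib.GeomClasses.Tensor
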