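import Cfsg.Agent.Lib.GeomClasses.OrthTools
import Cfsg.Agent.Lib.OrthOmega.Classes

/-!
Maximal singular subspaces: `Ω` preserves their classes; transvection-like commutators around them.
-/

set_option autoImplicit false
set_option linter.unusedSectionVars false

namespace CfsgLib.GeomClasses.OrthClasses

open Matrix QuadraticMap CfsgLib.Maximal.TensorTools
open scoped commutatorElement

variable {ι : Type} [Fintype ι] [DecidableEq ι] {F : Type*} [Field F]
variable {Q : (ι → F) → F}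

theorem polar_of_singular {q : QuadraticForm F (ι → F)} {U : Submodule F (ι → F)} (hU : ∀ u ∈ U, q u = 0)
    {x y : ι → F} (hx : x ∈ U) (hy : y ∈ U) : polar q x y = 0 := by
  simp [QuadraticMap.polar, hU x hx, hU y hy, hU _ (U.add_mem hx hy)]

/-- A Siegel element written as a commutator. -/
theorem exists_siegel (hQ : Cfsg.Geo.IsNondegenerateQuadraticForm Q) {u b p r : ι → F}
    (hu : Q u = 0) (hb : Q b = 0) (hp : Q p = 0) (hr : Q r = 0) (hub : polar Q u b = 0) (hup : polar Q u p = 0)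
    (hur : polar Q u r = 0) (hbp : polar Q b p = 0) (hbr : polar Q b r = 0) (hpr : polar Q p r = 1) :
    ∃ g ∈ Cfsg.Geo.omegaGL Q, ∀ x, (g : Matrix ι ι F) *ᵥ x = x + polar Q x b • u - polar Q x u • b := by
  let q := quadOf hQ
  change q u = 0 at hu
  change q b = 0 at hb
  change q p = 0 at hp
  change q r = 0 at hr
  change polar q u b = 0 at hub
  change polar q u p = 0 at hup
  change polar q u r = 0 at hur
  change polar q b p = 0 at hbp
  change polar q b r = 0 at hbr
  change polar q p r = 1 at hpr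
  set g := ⁅CfsgLib.Orth.eich q u p, CfsgLib.Orth.eich q r b⁆ with hg
  refine ⟨(g : GL ι F), commutator_mem_omega (Q := q) _ _, fun x => ?_⟩
  have hrb : polar q r b = 0 := by rw [polar_comm]; exact hbr
  have hrb' : polar q r (-b) = 0 := by rw [polar_neg_right, hrb, neg_zero]
  have happ : ∀ y, CfsgLib.Orth.app (CfsgLib.Orth.eich q u p) y = y + polar q y u • p - polar q y p • u := by
    intro y
    rw [CfsgLib.Orth.app_eich hu hup, hp, zero_mul, sub_zero, neg_smul, sub_eq_add_neg]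
  have e1 : CfsgLib.Orth.app (CfsgLib.Orth.eich q u p) b = b := by
    rw [happ, polar_comm (f := ⇑q) b u, hub, hbp]; simp
  have e2 : CfsgLib.Orth.app (CfsgLib.Orth.eich q u p) r = r - u := by
    rw [happ, polar_comm (f := ⇑q) r u, hur, polar_comm (f := ⇑q) r p, hpr]; simp
  have hinv : (CfsgLib.Orth.eich q r b)⁻¹ = CfsgLib.Orth.eich q r (-b) := by
    refine inv_eq_of_mul_eq_one_right ?_
    rw [CfsgLib.Orth.eich_add hr hrb hrb', add_neg_cancel, ← zero_smul F r, CfsgLib.Orth.eich_smul_self hr]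
  have hru : q (r - u) = 0 := by
    rw [sub_eq_add_neg, QuadraticMap.map_add ⇑q, QuadraticMap.map_neg, polar_neg_right,
      polar_comm (f := ⇑q) r u, hr, hu, hur]
    simp
  have hrub : polar q (r - u) b = 0 := by rw [polar_sub_left, hrb, hub, sub_zero]
  show CfsgLib.Orth.app g x = _
  rw [hg, commutatorElement_def, CfsgLib.Orth.eich_conj hr hrb, e1, e2, hinv, CfsgLib.Orth.app_mul,
    CfsgLib.Orth.app_eich hr hrb', CfsgLib.Orth.app_eich hru hrub, QuadraticMap.map_neg, hb]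
  simp only [polar_add_left, polar_smul_left, polar_sub_right, polar_neg_right, polar_neg_left,
    polar_comm (f := ⇑q) b u, polar_comm (f := ⇑q) b r, hub, hbr, hrb, CfsgLib.Orth.polar_self', hb, hr,
    smul_eq_mul, hur, polar_comm (f := ⇑q) r u]
  show _ = x + polar q x b • u - polar q x u • b
  module

variable [Fintype F]

/-- `Ω` maps a maximal singular subspace to one in the same class. -/
theorem classSign_omega (hQ : Cfsg.Geo.IsNondegenerateQuadraticForm Q) {m : ℕ} (hι : Fintype.card ι = 2 * m)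
    (hm : m ≠ 2) {U : Submodule F (ι → F)} (hUd : Module.finrank F U = m) (hU : ∀ u ∈ U, Q u = 0)
    {g : GL ι F} (hg : g ∈ Cfsg.Geo.omegaGL Q) :
    Even (m - Module.finrank F ↥(U ⊓ U.map (Matrix.toLin' (g : Matrix ι ι F)))) := by
  have hqn := OrthTools.quadOf_nondegenerate hQ
  have hgen := CfsgLib.Orth.reflClosure_eq_top hqn (Or.inr (by omega))
  obtain ⟨h, hh, rfl⟩ := hg
  rw [← CfsgLib.OrthOmega.classSign_eq_one_iff]
  refine (CfsgLib.OrthOmega.classSign_app hqn hgen hι hUd hU h).trans ?_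
  have hker : commutator (CfsgLib.Orth.O (quadOf hQ)) ≤ (CfsgLib.Orth.dicksonHom hqn hgen).ker :=
    Abelianization.commutator_subset_ker _
  exact hker hh

/-- Hyperbolic plane removal inside a non-degenerate subspace. -/
theorem remove_pair {q : QuadraticForm F (ι → F)} (hq : q.polarBilin.Nondegenerate) {X : Submodule F (ι → F)}
    (hX : ∀ x ∈ X, x ≠ 0 → ∃ y ∈ X, polar q x y ≠ 0) {s t : ι → F} (hs : s ∈ X) (ht : t ∈ X)
    (hqs : q s = 0) (hqt : q t = 0) (hst : polar q s t = 1) :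
    ∃ Y : Submodule F (ι → F), Y ≤ X ∧ Module.finrank F X ≤ Module.finrank F Y + 2 ∧
      (∀ x ∈ Y, polar q s x = 0 ∧ polar q t x = 0) ∧
      (∀ x ∈ X, polar q s x = 0 → polar q t x = 0 → x ∈ Y) ∧
      (∀ x ∈ Y, x ≠ 0 → ∃ y ∈ Y, polar q x y ≠ 0) := by
  set Y := (X ⊓ OrthTools.orth q (Submodule.span F {s})) ⊓ OrthTools.orth q (Submodule.span F {t})
  have hmem : ∀ x ∈ X, polar q s x = 0 → polar q t x = 0 → x ∈ Y := by
    intro x hx h1 h2
    refine ⟨⟨hx, OrthTools.mem_orth.2 fun a ha => ?_⟩, OrthTools.mem_orth.2 fun a ha => ?_⟩ <;>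
      obtain ⟨c, rfl⟩ := Submodule.mem_span_singleton.1 ha <;> simp [polar_smul_left, h1, h2]
  have hY : ∀ x ∈ Y, x ∈ X ∧ polar q s x = 0 ∧ polar q t x = 0 := fun x hx => by
    obtain ⟨hx', htx⟩ := OrthTools.mem_inf_orth hx
    obtain ⟨hxX, hsx⟩ := OrthTools.mem_inf_orth hx'
    exact ⟨hxX, hsx, htx⟩
  refine ⟨Y, fun x hx => (hY x hx).1, ?_, fun x hx => (hY x hx).2, hmem, fun x hx hx0 => ?_⟩
  · have h1 := OrthTools.finrank_inf_orth hq X s
    have h2 : Module.finrank F ↥(X ⊓ OrthTools.orth q (Submodule.span F {s})) ≤ Module.finrank F Y + 1 :=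
      OrthTools.finrank_inf_orth hq _ t
    change Module.finrank F X ≤ Module.finrank F Y + 2
    omega
  · obtain ⟨hxX, hsx, htx⟩ := hY x hx
    obtain ⟨p, hp, hxp⟩ := hX x hxX hx0
    refine ⟨p - polar q t p • s - polar q s p • t,
      hmem _ (X.sub_mem (X.sub_mem hp (X.smul_mem _ hs)) (X.smul_mem _ ht)) ?_ ?_, ?_⟩
    · simp [polar_sub_right, polar_smul_right, CfsgLib.Orth.polar_self', hqs, hst]
    · simp [polar_sub_right, polar_smul_right, CfsgLib.Orth.polar_self', hqt, polar_comm (f := ⇑q) t s, hst]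
    · simpa [polar_sub_right, polar_smul_right, polar_comm (f := ⇑q) x s, polar_comm (f := ⇑q) x t, hsx, htx]
        using hxp

/-- For a hyperplane-sized flag `w, e` of a singular `U` there are Siegel elements fixing `U` and moving `w`
towards `e`, resp. moving `U`. -/
theorem exists_elements (hQ : Cfsg.Geo.IsNondegenerateQuadraticForm Q) (hι : 7 ≤ Fintype.card ι)
    {U : Submodule F (ι → F)} (hU : ∀ u ∈ U, Q u = 0) {w e : ι → F} (hw : w ∈ U) (he : e ∈ U) (he0 : e ≠ 0)
    (hwe : w ∉ Submodule.span F {e}) :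
    (∃ g ∈ Cfsg.Geo.omegaGL Q, (g : Matrix ι ι F) *ᵥ w = w + e ∧
        ∀ x ∈ U, (g : Matrix ι ι F) *ᵥ x ∈ U) ∧
    (∃ g ∈ Cfsg.Geo.omegaGL Q, ∃ w' ∈ U, w' ≠ 0 ∧ w' ∉ Submodule.span F {e} ∧
      ∀ x, (g : Matrix ι ι F) *ᵥ x = x + polar Q x w' • e - polar Q x e • w') ∧
    (∃ g ∈ Cfsg.Geo.omegaGL Q, ∃ x ∈ U, (g : Matrix ι ι F) *ᵥ x ∉ U) := by
  let q := quadOf hQ
  have hq : q.polarBilin.Nondegenerate := OrthTools.quadOf_nondegenerate hQ
  have hUq : ∀ u ∈ U, q u = 0 := hU
  have h0 : ∀ x ∈ (⊤ : Submodule F (ι → F)), x ≠ 0 → ∃ y ∈ (⊤ : Submodule F (ι → F)), polar q x y ≠ 0 :=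
    fun x _ hx => (hQ.nondegenerate x hx).2.imp fun y hy => ⟨trivial, hy⟩
  obtain ⟨e', -, hqe', hee'⟩ := OrthTools.exists_partner h0 trivial he0 (hUq e he)
  obtain ⟨X₁, -, hd₁, hX₁, hX₁', hn₁⟩ := remove_pair hq h0 (Submodule.mem_top) (Submodule.mem_top) (hUq e he) hqe' hee'
  rw [finrank_top, Module.finrank_fintype_fun_eq_card] at hd₁
  set w' := w - polar q e' w • e with hw'
  have hw'U : w' ∈ U := U.sub_mem hw (U.smul_mem _ he)
  have hw'e : w' ∉ Submodule.span F {e} := fun h => hwe (by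
    have := Submodule.add_mem _ h (Submodule.smul_mem _ (polar q e' w) (Submodule.mem_span_singleton_self e))
    rwa [hw', sub_add_cancel] at this)
  have hw'0 : w' ≠ 0 := fun h => hw'e (by rw [h]; exact zero_mem _)
  have hw'X : w' ∈ X₁ := hX₁' w' trivial (polar_of_singular hUq he hw'U) (by
    rw [hw', polar_sub_right, polar_smul_right, polar_comm (f := ⇑q) e' e, hee', smul_eq_mul, mul_one, sub_self])
  obtain ⟨b, hb, hqb, hwb⟩ := OrthTools.exists_partner hn₁ hw'X hw'0 (hUq _ hw'U)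
  obtain ⟨X₂, hX₂le, hd₂, hX₂, -, hn₂⟩ := remove_pair hq hn₁ hw'X hb (hUq _ hw'U) hqb hwb
  obtain ⟨p, hp, hp0, hqp⟩ := OrthTools.exists_singular hq X₂ (by omega)
  obtain ⟨r, hr, hqr, hpr⟩ := OrthTools.exists_partner hn₂ hp hp0 hqp
  have oe : ∀ x ∈ X₂, polar q e x = 0 := fun x hx => (hX₁ x (hX₂le hx)).1
  have oe' : ∀ x ∈ X₂, polar q e' x = 0 := fun x hx => (hX₁ x (hX₂le hx)).2
  have ow : ∀ x ∈ X₂, polar q w' x = 0 := fun x hx => (hX₂ x hx).1
  have ob : ∀ x ∈ X₂, polar q b x = 0 := fun x hx => (hX₂ x hx).2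
  have heb : polar q e b = 0 := (hX₁ b hb).1
  have he'b : polar q e' b = 0 := (hX₁ b hb).2
  have hew' : polar q e w' = 0 := polar_of_singular hUq he hw'U
  refine ⟨?_, ?_, ?_⟩
  · obtain ⟨g, hg, hgx⟩ := exists_siegel hQ (hU e he) hqb hqp hqr heb (oe p hp) (oe r hr) (ob p hp) (ob r hr) hpr
    refine ⟨g, hg, ?_, fun x hx => ?_⟩
    · rw [hgx]
      have h1 : polar Q w e = 0 := polar_of_singular hUq hw he
      have h2 : polar Q w b = 1 := by
        show polar q w b = 1
        have : w = w' + polar q e' w • e := by rw [hw', sub_add_cancel]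
        rw [this, polar_add_left, polar_smul_left, hwb, heb, smul_zero, add_zero]
      rw [h1, h2, one_smul, zero_smul, sub_zero]
    · rw [hgx, show polar Q x e = 0 from polar_of_singular hUq hx he, zero_smul, sub_zero]
      exact U.add_mem hx (U.smul_mem _ he)
  · obtain ⟨g, hg, hgx⟩ := exists_siegel hQ (hU e he) (hUq _ hw'U) hqp hqr hew' (oe p hp) (oe r hr)
      (ow p hp) (ow r hr) hpr
    exact ⟨g, hg, w', hw'U, hw'0, hw'e, hgx⟩
  · obtain ⟨z, hz, hqz, hzU⟩ : ∃ z ∈ X₂, q z = 0 ∧ z ∉ U := by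
      by_cases hpU : p ∈ U
      · refine ⟨r, hr, hqr, fun hrU => ?_⟩
        rw [polar_of_singular hUq hpU hrU] at hpr
        exact zero_ne_one hpr
      · exact ⟨p, hp, hqp, hpU⟩
    obtain ⟨g, hg, hgx⟩ := exists_siegel hQ (u := b) (b := z) hqb hqz (hU e he) hqe'
      (ob z hz) (by show polar q b e = 0; rw [polar_comm]; exact heb)
      (by show polar q b e' = 0; rw [polar_comm]; exact he'b)
      (by show polar q z e = 0; rw [polar_comm]; exact oe z hz)
      (by show polar q z e' = 0; rw [polar_comm]; exact oe' z hz) hee'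
    refine ⟨g, hg, w', hw'U, fun hmem => hzU ?_⟩
    rw [hgx, show polar Q w' z = 0 from ow z hz, show polar Q w' b = 1 from hwb, zero_smul, add_zero, one_smul] at hmem
    exact (U.sub_mem_iff_right hw'U).1 hmem

end CfsgLib.GeomClasses.OrthClasses
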