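import Cfsg.Agent.Lib.GeomClasses.OrthFrames

/-!
Orthogonal decompositions into plus type members over two, four or five elements.
-/

set_option autoImplicit false
set_option linter.unusedSectionVars false

namespace CfsgLib.GeomClasses.OrthFrames

open Matrix QuadraticMap CfsgLib.Maximal.TensorTools

variable {ι : Type} [Fintype ι] [DecidableEq ι] {F : Type*} [Field F] [Fintype F]
variable {Q : (ι → F) → F} {t k : ℕ} {D : Fin t → Submodule F (ι → F)}

/-- A plus type plane has a hyperbolic basis. -/
theorem plus_plane (hQ : Cfsg.Geo.IsNondegenerateQuadraticForm Q) {W : Submodule F (ι → F)}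
    (hW : ∀ x ∈ W, x ≠ 0 → ∃ y ∈ W, polar Q x y ≠ 0) (hd : Module.finrank F W = 2)
    (hp : Cfsg.Geo.IsPlusTypeOn Q W) :
    ∃ x y, x ∈ W ∧ y ∈ W ∧ Q x = 0 ∧ Q y = 0 ∧ polar Q x y = 1 ∧
      ∀ w ∈ W, w = polar Q w y • x + polar Q w x • y := by
  let q := quadOf hQ
  obtain ⟨U, hUW, hU, hUd⟩ := hp
  obtain ⟨x, hxU, hx0⟩ := Submodule.exists_mem_ne_zero_of_ne_bot (p := U) fun h => by
    rw [h, finrank_bot, hd] at hUd; omega
  have hx : x ∈ W := hUW hxU
  have hqx : q x = 0 := hU x hxU
  obtain ⟨y, hy, hqy, hxy⟩ := OrthTools.exists_partner (q := q) hW hx hx0 hqx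
  have hyx : polar q y x = 1 := by rw [polar_comm]; exact hxy
  have hxx : polar q x x = 0 := by rw [CfsgLib.Orth.polar_self', hqx, mul_zero]
  have hyy : polar q y y = 0 := by rw [CfsgLib.Orth.polar_self', hqy, mul_zero]
  refine ⟨x, y, hx, hy, hqx, hqy, hxy, fun w hw => ?_⟩
  have hli : LinearIndependent F ![x, y] := by
    rw [LinearIndependent.pair_iff]
    intro s r h
    have h1 := congrArg (polar q · y) h
    have h2 := congrArg (polar q · x) h
    simp only [polar_add_left, polar_smul_left, polar_zero_left, hxy, hyy, hxx, hyx, smul_eq_mul, mul_one,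
      mul_zero, add_zero, zero_add] at h1 h2
    exact ⟨h1, h2⟩
  have hspan : Submodule.span F (Set.range ![x, y]) = W := by
    refine Submodule.eq_of_le_of_finrank_eq (Submodule.span_le.2 ?_) ?_
    · rintro _ ⟨i, rfl⟩
      fin_cases i
      · exact hx
      · exact hy
    · rw [finrank_span_eq_card hli, hd, Fintype.card_fin]
  rw [← hspan, Submodule.mem_span_range_iff_exists_fun] at hw
  obtain ⟨c, rfl⟩ := hw
  show _ = polar q _ y • x + polar q _ x • y
  simp [Fin.sum_univ_two, polar_add_left, polar_smul_left, hxy, hyy, hxx, hyx]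

/-- The vectors of value one in a plus type plane. -/
theorem plane_coords (hQ : Cfsg.Geo.IsNondegenerateQuadraticForm Q) {x y w : ι → F} (hx : Q x = 0)
    (hy : Q y = 0) (hxy : polar Q x y = 1) (hw : w = polar Q w y • x + polar Q w x • y) (hwv : Q w = 1) :
    polar Q w y * polar Q w x = 1 := by
  let q := quadOf hQ
  change q x = 0 at hx
  change q y = 0 at hy
  change polar q x y = 1 at hxy
  change q w = 1 at hwv
  change w = polar q w y • x + polar q w x • y at hw
  conv_rhs => rw [← hwv, hw]
  rw [QuadraticMap.map_add ⇑q, QuadraticMap.map_smul, QuadraticMap.map_smul, hx, hy, polar_smul_left,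
    polar_smul_right, hxy]
  simp only [smul_eq_mul, mul_zero, mul_one, zero_add]
  rfl

/-- Over five elements the value one is rigid on a plus type plane. -/
theorem rigid_plane_five (hQ : Cfsg.Geo.IsNondegenerateQuadraticForm Q) (h5 : Fintype.card F = 5)
    {W : Submodule F (ι → F)} (hW : ∀ x ∈ W, x ≠ 0 → ∃ y ∈ W, polar Q x y ≠ 0)
    (hd : Module.finrank F W = 2) (hp : Cfsg.Geo.IsPlusTypeOn Q W) :
    (∃ u ∈ W, Q u = 1) ∧ Rigid Q W 1 := by
  let q := quadOf hQ
  obtain ⟨x, y, hx, hy, hqx, hqy, hxy, hexp⟩ := plus_plane hQ hW hd hp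
  refine ⟨⟨x + y, W.add_mem hx hy, ?_⟩, fun z hz z' hz' h1 h2 h3 => ?_⟩
  · show q (x + y) = 1
    rw [QuadraticMap.map_add ⇑q, show q x = 0 from hqx, show q y = 0 from hqy, show polar q x y = 1 from hxy,
      zero_add, zero_add]
  have c1 := plane_coords hQ hqx hqy hxy (hexp z hz) h1
  have c2 := plane_coords hQ hqx hqy hxy (hexp z' hz') h2
  set r := polar Q z y
  set s := polar Q z x
  set r' := polar Q z' y
  set s' := polar Q z' x
  have hf : polar Q z z' = r * s' + s * r' := by
    show polar q z z' = _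
    conv_lhs => rw [hexp z hz, hexp z' hz']
    simp only [polar_add_left, polar_add_right, polar_smul_left, polar_smul_right, CfsgLib.Orth.polar_self',
      show q x = 0 from hqx, show q y = 0 from hqy, show polar q x y = 1 from hxy,
      show polar q y x = 1 from (polar_comm _ _ _).trans hxy, smul_eq_mul]
    ring
  set T := r * s' with hT
  have hTT : T * (s * r') = 1 := by linear_combination r' * s' * c1 + c2
  have hT0 : T ≠ 0 := left_ne_zero_of_mul_eq_one hTT
  have hTsq : T * T = 1 := by
    have h4 := FiniteField.pow_card_sub_one_eq_one T hT0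
    rw [h5] at h4
    rcases mul_eq_zero.1 (show (T * T - 1) * (T * T + 1) = 0 by linear_combination h4) with h | h
    · linear_combination h
    · refine absurd ?_ h3
      rw [hf]
      apply mul_left_cancel₀ hT0
      linear_combination h + hTT
  refine Submodule.mem_span_singleton.2 ⟨T, ?_⟩
  conv_rhs => rw [hexp z' hz']
  rw [hexp z hz, smul_add, smul_smul, smul_smul]
  have hT' : s * r' = T := by linear_combination T * hTT - (s * r') * hTsq
  congr 2
  · linear_combination (-r) * hT' + r' * c1
  · linear_combination s * hT + s' * c1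

/-- The overgroup for plus type planes over two or four elements. -/
theorem case_two_plane (hQ : Cfsg.Geo.IsNondegenerateQuadraticForm Q) (h20 : (2 : F) = 0)
    (hD : Cfsg.Geo.IsOrthogonalMDecomposition Q 2 D) (ht : 5 ≤ t) (hp : ∀ i, Cfsg.Geo.IsPlusTypeOn Q (D i))
    (P : AddSubgroup F) (hP : ∀ c ∈ P, c = 0 ∨ c = 1) (hPr : ∀ r s : F, r * s = 1 → r + s ∈ P)
    (ω : F) (hω : ω ∉ P) :
    ∃ K : Subgroup (GL ι F),
      Cfsg.Geo.decompositionStabilizer D ⊓ Cfsg.Geo.omegaGL Q < K ∧ K < Cfsg.Geo.omegaGL Q := by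
  classical
  let q := quadOf hQ
  have hpl := fun i => plus_plane hQ (nondeg_block hD i) (hD.decomp.decomp.finrank_eq i) (hp i)
  choose x y hx hy hqx hqy hxy hexp using hpl
  change ∀ i, q (x i) = 0 at hqx
  change ∀ i, q (y i) = 0 at hqy
  change ∀ i, polar q (x i) (y i) = 1 at hxy
  have hyx : ∀ i, polar q (y i) (x i) = 1 := fun i => by rw [polar_comm]; exact hxy i
  have hxx : ∀ i, polar q (x i) (x i) = 0 := fun i => by rw [CfsgLib.Orth.polar_self', hqx, mul_zero]
  have o : ∀ {i j}, i ≠ j → ∀ {a b}, a ∈ D i → b ∈ D j → polar q a b = 0 :=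
    fun h _ _ ha hb => orth_blocks hD h ha hb
  let v := fun i => x i + y i
  have hv : ∀ i, v i ∈ D i := fun i => (D i).add_mem (hx i) (hy i)
  have hqv : ∀ i, q (v i) = 1 := fun i => by
    show q (x i + y i) = 1
    rw [QuadraticMap.map_add ⇑q, hqx, hqy, hxy, zero_add, zero_add]
  let L : AddSubgroup (ι → F) := AddSubgroup.closure (shell Q D 1)
  have hLv : ∀ i, v i ∈ L := fun i => AddSubgroup.subset_closure ⟨i, hv i, hqv i⟩
  have hval : ∀ z ∈ L, ∀ j, polar q z (v j) ∈ P := by
    intro z hz j
    induction hz using AddSubgroup.closure_induction with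
    | mem z hz =>
      obtain ⟨i, hi, hiv⟩ := hz
      rcases eq_or_ne i j with rfl | h
      · show polar q z (x i + y i) ∈ P
        rw [polar_add_right, add_comm]
        exact hPr _ _ (plane_coords hQ (hqx i) (hqy i) (hxy i) (hexp i z hi) hiv)
      · rw [o h hi (hv j)]; exact P.zero_mem
    | zero => rw [polar_zero_left]; exact P.zero_mem
    | add a b _ _ ha hb => rw [polar_add_left]; exact P.add_mem ha hb
    | neg a _ ha => rw [polar_neg_left]; exact P.neg_mem ha
  have hsm : ∀ c ∈ P, ∀ z ∈ L, c • z ∈ L := fun c hc z hz => by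
    rcases hP c hc with rfl | rfl
    · rw [zero_smul]; exact L.zero_mem
    · rw [one_smul]; exact hz
  let a : Fin 5 → Fin t := fun i => ⟨i, by omega⟩
  have ha : ∀ i j, i ≠ j → a i ≠ a j := fun i j h hh => h (by simpa [a, Fin.ext_iff] using hh)
  have hmaps : ∀ g ∈ Cfsg.Geo.decompositionStabilizer D ⊓ Cfsg.Geo.omegaGL Q, ∀ z ∈ L,
      (g : Matrix ι ι F) *ᵥ z ∈ L := by
    intro g hg z hz
    induction hz using AddSubgroup.closure_induction with
    | mem z hz => exact AddSubgroup.subset_closure (shell_invariant hQ 1 hg hz)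
    | zero => rw [Matrix.mulVec_zero]; exact L.zero_mem
    | add p r _ _ hp hr => rw [Matrix.mulVec_add]; exact L.add_mem hp hr
    | neg p _ hp => rw [Matrix.mulVec_neg]; exact L.neg_mem hp
  refine ⟨Cfsg.stabilizing (Cfsg.glToMat ι F) (L : Set (ι → F)) ⊓ Cfsg.Geo.omegaGL Q,
    lt_of_le_of_ne (fun g hg => ⟨mem_stabilizing_of_maps (hmaps g hg), hg.2⟩) fun heq => ?_,
    lt_of_le_of_ne inf_le_right fun heq => ?_⟩
  · -- a Siegel element with coefficients in `P`
    have hsing : ∀ i j, i ≠ j → q (v i + v j) = 0 := fun i j h => by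
      rw [QuadraticMap.map_add ⇑q, hqv, hqv, o h (hv i) (hv j)]
      linear_combination h20
    set u := v (a 0) + v (a 1) with hu
    set b := v (a 2) + v (a 3) with hb
    have ou : ∀ z, z ∈ D (a 4) → polar q u z = 0 ∧ polar q b z = 0 := fun z hz =>
      ⟨by rw [hu, polar_add_left, o (ha 0 4 (by decide)) (hv _) hz, o (ha 1 4 (by decide)) (hv _) hz, add_zero],
        by rw [hb, polar_add_left, o (ha 2 4 (by decide)) (hv _) hz, o (ha 3 4 (by decide)) (hv _) hz, add_zero]⟩
    obtain ⟨g, hg, hgz⟩ := OrthClasses.exists_siegel hQ (hsing _ _ (ha 0 1 (by decide)))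
      (hsing _ _ (ha 2 3 (by decide))) (hqx (a 4)) (hqy (a 4))
      (by
        show polar q u b = 0
        simp only [hu, hb, polar_add_left, polar_add_right, o (ha 0 2 (by decide)) (hv _) (hv _),
          o (ha 0 3 (by decide)) (hv _) (hv _), o (ha 1 2 (by decide)) (hv _) (hv _),
          o (ha 1 3 (by decide)) (hv _) (hv _), add_zero])
      (ou _ (hx _)).1 (ou _ (hy _)).1 (ou _ (hx _)).2 (ou _ (hy _)).2 (hxy (a 4))
    have hgL : ∀ z ∈ L, (g : Matrix ι ι F) *ᵥ z ∈ L := by
      intro z hz
      rw [hgz]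
      refine L.sub_mem (L.add_mem hz (hsm _ ?_ _ (L.add_mem (hLv _) (hLv _))))
        (hsm _ ?_ _ (L.add_mem (hLv _) (hLv _)))
      · show polar q z b ∈ P
        rw [hb, polar_add_right]; exact P.add_mem (hval z hz _) (hval z hz _)
      · show polar q z u ∈ P
        rw [hu, polar_add_right]; exact P.add_mem (hval z hz _) (hval z hz _)
    obtain ⟨σ, hσ⟩ := (heq.ge ⟨mem_stabilizing_of_maps hgL, hg⟩).1
    have himg : x (a 0) + (0 : F) • u - (1 : F) • b ∈ D (σ (a 0)) := by
      rw [← hσ (a 0)]
      refine ⟨x (a 0), hx _, ?_⟩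
      rw [Matrix.toLin'_apply, hgz]
      have e1 : polar q (x (a 0)) b = 0 := by
        rw [hb, polar_add_right, o (ha 0 2 (by decide)) (hx _) (hv _), o (ha 0 3 (by decide)) (hx _) (hv _),
          add_zero]
      have e2 : polar q (x (a 0)) u = 1 := by
        rw [hu, polar_add_right, o (ha 0 1 (by decide)) (hx _) (hv _), add_zero]
        show polar q (x (a 0)) (x (a 0) + y (a 0)) = 1
        rw [polar_add_right, hxx, hxy, zero_add]
      rw [show polar Q (x (a 0)) b = 0 from e1, show polar Q (x (a 0)) u = 1 from e2]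
    rw [zero_smul, add_zero, one_smul] at himg
    have key : ∀ j : Fin 5, j = 2 ∨ j = 3 → σ (a 0) = a j := by
      intro j hj
      by_contra h
      have hz := o h himg (hx (a j))
      have hbj : polar q b (x (a j)) = 1 := by
        rcases hj with rfl | rfl
        · rw [hb, polar_add_left, o (ha 3 2 (by decide)) (hv _) (hx _), add_zero]
          show polar q (x (a 2) + y (a 2)) (x (a 2)) = 1
          rw [polar_add_left, hxx, hyx, zero_add]
        · rw [hb, polar_add_left, o (ha 2 3 (by decide)) (hv _) (hx _), zero_add]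
          show polar q (x (a 3) + y (a 3)) (x (a 3)) = 1
          rw [polar_add_left, hxx, hyx, zero_add]
      rw [polar_sub_left, hbj, o (ha 0 j (by rcases hj with rfl | rfl <;> decide)) (hx _) (hx _), zero_sub,
        neg_eq_zero] at hz
      exact one_ne_zero hz
    exact ha 2 3 (by decide) ((key 2 (Or.inl rfl)).symm.trans (key 3 (Or.inr rfl)))
  · -- a Siegel element leaving the additive span
    have hux : q (ω • x (a 1)) = 0 := by rw [QuadraticMap.map_smul, hqx]; simp
    obtain ⟨g, hg, hgz⟩ := OrthClasses.exists_siegel hQ (u := ω • x (a 1)) (b := x (a 0)) hux (hqx _) (hqx (a 2))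
      (hqy (a 2))
      (o (ha 1 0 (by decide)) ((D _).smul_mem _ (hx _)) (hx _))
      (o (ha 1 2 (by decide)) ((D _).smul_mem _ (hx _)) (hx _))
      (o (ha 1 2 (by decide)) ((D _).smul_mem _ (hx _)) (hy _))
      (o (ha 0 2 (by decide)) (hx _) (hx _)) (o (ha 0 2 (by decide)) (hx _) (hy _)) (hxy (a 2))
    have hmem : (g : Matrix ι ι F) *ᵥ v (a 0) ∈ L := ((heq.ge hg).1 (v (a 0))).1 (hLv _)
    rw [hgz] at hmem
    have e1 : polar q (v (a 0)) (x (a 0)) = 1 := by
      show polar q (x (a 0) + y (a 0)) (x (a 0)) = 1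
      rw [polar_add_left, hxx, hyx, zero_add]
    rw [show polar Q (v (a 0)) (x (a 0)) = 1 from e1,
      show polar Q (v (a 0)) (ω • x (a 1)) = 0 from o (ha 0 1 (by decide)) (hv _) ((D _).smul_mem _ (hx _)),
      one_smul, zero_smul, sub_zero] at hmem
    have h1 := hval _ hmem (a 1)
    rw [polar_add_left, o (ha 0 1 (by decide)) (hv _) (hv _), zero_add, polar_smul_left] at h1
    change ω • polar q (x (a 1)) (x (a 1) + y (a 1)) ∈ P at h1
    rw [polar_add_right, hxx, hxy, zero_add, smul_eq_mul, mul_one] at h1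
    exact hω h1

/-- Coordinates of a four-dimensional plus type member over two elements: two orthogonal elliptic pairs. -/
theorem four_block (hQ : Cfsg.Geo.IsNondegenerateQuadraticForm Q) (h2 : Fintype.card F = 2)
    {W : Submodule F (ι → F)} (hW : ∀ x ∈ W, x ≠ 0 → ∃ y ∈ W, polar Q x y ≠ 0)
    (hd : Module.finrank F W = 4) (hp : Cfsg.Geo.IsPlusTypeOn Q W) :
    ∃ a a' c x y : ι → F, a ∈ W ∧ a' ∈ W ∧ c ∈ W ∧ x ∈ W ∧ y ∈ W ∧ Q a = 1 ∧ Q a' = 1 ∧
      polar Q a a' = 1 ∧ c ≠ 0 ∧ polar Q c a = 0 ∧ polar Q c a' = 0 ∧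
      Q x = 0 ∧ Q y = 0 ∧ polar Q x y = 1 ∧ polar Q a x = 1 ∧
      ∀ z ∈ W, Q z = 1 → (polar Q z a = 0 ∧ polar Q z a' = 0) ∨ z = polar Q z a' • a + polar Q z a • a' := by
  let q := quadOf hQ
  have hq : q.polarBilin.Nondegenerate := OrthTools.quadOf_nondegenerate hQ
  have hone : ∀ r : F, r ≠ 0 → r = 1 := fun r hr => by
    simpa [h2] using FiniteField.pow_card_sub_one_eq_one r hr
  have h20 : (2 : F) = 0 := by
    have h' := FiniteField.cast_card_eq_zero F
    rw [h2] at h'
    exact_mod_cast h'
  obtain ⟨U, hUW, hU, hUd⟩ := hp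
  obtain ⟨x, hxU, hx0⟩ := Submodule.exists_mem_ne_zero_of_ne_bot (p := U) fun h => by
    rw [h, finrank_bot, hd] at hUd; omega
  have hqx : q x = 0 := hU x hxU
  obtain ⟨y, hy, hqy, hxy⟩ := OrthTools.exists_partner (q := q) hW (hUW hxU) hx0 hqx
  obtain ⟨X, hXW, -, hX, hXmem, hXn⟩ := OrthClasses.remove_pair (q := q) hq hW (hUW hxU) hy hqx hqy hxy
  obtain ⟨w, hwU, hwx⟩ : ∃ w ∈ U, w ∉ Submodule.span F {x} := by
    by_contra h
    push Not at h
    have h1 := Submodule.finrank_mono (show U ≤ Submodule.span F {x} from h)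
    rw [finrank_span_singleton hx0] at h1
    omega
  set w₂ := w - polar q y w • x with hw₂
  have hw₂U : w₂ ∈ U := U.sub_mem hwU (U.smul_mem _ hxU)
  have hw₂0 : w₂ ≠ 0 := fun h => hwx (Submodule.mem_span_singleton.2 ⟨_, (sub_eq_zero.1 h).symm⟩)
  have hw₂X : w₂ ∈ X := hXmem w₂ (hUW hw₂U) (OrthClasses.polar_of_singular (q := q) hU hxU hw₂U) (by
    rw [hw₂, polar_sub_right, polar_smul_right, polar_comm (f := ⇑q) y x, hxy, smul_eq_mul, mul_one, sub_self])
  obtain ⟨z₂, hz₂X, hqz₂, hwz₂⟩ := OrthTools.exists_partner hXn hw₂X hw₂0 (hU _ hw₂U)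
  have hqw₂ : q w₂ = 0 := hU _ hw₂U
  have o1 : ∀ p ∈ X, polar q x p = 0 ∧ polar q y p = 0 ∧ polar q p x = 0 ∧ polar q p y = 0 := fun p hp =>
    ⟨(hX p hp).1, (hX p hp).2, by rw [polar_comm]; exact (hX p hp).1, by rw [polar_comm]; exact (hX p hp).2⟩
  have hyx : polar q y x = 1 := by rw [polar_comm]; exact hxy
  have hzw : polar q z₂ w₂ = 1 := by rw [polar_comm]; exact hwz₂
  have hsx := o1 _ hw₂X
  have hsz := o1 _ hz₂X
  have hxx : polar q x x = 0 := by rw [CfsgLib.Orth.polar_self', hqx, mul_zero]
  have hyy : polar q y y = 0 := by rw [CfsgLib.Orth.polar_self', hqy, mul_zero]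
  have hww : polar q w₂ w₂ = 0 := by rw [CfsgLib.Orth.polar_self', hqw₂, mul_zero]
  have hzz : polar q z₂ z₂ = 0 := by rw [CfsgLib.Orth.polar_self', hqz₂, mul_zero]
  set a := x + y with ha
  set c := w₂ + z₂ with hc
  set a' := x + c with ha'
  set c' := w₂ + a with hc'
  have h11 : (1 : F) + 1 = 0 := by linear_combination h20
  have tab : ∀ p, polar q p a = polar q p x + polar q p y ∧ polar q p c = polar q p w₂ + polar q p z₂ ∧
      polar q p a' = polar q p x + (polar q p w₂ + polar q p z₂) ∧
      polar q p c' = polar q p w₂ + (polar q p x + polar q p y) := fun p => by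
    simp only [ha, hc, ha', hc', polar_add_right, and_self]
  have haa : polar q a a = 0 := by
    simp only [ha, polar_add_left, polar_add_right, hxx, hyy, hxy, hyx]; linear_combination h20
  have hcc : polar q c c = 0 := by
    simp only [hc, polar_add_left, polar_add_right, hww, hzz, hwz₂, hzw]; linear_combination h20
  have hac : polar q a c = 0 := by
    simp only [ha, hc, polar_add_left, polar_add_right, hsx.1, hsx.2.1, hsz.1, hsz.2.1, add_zero]
  have hca : polar q c a = 0 := by rw [polar_comm]; exact hac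
  have haa' : polar q a a' = 1 := by
    simp only [ha, ha', hc, polar_add_left, polar_add_right, hxx, hyx, hsx.1, hsx.2.1, hsz.1, hsz.2.1, add_zero,
      zero_add]
  have hca' : polar q c a' = 0 := by
    simp only [ha', hc, polar_add_left, polar_add_right, hsx.2.2.1, hsz.2.2.1, hww, hzz, hwz₂, hzw]
    linear_combination h20
  have hcc' : polar q c c' = 1 := by
    simp only [hc', ha, hc, polar_add_left, polar_add_right, hsx.2.2.1, hsz.2.2.1, hsx.2.2.2, hsz.2.2.2, hww,
      hzw, add_zero, zero_add]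
  have hac' : polar q a c' = 0 := by
    simp only [hc', ha, polar_add_left, polar_add_right, hsx.1, hsx.2.1, hxx, hyy, hxy, hyx]
    linear_combination h20
  have ha'c' : polar q a' c' = 0 := by
    simp only [hc', ha', ha, hc, polar_add_left, polar_add_right, hxx, hxy, hsx.1, hsx.2.2.1, hsx.2.2.2, hww, hzw,
      hsz.2.2.1, hsz.2.2.2, add_zero, zero_add]
    linear_combination h20
  have ha'a' : polar q a' a' = 0 := by
    rw [CfsgLib.Orth.polar_self', h20, zero_mul]
  have hc'c' : polar q c' c' = 0 := by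
    rw [CfsgLib.Orth.polar_self', h20, zero_mul]
  have ha'a : polar q a' a = 1 := by rw [polar_comm]; exact haa'
  have ha'c : polar q a' c = 0 := by rw [polar_comm]; exact hca'
  have hc'a : polar q c' a = 0 := by rw [polar_comm]; exact hac'
  have hc'a' : polar q c' a' = 0 := by rw [polar_comm]; exact ha'c'
  have hc'c : polar q c' c = 1 := by rw [polar_comm]; exact hcc'
  have hqa : q a = 1 := by rw [ha, QuadraticMap.map_add ⇑q, hqx, hqy, hxy, zero_add, zero_add]
  have hqc : q c = 1 := by rw [hc, QuadraticMap.map_add ⇑q, hqw₂, hqz₂, hwz₂, zero_add, zero_add]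
  have hqa' : q a' = 1 := by
    rw [ha', QuadraticMap.map_add ⇑q, hqx, hqc, hc, polar_add_right, hsx.1, hsz.1]; ring
  have hqc' : q c' = 1 := by
    rw [hc', QuadraticMap.map_add ⇑q, hqw₂, hqa, ha, polar_add_right, hsx.2.2.1, hsx.2.2.2]; ring
  have haW : a ∈ W := W.add_mem (hUW hxU) hy
  have hcW : c ∈ W := W.add_mem (hXW hw₂X) (hXW hz₂X)
  have ha'W : a' ∈ W := W.add_mem (hUW hxU) hcW
  have hc'W : c' ∈ W := W.add_mem (hXW hw₂X) haW
  refine ⟨a, a', c, x, y, haW, ha'W, hcW, hUW hxU, hy, hqa, hqa', haa', fun h => ?_, hca, hca', hqx, hqy, hxy, ?_,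
    fun z hz hz1 => ?_⟩
  · rw [h, QuadraticMap.map_zero] at hqc; exact zero_ne_one hqc
  · show polar q a x = 1
    rw [ha, polar_add_left, hxx, hyx, zero_add]
  · have hexp : ∀ z ∈ W, z = polar q z a' • a + polar q z a • a' + (polar q z c' • c + polar q z c • c') := by
      intro z hz
      have hli : LinearIndependent F ![a, a', c, c'] := by
        rw [Fintype.linearIndependent_iff]
        intro g hg
        rw [Fin.sum_univ_four] at hg
        have e1 := congrArg (polar q · a') hg
        have e2 := congrArg (polar q · a) hg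
        have e3 := congrArg (polar q · c') hg
        have e4 := congrArg (polar q · c) hg
        simp [polar_add_left, polar_smul_left, haa, hcc, hac, hca, haa', hca', hcc', hac', ha'c', ha'a', hc'c',
          ha'a, ha'c, hc'a, hc'a', hc'c] at e1 e2 e3 e4
        intro i
        fin_cases i <;> assumption
      have hspan : Submodule.span F (Set.range ![a, a', c, c']) = W := by
        refine Submodule.eq_of_le_of_finrank_eq (Submodule.span_le.2 ?_) ?_
        · rintro _ ⟨i, rfl⟩
          fin_cases i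
          · exact haW
          · exact ha'W
          · exact hcW
          · exact hc'W
        · rw [finrank_span_eq_card hli, hd, Fintype.card_fin]
      rw [← hspan, Submodule.mem_span_range_iff_exists_fun] at hz
      obtain ⟨g, rfl⟩ := hz
      simp [Fin.sum_univ_four, polar_add_left, polar_smul_left, haa, hcc, hac, hca, haa', hca', hcc', hac', ha'c',
        ha'a', hc'c', ha'a, ha'c, hc'a, hc'a', hc'c, add_assoc]
    have he := hexp z hz
    have hN : (polar q z a' * polar q z a' + polar q z a * polar q z a + polar q z a' * polar q z a) +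
        (polar q z c' * polar q z c' + polar q z c * polar q z c + polar q z c' * polar q z c) = 1 := by
      conv_rhs => rw [← show q z = 1 from hz1, he]
      simp only [QuadraticMap.map_add ⇑q, QuadraticMap.map_smul, hqa, hqa', hqc, hqc', polar_add_left,
        polar_add_right, polar_smul_left, polar_smul_right, haa', hcc', hac, hac', ha'c, ha'c', smul_eq_mul]
      ring
    by_cases hA : polar q z a = 0 ∧ polar q z a' = 0
    · exact Or.inl hA
    right
    have nz : ∀ r s : F, ¬ (s = 0 ∧ r = 0) → r * r + s * s + r * s = 1 := by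
      intro r s h
      rcases eq_or_ne r 0 with hr | hr <;> rcases eq_or_ne s 0 with hs | hs
      · exact absurd ⟨hs, hr⟩ h
      · rw [hr, hone s hs]; ring
      · rw [hs, hone r hr]; ring
      · rw [hone r hr, hone s hs]; linear_combination h20
    have hC : polar q z c = 0 ∧ polar q z c' = 0 := by
      by_contra hC
      rw [nz _ _ hA, nz _ _ hC] at hN
      exact one_ne_zero (by linear_combination hN : (1 : F) = 0)
    rw [hC.1, hC.2, zero_smul, zero_smul, add_zero, add_zero] at he
    exact he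

/-- The overgroup for plus type members of dimension four over two elements. -/
theorem case_four (hQ : Cfsg.Geo.IsNondegenerateQuadraticForm Q) (h2 : Fintype.card F = 2)
    (hD : Cfsg.Geo.IsOrthogonalMDecomposition Q 4 D) (ht : 3 ≤ t) (hp : ∀ i, Cfsg.Geo.IsPlusTypeOn Q (D i)) :
    ∃ K : Subgroup (GL ι F),
      Cfsg.Geo.decompositionStabilizer D ⊓ Cfsg.Geo.omegaGL Q < K ∧ K < Cfsg.Geo.omegaGL Q := by
  classical
  let q := quadOf hQ
  have h20 : (2 : F) = 0 := by
    have h' := FiniteField.cast_card_eq_zero F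
    rw [h2] at h'
    exact_mod_cast h'
  have hbl := fun i => four_block hQ h2 (nondeg_block hD i) (hD.decomp.decomp.finrank_eq i) (hp i)
  choose a a' c x y ha ha' hc hx hy hqa hqa' haa' hc0 hca hca' hqx hqy hxy hax hcase using hbl
  change ∀ i, q (a i) = 1 at hqa
  change ∀ i, q (a' i) = 1 at hqa'
  change ∀ i, polar q (a i) (a' i) = 1 at haa'
  change ∀ i, polar q (c i) (a i) = 0 at hca
  change ∀ i, polar q (c i) (a' i) = 0 at hca'
  change ∀ i, polar q (a i) (x i) = 1 at hax
  have o : ∀ {i j}, i ≠ j → ∀ {p r}, p ∈ D i → r ∈ D j → polar q p r = 0 :=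
    fun h _ _ hp hr => orth_blocks hD h hp hr
  let i₀ : Fin t := ⟨0, by omega⟩
  let i₁ : Fin t := ⟨1, by omega⟩
  let i₂ : Fin t := ⟨2, by omega⟩
  have h01 : i₀ ≠ i₁ := by simp [i₀, i₁]
  have h02 : i₀ ≠ i₂ := by simp [i₀, i₂]
  have h12 : i₁ ≠ i₂ := by simp [i₁, i₂]
  refine ⟨Cfsg.stabilizing (Cfsg.glToMat ι F) (shell Q D 1) ⊓ Cfsg.Geo.omegaGL Q,
    lt_of_le_of_ne (fun g hg => ⟨mem_stabilizing_of_maps fun z hz => shell_invariant hQ 1 hg hz, hg.2⟩)
      fun heq => ?_, lt_of_le_of_ne inf_le_right fun heq => ?_⟩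
  · -- exchanging two elliptic pairs
    set u := a i₀ + a i₁ with hu
    set b := a' i₀ + a' i₁ with hb
    have hqu : q u = 0 := by
      rw [hu, QuadraticMap.map_add ⇑q, hqa, hqa, o h01 (ha _) (ha _)]; linear_combination h20
    have hqb : q b = 0 := by
      rw [hb, QuadraticMap.map_add ⇑q, hqa', hqa', o h01 (ha' _) (ha' _)]; linear_combination h20
    have hub : polar q u b = 0 := by
      simp only [hu, hb, polar_add_left, polar_add_right, haa', o h01 (ha _) (ha' _), o h01.symm (ha _) (ha' _)]
      linear_combination h20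
    have ou : ∀ p ∈ D i₂, polar q u p = 0 ∧ polar q b p = 0 := fun p hp =>
      ⟨by rw [hu, polar_add_left, o h02 (ha _) hp, o h12 (ha _) hp, add_zero],
        by rw [hb, polar_add_left, o h02 (ha' _) hp, o h12 (ha' _) hp, add_zero]⟩
    obtain ⟨g, hg, hgz⟩ := OrthClasses.exists_siegel hQ hqu hqb (hqx i₂) (hqy i₂) hub (ou _ (hx _)).1
      (ou _ (hy _)).1 (ou _ (hx _)).2 (ou _ (hy _)).2 (hxy i₂)
    have hside : ∀ i j, i ≠ j → u = a i + a j → b = a' i + a' j → ∀ z ∈ D i, Q z = 1 →
        (g : Matrix ι ι F) *ᵥ z ∈ shell Q D 1 := by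
      intro i j h hu' hb' z hz hz1
      have e1 : polar Q z b = polar q z (a' i) := by
        show polar q z b = _
        rw [hb', polar_add_right, o h hz (ha' j), add_zero]
      have e2 : polar Q z u = polar q z (a i) := by
        show polar q z u = _
        rw [hu', polar_add_right, o h hz (ha j), add_zero]
      rw [hgz, e1, e2]
      rcases hcase i z hz hz1 with ⟨k1, k2⟩ | hz'
      · rw [show polar q z (a i) = 0 from k1, show polar q z (a' i) = 0 from k2, zero_smul, zero_smul, add_zero,
          sub_zero]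
        exact ⟨i, hz, hz1⟩
      · change z = polar q z (a' i) • a i + polar q z (a i) • a' i at hz'
        generalize hα : polar q z (a' i) = α at hz'
        generalize hβ : polar q z (a i) = β at hz'
        have himg : z + α • u - β • b = α • a j + β • a' j := by
          rw [hz', hu', hb']
          match_scalars <;> first | linear_combination (0 : F) * h20 | linear_combination α * h20 | linear_combination β * h20 | linear_combination (-β) * h20
        rw [himg]
        refine ⟨j, (D j).add_mem ((D j).smul_mem _ (ha j)) ((D j).smul_mem _ (ha' j)), ?_⟩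
        have hz1' : q (α • a i + β • a' i) = 1 := by rw [← hz']; exact hz1
        show q (α • a j + β • a' j) = 1
        rw [QuadraticMap.map_add ⇑q, QuadraticMap.map_smul, QuadraticMap.map_smul, polar_smul_left,
          polar_smul_right, hqa, hqa', haa'] at hz1' ⊢
        exact hz1'
    have hgS : g ∈ Cfsg.stabilizing (Cfsg.glToMat ι F) (shell Q D 1) := mem_stabilizing_of_maps fun z hz => by
      obtain ⟨l, hl, hlz⟩ := hz
      rcases eq_or_ne l i₀ with rfl | hl0
      · exact hside i₀ i₁ h01 hu hb z hl hlz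
      rcases eq_or_ne l i₁ with rfl | hl1
      · exact hside i₁ i₀ h01.symm (hu.trans (add_comm _ _)) (hb.trans (add_comm _ _)) z hl hlz
      have e1 : polar Q z b = 0 := by
        show polar q z b = 0
        rw [hb, polar_add_right, o hl0 hl (ha' _), o hl1 hl (ha' _), add_zero]
      have e2 : polar Q z u = 0 := by
        show polar q z u = 0
        rw [hu, polar_add_right, o hl0 hl (ha _), o hl1 hl (ha _), add_zero]
      rw [hgz, e1, e2, zero_smul, zero_smul, add_zero, sub_zero]
      exact ⟨l, hl, hlz⟩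
    obtain ⟨σ, hσ⟩ := (heq.ge ⟨hgS, hg⟩).1
    have m1 : c i₀ ∈ D (σ i₀) := by
      rw [← hσ i₀]
      refine ⟨c i₀, hc _, ?_⟩
      rw [Matrix.toLin'_apply, hgz,
        show polar Q (c i₀) b = 0 by
          show polar q (c i₀) b = 0
          rw [hb, polar_add_right, hca', o h01 (hc _) (ha' _), add_zero],
        show polar Q (c i₀) u = 0 by
          show polar q (c i₀) u = 0
          rw [hu, polar_add_right, hca, o h01 (hc _) (ha _), add_zero],
        zero_smul, zero_smul, add_zero, sub_zero]
    have m2 : a i₁ ∈ D (σ i₀) := by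
      rw [← hσ i₀]
      refine ⟨a i₀, ha _, ?_⟩
      rw [Matrix.toLin'_apply, hgz,
        show polar Q (a i₀) b = 1 by
          show polar q (a i₀) b = 1
          rw [hb, polar_add_right, haa', o h01 (ha _) (ha' _), add_zero],
        show polar Q (a i₀) u = 0 by
          show polar q (a i₀) u = 0
          rw [hu, polar_add_right, CfsgLib.Orth.polar_self', h20, zero_mul, zero_add, o h01 (ha _) (ha _)],
        one_smul, zero_smul, sub_zero, hu, ← add_assoc, ← two_smul F (a i₀), h20, zero_smul, zero_add]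
    have ha1 : a i₁ ≠ 0 := fun h => by
      have := hqa i₁; rw [h, QuadraticMap.map_zero] at this; exact zero_ne_one this
    exact h01 ((eq_of_mem hD (hc _) m1 (hc0 _)).trans (eq_of_mem hD m2 (ha _) ha1))
  · -- a Siegel element mixing two members
    obtain ⟨g, hg, hgz⟩ := OrthClasses.exists_siegel hQ (u := x i₁) (b := x i₀) (hqx _) (hqx _) (hqx i₂) (hqy i₂)
      (o h01.symm (hx _) (hx _)) (o h12 (hx _) (hx _)) (o h12 (hx _) (hy _))
      (o h02 (hx _) (hx _)) (o h02 (hx _) (hy _)) (hxy i₂)
    obtain ⟨l, hl, -⟩ := ((heq.ge hg).1 (a i₀)).1 ⟨i₀, ha _, hqa _⟩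
    change (g : Matrix ι ι F) *ᵥ a i₀ ∈ D l at hl
    rw [hgz, show polar Q (a i₀) (x i₀) = 1 from hax i₀, show polar Q (a i₀) (x i₁) = 0 from o h01 (ha _) (hx _),
      one_smul, zero_smul, sub_zero] at hl
    have k0 : l = i₀ := by
      by_contra h
      have := o h hl (ha' i₀)
      rw [polar_add_left, haa', o h01.symm (hx _) (ha' _), add_zero] at this
      exact one_ne_zero this
    subst k0
    have := o h01 hl (hy i₁)
    rw [polar_add_left, o h01 (ha _) (hy _), zero_add] at this
    change polar q (x i₁) (y i₁) = 0 at this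
    rw [show polar q (x i₁) (y i₁) = 1 from hxy i₁] at this
    exact one_ne_zero this

end CfsgLib.GeomClasses.OrthFrames
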