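import Cfsg.Agent.Lib.GeomClasses.Decomp

/-!
Coordinates adapted to a decomposition.
-/

set_option autoImplicit false
set_option linter.unusedSimpArgs false
set_option linter.unusedSectionVars false

namespace CfsgLib.GeomClasses.Decomp

open Matrix
open scoped MatrixGroups

variable {ι : Type} [Fintype ι] [DecidableEq ι] {F : Type*} [Field F] {t m : ℕ}
  {D : Fin t → Submodule F (ι → F)}

/-- Adapted bases and coordinate functionals of the members. -/
theorem exists_coords (hD : Cfsg.Geo.IsMDecomposition m D) :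
    ∃ e c : Fin t → Fin m → (ι → F), (∀ i k, e i k ∈ D i) ∧
      (∀ i k, c i k ⬝ᵥ e i k = 1) ∧
      (∀ i k j l, (i, k) ≠ (j, l) → c i k ⬝ᵥ e j l = 0) ∧
      (∀ i x, comp hD i x = ∑ k, (c i k ⬝ᵥ x) • e i k) ∧
      ∀ x, x = ∑ i, ∑ k, (c i k ⬝ᵥ x) • e i k := by
  have b : ∀ i, Module.Basis (Fin m) F (D i) := fun i => Module.finBasisOfFinrankEq F (D i) (hD.finrank_eq i)
  let e : Fin t → Fin m → (ι → F) := fun i k => (b i k : ι → F)
  let Φ : Fin t → Fin m → (ι → F) →ₗ[F] F := fun i k =>
    ((b i).coord k) ∘ₗ (comp hD i).codRestrict (D i) (comp_mem hD i)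
  let c : Fin t → Fin m → (ι → F) := fun i k j => Φ i k (Pi.single j 1)
  have hc : ∀ i k x, c i k ⬝ᵥ x = Φ i k x := by
    intro i k x
    conv_rhs => rw [pi_eq_sum_univ' x, map_sum]
    refine Finset.sum_congr rfl fun j _ => ?_
    rw [map_smul, smul_eq_mul]
    exact mul_comm _ _
  have hcomp : ∀ i x, comp hD i x = ∑ k, (c i k ⬝ᵥ x) • e i k := by
    intro i x
    have := congrArg Subtype.val ((b i).sum_repr ((comp hD i).codRestrict (D i) (comp_mem hD i) x))
    simp only [AddSubmonoidClass.coe_finsetSum, SetLike.val_smul] at this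
    simp only [hc]
    exact this.symm
  refine ⟨e, c, fun i k => (b i k).2, fun i k => ?_, fun i k j l h => ?_, hcomp, fun x => ?_⟩
  · rw [hc]
    have : (comp hD i).codRestrict (D i) (comp_mem hD i) (e i k) = b i k :=
      Subtype.ext (comp_of_mem hD (b i k).2)
    simp [Φ, this]
  · rw [hc]
    by_cases hij : j = i
    · subst hij
      have : (comp hD j).codRestrict (D j) (comp_mem hD j) (e j l) = b j l :=
        Subtype.ext (comp_of_mem hD (b j l).2)
      have hlk : l ≠ k := fun h' => h (by rw [h'])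
      simp [Φ, this, hlk]
    · have : (comp hD i).codRestrict (D i) (comp_mem hD i) (e j l) = 0 :=
        Subtype.ext (comp_of_mem_ne hD hij (b j l).2)
      simp [Φ, this]
  · conv_lhs => rw [← sum_comp hD x]
    exact Finset.sum_congr rfl fun i _ => hcomp i x

end CfsgLib.GeomClasses.Decomp
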