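import Cfsg.Agent.Lib.GeomClasses.FramePlane

/-!
Over the field of three elements a root on at least three frame vectors gives every unit vector.
-/

set_option autoImplicit false
set_option linter.unusedSectionVars false

namespace CfsgLib.GeomClasses.Frame

open QuadraticMap CfsgLib.Orth

variable {ι : Type} [Fintype ι] [DecidableEq ι] {F : Type*} [Field F]
  {q : QuadraticForm F (ι → F)} {n : ℕ} {b : Fin n → ι → F} {c : F}

variable (h : IsFrame q b c) {X : Subgroup (O q)} (hX : HasGens b X)
include h hX

/-- In characteristic three, one root on three or more frame vectors gives every unit vector. -/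
theorem IsFrame.phi_all_three (hn : 6 ≤ n) (h3 : (3 : F) = 0) (hsq : ∀ x : F, x ≠ 0 → x ^ 2 = 1) {f : ι → F}
    (hf : Phi q b c X f) (hk : 3 ≤ (supp q b c f).card) : ∀ v, q v = c → Phi q b c X v := by
  classical
  have hk1 : ∀ v, q v = c → ((supp q b c v).card : F) = 1 := fun v hv => by
    have h1 := h.sum_sq_supp hv
    rwa [Finset.sum_congr rfl fun i hi => hsq _ (mem_supp.1 hi), Finset.sum_const, nsmul_eq_mul, mul_one] at h1
  have hfour : ∀ K : Finset (Fin n), ∀ v, K ⊆ supp q b c v → (∑ l ∈ K, co q b c l v ^ 2) = K.card := by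
    intro K v hK
    rw [Finset.sum_congr rfl fun i hi => hsq _ (mem_supp.1 (hK hi)), Finset.sum_const, nsmul_eq_mul, mul_one]
  obtain ⟨g₀, hg₀, hg₀c⟩ : ∃ g, Phi q b c X g ∧ (supp q b c g).card = 4 := by
    have hne : (supp q b c f).card ≠ 3 := fun e => by
      have := hk1 f hf.1
      rw [e] at this
      push_cast at this
      rw [h3] at this
      exact zero_ne_one this
    obtain ⟨K, hK, hKc⟩ := Finset.exists_subset_card_eq (show 4 ≤ (supp q b c f).card by omega)
    obtain ⟨g, hg, hgs, -⟩ := h.flip_keep hX hf (K := K) (by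
      rw [hfour K f hK, hKc]; push_cast; linear_combination 5 * h3)
    exact ⟨g, hg, by rw [hgs, Finset.inter_eq_right.2 hK, hKc]⟩
  have hsmall : ∀ v, q v = c → (supp q b c v).card ≤ 4 → Phi q b c X v := by
    refine h.phi_transport hX (by omega) hg₀c fun v hv hsub => ?_
    have hc := Finset.card_le_card hsub
    rw [hg₀c] at hc
    rcases Nat.lt_or_ge (supp q b c v).card 2 with h2 | h2
    · obtain ⟨j, rfl | rfl⟩ := h.eq_of_supp_one hv (by omega)
      · exact h.phi_b hX j
      · exact h.phi_neg (h.phi_b hX j)
    have hne : (supp q b c v).card ≠ 2 ∧ (supp q b c v).card ≠ 3 := by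
      constructor <;> intro e <;> have := hk1 v hv <;> rw [e] at this <;> push_cast at this
      · exact one_ne_zero (α := F) (by linear_combination this)
      · rw [h3] at this; exact zero_ne_one this
    have heq := Finset.eq_of_subset_of_card_le hsub (by omega)
    refine h.phi_of_sq hX hg₀ fun i => ?_
    by_cases hi : i ∈ supp q b c v
    · rw [hsq _ (mem_supp.1 hi), hsq _ (mem_supp.1 (heq ▸ hi))]
    · rw [notMem_supp.1 hi, notMem_supp.1 (heq ▸ hi)]
  intro v hv
  induction hk : (supp q b c v).card using Nat.strong_induction_on generalizing v with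
  | _ k ih =>
    rcases Nat.lt_or_ge k 5 with h5 | h5
    · exact hsmall v hv (by omega)
    obtain ⟨D, hD, hDc⟩ := Finset.exists_subset_card_eq (show 4 ≤ (supp q b c v).card by omega)
    obtain ⟨d, hd⟩ : D.Nonempty := Finset.card_pos.1 (by omega)
    set g : ι → F := ∑ l ∈ D, (if l = d then -co q b c l v else co q b c l v) • b l with hgdef
    have hgco : ∀ i, co q b c i g = if i ∈ D then (if i = d then -co q b c i v else co q b c i v) else 0 := by
      intro i
      rw [hgdef, co_sum]
      simp only [co_smul, h.co_b, mul_ite, mul_one, mul_zero, Finset.sum_ite_eq']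
    have hgs : supp q b c g = D := by
      ext i
      rw [mem_supp, hgco]
      by_cases hi : i ∈ D <;> by_cases hid : i = d <;> simp [hi, hid, mem_supp.1 (hD hd)]
      · exact mem_supp.1 (hD hi)
    have hgq : q g = c := by
      rw [h.unit_iff, h.ip_eq_sum_of (s := D) (fun i hi => by rw [hgco, if_neg hi]) g]
      rw [Finset.sum_congr rfl fun i hi => show co q b c i g * co q b c i g = 1 by
        rw [← pow_two]; exact hsq _ (mem_supp.1 (hgs.symm ▸ hi)), Finset.sum_const, hDc]
      rw [nsmul_eq_mul, mul_one]; push_cast; linear_combination h3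
    have hg := hsmall g hgq (by rw [hgs]; omega)
    have hip : ip q c v g = 2 := by
      rw [ip_comm, h.ip_eq_sum_of (s := D) (fun i hi => by rw [hgco, if_neg hi]) v,
        ← Finset.add_sum_erase _ _ hd, hgco, if_pos hd, if_pos rfl,
        Finset.sum_congr rfl fun i hi => show co q b c i g * co q b c i v = 1 by
          obtain ⟨h1, h2⟩ := Finset.mem_erase.1 hi
          rw [hgco, if_pos h2, if_neg h1, ← pow_two]; exact hsq _ (mem_supp.1 (hD h2)),
        Finset.sum_const, Finset.card_erase_of_mem hd, hDc, neg_mul, ← pow_two, hsq _ (mem_supp.1 (hD hd))]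
      norm_num
    set w := app (refl q g) v with hw
    have hws : supp q b c w ⊆ supp q b c v \ D.erase d := by
      intro i hi
      rw [hw, mem_supp, h.co_refl_unit hgq, hip, hgco] at hi
      rw [Finset.mem_sdiff, mem_supp]
      refine ⟨fun e => hi (by simp [e]), fun hid => hi ?_⟩
      obtain ⟨h1, h2⟩ := Finset.mem_erase.1 hid
      rw [if_pos h2, if_neg h1]
      linear_combination -(co q b c i v) * h3
    have hlt : (supp q b c w).card < k := by
      have := Finset.card_le_card hws
      rw [Finset.card_sdiff_of_subset ((Finset.erase_subset _ _).trans hD), Finset.card_erase_of_mem hd] at this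
      omega
    have := h.phi_refl hg (ih _ hlt w (by rw [hw, Q_app, hv]) rfl)
    rwa [hw, ← app_mul, refl_mul_self, app_one] at this

end CfsgLib.GeomClasses.Frame
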