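import Cfsg.Agent.Lib.GeomClasses.FrameClimb
import Cfsg.Agent.Lib.GeomClasses.FrameThree

/-!
A subgroup containing the frame generators and anything else contains `Ω`, over a prime field.
-/

set_option autoImplicit false
set_option linter.unusedSectionVars false

namespace CfsgLib.GeomClasses.Frame

open QuadraticMap CfsgLib.Orth CfsgLib.GeomClasses

variable {ι : Type} [Fintype ι] [DecidableEq ι] {F : Type*} [Field F] [Fintype F]
  {q : QuadraticForm F (ι → F)} {n : ℕ} {b : Fin n → ι → F} {c : F}

theorem pow_pred_eq_one (p : ℕ) (hcard : Nat.card F = p) {x : F} (hx : x ≠ 0) : x ^ (p - 1) = 1 := by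
  rw [← hcard, Nat.card_eq_fintype_card]; exact FiniteField.pow_card_sub_one_eq_one x hx

theorem sq_five (hcard : Nat.card F = 5) {x : F} (hx : x ≠ 0) : x ^ 2 = 1 ∨ x ^ 2 = -1 :=
  mul_self_eq_one_iff.1 (by rw [← pow_two, ← pow_mul]; exact pow_pred_eq_one 5 hcard hx)

theorem sq_seven (hcard : Nat.card F = 7) (h7 : (7 : F) = 0) {x : F} (hx : x ≠ 0) :
    x ^ 2 = 1 ∨ x ^ 2 = 2 ∨ x ^ 2 = 4 := by
  have h1 : x ^ 6 = 1 := pow_pred_eq_one 7 hcard hx
  have : (x ^ 2 - 1) * ((x ^ 2 - 2) * (x ^ 2 - 4)) = 0 := by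
    linear_combination h1 + (-x ^ 4 + 2 * x ^ 2 - 1) * h7
  rcases mul_eq_zero.1 this with e | e
  · exact Or.inl (sub_eq_zero.1 e)
  rcases mul_eq_zero.1 e with e | e
  · exact Or.inr (Or.inl (sub_eq_zero.1 e))
  · exact Or.inr (Or.inr (sub_eq_zero.1 e))

/-- A conic point off both axes and off the diagonal points. -/
theorem exists_off_diag (p : ℕ) [Fact p.Prime] [CharP F p] (h11 : 11 ≤ p) {N : F} (hN : N ≠ 0) :
    ∃ x z : F, x ≠ 0 ∧ z ≠ 0 ∧ 2 * x ^ 2 ≠ 1 ∧ x * x + N * (z * z) = 1 := by
  classical
  have hne : ∀ m : ℕ, 0 < m → m < 11 → (m : F) ≠ 0 := fun m h0 hm => small_ne p h0 (by omega)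
  obtain ⟨w, hw, t, ht, rfl⟩ : ∃ w : F, (w - 1) * (w + 1) * (w * w - 6 * w + 1) ≠ 0 ∧
      ∃ t : F, t ≠ 0 ∧ N * t ^ 2 = w := by
    by_contra hc
    push Not at hc
    let g : Fin 5 → F := fun i => N * ((i.val + 1 : ℕ) : F) ^ 2
    have hg : Function.Injective g := by
      intro i j e
      rcases sq_eq_sq_iff_eq_or_eq_neg.1 (mul_left_cancel₀ hN e) with e' | e'
      · have := CharP.natCast_injOn_Iio F p (show i.val + 1 < p by omega) (show j.val + 1 < p by omega) e'
        exact Fin.ext (by omega)
      · refine absurd ?_ (hne (i.val + 1 + (j.val + 1)) (by omega) (by omega))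
        push_cast at e' ⊢
        linear_combination e'
    let r : F := if h : ∃ r : F, r * r - 6 * r + 1 = 0 then h.choose else 1
    have himg : Finset.univ.image g ⊆ {1, -1, r, 6 - r} := by
      intro w hw
      obtain ⟨i, -, rfl⟩ := Finset.mem_image.1 hw
      by_contra hnot
      simp only [Finset.mem_insert, Finset.mem_singleton, not_or] at hnot
      refine hc (g i) (mul_ne_zero (mul_ne_zero (sub_ne_zero.2 hnot.1) ?_) ?_) _
        (hne (i.val + 1) (by omega) (by omega)) rfl
      · exact fun e => hnot.2.1 (eq_neg_of_add_eq_zero_left e)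
      · intro e
        have hr : r * r - 6 * r + 1 = 0 := by
          simp only [r]; rw [dif_pos ⟨_, e⟩]; exact (⟨_, e⟩ : ∃ r : F, r * r - 6 * r + 1 = 0).choose_spec
        have : (g i - r) * (g i - (6 - r)) = 0 := by linear_combination e - hr
        rcases mul_eq_zero.1 this with e' | e'
        · exact hnot.2.2.1 (sub_eq_zero.1 e')
        · exact hnot.2.2.2 (sub_eq_zero.1 e')
    have := Finset.card_le_card himg
    rw [Finset.card_image_of_injective _ hg] at this
    have : ({1, -1, r, 6 - r} : Finset F).card ≤ 4 := Finset.card_le_four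
    simp only [Finset.card_univ, Fintype.card_fin] at *
    omega
  obtain ⟨hw12, hw3⟩ := mul_ne_zero_iff.1 hw
  obtain ⟨hw1, hw2⟩ := mul_ne_zero_iff.1 hw12
  have h2 : (2 : F) ≠ 0 := by exact_mod_cast hne 2 (by norm_num) (by norm_num)
  refine ⟨(N * t ^ 2 - 1) / (N * t ^ 2 + 1), 2 * t / (N * t ^ 2 + 1), div_ne_zero hw1 hw2,
    div_ne_zero (mul_ne_zero h2 ht) hw2, fun e => hw3 ?_, ?_⟩
  · field_simp at e
    linear_combination e
  · field_simp
    ring

theorem exists_sum_ne {α : Type*} [DecidableEq α] {S : Finset α} (hS : 3 ≤ S.card) (s : α → F)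
    (h2 : (2 : F) ≠ 0) (hs : ∀ i ∈ S, s i ≠ 0) : ∃ l ∈ S, ∃ m ∈ S, l ≠ m ∧ s l + s m ≠ 0 := by
  obtain ⟨T, hT, hTc⟩ := Finset.exists_subset_card_eq hS
  obtain ⟨i, j, l, hij, hil, hjl, rfl⟩ := Finset.card_eq_three.1 hTc
  by_contra hc
  push Not at hc
  have a := hc i (hT (by simp)) j (hT (by simp)) hij
  have a' := hc i (hT (by simp)) l (hT (by simp)) hil
  have a'' := hc j (hT (by simp)) l (hT (by simp)) hjl
  exact hs i (hT (by simp)) ((mul_eq_zero.1 (show 2 * s i = 0 by linear_combination a + a' - a'')).resolve_left h2)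

variable (h : IsFrame q b c) {X : Subgroup (O q)} (hX : HasGens b X) (p : ℕ) [Fact p.Prime] [CharP F p]
  (hcard : Nat.card F = p) (hn : 7 ≤ n)
include h hX hcard hn

/-- One root on three frame vectors gives all of the unit vectors on three. -/
theorem IsFrame.phi_le_three (h5 : 5 ≤ p) {g : ι → F} (hg : Phi q b c X g) (hc : (supp q b c g).card = 3) :
    ∀ v, q v = c → (supp q b c v).card ≤ 3 → Phi q b c X v := by
  classical
  refine h.phi_transport hX (by omega) hc fun v hv hsub => ?_
  obtain ⟨i, hi, hiq⟩ : ∃ i ∈ supp q b c g, 4 * co q b c i g ^ 2 ≠ 1 := by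
    by_contra hall
    push Not at hall
    have h1 := congrArg (fun x : F => 4 * x) (h.sum_sq_supp hg.1)
    simp only [mul_one, Finset.mul_sum] at h1
    rw [Finset.sum_congr rfl hall, Finset.sum_const, hc, nsmul_eq_mul, mul_one] at h1
    push_cast at h1
    exact one_ne_zero (α := F) (by linear_combination -h1)
  obtain ⟨j, l, hjl, he⟩ := Finset.card_eq_two.1
    (show ((supp q b c g).erase i).card = 2 by rw [Finset.card_erase_of_mem hi, hc])
  have hj : j ∈ (supp q b c g).erase i := by rw [he]; simp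
  have hl : l ∈ (supp q b c g).erase i := by rw [he]; simp
  obtain ⟨hji, hjs⟩ := Finset.mem_erase.1 hj
  obtain ⟨hli, hls⟩ := Finset.mem_erase.1 hl
  have hS : supp q b c g = {i, j, l} := by rw [← Finset.insert_erase hi, he]
  set u := co q b c l g • b l with hu
  have huu : ip q c u u = co q b c l g ^ 2 := by
    rw [hu, ip_smul_left, ip_smul_right, h.ip_b, if_pos rfl]; ring
  have hgl : co q b c l g ≠ 0 := mem_supp.1 hls
  have hgvec : g = co q b c i g • b i + co q b c j g • b j + (1 : F) • u := by
    refine h.ext_co fun m => ?_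
    rw [co_add, co_add, co_smul, co_smul, co_smul, hu, co_smul, h.co_b, h.co_b, h.co_b]
    rcases eq_or_ne m i with rfl | h1
    · simp [hji, hli]
    rcases eq_or_ne m j with rfl | h2
    · simp [Ne.symm hji, Ne.symm hjl]
    rcases eq_or_ne m l with rfl | h3
    · simp [Ne.symm hli, hjl]
    · simp [Ne.symm h1, Ne.symm h2, Ne.symm h3]
      exact notMem_supp.1 (by rw [hS]; simp [h1, h2, h3])
  have hgf : Phi q b c X (co q b c i g • b i + co q b c j g • b j + (1 : F) • u) := by rw [← hgvec]; exact hg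
  have hus : (supp q b c u).card ≤ 1 := (Finset.card_le_card (t := {l}) fun m hm => by
    rw [mem_supp, hu, co_smul, h.co_b] at hm
    by_contra hml
    rw [Finset.mem_singleton] at hml
    exact hm (by rw [if_neg (Ne.symm hml), mul_zero])).trans (Finset.card_singleton l).le
  have := h.plane_full hX p hcard (by omega) (Ne.symm hji) (u := u)
    (by rw [hu, co_smul, h.co_b_ne hli, mul_zero]) (by rw [hu, co_smul, h.co_b_ne (Ne.symm hjl), mul_zero])
    (by rw [huu]; exact pow_ne_zero 2 hgl) (by omega)
    (f := ![co q b c i g, co q b c j g, 1]) (by simpa using hgf) (by simp)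
    (Or.inl (mem_supp.1 hi)) (by simp [mem_supp.1 hjs]) (by simp [mem_supp.1 hi]) (by simp [hiq])
    ![co q b c i v, co q b c j v, co q b c l v / co q b c l g] (by
      have h1 := (h.unit_iff v).1 hv
      rw [h.ip_eq_sum_of (s := {i, j, l}) (fun m hm => notMem_supp.1 fun e => hm (hS ▸ hsub e)) v,
        Finset.sum_insert (by simp [Ne.symm hji, Ne.symm hli]), Finset.sum_pair hjl] at h1
      simp [SphereThree.ip3, huu]
      field_simp
      linear_combination h1)
  convert this using 1
  refine h.ext_co fun m => ?_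
  simp only [Matrix.cons_val_zero, Matrix.cons_val_one, Matrix.cons_val]
  rw [co_add, co_add, co_smul, co_smul, co_smul, hu, co_smul, h.co_b, h.co_b, h.co_b]
  rcases eq_or_ne m i with rfl | h1
  · simp [hji, hli]
  rcases eq_or_ne m j with rfl | h2
  · simp [Ne.symm hji, Ne.symm hjl]
  rcases eq_or_ne m l with rfl | h3
  · simp [Ne.symm hli, hjl, hgl]
  · simp [Ne.symm h1, Ne.symm h2, Ne.symm h3]
    exact notMem_supp.1 fun e => by have := hsub e; rw [hS] at this; simp [h1, h2, h3] at this

/-- Four equal squares over seven elements. -/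
theorem IsFrame.phi_seven (h7 : (7 : F) = 0) (h3 : ∀ v, q v = c → (supp q b c v).card ≤ 3 → Phi q b c X v)
    {v : ι → F} (hc : (supp q b c v).card = 4) (hall : ∀ i ∈ supp q b c v, co q b c i v ^ 2 = 2) :
    Phi q b c X v := by
  classical
  obtain ⟨i, j, l, m, hij, hil, him, hjl, hjm, hlm, hS⟩ := Finset.card_eq_four.1 hc
  set g : ι → F := (2 : F) • b i + (3 : F) • b j + (-3 : F) • b l with hg
  set e : ι → F := (-2 : F) • b j + (3 : F) • b l + (4 : F) • b m with he
  have gco : ∀ x, co q b c x g =
      (if i = x then 2 else 0) + (if j = x then 3 else 0) + (if l = x then -3 else 0) := fun x => by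
    rw [hg, co_add, co_add, co_smul, co_smul, co_smul, h.co_b, h.co_b, h.co_b]; split_ifs <;> ring
  have eco : ∀ x, co q b c x e =
      (if j = x then -2 else 0) + (if l = x then 3 else 0) + (if m = x then 4 else 0) := fun x => by
    rw [he, co_add, co_add, co_smul, co_smul, co_smul, h.co_b, h.co_b, h.co_b]; split_ifs <;> ring
  have gout : ∀ x ∉ ({i, j, l} : Finset (Fin n)), co q b c x g = 0 := fun x hx => by
    simp only [Finset.mem_insert, Finset.mem_singleton, not_or] at hx
    rw [gco, if_neg (Ne.symm hx.1), if_neg (Ne.symm hx.2.1), if_neg (Ne.symm hx.2.2)]; ring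
  have eout : ∀ x ∉ ({j, l, m} : Finset (Fin n)), co q b c x e = 0 := fun x hx => by
    simp only [Finset.mem_insert, Finset.mem_singleton, not_or] at hx
    rw [eco, if_neg (Ne.symm hx.1), if_neg (Ne.symm hx.2.1), if_neg (Ne.symm hx.2.2)]; ring
  have hgq : q g = c := by
    rw [h.unit_iff, h.ip_eq_sum_of gout g, Finset.sum_insert (by simp [hij, hil]), Finset.sum_pair hjl, gco, gco, gco]
    simp [hij, hil, hjl, Ne.symm hij, Ne.symm hil, Ne.symm hjl]
    linear_combination 3 * h7
  have heq : q e = c := by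
    rw [h.unit_iff, h.ip_eq_sum_of eout e, Finset.sum_insert (by simp [hjl, hjm]), Finset.sum_pair hlm, eco, eco, eco]
    simp [hjl, hjm, hlm, Ne.symm hjl, Ne.symm hjm, Ne.symm hlm]
    linear_combination 4 * h7
  have hip : ip q c e g = -1 := by
    rw [ip_comm, h.ip_eq_sum_of gout e, Finset.sum_insert (by simp [hij, hil]), Finset.sum_pair hjl,
      gco, gco, gco, eco, eco, eco]
    simp [hij, hil, him, hjl, hjm, hlm, Ne.symm hij, Ne.symm hil, Ne.symm him, Ne.symm hjl, Ne.symm hjm,
      Ne.symm hlm]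
    linear_combination -2 * h7
  have hP := h.phi_refl (h3 g hgq ((Finset.card_le_card (supp_subset.2 gout)).trans Finset.card_le_three))
    (h3 e heq ((Finset.card_le_card (supp_subset.2 eout)).trans Finset.card_le_three))
  refine h.phi_of_sq hX hP fun x => ?_
  rw [h.co_refl_unit hgq, hip, gco, eco]
  by_cases hx : x ∈ supp q b c v
  · rw [hall x hx]
    rw [hS] at hx
    simp only [Finset.mem_insert, Finset.mem_singleton] at hx
    rcases hx with rfl | rfl | rfl | rfl <;>
      simp [hij, hil, him, hjl, hjm, hlm, Ne.symm hij, Ne.symm hil, Ne.symm him, Ne.symm hjl, Ne.symm hjm,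
        Ne.symm hlm] <;> first | linear_combination -2 * h7 | linear_combination -h7
  · rw [notMem_supp.1 hx]
    rw [hS] at hx
    simp only [Finset.mem_insert, Finset.mem_singleton, not_or] at hx
    simp [Ne.symm hx.1, Ne.symm hx.2.1, Ne.symm hx.2.2.1, Ne.symm hx.2.2.2]

/-- All unit vectors on at most four frame vectors. -/
theorem IsFrame.phi_le_four (h5 : 5 ≤ p) (h3 : ∀ v, q v = c → (supp q b c v).card ≤ 3 → Phi q b c X v) :
    ∀ v, q v = c → (supp q b c v).card ≤ 4 → Phi q b c X v := by
  classical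
  intro v hv hc
  rcases Nat.lt_or_ge (supp q b c v).card 4 with hlt | hge
  · exact h3 v hv (by omega)
  have hc4 : (supp q b c v).card = 4 := by omega
  by_cases h7 : p = 7 ∧ ∀ i ∈ supp q b c v, co q b c i v ^ 2 = 2
  · exact h.phi_seven hX p hcard hn (by exact_mod_cast h7.1 ▸ CharP.cast_eq_zero F p) h3 hc4 h7.2
  set S := supp q b c v with hS
  set s := fun i => co q b c i v ^ 2 with hs
  have hs0 : ∀ i ∈ S, s i ≠ 0 := fun i hi => pow_ne_zero 2 (mem_supp.1 hi)
  have hsum : ∑ i ∈ S, s i = 1 := h.sum_sq_supp hv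
  obtain ⟨l, hl, m, hm, hlm, x, z, hN, hx, hz, hx2, hxz⟩ : ∃ l ∈ S, ∃ m ∈ S, l ≠ m ∧ ∃ x z : F,
      s l + s m ≠ 0 ∧ x ≠ 0 ∧ z ≠ 0 ∧ 2 * x ^ 2 ≠ 1 ∧ x * x + (s l + s m) * (z * z) = 1 := by
    by_cases hp5 : p = 5
    · subst hp5
      have f5 : (5 : F) = 0 := by exact_mod_cast CharP.cast_eq_zero F 5
      have hm1 : ∀ i ∈ S, s i = -1 := by
        intro i hi
        refine (sq_five hcard (mem_supp.1 hi)).resolve_left fun e => ?_
        obtain ⟨a, b', d, hab, had, hbd, he⟩ := Finset.card_eq_three.1
          (show (S.erase i).card = 3 by rw [Finset.card_erase_of_mem hi]; omega)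
        rw [← Finset.add_sum_erase _ _ hi, he, Finset.sum_insert (by simp [hab, had]), Finset.sum_pair hbd] at hsum
        have hmem : ∀ y ∈ ({a, b', d} : Finset (Fin n)), co q b c y v ≠ 0 := fun y hy =>
          mem_supp.1 (Finset.mem_of_mem_erase (he.symm ▸ hy : y ∈ S.erase i))
        simp only [hs] at hsum
        rw [e] at hsum
        rcases sq_five hcard (hmem a (by simp)) with ea | ea <;> rcases sq_five hcard (hmem b' (by simp)) with eb | eb <;>
          rcases sq_five hcard (hmem d (by simp)) with ed | ed <;> rw [ea, eb, ed] at hsum <;>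
          first
          | exact one_ne_zero (α := F) (by linear_combination hsum)
          | exact one_ne_zero (α := F) (by linear_combination -hsum)
          | exact one_ne_zero (α := F) (by linear_combination 2 * hsum - f5)
          | exact one_ne_zero (α := F) (by linear_combination -2 * hsum - f5)
      obtain ⟨l, hl, m, hm, hlm⟩ := Finset.one_lt_card.1 (show 1 < S.card by omega)
      have h22 : (2 : F) * 2 ≠ 0 := mul_ne_zero h.two h.two
      refine ⟨l, hl, m, hm, hlm, 2, 2, ?_, h.two, h.two, ?_, ?_⟩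
      · rw [hm1 l hl, hm1 m hm]
        intro e; exact h.two (by linear_combination -e)
      · intro e; exact h.two (by linear_combination e - f5)
      · rw [hm1 l hl, hm1 m hm]
        linear_combination -f5
    by_cases hp7 : p = 7
    · subst hp7
      have f7 : (7 : F) = 0 := by exact_mod_cast CharP.cast_eq_zero F 7
      have hval : ∀ i ∈ S, s i = 1 ∨ s i = 2 ∨ s i = 4 := fun i hi => sq_seven hcard f7 (mem_supp.1 hi)
      obtain ⟨l, hl, m, hm, hne⟩ : ∃ l ∈ S, ∃ m ∈ S, s l ≠ s m := by
        by_contra hall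
        push Not at hall
        refine h7 ⟨rfl, fun i hi => ?_⟩
        rw [Finset.sum_congr rfl fun j hj => hall j hj i hi, Finset.sum_const, hc4, nsmul_eq_mul] at hsum
        push_cast at hsum
        change s i = 2
        linear_combination 2 * hsum - s i * f7
      refine ⟨l, hl, m, hm, fun e => hne (by rw [e]), 3, ?_⟩
      have h3' : (3 : F) ≠ 0 := by exact_mod_cast small_ne (F := F) 7 (m := 3) (by norm_num) (by omega)
      have h9 : 2 * (3 : F) ^ 2 ≠ 1 := fun e => h3' (by linear_combination e - 2 * f7)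
      have n5 : (5 : F) ≠ 0 := by exact_mod_cast small_ne (F := F) 7 (m := 5) (by norm_num) (by omega)
      have n6 : (6 : F) ≠ 0 := by exact_mod_cast small_ne (F := F) 7 (m := 6) (by norm_num) (by omega)
      have hcase : s l + s m = 3 ∨ s l + s m = 5 ∨ s l + s m = 6 := by
        rcases hval l hl with e | e | e <;> rcases hval m hm with e' | e' | e' <;> rw [e, e'] at hne ⊢ <;>
          first | exact absurd rfl hne | norm_num
      rcases hcase with e | e | e <;> rw [e]
      · exact ⟨3, h3', h3', h3', h9, by linear_combination 5 * f7⟩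
      · exact ⟨2, n5, h3', h.two, h9, by linear_combination 4 * f7⟩
      · exact ⟨1, n6, h3', one_ne_zero, h9, by linear_combination 2 * f7⟩
    have h11 : 11 ≤ p := by
      have := (Fact.out : p.Prime).eq_one_or_self_of_dvd 2
      have := (Fact.out : p.Prime).eq_one_or_self_of_dvd 3
      by_contra
      interval_cases p <;> simp_all
    obtain ⟨l, hl, m, hm, hlm, hN⟩ := exists_sum_ne (show 3 ≤ S.card by omega) s h.two hs0
    obtain ⟨x, z, hx, hz, hx2, hxz⟩ := exists_off_diag p h11 hN
    exact ⟨l, hl, m, hm, hlm, x, z, hN, hx, hz, hx2, hxz⟩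
  obtain ⟨i, j, hij, he⟩ := Finset.card_eq_two.1 (show ((S.erase l).erase m).card = 2 by
    rw [Finset.card_erase_of_mem (Finset.mem_erase.2 ⟨Ne.symm hlm, hm⟩), Finset.card_erase_of_mem hl]; omega)
  have hi : i ∈ (S.erase l).erase m := by rw [he]; simp
  have hj : j ∈ (S.erase l).erase m := by rw [he]; simp
  simp only [Finset.mem_erase] at hi hj
  have hout : ∀ y, y ≠ i → y ≠ j → y ≠ l → y ≠ m → co q b c y v = 0 := fun y a1 a2 a3 a4 =>
    notMem_supp.1 fun hy => by
      have : y ∈ (S.erase l).erase m := by simp only [Finset.mem_erase]; exact ⟨a4, a3, hy⟩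
      rw [he] at this; simp [a1, a2] at this
  set u := co q b c l v • b l + co q b c m v • b m with hu
  have hui : co q b c i u = 0 := by
    rw [hu, co_add, co_smul, co_smul, h.co_b_ne (Ne.symm hi.2.1), h.co_b_ne (Ne.symm hi.1)]; ring
  have huj : co q b c j u = 0 := by
    rw [hu, co_add, co_smul, co_smul, h.co_b_ne (Ne.symm hj.2.1), h.co_b_ne (Ne.symm hj.1)]; ring
  have huu : ip q c u u = s l + s m := by
    simp only [hu, ip_add_left, ip_add_right, ip_smul_left, ip_smul_right, h.ip_b, if_pos, if_neg hlm,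
      if_neg (Ne.symm hlm), hs]
    ring
  have hus : supp q b c u ⊆ {l, m} := supp_subset.2 fun y hy => by
    simp only [Finset.mem_insert, Finset.mem_singleton, not_or] at hy
    rw [hu, co_add, co_smul, co_smul, h.co_b_ne (Ne.symm hy.1), h.co_b_ne (Ne.symm hy.2)]; ring
  have husc := (Finset.card_le_card hus).trans Finset.card_le_two
  have hgv : SphereThree.ip3 (ip q c u u) ![x, 0, z] ![x, 0, z] = 1 := by
    simp [SphereThree.ip3, huu]; linear_combination hxz
  have hgP : Phi q b c X (x • b i + (0 : F) • b j + z • u) := by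
    refine h3 _ ?_ ?_
    · rw [h.unit_iff]
      have e1 : ip q c (b i) u = 0 := by rw [ip_comm]; exact hui
      have e2 : ip q c u (b i) = 0 := hui
      simp only [ip_add_left, ip_add_right, ip_smul_left, ip_smul_right, h.ip_b, if_pos, e1, e2, huu]
      linear_combination hxz
    · refine (Finset.card_le_card (t := {i, l, m}) (supp_subset.2 fun y hy => ?_)).trans Finset.card_le_three
      simp only [Finset.mem_insert, Finset.mem_singleton, not_or] at hy
      rw [co_add, co_add, co_smul, co_smul, co_smul, h.co_b_ne (Ne.symm hy.1),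
        notMem_supp.1 (fun e => by have := hus e; simp [hy.2.1, hy.2.2] at this : y ∉ supp q b c u)]
      ring
  have := h.plane_full hX p hcard h5 hij hui huj (by rw [huu]; exact hN) (by omega) (f := ![x, 0, z])
    (by simpa using hgP) (by simp [hz]) (Or.inl (by simp [hx])) (by simp [hx2]) (by simp [hx]) (by simp)
    ![co q b c i v, co q b c j v, 1] (by
      rw [← Finset.add_sum_erase _ _ hl, ← Finset.add_sum_erase _ _ (Finset.mem_erase.2 ⟨Ne.symm hlm, hm⟩), he,
        Finset.sum_pair hij] at hsum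
      simp only [hs] at hsum huu
      simp [SphereThree.ip3, huu]
      linear_combination hsum)
  convert this using 1
  refine h.ext_co fun y => ?_
  simp only [Matrix.cons_val_zero, Matrix.cons_val_one, Matrix.cons_val, one_smul]
  rw [co_add, co_add, co_smul, co_smul, hu, co_add, co_smul, co_smul, h.co_b, h.co_b, h.co_b, h.co_b]
  rcases eq_or_ne y i with rfl | a1
  · simp [Ne.symm hij, Ne.symm hi.2.1, Ne.symm hi.1]
  rcases eq_or_ne y j with rfl | a2
  · simp [hij, Ne.symm hj.2.1, Ne.symm hj.1]
  rcases eq_or_ne y l with rfl | a3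
  · simp [Ne.symm a1, Ne.symm a2, Ne.symm hlm]
  rcases eq_or_ne y m with rfl | a4
  · simp [Ne.symm a1, Ne.symm a2, hlm]
  · simp [Ne.symm a1, Ne.symm a2, Ne.symm a3, Ne.symm a4, hout y a1 a2 a3 a4]

/-- All unit vectors are roots. -/
theorem IsFrame.phi_all (h5 : 5 ≤ p) (h4 : ∀ v, q v = c → (supp q b c v).card ≤ 4 → Phi q b c X v) :
    ∀ v, q v = c → Phi q b c X v := by
  classical
  have h3 : (3 : F) ≠ 0 := by exact_mod_cast small_ne (F := F) p (m := 3) (by norm_num) (by omega)
  intro v hv
  induction hk : (supp q b c v).card using Nat.strong_induction_on generalizing v with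
  | _ k ih =>
    rcases Nat.lt_or_ge k 5 with hlt | hge
    · exact h4 v hv (by omega)
    set S := supp q b c v with hS
    set s := fun i => co q b c i v ^ 2 with hs
    have hs0 : ∀ i ∈ S, s i ≠ 0 := fun i hi => pow_ne_zero 2 (mem_supp.1 hi)
    obtain ⟨T, hT, hTc, hTs⟩ : ∃ T ⊆ S, T.card = 3 ∧ ∑ i ∈ T, s i ≠ 0 := by
      by_contra hc
      push Not at hc
      obtain ⟨D, hD, hDc⟩ := Finset.exists_subset_card_eq (show 5 ≤ S.card by omega)
      have heq : ∀ i ∈ D, ∀ j ∈ D, s i = s j := by
        intro i hi j hj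
        rcases eq_or_ne i j with rfl | hij
        · rfl
        obtain ⟨l, hl, m, hm, hlm⟩ := Finset.one_lt_card.1 (show 1 < ((D.erase i).erase j).card by
          rw [Finset.card_erase_of_mem (Finset.mem_erase.2 ⟨Ne.symm hij, hj⟩), Finset.card_erase_of_mem hi]; omega)
        simp only [Finset.mem_erase] at hl hm
        have e1 := hc {i, l, m}
          (by intro y hy; simp at hy; rcases hy with rfl | rfl | rfl <;>
            first | exact hD hi | exact hD hl.2.2 | exact hD hm.2.2)
          (by rw [Finset.card_insert_of_notMem (by simp [Ne.symm hl.2.1, Ne.symm hm.2.1]), Finset.card_pair hlm])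
        have e2 := hc {j, l, m}
          (by intro y hy; simp at hy; rcases hy with rfl | rfl | rfl <;>
            first | exact hD hj | exact hD hl.2.2 | exact hD hm.2.2)
          (by rw [Finset.card_insert_of_notMem (by simp [Ne.symm hl.1, Ne.symm hm.1]), Finset.card_pair hlm])
        rw [Finset.sum_insert (by simp [Ne.symm hl.2.1, Ne.symm hm.2.1])] at e1
        rw [Finset.sum_insert (by simp [Ne.symm hl.1, Ne.symm hm.1])] at e2
        linear_combination e1 - e2
      obtain ⟨T, hT, hTc⟩ := Finset.exists_subset_card_eq (show 3 ≤ D.card by omega)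
      obtain ⟨i, hi⟩ : T.Nonempty := Finset.card_pos.1 (by omega)
      have e1 := hc T (hT.trans hD) hTc
      rw [Finset.sum_congr rfl fun j hj => heq j (hT hj) i (hT hi), Finset.sum_const, hTc, nsmul_eq_mul] at e1
      push_cast at e1
      exact hs0 i (hD (hT hi)) ((mul_eq_zero.1 e1).resolve_left h3)
    obtain ⟨l₂, hl₂, l₃, hl₃, h23, hA⟩ :=
      exists_sum_ne (show 3 ≤ T.card by omega) s h.two fun i hi => hs0 i (hT hi)
    obtain ⟨l₄, he⟩ := Finset.card_eq_one.1 (show ((T.erase l₂).erase l₃).card = 1 by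
      rw [Finset.card_erase_of_mem (Finset.mem_erase.2 ⟨Ne.symm h23, hl₃⟩), Finset.card_erase_of_mem hl₂]; omega)
    have hl₄ : l₄ ∈ (T.erase l₂).erase l₃ := by rw [he]; simp
    simp only [Finset.mem_erase] at hl₄
    rw [← Finset.add_sum_erase _ _ hl₂, ← Finset.add_sum_erase _ _ (Finset.mem_erase.2 ⟨Ne.symm h23, hl₃⟩), he,
      Finset.sum_singleton] at hTs
    obtain ⟨l₁, hl₁⟩ : (S \ T).Nonempty := Finset.card_pos.1 (by rw [Finset.card_sdiff_of_subset hT]; omega)
    rw [Finset.mem_sdiff] at hl₁
    have h12 : l₁ ≠ l₂ := fun e => hl₁.2 (e ▸ hl₂)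
    have h13 : l₁ ≠ l₃ := fun e => hl₁.2 (e ▸ hl₃)
    have h14 : l₁ ≠ l₄ := fun e => hl₁.2 (e ▸ hl₄.2.2)
    set a₁ := co q b c l₁ v
    set a := co q b c l₂ v
    set b' := co q b c l₃ v
    set d := co q b c l₄ v
    simp only [hs] at hA hTs
    set t := (1 / 2 - a₁ ^ 2) / (a ^ 2 + (b' ^ 2 + d ^ 2)) with ht
    obtain ⟨α, β, hαβ⟩ := exists_binary h.two hA (mul_ne_zero hA hTs)
      (1 - a₁ ^ 2 - t ^ 2 * (a ^ 2 + (b' ^ 2 + d ^ 2)))
    have ht' : t * (a ^ 2 + (b' ^ 2 + d ^ 2)) = 1 / 2 - a₁ ^ 2 := by rw [ht, div_mul_cancel₀ _ hTs]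
    set g : ι → F := a₁ • b l₁ + (t * a - α * b' + β * a * d) • b l₂ + (t * b' + α * a + β * b' * d) • b l₃ +
      (t * d - β * (a ^ 2 + b' ^ 2)) • b l₄ with hg
    set T' : Finset (Fin n) := {l₁, l₂, l₃, l₄} with hT'
    have hgout : ∀ y ∉ T', co q b c y g = 0 := fun y hy => by
      simp only [hT', Finset.mem_insert, Finset.mem_singleton, not_or] at hy
      rw [hg, co_add, co_add, co_add, co_smul, co_smul, co_smul, co_smul, h.co_b_ne (Ne.symm hy.1),
        h.co_b_ne (Ne.symm hy.2.1), h.co_b_ne (Ne.symm hy.2.2.1), h.co_b_ne (Ne.symm hy.2.2.2)]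
      ring
    have g1 : co q b c l₁ g = a₁ := by simp [hg, co_add, co_smul, h.co_b, Ne.symm h12, Ne.symm h13, Ne.symm h14]
    have g2 : co q b c l₂ g = t * a - α * b' + β * a * d := by
      simp [hg, co_add, co_smul, h.co_b, h12, Ne.symm h23, hl₄.2.1]
    have g3 : co q b c l₃ g = t * b' + α * a + β * b' * d := by
      simp [hg, co_add, co_smul, h.co_b, h13, h23, hl₄.1]
    have g4 : co q b c l₄ g = t * d - β * (a ^ 2 + b' ^ 2) := by
      simp [hg, co_add, co_smul, h.co_b, h14, Ne.symm hl₄.2.1, Ne.symm hl₄.1]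
    have hsum4 : ∀ f : Fin n → F, ∑ y ∈ T', f y = f l₁ + (f l₂ + (f l₃ + f l₄)) := fun f => by
      rw [hT', Finset.sum_insert (by simp [h12, h13, h14]), Finset.sum_insert (by simp [h23, Ne.symm hl₄.2.1]),
        Finset.sum_pair (Ne.symm hl₄.1)]
    have hgq : q g = c := by
      rw [h.unit_iff, h.ip_eq_sum_of hgout g, hsum4, g1, g2, g3, g4]
      linear_combination hαβ
    have hip : ip q c v g = 1 / 2 := by
      rw [ip_comm, h.ip_eq_sum_of hgout v, hsum4, g1, g2, g3, g4]
      linear_combination ht'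
    have hgP := h4 g hgq ((Finset.card_le_card (supp_subset.2 hgout)).trans Finset.card_le_four)
    have hws : supp q b c (app (refl q g) v) ⊆ S.erase l₁ := by
      intro y hy
      rw [mem_supp, h.co_refl_unit hgq, hip, mul_one_div_cancel h.two, one_mul] at hy
      rw [Finset.mem_erase, hS, mem_supp]
      refine ⟨fun e => hy (by subst e; rw [g1, sub_self]), fun e => hy ?_⟩
      rw [e, zero_sub, neg_eq_zero]
      refine hgout y fun hyT => ?_
      simp only [hT', Finset.mem_insert, Finset.mem_singleton] at hyT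
      rcases hyT with rfl | rfl | rfl | rfl
      · exact mem_supp.1 hl₁.1 e
      · exact mem_supp.1 (hT hl₂) e
      · exact mem_supp.1 (hT hl₃) e
      · exact mem_supp.1 (hT hl₄.2.2) e
    have hlt : (supp q b c (app (refl q g) v)).card < k := by
      have := Finset.card_le_card hws
      rw [Finset.card_erase_of_mem hl₁.1] at this
      omega
    have := h.phi_refl hgP (ih _ hlt _ (by rw [Q_app, hv]) rfl)
    rwa [← app_mul, refl_mul_self, app_one] at this

omit hn in
/-- An element fixing two frame lines which is no signed permutation gives `Ω` with the frame generators. -/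
theorem IsFrame.commutator_le_of_lines (hn : 11 ≤ n) {x : O q} (hx : x ∈ X) {a a' : Fin n} (haa : a ≠ a')
    (ha : app x (b a) = b a ∨ app x (b a) = -b a) (ha' : app x (b a') = b a' ∨ app x (b a') = -b a')
    (hne : ¬ Mono b x) : commutator (O q) ≤ X := by
  obtain ⟨f, hf, hf3, hfn⟩ := h.exists_start hX (by omega) hx haa ha ha' hne
  suffices H : ∀ v, q v = c → Phi q b c X v from
    h.commutator_le_of_unit hn a fun v hv => (H v hv).2 a
  have hp2 : p ≠ 2 := fun e => h.two (by exact_mod_cast e ▸ CharP.cast_eq_zero F p)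
  have hp := (Fact.out : p.Prime)
  rcases Nat.lt_or_ge p 5 with hp5 | hp5
  · have hp3 : p = 3 := by
      have := hp.two_le
      interval_cases p <;> first | rfl | exact absurd rfl hp2 | exact absurd hp (by norm_num)
    subst hp3
    refine h.phi_all_three hX (by omega) (by exact_mod_cast CharP.cast_eq_zero F 3) (fun y hy => ?_) hf hf3
    exact pow_pred_eq_one 3 hcard hy
  obtain ⟨g, hg, hgc⟩ : ∃ g, Phi q b c X g ∧ (supp q b c g).card = 3 := by
    rcases (show p = 5 ∨ 7 ≤ p by
      rcases Nat.lt_or_ge p 7 with h | h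
      · left; interval_cases p <;> first | rfl | exact absurd hp (by norm_num)
      · exact Or.inr h) with e | e
    · subst e
      exact h.exists_three_five hX 5 hcard (by omega) (by exact_mod_cast CharP.cast_eq_zero F 5)
        (fun y hy => sq_five hcard hy) hf hf3 hfn
    · exact h.exists_three_big hX p hcard (by omega) e hf hf3 hfn
  exact h.phi_all hX p hcard (by omega) hp5
    (h.phi_le_four hX p hcard (by omega) hp5 (h.phi_le_three hX p hcard (by omega) hp5 hg hgc))

omit hn in
/-- A subgroup with the frame generators and something that is no signed permutation contains `Ω`. -/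
theorem IsFrame.commutator_le_of_not_mono (hn : 13 ≤ n) {g : O q} (hg : g ∈ X) (hne : ¬ Mono b g) :
    commutator (O q) ≤ X := by
  by_contra hc
  exact hne (h.all_mono hX (fun x hx a a' haa ha ha' => by
    by_contra hx'
    exact hc (h.commutator_le_of_lines hX p hcard (by omega) hx haa ha ha' hx')) hn g hg)

end CfsgLib.GeomClasses.Frame
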