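import Cfsg.Agent.Lib.GeomClasses.FramePlane

/-!
Over a prime field of at least five elements a root on at least three frame vectors gives a root on exactly three.
-/

set_option autoImplicit false
set_option linter.unusedSectionVars false

namespace CfsgLib.GeomClasses.Frame

open QuadraticMap CfsgLib.Orth CfsgLib.GeomClasses

variable {ι : Type} [Fintype ι] [DecidableEq ι] {F : Type*} [Field F] [Finite F]
  {q : QuadraticForm F (ι → F)} {n : ℕ} {b : Fin n → ι → F} {c : F}

theorem num_ne (p : ℕ) [CharP F p] {m : ℕ} (hm : ¬ p ∣ m) : (m : F) ≠ 0 :=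
  fun e => hm ((CharP.cast_eq_zero_iff F p m).1 e)

theorem small_ne (p : ℕ) [CharP F p] {m : ℕ} (h0 : 0 < m) (hm : m < p) : (m : F) ≠ 0 :=
  num_ne p fun hd => absurd (Nat.le_of_dvd h0 hd) (by omega)

/-- A conic point off both axes. -/
theorem exists_off_axes (p : ℕ) [Fact p.Prime] [CharP F p] (h7 : 7 ≤ p) {N : F} (hN : N ≠ 0) :
    ∃ x z : F, x ≠ 0 ∧ z ≠ 0 ∧ x * x + N * (z * z) = 1 := by
  have h5 : (5 : F) ≠ 0 := by exact_mod_cast small_ne (F := F) p (m := 5) (by norm_num) (by omega)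
  have h2 : (2 : F) ≠ 0 := by exact_mod_cast small_ne (F := F) p (m := 2) (by norm_num) (by omega)
  have h3 : (3 : F) ≠ 0 := by exact_mod_cast small_ne (F := F) p (m := 3) (by norm_num) (by omega)
  obtain ⟨t, ht, ht1, ht2⟩ : ∃ t : F, t ≠ 0 ∧ N * t ^ 2 - 1 ≠ 0 ∧ 1 + N * t ^ 2 ≠ 0 := by
    by_contra hc
    push Not at hc
    have key : ∀ t : F, t ≠ 0 → (N * t ^ 2) * (N * t ^ 2) = 1 := fun t ht => by
      by_cases e : N * t ^ 2 - 1 = 0
      · linear_combination (N * t ^ 2 + 1) * e
      · linear_combination (N * t ^ 2 - 1) * hc t ht e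
    have e1 := key 1 one_ne_zero
    have e2 := key 2 h2
    have e3 := key 3 h3
    exact h5 (by linear_combination e3 - 81 * e1 - 5 * (e2 - 16 * e1))
  refine ⟨(N * t ^ 2 - 1) / (1 + N * t ^ 2), 2 * t / (1 + N * t ^ 2), div_ne_zero ht1 ht2,
    div_ne_zero (mul_ne_zero h2 ht) ht2, ?_⟩
  field_simp
  ring

variable (h : IsFrame q b c) {X : Subgroup (O q)} (hX : HasGens b X) (p : ℕ) [Fact p.Prime] [CharP F p]
  (hcard : Nat.card F = p) (hn : 7 ≤ n)
include h hX hcard hn

/-- A good pair removes one frame vector. -/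
theorem IsFrame.pair_step (h7 : 7 ≤ p) {f : ι → F} (hf : Phi q b c X f) (hk : (supp q b c f).card + 2 ≤ n)
    {i j : Fin n} (hi : i ∈ supp q b c f) (hj : j ∈ supp q b c f) (hij : i ≠ j)
    (hN : co q b c i f ^ 2 + co q b c j f ^ 2 ≠ 1)
    (hgood : ¬ (4 * co q b c i f ^ 2 = 1 ∧ 4 * co q b c j f ^ 2 = 1)) :
    ∃ g x z, x ≠ 0 ∧ z ≠ 0 ∧ Phi q b c X g ∧ supp q b c g = (supp q b c f).erase j ∧
      co q b c i g = x ∧ ∀ l, l ≠ i → l ≠ j → co q b c l g = z * co q b c l f := by
  classical
  set ai := co q b c i f with hai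
  set aj := co q b c j f with haj
  set u := f - ai • b i - aj • b j with hu
  have huco : ∀ l, co q b c l u = if l = i ∨ l = j then 0 else co q b c l f := fun l => by
    rw [hu, co_sub, co_sub, co_smul, co_smul, h.co_b, h.co_b]
    rcases eq_or_ne l i with rfl | hli
    · simp [Ne.symm hij, hai]
    rcases eq_or_ne l j with rfl | hlj
    · simp [hij, haj]
    · simp [hli, hlj, Ne.symm hli, Ne.symm hlj]
  have hui : co q b c i u = 0 := by rw [huco]; simp
  have huj : co q b c j u = 0 := by rw [huco]; simp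
  have hfvec : f = ai • b i + aj • b j + (1 : F) • u := by rw [hu, one_smul]; abel
  have huu : ip q c u u = 1 - (ai ^ 2 + aj ^ 2) := by
    have h1 := (h.unit_iff f).1 hf.1
    have e1 : ip q c (b i) u = 0 := by rw [ip_comm]; exact hui
    have e2 : ip q c (b j) u = 0 := by rw [ip_comm]; exact huj
    have e3 : ip q c u (b i) = 0 := hui
    have e4 : ip q c u (b j) = 0 := huj
    rw [hfvec] at h1
    simp only [ip_add_left, ip_add_right, ip_smul_left, ip_smul_right, h.ip_b, if_pos, if_neg hij,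
      if_neg (Ne.symm hij), e1, e2, e3, e4] at h1
    linear_combination h1
  have hN' : ip q c u u ≠ 0 := by rw [huu]; exact sub_ne_zero.2 (Ne.symm hN)
  have hsu : supp q b c u ⊆ ((supp q b c f).erase i).erase j := fun l hl => by
    rw [mem_supp, huco] at hl
    split_ifs at hl with hlij
    · exact absurd rfl hl
    · push Not at hlij
      simp [hlij.1, hlij.2, mem_supp, hl]
  obtain ⟨x, z, hx, hz, hxz⟩ := exists_off_axes p h7 hN'
  have hsuc : (supp q b c u).card + 4 ≤ n := by
    have := Finset.card_le_card hsu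
    rw [Finset.card_erase_of_mem (Finset.mem_erase.2 ⟨Ne.symm hij, hj⟩), Finset.card_erase_of_mem hi] at this
    have := Finset.one_lt_card.2 ⟨i, hi, j, hj, hij⟩
    omega
  have hg := h.plane_full hX p hcard (by omega) hij hui huj hN' hsuc (f := ![ai, aj, 1])
    (by simpa [← hfvec] using (show Phi q b c X (ai • b i + aj • b j + (1 : F) • u) by rwa [← hfvec]))
    (by simp) (Or.inl (mem_supp.1 hi)) (by simp [mem_supp.1 hj, ← haj]; intro e; exact absurd e (mem_supp.1 hj))
    (by simp; intro e; exact absurd e (mem_supp.1 hi)) (by simpa using hgood) ![x, 0, z]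
    (by simp [SphereThree.ip3]; linear_combination hxz)
  simp only [Matrix.cons_val_zero, Matrix.cons_val_one, Matrix.cons_val] at hg
  refine ⟨_, x, z, hx, hz, hg, ?_, ?_, fun l hli hlj => ?_⟩
  · ext l
    rw [mem_supp, Finset.mem_erase, mem_supp, co_add, co_add, co_smul, co_smul, co_smul, h.co_b, h.co_b, huco]
    rcases eq_or_ne l i with rfl | hli
    · simp [hx, hij, mem_supp.1 hi, ← hai]
      exact mem_supp.1 hi
    rcases eq_or_ne l j with rfl | hlj
    · simp [hij]
    · simp [hli, hlj, Ne.symm hli, hz]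
  · rw [co_add, co_add, co_smul, co_smul, co_smul, h.co_b_self, h.co_b_ne (Ne.symm hij), hui]; ring
  · rw [co_add, co_add, co_smul, co_smul, co_smul, h.co_b_ne (Ne.symm hli), h.co_b_ne (Ne.symm hlj), huco,
      if_neg (by simp [hli, hlj])]
    ring

/-- Unless it is four quarters, a long root shrinks. -/
theorem IsFrame.down (h7 : 7 ≤ p) {f : ι → F} (hf : Phi q b c X f) (hk4 : 4 ≤ (supp q b c f).card)
    (hk : (supp q b c f).card + 2 ≤ n)
    (hnot : (supp q b c f).card = 4 → ¬ ∀ i ∈ supp q b c f, 4 * co q b c i f ^ 2 = 1) :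
    ∃ g, Phi q b c X g ∧ 3 ≤ (supp q b c g).card ∧ (supp q b c g).card < (supp q b c f).card := by
  classical
  have h3 : (3 : F) ≠ 0 := by exact_mod_cast small_ne (F := F) p (m := 3) (by norm_num) (by omega)
  set S := supp q b c f with hS
  by_cases hgd : ∃ i ∈ S, ∃ j ∈ S, i ≠ j ∧ co q b c i f ^ 2 + co q b c j f ^ 2 ≠ 1 ∧
      ¬ (4 * co q b c i f ^ 2 = 1 ∧ 4 * co q b c j f ^ 2 = 1)
  · obtain ⟨i, hi, j, hj, hij, hN, hg⟩ := hgd
    obtain ⟨g, _, _, _, _, hgP, hgs, -, -⟩ := h.pair_step hX p hcard hn h7 hf hk hi hj hij hN hg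
    refine ⟨g, hgP, ?_, ?_⟩ <;> rw [hgs, Finset.card_erase_of_mem hj] <;> omega
  push Not at hgd
  have hsum := h.sum_sq_supp hf.1
  rw [← hS] at hsum
  have hdrop : ∀ T : Finset (Fin n), T ⊆ S → T.card = 3 → (∀ i ∈ T, 4 * co q b c i f ^ 2 = 1) → 6 ≤ S.card →
      ∃ g, Phi q b c X g ∧ 3 ≤ (supp q b c g).card ∧ (supp q b c g).card < S.card := by
    intro T hT hTc hTq h6
    obtain ⟨g, hg, hgs, -⟩ := h.flip_drop hX hf (K := T) (by
      rw [Finset.mul_sum, Finset.sum_congr rfl hTq, Finset.sum_const, hTc]; norm_num)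
    refine ⟨g, hg, ?_, ?_⟩ <;> rw [hgs, Finset.card_sdiff_of_subset hT, hTc] <;> omega
  by_cases hall : ∀ i ∈ S, 4 * co q b c i f ^ 2 = 1
  · obtain ⟨T, hT, hTc⟩ := Finset.exists_subset_card_eq (show 3 ≤ S.card by omega)
    refine hdrop T hT hTc (fun i hi => hall i (hT hi)) ?_
    have h4 : (S.card : F) = 4 := by
      have e1 := congrArg (fun v : F => 4 * v) hsum
      simp only [mul_one, Finset.mul_sum] at e1
      rwa [Finset.sum_congr rfl hall, Finset.sum_const, nsmul_eq_mul, mul_one] at e1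
    have h4' : S.card ≠ 4 := fun e => hnot e hall
    have h5' : S.card ≠ 5 := fun e => by
      rw [e] at h4; push_cast at h4; exact one_ne_zero (α := F) (by linear_combination h4)
    omega
  push Not at hall
  obtain ⟨i, hi, hiq⟩ := hall
  have hoth : ∀ j ∈ S.erase i, co q b c j f ^ 2 = 1 - co q b c i f ^ 2 := fun j hj => by
    obtain ⟨hji, hjS⟩ := Finset.mem_erase.1 hj
    by_contra hne
    exact hiq (hgd i hi j hjS (Ne.symm hji) (fun e => hne (by linear_combination e))).1
  obtain ⟨j, hj, l, hl, hjl⟩ : ∃ j ∈ S.erase i, ∃ l ∈ S.erase i, j ≠ l :=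
    Finset.one_lt_card.1 (by rw [Finset.card_erase_of_mem hi]; omega)
  by_cases hhalf : 2 * co q b c i f ^ 2 = 1
  · -- every square is a half
    set g := app (refl q f) (b i) with hg
    have hgco : ∀ m, co q b c m g = co q b c m (b i) - 2 * co q b c i f * co q b c m f := fun m => by
      rw [hg, h.co_refl_unit hf.1, ip_comm]; rfl
    have hgs : supp q b c g = S.erase i := by
      ext m
      rw [mem_supp, hgco, Finset.mem_erase, hS, mem_supp, h.co_b]
      rcases eq_or_ne m i with rfl | hmi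
      · simp; linear_combination -hhalf
      · simp [Ne.symm hmi, hmi, h.two, mem_supp.1 hi]
    exact ⟨g, h.phi_refl hf (h.phi_b hX i), by rw [hgs, Finset.card_erase_of_mem hi]; omega,
      by rw [hgs, Finset.card_erase_of_mem hi]; omega⟩
  -- one three quarters
  have hq3 : 4 * co q b c j f ^ 2 = 1 := by
    by_contra hne
    have := hgd j (Finset.mem_of_mem_erase hj) l (Finset.mem_of_mem_erase hl) hjl (fun e => hhalf (by
      rw [hoth j hj, hoth l hl] at e; linear_combination -e))
    exact hne this.1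
  have hquart : ∀ m ∈ S.erase i, 4 * co q b c m f ^ 2 = 1 := fun m hm => by rw [hoth m hm, ← hoth j hj]; exact hq3
  obtain ⟨T, hT, hTc⟩ := Finset.exists_subset_card_eq (show 3 ≤ (S.erase i).card by
    rw [Finset.card_erase_of_mem hi]; omega)
  refine hdrop T (hT.trans (Finset.erase_subset _ _)) hTc (fun m hm => hquart m (hT hm)) ?_
  have h4 : (S.card : F) = 2 := by
    have e1 := congrArg (fun v : F => 4 * v) hsum
    simp only [mul_one, Finset.mul_sum] at e1
    rw [← Finset.add_sum_erase _ _ hi, Finset.sum_congr rfl hquart, Finset.sum_const, nsmul_eq_mul, mul_one,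
      Finset.card_erase_of_mem hi, Nat.cast_sub (by omega), Nat.cast_one] at e1
    have e2 := hoth j hj
    linear_combination e1 - 4 * e2 + hq3
  have h4' : S.card ≠ 4 := fun e => by
    rw [e] at h4; push_cast at h4; exact h.two (by linear_combination h4)
  have h5' : S.card ≠ 5 := fun e => by
    rw [e] at h4; push_cast at h4; exact h3 (by linear_combination h4)
  omega

/-- A root on three frame vectors, for at least seven elements. -/
theorem IsFrame.exists_three_big (h7 : 7 ≤ p) {f : ι → F} (hf : Phi q b c X f) (hk3 : 3 ≤ (supp q b c f).card)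
    (hk : (supp q b c f).card + 2 ≤ n) : ∃ g, Phi q b c X g ∧ (supp q b c g).card = 3 := by
  classical
  have h3 : (3 : F) ≠ 0 := by exact_mod_cast small_ne (F := F) p (m := 3) (by norm_num) (by omega)
  induction hc : (supp q b c f).card using Nat.strong_induction_on generalizing f with
  | _ k ih =>
    rcases Nat.lt_or_ge k 4 with h4 | h4
    · exact ⟨f, hf, by omega⟩
    by_cases hnot : k = 4 → ¬ ∀ i ∈ supp q b c f, 4 * co q b c i f ^ 2 = 1
    · obtain ⟨g, hg, hg3, hgk⟩ := h.down hX p hcard hn h7 hf (by omega) hk (by rw [hc]; exact hnot)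
      exact ih _ (by omega) hg hg3 (by omega) rfl
    simp only [Classical.not_imp, not_not] at hnot
    obtain ⟨hk4, hall⟩ := hnot
    obtain ⟨e, i₁, i₅, he, hes, hi₁, hi₅, he1, he5, hrest⟩ := h.quarter_step hX (by omega) hf (by omega) hall h3
    obtain ⟨i₂, i₃, i₄, h23, h24, h34, hS⟩ := Finset.card_eq_three.1
      (show ((supp q b c f).erase i₁).card = 3 by rw [Finset.card_erase_of_mem hi₁]; omega)
    have hm : ∀ l ∈ ({i₂, i₃, i₄} : Finset (Fin n)), l ≠ i₁ ∧ l ≠ i₅ ∧ l ∈ supp q b c e ∧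
        16 * co q b c l e ^ 2 = 1 := fun l hl => by
      rw [← hS] at hl
      obtain ⟨h1, h2⟩ := Finset.mem_erase.1 hl
      exact ⟨h1, fun e => hi₅ (e ▸ h2), by rw [hes]; exact Finset.mem_insert_of_mem h2, hrest l hl⟩
    obtain ⟨m21, m25, m2s, m2q⟩ := hm i₂ (by simp)
    obtain ⟨m31, m35, m3s, m3q⟩ := hm i₃ (by simp)
    obtain ⟨m41, m45, m4s, m4q⟩ := hm i₄ (by simp)
    have hec : (supp q b c e).card = 5 := by rw [hes, Finset.card_insert_of_notMem hi₅]; omega
    obtain ⟨i, j, hi, hj, hij, hN, hgood, hi1', hj1', hi4', hj4'⟩ : ∃ i j, i ∈ supp q b c e ∧ j ∈ supp q b c e ∧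
        i ≠ j ∧ co q b c i e ^ 2 + co q b c j e ^ 2 ≠ 1 ∧
        ¬ (4 * co q b c i e ^ 2 = 1 ∧ 4 * co q b c j e ^ 2 = 1) ∧ i₁ ≠ i ∧ i₁ ≠ j ∧ i₄ ≠ i ∧ i₄ ≠ j := by
      by_cases h11 : (11 : F) = 0
      · refine ⟨i₂, i₃, m2s, m3s, h23, fun e => h3 ?_, fun e => h3 ?_, m21.symm, m31.symm, h24.symm, h34.symm⟩
        · linear_combination -(16 * e - m2q - m3q) - h11
        · linear_combination m2q - 4 * e.1
      · refine ⟨i₅, i₂, by rw [hes]; exact Finset.mem_insert_self _ _, m2s, m25.symm, fun e => h11 ?_,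
          fun e => h3 ?_, fun e => hi₅ (e ▸ hi₁), m21.symm, m45, h24.symm⟩
        · linear_combination -16 * e + m2q + 4 * he5
        · linear_combination m2q - 4 * e.2
    obtain ⟨g, x, z, -, hz, hg, hgs, -, hgco⟩ :=
      h.pair_step hX p hcard hn h7 he (by omega) hi hj hij hN hgood
    have hgc : (supp q b c g).card = 4 := by rw [hgs, Finset.card_erase_of_mem hj]; omega
    obtain ⟨g', hg', hg3, hgk⟩ := h.down hX p hcard hn h7 hg (by omega) (by omega) (fun _ hall' => by
      have a1 := hall' i₁ (by rw [hgs, hes]; simp [hj1', hi₁])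
      have a4 := hall' i₄ (by rw [hgs]; simp [hj4', m4s])
      rw [hgco i₁ hi1' hj1'] at a1
      rw [hgco i₄ hi4' hj4'] at a4
      have : (32 : F) = 0 := by linear_combination 4 * a1 - 36 * a4 - z ^ 2 * he1 + 9 * z ^ 2 * m4q
      exact h.two (pow_eq_zero_iff (n := 5) (by norm_num) |>.1 (by linear_combination this)))
    exact ⟨g', hg', by omega⟩

/-- A root on three frame vectors, for five elements. -/
theorem IsFrame.exists_three_five (h5 : (5 : F) = 0) (hsq : ∀ x : F, x ≠ 0 → x ^ 2 = 1 ∨ x ^ 2 = -1) {f : ι → F}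
    (hf : Phi q b c X f) (hk3 : 3 ≤ (supp q b c f).card) (hk : (supp q b c f).card + 2 ≤ n) :
    ∃ g, Phi q b c X g ∧ (supp q b c g).card = 3 := by
  classical
  have h3 : (3 : F) ≠ 0 := fun e => one_ne_zero (α := F) (by linear_combination 2 * e - h5)
  have three : ∀ e, Phi q b c X e → ∀ K : Finset (Fin n), K ⊆ supp q b c e → K.card = 3 →
      (∑ l ∈ K, co q b c l e ^ 2) = -1 → ∃ g, Phi q b c X g ∧ (supp q b c g).card = 3 := by
    intro e he K hK hKc hKs
    obtain ⟨g, hg, hgs, -⟩ := h.flip_keep hX he (K := K) (by rw [hKs]; linear_combination -h5)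
    exact ⟨g, hg, by rw [hgs, Finset.inter_eq_right.2 hK, hKc]⟩
  have quart : ∀ e, Phi q b c X e → (supp q b c e).card = 4 →
      (∀ i ∈ supp q b c e, 4 * co q b c i e ^ 2 = 1) → ∃ g, Phi q b c X g ∧ (supp q b c g).card = 3 := by
    intro e he hec heq
    obtain ⟨g, i₁, i₅, hg, hgs, hi₁, hi₅, hg1, hg5, hrest⟩ := h.quarter_step hX (by omega) he hec heq h3
    obtain ⟨i₂, hi₂⟩ : ((supp q b c e).erase i₁).Nonempty :=
      Finset.card_pos.1 (by rw [Finset.card_erase_of_mem hi₁]; omega)
    obtain ⟨h21, h2s⟩ := Finset.mem_erase.1 hi₂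
    have h15 : i₁ ≠ i₅ := fun e => hi₅ (e ▸ hi₁)
    have h25 : i₂ ≠ i₅ := fun e => hi₅ (e ▸ h2s)
    refine three g hg {i₁, i₅, i₂} ?_ ?_ ?_
    · rw [hgs]; intro l hl; simp at hl ⊢; rcases hl with rfl | rfl | rfl <;> simp [hi₁, h2s]
    · rw [Finset.card_insert_of_notMem (by simp [h15, Ne.symm h21]), Finset.card_pair h25.symm]
    · rw [Finset.sum_insert (by simp [h15, Ne.symm h21]), Finset.sum_pair h25.symm]
      linear_combination hg1 - hg5 + hrest i₂ hi₂ +
        (-3 * co q b c i₁ g ^ 2 + co q b c i₅ g ^ 2 - 3 * co q b c i₂ g ^ 2 + 2) * h5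
  have many : ∀ e, Phi q b c X e → ∀ K : Finset (Fin n), K ⊆ supp q b c e → 4 ≤ K.card →
      (∀ i ∈ K, co q b c i e ^ 2 = 1) → ∃ g, Phi q b c X g ∧ (supp q b c g).card = 3 := by
    intro e he K hK hKc hKq
    obtain ⟨T, hT, hTc⟩ := Finset.exists_subset_card_eq hKc
    obtain ⟨g, hg, hgs, hgco⟩ := h.flip_keep hX he (K := T) (by
      rw [Finset.sum_congr rfl fun i hi => hKq i (hT hi), Finset.sum_const, hTc]; norm_num
      linear_combination 3 * h5)
    have hgT : supp q b c g = T := by rw [hgs, Finset.inter_eq_right.2 (hT.trans hK)]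
    refine quart g hg (by rw [hgT, hTc]) fun i hi => ?_
    rw [hgT] at hi
    rw [hgco i hi]
    linear_combination 16 * hKq i (hT hi) + 3 * h5
  set S := supp q b c f with hS
  rcases Nat.lt_or_ge S.card 4 with h4 | h4
  · exact ⟨f, hf, by rw [← hS]; omega⟩
  set P := S.filter fun i => co q b c i f ^ 2 = 1 with hP
  set M := S.filter fun i => ¬ co q b c i f ^ 2 = 1 with hM
  have hPM : P.card + M.card = S.card := Finset.card_filter_add_card_filter_not _
  have hMq : ∀ i ∈ M, co q b c i f ^ 2 = -1 := fun i hi => by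
    obtain ⟨hiS, hi1⟩ := Finset.mem_filter.1 hi
    exact (hsq _ (mem_supp.1 hiS)).resolve_left hi1
  have hPq : ∀ i ∈ P, co q b c i f ^ 2 = 1 := fun i hi => (Finset.mem_filter.1 hi).2
  have hsum : (P.card : F) - (M.card : F) = 1 := by
    have h1 := h.sum_sq_supp hf.1
    rw [← hS, ← Finset.sum_filter_add_sum_filter_not S (fun i => co q b c i f ^ 2 = 1), Finset.sum_congr rfl hPq,
      Finset.sum_congr rfl hMq, Finset.sum_const, Finset.sum_const, nsmul_eq_mul, nsmul_eq_mul, mul_one,
      mul_neg_one] at h1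
    linear_combination h1
  rcases Nat.lt_or_ge P.card 4 with hp4 | hp4
  swap
  · exact many f hf P (Finset.filter_subset _ _) hp4 hPq
  rcases Nat.eq_zero_or_pos P.card with hp0 | hp0
  · have hall : ∀ i ∈ S, co q b c i f ^ 2 = -1 := fun i hi => hMq i (Finset.mem_filter.2 ⟨hi, fun e =>
      Finset.notMem_empty i (Finset.card_eq_zero.1 hp0 ▸ Finset.mem_filter.2 ⟨hi, e⟩)⟩)
    rcases Nat.lt_or_ge S.card 6 with h6 | h6
    · rcases (show S.card = 4 ∨ S.card = 5 by omega) with e | e
      · exact quart f hf e fun i hi => by linear_combination 4 * hall i hi - h5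
      · exfalso
        rw [hp0, show M.card = 5 by omega] at hsum
        push_cast at hsum
        exact one_ne_zero (α := F) (by linear_combination -hsum - h5)
    · obtain ⟨T, hT, hTc⟩ := Finset.exists_subset_card_eq h6
      obtain ⟨g, hg, hgs, hgco⟩ := h.flip_keep hX hf (K := T) (by
        rw [Finset.sum_congr rfl fun i hi => hall i (hT hi), Finset.sum_const, hTc]; norm_num
        linear_combination -5 * h5)
      refine many g hg T ?_ (by omega) fun i hi => ?_
      · rw [hgs, Finset.inter_eq_right.2 hT]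
      · rw [hgco i hi]; linear_combination 4 * hall i (hT hi) - h5
  rcases Nat.lt_or_ge M.card 2 with hm2 | hm2
  · exfalso
    rw [show M.card = 1 by omega, show P.card = 3 by omega] at hsum
    norm_num at hsum
    exact one_ne_zero (α := F) (by linear_combination hsum)
  obtain ⟨T, hT, hTc⟩ := Finset.exists_subset_card_eq hm2
  obtain ⟨d, hd⟩ := Finset.card_pos.1 hp0
  have hdT : d ∉ T := fun e => (Finset.mem_filter.1 (hT e)).2 (hPq d hd)
  refine three f hf (insert d T) ?_ (by rw [Finset.card_insert_of_notMem hdT]; omega) ?_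
  · exact Finset.insert_subset (Finset.mem_of_mem_filter _ hd) (hT.trans (Finset.filter_subset _ _))
  · rw [Finset.sum_insert hdT, hPq d hd, Finset.sum_congr rfl fun i hi => hMq i (hT hi), Finset.sum_const, hTc]
    norm_num

end CfsgLib.GeomClasses.Frame
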