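import Cfsg.Agent.Lib.GeomClasses.OrthSubspace
import Cfsg.Agent.Lib.GeomClasses.Decomp

/-!
The stabilizer in `Ω` of a pair of complementary totally singular subspaces of even dimension is maximal.
-/

set_option autoImplicit false
set_option linter.unusedSectionVars false

namespace CfsgLib.GeomClasses.OrthPair

open Matrix QuadraticMap CfsgLib.Maximal.TensorTools CfsgLib.Orth CfsgLib.GeomClasses.OrthEich

variable {ι : Type} [Fintype ι] [DecidableEq ι] {F : Type*} [Field F] [Fintype F]
  {q : QuadraticForm F (ι → F)}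

/-- A pair of complementary totally singular subspaces. -/
structure Pair (q : QuadraticForm F (ι → F)) (D : Fin 2 → Submodule F (ι → F)) (k : ℕ) : Prop where
  nondeg : q.polarBilin.Nondegenerate
  thirteen : 10 ≤ Fintype.card ι
  decomp : Cfsg.Geo.IsMDecomposition k D
  singular : ∀ i, ∀ x ∈ D i, q x = 0
  five : 5 ≤ k

/-- The stabilizer of the pair inside the orthogonal group. -/
def pairStab (q : QuadraticForm F (ι → F)) (D : Fin 2 → Submodule F (ι → F)) : Subgroup (O q) :=
  (Cfsg.Geo.decompositionStabilizer D).comap (O q).subtype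

theorem eich_swap {u b : ι → F} (hu : q u = 0) (hb : q b = 0) (hub : polar q u b = 0) :
    eich q u b = eich q b (-u) := by
  refine ext_app fun x => ?_
  rw [app_eich hu hub, app_eich hb (by rw [polar_neg_right, polar_comm, hub, neg_zero]), QuadraticMap.map_neg,
    hu, hb, polar_neg_right]
  module

variable {D : Fin 2 → Submodule F (ι → F)} {k : ℕ} (P : Pair q D k)
include P

theorem Pair.polar_same {i : Fin 2} {x y : ι → F} (hx : x ∈ D i) (hy : y ∈ D i) : polar q x y = 0 :=
  OrthClasses.polar_of_singular (P.singular i) hx hy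

theorem Pair.components {i j : Fin 2} (hij : i ≠ j) (v : ι → F) : ∃ a ∈ D i, ∃ b ∈ D j, v = a + b := by
  have h := Decomp.sum_comp P.decomp v
  rw [Fin.sum_univ_two] at h
  have h0 := Decomp.comp_mem P.decomp 0 v
  have h1 := Decomp.comp_mem P.decomp 1 v
  rcases (show (i = 0 ∧ j = 1) ∨ (i = 1 ∧ j = 0) by omega) with ⟨rfl, rfl⟩ | ⟨rfl, rfl⟩
  · exact ⟨_, h0, _, h1, h.symm⟩
  · exact ⟨_, h1, _, h0, by rw [add_comm]; exact h.symm⟩

theorem Pair.disjoint {i j : Fin 2} (hij : i ≠ j) {x : ι → F} (hi : x ∈ D i) (hj : x ∈ D j) : x = 0 := by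
  rw [← Decomp.comp_of_mem P.decomp hi, Decomp.comp_of_mem_ne P.decomp hij.symm hj]

/-- A vector of the other summand orthogonal to a subspace but not to a vector outside it. -/
theorem Pair.sep {i j : Fin 2} (hij : i ≠ j) {T : Submodule F (ι → F)} (hT : T ≤ D i) {v : ι → F} (hv : v ∈ D i)
    (hvT : v ∉ T) : ∃ z ∈ D j, polar q v z = 1 ∧ ∀ x ∈ T, polar q x z = 0 := by
  obtain ⟨y, hy, hyv⟩ := OrthSubspace.exists_orth_pairing P.nondeg (by have := P.thirteen; omega) hvT
  obtain ⟨a, ha, b, hb, rfl⟩ := P.components hij y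
  have hb' : ∀ x ∈ D i, polar q x b = polar q x (a + b) := fun x hx => by
    rw [polar_add_right, P.polar_same hx ha, zero_add]
  have hvb : polar q v b ≠ 0 := by rw [hb' v hv, polar_comm]; exact hyv
  refine ⟨(polar q v b)⁻¹ • b, (D j).smul_mem _ hb, ?_, fun x hx => ?_⟩
  · rw [polar_smul_right, smul_eq_mul, inv_mul_cancel₀ hvb]
  · rw [polar_smul_right, hb' x (hT hx), OrthTools.mem_orth.1 hy x hx, smul_zero]

/-- The mixed Eichler elements stabilize the pair. -/
theorem Pair.mixed_mem {i j : Fin 2} (hij : i ≠ j) {u b : ι → F} (hu : u ∈ D i) (hb : b ∈ D j)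
    (hub : polar q u b = 0) : eich q u b ∈ pairStab q D ⊓ commutator (O q) := by
  have hqu := P.singular i u hu
  have hqb := P.singular j b hb
  have hn7 : 7 ≤ Fintype.card ι := by have := P.thirteen; omega
  refine ⟨?_, eich_mem P.nondeg hn7 hqu hub⟩
  refine mem_decompositionStabilizer.2 ⟨1, fun a => ?_⟩
  refine Submodule.eq_of_le_of_finrank_eq (fun y hy => ?_) ((Submodule.equivMapOfInjective _ (by
    simpa [Function.Injective] using gl_mulVec_injective ((eich q u b : O q) : GL ι F)) _).finrank_eq.symm)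
  obtain ⟨x, hx, rfl⟩ := hy
  rw [Equiv.Perm.one_apply, Matrix.toLin'_apply]
  show app (eich q u b) x ∈ D a
  rw [app_eich hqu hub, hqb, zero_mul, sub_zero]
  rcases (show a = i ∨ a = j by omega) with rfl | rfl
  · rw [P.polar_same hx hu, zero_smul, add_zero]
    exact (D a).add_mem hx ((D a).smul_mem _ hu)
  · rw [P.polar_same hx hb, neg_zero, zero_smul, add_zero]
    exact (D a).add_mem hx ((D a).smul_mem _ hb)

theorem Pair.finrank_inf_orth {i : Fin 2} (a b : ι → F) :
    k ≤ Module.finrank F ↥(D i ⊓ OrthTools.orth q (Submodule.span F ({a, b} : Set (ι → F)))) + 2 := by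
  have h1 := Submodule.finrank_sup_add_finrank_inf_eq (D i) (OrthTools.orth q (Submodule.span F ({a, b} : Set (ι → F))))
  have h2 := Submodule.finrank_le (D i ⊔ OrthTools.orth q (Submodule.span F ({a, b} : Set (ι → F))))
  have h3 := OrthTools.finrank_orth P.nondeg (Submodule.span F ({a, b} : Set (ι → F)))
  have h4 := finrank_pair_le (F := F) a b
  have h5 := P.decomp.finrank_eq i
  rw [Module.finrank_fintype_fun_eq_card] at h2
  omega

/-- An element of `Ω` exchanging the summands, for even `k`. -/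
theorem Pair.exists_swap (hke : Even k) :
    ∃ g ∈ pairStab q D ⊓ commutator (O q), (∀ x ∈ D 0, app g x ∈ D 1) ∧ ∀ x ∈ D 1, app g x ∈ D 0 := by
  classical
  have h01 : (0 : Fin 2) ≠ 1 := by decide
  have hn7 : 7 ≤ Fintype.card ι := by have := P.thirteen; omega
  obtain ⟨m, hm⟩ := hke
  let b := Module.finBasisOfFinrankEq F (D 0) (P.decomp.finrank_eq 0)
  let v : Fin k → (ι → F) := fun i => (b i : ι → F)
  have hv : LinearIndependent F v :=
    b.linearIndependent.map' (D 0).subtype (Submodule.ker_subtype _)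
  have hz : ∀ i, ∃ z ∈ D 1, ∀ l, polar q (v l) z = if l = i then 1 else 0 := by
    intro i
    have hni : v i ∉ Submodule.span F (v '' {l | l ≠ i}) :=
      hv.notMem_span_image (fun h => h rfl)
    obtain ⟨z, hz, h1, h2⟩ := P.sep h01 (Submodule.span_le.2 (by
      rintro _ ⟨l, -, rfl⟩
      exact (b l).2)) (b i).2 hni
    refine ⟨z, hz, fun l => ?_⟩
    by_cases hl : l = i
    · rw [if_pos hl, hl, h1]
    · rw [if_neg hl]
      exact h2 _ (Submodule.subset_span ⟨l, hl, rfl⟩)
  choose c hc hbc using hz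
  let a : Fin k → (ι → F) := fun i => v i - c i
  have hqa : ∀ i, q (a i) = -1 := fun i => by
    simp only [a, sub_eq_add_neg, QuadraticMap.map_add ⇑q, QuadraticMap.map_neg, polar_neg_right,
      P.singular 0 _ (b i).2, P.singular 1 _ (hc i), v, hbc]
    simp
  have hva : ∀ i l, polar q (v l) (a i) = if l = i then -1 else 0 := fun i l => by
    simp only [a, polar_sub_right, P.polar_same (i := 0) (b l).2 (b i).2, v, hbc]
    split <;> simp
  have hca : ∀ i l, polar q (c l) (a i) = if l = i then 1 else 0 := fun i l => by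
    simp only [a, polar_sub_right, P.polar_same (i := 1) (hc l) (hc i), sub_zero]
    rw [polar_comm, hbc]
    simp [eq_comm]
  have hneg : (-1 : F) ≠ 0 := neg_ne_zero.2 one_ne_zero
  have hr : ∀ i l, app (refl q (a i)) (v l) = (if l = i then c l else v l) ∧
      app (refl q (a i)) (c l) = (if l = i then v l else c l) := fun i l => by
    rw [app_refl, app_refl, hqa, hva, hca]
    by_cases hl : l = i
    · subst hl
      simp only [if_pos, a]
      refine ⟨?_, ?_⟩ <;> norm_num
    · simp [hl]
  have hstep : ∀ N, N ≤ m → ∃ g ∈ commutator (O q), ∀ l : Fin k,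
      app g (v l) = (if (l : ℕ) < 2 * N then c l else v l) ∧
      app g (c l) = (if (l : ℕ) < 2 * N then v l else c l) := by
    intro N
    induction N with
    | zero => exact fun _ => ⟨1, Subgroup.one_mem _, fun l => by simp⟩
    | succ N ih =>
      intro hN
      obtain ⟨g, hg, hgl⟩ := ih (by omega)
      let i₁ : Fin k := ⟨2 * N, by omega⟩
      let i₂ : Fin k := ⟨2 * N + 1, by omega⟩
      refine ⟨g * (refl q (a i₁) * refl q (a i₂)), Subgroup.mul_mem _ hg
        (pair_mem P.nondeg hn7 (by rw [hqa]; exact hneg) (by rw [hqa, hqa])), fun l => ?_⟩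
      have h12 : i₁ ≠ i₂ := fun h => by simp [i₁, i₂, Fin.ext_iff] at h
      rw [app_mul, app_mul, app_mul, app_mul, (hr i₂ l).1, (hr i₂ l).2]
      by_cases h2 : l = i₂
      · subst h2
        rw [if_pos rfl, if_pos rfl, (hr i₁ i₂).1, (hr i₁ i₂).2, if_neg h12.symm, if_neg h12.symm, (hgl i₂).1,
          (hgl i₂).2]
        simp [i₂]
        constructor <;> intro h <;> omega
      · rw [if_neg h2, if_neg h2, (hr i₁ l).1, (hr i₁ l).2]
        by_cases h1 : l = i₁
        · subst h1
          rw [if_pos rfl, if_pos rfl, (hgl i₁).1, (hgl i₁).2]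
          simp [i₁]
        · rw [if_neg h1, if_neg h1, (hgl l).1, (hgl l).2]
          have h1' : (l : ℕ) ≠ 2 * N := fun h => h1 (Fin.ext h)
          have h2' : (l : ℕ) ≠ 2 * N + 1 := fun h => h2 (Fin.ext h)
          constructor <;> split <;> split <;> first | rfl | omega
  obtain ⟨g, hg, hgl⟩ := hstep m le_rfl
  have hspan : ∀ i : Fin 2, ∀ w : Fin k → ι → F, (∀ l, w l ∈ D i) → LinearIndependent F w →
      D i ≤ Submodule.span F (Set.range w) := fun i w hw hli => by
    refine le_of_eq (Submodule.eq_of_le_of_finrank_eq (Submodule.span_le.2 ?_) ?_).symm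
    · rintro _ ⟨l, rfl⟩
      exact hw l
    · rw [finrank_span_eq_card hli, Fintype.card_fin, P.decomp.finrank_eq i]
  have hmap : ∀ i j : Fin 2, ∀ w : Fin k → ι → F, (∀ l, w l ∈ D i) → LinearIndependent F w →
      (∀ l, app g (w l) ∈ D j) → ∀ x ∈ D i, app g x ∈ D j := fun i j w hw hli h x hx => by
    have hle : Submodule.span F (Set.range w) ≤ (D j).comap (app g) := Submodule.span_le.2 (by
      rintro _ ⟨l, rfl⟩
      exact h l)
    exact hle (hspan i w hw hli hx)
  have hcli : LinearIndependent F c := by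
    rw [Fintype.linearIndependent_iff]
    intro r hr l
    have h1 : polar q (v l) (∑ i, r i • c i) = 0 := by rw [hr, polar_zero_right]
    rw [show polar q (v l) (∑ i, r i • c i) = q.polarBilin (v l) (∑ i, r i • c i) from rfl, map_sum] at h1
    simpa [hbc] using h1
  have h0 : ∀ x ∈ D 0, app g x ∈ D 1 := hmap 0 1 v (fun l => (b l).2) hv fun l => by
    rw [(hgl l).1, if_pos (by omega)]; exact hc l
  have h1 : ∀ x ∈ D 1, app g x ∈ D 0 := hmap 1 0 c hc hcli fun l => by
    rw [(hgl l).2, if_pos (by omega)]; exact (b l).2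
  refine ⟨g, ⟨?_, hg⟩, h0, h1⟩
  refine mem_decompositionStabilizer.2 ⟨Equiv.swap 0 1, fun i => ?_⟩
  refine Submodule.eq_of_le_of_finrank_eq (fun y hy => ?_) ?_
  · obtain ⟨x, hx, rfl⟩ := hy
    rw [Matrix.toLin'_apply]
    show app g x ∈ D _
    rcases (show i = 0 ∨ i = 1 by omega) with rfl | rfl
    · rw [Equiv.swap_apply_left]; exact h0 x hx
    · rw [Equiv.swap_apply_right]; exact h1 x hx
  · rw [(Submodule.equivMapOfInjective _ (by
      simpa [Function.Injective] using gl_mulVec_injective (g : GL ι F)) (D i)).finrank_eq.symm,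
      P.decomp.finrank_eq, P.decomp.finrank_eq]

variable {M : Subgroup (O q)} (hle : pairStab q D ⊓ commutator (O q) ≤ M)
include hle

theorem Pair.axes_of_one {i j : Fin 2} (hij : i ≠ j) {s w : ι → F} (hs : s ∈ D i) (hw : w ∈ D i)
    (hws : w ∉ Submodule.span F {s}) (h : eich q s w ∈ M) : ∀ p ∈ D i, eich q s p ∈ M := by
  have hss : ∀ x ∈ D i, polar q s x = 0 := fun x hx => P.polar_same hs hx
  have hgood : ∀ p ∈ D i, p ∉ Submodule.span F ({s, w} : Set (ι → F)) → eich q s p ∈ M := by
    intro p hp hpn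
    have hwn : w ∉ Submodule.span F ({s, p} : Set (ι → F)) := fun hin => by
      obtain ⟨α, β, e⟩ := Submodule.mem_span_pair.1 hin
      by_cases hβ : β = 0
      · exact hws (Submodule.mem_span_singleton.2 ⟨α, by rw [← e, hβ, zero_smul, add_zero]⟩)
      · refine hpn (Submodule.mem_span_pair.2 ⟨-(β⁻¹ * α), β⁻¹, ?_⟩)
        rw [← e, smul_add, inv_smul_smul₀ hβ]
        module
    obtain ⟨z, hz, hwz, hsp⟩ := P.sep hij (T := Submodule.span F ({s, p} : Set (ι → F)))
      (Submodule.span_le.2 (by rintro x (rfl | rfl) <;> assumption)) hw hwn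
    have hpz : polar q p ((-1 : F) • z) = 0 := by
      rw [polar_smul_right, hsp p (Submodule.subset_span (by simp)), smul_zero]
    have hT := hle (P.mixed_mem hij hp ((D j).smul_mem (-1 : F) hz) hpz)
    have h1 := M.mul_mem (M.mul_mem hT h) (M.inv_mem hT)
    have e1 : app (eich q p ((-1 : F) • z)) s = s := by
      rw [app_eich (P.singular i p hp) hpz, polar_smul_right, hsp s (Submodule.subset_span (by simp)),
        P.polar_same hs hp, QuadraticMap.map_smul, P.singular j z hz]
      simp
    have e2 : app (eich q p ((-1 : F) • z)) w = w + p := by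
      rw [app_eich (P.singular i p hp) hpz, polar_smul_right, hwz, P.polar_same hw hp, QuadraticMap.map_smul,
        P.singular j z hz]
      simp
    rw [eich_conj (P.singular i s hs) (hss w hw), e1, e2] at h1
    have h2 := M.mul_mem (M.inv_mem h) h1
    rwa [← eich_add (P.singular i s hs) (hss w hw) (hss p hp), inv_mul_cancel_left] at h2
  intro p hp
  by_cases hpn : p ∈ Submodule.span F ({s, w} : Set (ι → F))
  · obtain ⟨r, hr, hrn⟩ := SetLike.not_le_iff_exists.1 (show ¬ D i ≤ Submodule.span F ({s, w} : Set (ι → F)) from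
      fun hle' => by
        have h1 := Submodule.finrank_mono hle'
        have h2 := finrank_pair_le (F := F) s w
        have := P.decomp.finrank_eq i
        have := P.five
        omega)
    have h1 := hgood (p + r) ((D i).add_mem hp hr) fun hin => hrn (by
      simpa using Submodule.sub_mem _ hin hpn)
    have h2 := M.mul_mem h1 (M.inv_mem (hgood r hr hrn))
    rwa [← eich_add (P.singular i s hs) (hss p hp) (hss r hr), mul_inv_cancel_right] at h2
  · exact hgood p hp hpn

/-- One Eichler element inside a summand gives full centres on it. -/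
theorem Pair.full_of_one {i j : Fin 2} (hij : i ≠ j) {s w : ι → F} (hs : s ∈ D i) (hw : w ∈ D i)
    (hs0 : s ≠ 0) (hws : w ∉ Submodule.span F {s}) (h : eich q s w ∈ M) : ∀ u ∈ D i, Full M u := by
  have hfull : ∀ u ∈ D i, (∀ p ∈ D i, eich q u p ∈ M) → Full M u := fun u hu hall => ⟨P.singular i u hu, fun a ha => by
    obtain ⟨a₀, ha₀, a₁, ha₁, rfl⟩ := P.components hij a
    have h1 : polar q u a₁ = 0 := by rwa [polar_add_right, P.polar_same hu ha₀, zero_add] at ha
    rw [← eich_add (P.singular i u hu) (P.polar_same hu ha₀) h1]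
    exact M.mul_mem (hall a₀ ha₀) (hle (P.mixed_mem hij hu ha₁ h1))⟩
  intro u hu
  have hsM := P.axes_of_one hle hij hs hw hws h
  by_cases hus : u ∈ Submodule.span F ({s} : Set (ι → F))
  · obtain ⟨c, rfl⟩ := Submodule.mem_span_singleton.1 hus
    exact full_smul (hfull s hs hsM) c
  refine hfull u hu ?_
  have h1 := hsM u hu
  rw [eich_swap (P.singular i s hs) (P.singular i u hu) (P.polar_same hs hu)] at h1
  refine P.axes_of_one hle hij hu ((D i).neg_mem hs) (fun hin => hus ?_) h1
  obtain ⟨c, hc⟩ := Submodule.mem_span_singleton.1 hin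
  have hc0 : c ≠ 0 := fun h0 => hs0 (by rw [← neg_eq_zero, ← hc, h0, zero_smul])
  refine Submodule.mem_span_singleton.2 ⟨-c⁻¹, ?_⟩
  rw [neg_smul, ← smul_neg, ← hc, inv_smul_smul₀ hc0]

/-- An Eichler element with independent components in a summand gives full centres on it. -/
theorem Pair.full_of_line {i j : Fin 2} (hij : i ≠ j) {v x v₁ v₂ x₁ x₂ : ι → F} (hqv : q v = 0) (hqx : q x = 0)
    (hvx : polar q v x = 0) (hv₁ : v₁ ∈ D i) (hv₂ : v₂ ∈ D j) (hx₁ : x₁ ∈ D i) (hx₂ : x₂ ∈ D j)
    (hv : v = v₁ + v₂) (hx : x = x₁ + x₂) (hx0 : x₁ ≠ 0) (hvn : v₁ ∉ Submodule.span F {x₁})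
    (h : eich q v x ∈ M) : ∀ u ∈ D i, Full M u := by
  obtain ⟨s, ⟨hs, hs'⟩, hsn⟩ := SetLike.not_le_iff_exists.1
    (show ¬ D i ⊓ OrthTools.orth q (Submodule.span F ({v₂, x₂} : Set (ι → F))) ≤
      Submodule.span F ({v₁, x₁} : Set (ι → F)) from fun hle' => by
      have h1 := Submodule.finrank_mono hle'
      have h2 := finrank_pair_le (F := F) v₁ x₁
      have h3 := P.finrank_inf_orth (i := i) v₂ x₂
      have := P.five
      omega)
  rw [SetLike.mem_coe, mem_orth_pair] at hs'
  have hvn' : v₁ ∉ Submodule.span F ({x₁, s} : Set (ι → F)) := fun hin => by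
    obtain ⟨α, β, e⟩ := Submodule.mem_span_pair.1 hin
    by_cases hβ : β = 0
    · exact hvn (Submodule.mem_span_singleton.2 ⟨α, by rw [← e, hβ, zero_smul, add_zero]⟩)
    · refine hsn (Submodule.mem_span_pair.2 ⟨β⁻¹, -(β⁻¹ * α), ?_⟩)
      rw [← e, smul_add, inv_smul_smul₀ hβ]
      module
  obtain ⟨z, hz, hvz, hTz⟩ := P.sep hij (T := Submodule.span F ({x₁, s} : Set (ι → F)))
    (Submodule.span_le.2 (by rintro y (rfl | rfl) <;> assumption)) hv₁ hvn'
  have hx₁z := hTz x₁ (Submodule.subset_span (by simp))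
  have hsz := hTz s (Submodule.subset_span (by simp))
  have hqs := P.singular i s hs
  have hqz := P.singular j z hz
  have hvs : polar q v s = 0 := by rw [hv, polar_add_left, P.polar_same hv₁ hs, hs'.1, add_zero]
  have hxs : polar q x s = 0 := by rw [hx, polar_add_left, P.polar_same hx₁ hs, hs'.2, add_zero]
  have hvz' : polar q v z = 1 := by rw [hv, polar_add_left, hvz, P.polar_same hv₂ hz, add_zero]
  have hxz : polar q x z = 0 := by rw [hx, polar_add_left, hx₁z, P.polar_same hx₂ hz, add_zero]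
  have hT := hle (P.mixed_mem hij hs hz hsz)
  have e1 : app (eich q s z) v = v - s := by
    rw [app_eich hqs hsz, hvs, hvz']
    module
  have e2 : app (eich q s z) x = x := by
    rw [app_eich hqs hsz, hxs, hxz]
    module
  have h1 := M.mul_mem (M.mul_mem hT h) (M.inv_mem hT)
  rw [eich_conj hqv hvx, e1, e2] at h1
  have hqvs : q (v - s) = 0 := by
    rw [sub_eq_add_neg, QuadraticMap.map_add ⇑q, QuadraticMap.map_neg, polar_neg_right, hqv, hqs, hvs]
    simp
  have hvsx : polar q (v - s) x = 0 := by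
    rw [polar_sub_left, hvx, polar_comm (f := ⇑q) s x, hxs, sub_zero]
  rw [eich_swap hqvs hqx hvsx] at h1
  rw [eich_swap hqv hqx hvx] at h
  have hxv : polar q x (-v) = 0 := by rw [polar_neg_right, polar_comm, hvx, neg_zero]
  have h2 : eich q x s ∈ M := by
    have h3 : eich q x (-(v - s)) = eich q x s * eich q x (-v) := by
      rw [eich_add hqx hxs hxv, neg_sub, sub_eq_add_neg]
    rw [h3] at h1
    simpa using M.mul_mem h1 (M.inv_mem h)
  rw [eich_swap hqx hqs hxs, hx, neg_add] at h2
  have hsx₁ : polar q s (-x₁) = 0 := by rw [polar_neg_right, P.polar_same hs hx₁, neg_zero]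
  have hsx₂ : polar q s (-x₂) = 0 := by rw [polar_neg_right, polar_comm, hs'.2, neg_zero]
  rw [← eich_add hqs hsx₁ hsx₂] at h2
  have h4 := M.mul_mem h2 (M.inv_mem (hle (P.mixed_mem hij hs ((D j).neg_mem hx₂) hsx₂)))
  rw [mul_inv_cancel_right] at h4
  refine P.full_of_one hle hij hs ((D i).neg_mem hx₁) (fun h0 => hsn (by rw [h0]; exact Submodule.zero_mem _))
    (fun hin => ?_) h4
  obtain ⟨c, hc⟩ := Submodule.mem_span_singleton.1 hin
  have hc0 : c ≠ 0 := fun h0 => hx0 (by rw [← neg_eq_zero, ← hc, h0, zero_smul])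
  refine hsn (Submodule.mem_span_pair.2 ⟨0, -c⁻¹, ?_⟩)
  rw [zero_smul, zero_add, neg_smul, ← smul_neg, ← hc, inv_smul_smul₀ hc0]

omit hle

/-- The stabilizer of the pair is maximal in `Ω`. -/
theorem Pair.maximal (hke : Even k) :
    Cfsg.Geo.IsMaximalIn (commutator (O q)) (pairStab q D ⊓ commutator (O q)) := by
  classical
  have hn7 : 7 ≤ Fintype.card ι := by have := P.thirteen; omega
  have h01 : (0 : Fin 2) ≠ 1 := by decide
  refine ⟨lt_of_le_of_ne inf_le_right fun he => ?_, fun M hle hMC => ?_⟩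
  · obtain ⟨u, hu, hu0⟩ := Decomp.exists_ne_zero P.decomp 0
    obtain ⟨w, hw, hwn⟩ := SetLike.not_le_iff_exists.1 (show ¬ D 0 ≤ Submodule.span F ({u} : Set (ι → F)) from
      fun hle' => by
        have h1 := Submodule.finrank_mono hle'
        rw [finrank_span_singleton hu0, P.decomp.finrank_eq] at h1
        have := P.five
        omega)
    obtain ⟨z, hz, huz, -⟩ := P.sep h01 (T := ⊥) bot_le hu (by simpa using hu0)
    have hqu := P.singular 0 u hu
    have huw := P.polar_same hu hw
    have hmem : eich q u w ∈ pairStab q D ⊓ commutator (O q) := by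
      rw [he]; exact eich_mem P.nondeg hn7 hqu huw
    obtain ⟨σ, hσ⟩ := mem_decompositionStabilizer.1 hmem.1
    have h1 : app (eich q u w) z ∈ D (σ 1) := by
      rw [← hσ 1]
      exact ⟨z, hz, Matrix.toLin'_apply _ _⟩
    rw [app_eich hqu huw, polar_comm (f := ⇑q) z u, huz, one_smul] at h1
    set c := -polar q z w - q w * 1
    rcases (show σ 1 = 0 ∨ σ 1 = 1 by omega) with h | h <;> rw [h] at h1
    · have h2 : z ∈ D 0 := by
        have h3 := (D 0).sub_mem ((D 0).sub_mem h1 ((D 0).smul_mem c hu)) hw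
        rwa [add_sub_cancel_right, add_sub_cancel_right] at h3
      have h4 := P.disjoint h01 h2 hz
      rw [h4, polar_zero_right] at huz
      exact zero_ne_one huz
    · have h2 := (D 1).sub_mem h1 hz
      rw [add_assoc, add_sub_cancel_left] at h2
      have h4 := P.disjoint h01 ((D 0).add_mem hw ((D 0).smul_mem c hu)) h2
      exact hwn (Submodule.mem_span_singleton.2 ⟨-c, by rw [neg_smul, ← eq_neg_of_add_eq_zero_left h4]⟩)
  by_cases hall : M ≤ pairStab q D
  · exact Or.inl (le_antisymm (le_inf hall hMC) hle)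
  right
  refine le_antisymm hMC ?_
  obtain ⟨g, hgM, hg⟩ := SetLike.not_le_iff_exists.1 hall
  let C : Fin 2 → (ι → F) →ₗ[F] (ι → F) := Decomp.comp P.decomp
  obtain ⟨a, c, hac, u, hu, b, hb, hub, i, hi0, hin⟩ : ∃ a c : Fin 2, a ≠ c ∧ ∃ u ∈ D a, ∃ b ∈ D c,
      polar q b u = 0 ∧ ∃ i, C i (app g u) ≠ 0 ∧ C i (app g b) ∉ Submodule.span F {C i (app g u)} := by
    by_contra hno
    push Not at hno
    apply hg
    apply Decomp.mem_stabilizer_of_image P.decomp
    intro a
    obtain ⟨c, hac⟩ : ∃ c : Fin 2, a ≠ c := ⟨a + 1, by omega⟩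
    have hone : ∀ u ∈ D a, C 0 (app g u) = 0 ∨ C 1 (app g u) = 0 := by
      intro u hu
      by_contra h
      push Not at h
      have hle' : (D c ⊓ OrthTools.orth q (Submodule.span F ({u, u} : Set (ι → F)))).map (app g) ≤
          Submodule.span F ({C 0 (app g u), C 1 (app g u)} : Set (ι → F)) := by
        rintro _ ⟨b, ⟨hb, hb'⟩, rfl⟩
        rw [SetLike.mem_coe, mem_orth_pair] at hb'
        have hbu : polar q b u = 0 := by rw [polar_comm]; exact hb'.1
        obtain ⟨r, hr⟩ := Submodule.mem_span_singleton.1 (hno a c hac u hu b hb hbu 0 h.1)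
        obtain ⟨r', hr'⟩ := Submodule.mem_span_singleton.1 (hno a c hac u hu b hb hbu 1 h.2)
        refine Submodule.mem_span_pair.2 ⟨r, r', ?_⟩
        rw [hr, hr']
        have := Decomp.sum_comp P.decomp (app g b)
        rwa [Fin.sum_univ_two] at this
      have h1 := Submodule.finrank_mono hle'
      rw [← (Submodule.equivMapOfInjective _ (app_injective g) _).finrank_eq] at h1
      have h2 := finrank_pair_le (F := F) (C 0 (app g u)) (C 1 (app g u))
      have h3 := P.finrank_inf_orth (i := c) u u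
      have := P.five
      omega
    by_cases h0 : ∀ u ∈ D a, C 1 (app g u) = 0
    · exact ⟨0, fun v hv => Decomp.mem_of_comp_eq_zero P.decomp fun l hl => by
        rw [show l = 1 by omega]; exact h0 v hv⟩
    push Not at h0
    obtain ⟨u', hu', hu1⟩ := h0
    refine ⟨1, fun v hv => Decomp.mem_of_comp_eq_zero P.decomp fun l hl => ?_⟩
    rw [show l = 0 by omega]
    show C 0 (app g v) = 0
    have hu0 := (hone u' hu').resolve_right hu1
    rcases hone v hv with h | h
    · exact h
    have := hone (u' + v) ((D a).add_mem hu' hv)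
    rw [map_add, map_add, map_add, hu0, h, zero_add, add_zero] at this
    exact this.resolve_right hu1
  obtain ⟨j, hij⟩ : ∃ j : Fin 2, i ≠ j := ⟨i + 1, by omega⟩
  have hqu := P.singular a u hu
  have hqb := P.singular c b hb
  have hline : eich q (app g b) (app g u) ∈ M := by
    rw [← eich_conj hqb hub]
    exact M.mul_mem (M.mul_mem hgM (hle (P.mixed_mem hac.symm hb hu hub))) (M.inv_mem hgM)
  have hsum : ∀ y, y = C i y + C j y := fun y => by
    have := Decomp.sum_comp P.decomp y
    rw [Fin.sum_univ_two] at this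
    rcases (show (i = 0 ∧ j = 1) ∨ (i = 1 ∧ j = 0) by omega) with ⟨rfl, rfl⟩ | ⟨rfl, rfl⟩
    · exact this.symm
    · rw [add_comm]; exact this.symm
  have hfi := P.full_of_line hle hij (by rw [Q_app, hqb]) (by rw [Q_app, hqu]) (by rw [polar_app, hub])
    (Decomp.comp_mem _ i _) (Decomp.comp_mem _ j _) (Decomp.comp_mem _ i _) (Decomp.comp_mem _ j _)
    (hsum (app g b)) (hsum (app g u)) hi0 hin hline
  obtain ⟨r, hr, hr0, hr1⟩ := P.exists_swap hke
  obtain ⟨y, hy, hy0⟩ := Decomp.exists_ne_zero P.decomp i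
  obtain ⟨z, hz, hyz, -⟩ := P.sep hij (T := ⊥) bot_le hy (by simpa using hy0)
  have hback : app r⁻¹ z ∈ D i := by
    obtain ⟨σ, hσ⟩ := mem_decompositionStabilizer.1 hr.1
    have hij' : (σ i = j) := by
      have h1 : app r y ∈ D j := by
        rcases (show (i = 0 ∧ j = 1) ∨ (i = 1 ∧ j = 0) by omega) with ⟨rfl, rfl⟩ | ⟨rfl, rfl⟩
        · exact hr0 y hy
        · exact hr1 y hy
      by_contra hne
      have h2 : app r y ∈ D i := by
        rw [← show σ i = i by omega, ← hσ i]
        exact ⟨y, hy, Matrix.toLin'_apply _ _⟩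
      exact hy0 (app_injective r (by rw [map_zero]; exact P.disjoint hij h2 h1))
    rw [← hij', ← hσ i] at hz
    obtain ⟨z', hz', rfl⟩ := hz
    rw [Matrix.toLin'_apply]
    show app r⁻¹ (app r z') ∈ D i
    rwa [app_inv_app]
  have hfz : Full M z := by
    have := full_conj (hle hr) (hfi _ hback)
    rwa [app_app_inv] at this
  exact commutator_le_of_pair P.nondeg hn7 hfz (hfi y hy) (by rw [hyz]; exact one_ne_zero)

omit P

/-- Maximality inside the orthogonal group gives maximality inside the linear group. -/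
theorem maximal_transport {Q : (ι → F) → F} (hQ : Cfsg.Geo.IsNondegenerateQuadraticForm Q)
    {S : Subgroup (GL ι F)}
    (h : Cfsg.Geo.IsMaximalIn (commutator (O (quadOf hQ)))
      (S.comap (O (quadOf hQ)).subtype ⊓ commutator (O (quadOf hQ)))) :
    Cfsg.Geo.IsMaximalIn (Cfsg.Geo.omegaGL Q) (S ⊓ Cfsg.Geo.omegaGL Q) := by
  set i := (O (quadOf hQ)).subtype with hi
  have hinj : Function.Injective i := Subtype.val_injective
  have hΩ : Cfsg.Geo.omegaGL Q = (commutator (O (quadOf hQ))).map i := rfl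
  have hH : S ⊓ Cfsg.Geo.omegaGL Q = (S.comap i ⊓ commutator (O (quadOf hQ))).map i := by
    rw [hΩ, Subgroup.map_inf _ _ _ hinj, Subgroup.map_comap_eq, inf_comm i.range, inf_assoc,
      inf_eq_right.2 (Subgroup.map_le_range i _)]
  rw [hH, hΩ]
  refine ⟨lt_of_le_of_ne (Subgroup.map_mono h.1.le) fun e => h.1.ne (Subgroup.map_injective hinj e),
    fun M h1 h2 => ?_⟩
  have h3 : M = (M.comap i).map i := by
    rw [Subgroup.map_comap_eq, inf_eq_right.2 (h2.trans (Subgroup.map_le_range i _))]
  rcases h.2 (M.comap i) (Subgroup.map_le_iff_le_comap.1 h1)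
    (by rw [← Subgroup.map_le_map_iff_of_injective hinj, ← h3]; exact h2) with h' | h'
  · left; rw [h3, h']
  · right; rw [h3, h']

end CfsgLib.GeomClasses.OrthPair
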