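import Cfsg.Agent.Lib.GeomClasses.FrameSmall
import Cfsg.Agent.Lib.GeomClasses.OrthPair

/-!
Stabilizers of orthonormal frames over prime fields are maximal in `Ω`.
-/

set_option autoImplicit false
set_option linter.unusedSectionVars false

namespace CfsgLib.GeomClasses.Frame

open Matrix QuadraticMap CfsgLib.Orth CfsgLib.GeomClasses.OrthEich CfsgLib.GeomClasses.OrthPair
  CfsgLib.Maximal.TensorTools

variable {ι : Type} [Fintype ι] [DecidableEq ι] {F : Type*} [Field F] [Fintype F]
  {q : QuadraticForm F (ι → F)} {t : ℕ} {D : Fin t → Submodule F (ι → F)}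

/-- An orthogonal decomposition into isometric lines has a frame. -/
theorem exists_frame (hq : q.polarBilin.Nondegenerate) (h2 : (2 : F) ≠ 0) (hn : 2 ≤ Fintype.card ι)
    (hD : Cfsg.Geo.IsMDecomposition 1 D) (horth : ∀ i j, i ≠ j → ∀ x ∈ D i, ∀ y ∈ D j, polar q x y = 0)
    (hblock : ∀ i, ∀ x ∈ D i, x ≠ 0 → ∃ y ∈ D i, polar q x y ≠ 0)
    (hisom : ∀ i j, ∃ e : D i ≃ₗ[F] D j, ∀ x : D i, q (e x : ι → F) = q (x : ι → F)) :
    ∃ (b : Fin t → ι → F) (c : F), IsFrame q b c ∧ ∀ i, D i = Submodule.span F {b i} := by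
  have hcard : Fintype.card ι = t := by
    have e := (LinearEquiv.ofBijective (DirectSum.coeLinearMap D) (Decomp.isInternal hD)).finrank_eq
    rw [Module.finrank_directSum, Module.finrank_fintype_fun_eq_card] at e
    simpa [hD.finrank_eq] using e.symm
  let i₀ : Fin t := ⟨0, by omega⟩
  obtain ⟨a, ha, ha0⟩ := Submodule.exists_mem_ne_zero_of_ne_bot (p := D i₀) fun hb => by
    have := hD.finrank_eq i₀
    rw [hb, finrank_bot] at this
    omega
  have hspan : ∀ i, ∀ z ∈ D i, z ≠ 0 → D i = Submodule.span F {z} := fun i z hz hz0 =>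
    (Submodule.eq_of_le_of_finrank_eq ((Submodule.span_singleton_le_iff_mem _ _).2 hz)
      (by rw [finrank_span_singleton hz0, hD.finrank_eq])).symm
  choose e he using fun i => hisom i₀ i
  let b : Fin t → ι → F := fun i => (e i ⟨a, ha⟩ : D i)
  have hb : ∀ i, b i ∈ D i := fun i => (e i ⟨a, ha⟩).2
  have hb0 : ∀ i, b i ≠ 0 := fun i h0 => ha0 (by
    have : e i ⟨a, ha⟩ = 0 := Subtype.ext h0
    rw [LinearEquiv.map_eq_zero_iff] at this
    exact congrArg Subtype.val this)
  have hc : q a ≠ 0 := fun hqa => by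
    obtain ⟨y, hy, hay⟩ := hblock i₀ a ha ha0
    rw [hspan i₀ a ha ha0] at hy
    obtain ⟨s, rfl⟩ := Submodule.mem_span_singleton.1 hy
    exact hay (by rw [polar_smul_right, polar_self', hqa]; simp)
  refine ⟨b, q a, ⟨hq, h2, hc, fun i => he i ⟨a, ha⟩, fun i j hij => horth i j hij _ (hb i) _ (hb j), hcard⟩,
    fun i => hspan i _ (hb i) (hb0 i)⟩

variable {b : Fin t → ι → F} {c : F}

/-- The stabilizer of a frame inside `Ω`. -/
def Hgrp (q : QuadraticForm F (ι → F)) (D : Fin t → Submodule F (ι → F)) : Subgroup (O q) :=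
  (Cfsg.Geo.decompositionStabilizer D).comap (O q).subtype ⊓ commutator (O q)

variable (h : IsFrame q b c) (hD : Cfsg.Geo.IsMDecomposition 1 D) (hspan : ∀ i, D i = Submodule.span F {b i})
include h hD hspan

theorem IsFrame.mem_Hgrp_iff {g : O q} : g ∈ Hgrp q D ↔ Mono b g ∧ g ∈ commutator (O q) := by
  refine ⟨fun hg => ⟨?_, hg.2⟩, fun hg => ⟨Decomp.mem_stabilizer_of_image hD fun i => ?_, hg.2⟩⟩
  · obtain ⟨σ, hσ⟩ := hg.1
    intro i
    refine ⟨σ i, ?_⟩
    have hm : app g (b i) ∈ D (σ i) := by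
      rw [← hσ i]
      exact ⟨b i, by rw [hspan]; exact Submodule.mem_span_singleton_self _, by rw [Matrix.toLin'_apply]; rfl⟩
    rw [hspan] at hm
    obtain ⟨s, hs⟩ := Submodule.mem_span_singleton.1 hm
    have h1 : q (app g (b i)) = c := by rw [Q_app, h.val]
    rw [← hs, QuadraticMap.map_smul, h.val, smul_eq_mul] at h1
    rcases mul_self_eq_one_iff.1 (mul_right_cancel₀ h.c_ne (by rw [one_mul]; exact h1) : s * s = 1) with e | e
    · left; rw [← hs, e, one_smul]
    · right; rw [← hs, e, neg_one_smul]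
  · obtain ⟨j, hj⟩ := hg.1 i
    refine ⟨j, fun v hv => ?_⟩
    rw [hspan] at hv
    obtain ⟨s, rfl⟩ := Submodule.mem_span_singleton.1 hv
    change app g (s • b i) ∈ D j
    rw [map_smul, hspan]
    refine Submodule.smul_mem _ _ ?_
    rcases hj with e | e <;> rw [e]
    · exact Submodule.mem_span_singleton_self _
    · exact Submodule.neg_mem _ (Submodule.mem_span_singleton_self _)

theorem IsFrame.hasGens (hn : 7 ≤ Fintype.card ι) : HasGens b (Hgrp q D) := by
  refine ⟨fun i j _ => ?_, fun i j k l hij hkl => ?_⟩ <;> rw [h.mem_Hgrp_iff hD hspan]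
  · exact ⟨mono_mul (h.mono_refl_b i) (h.mono_refl_b j),
      pair_mem h.nondeg hn (by rw [h.val]; exact h.c_ne) (by rw [h.val, h.val])⟩
  · exact ⟨mono_mul (h.mono_swap hij) (h.mono_swap hkl),
      pair_mem h.nondeg hn (by rw [h.q_diff hij]; exact h.two_c) (by rw [h.q_diff hij, h.q_diff hkl])⟩

/-- The stabilizer of a frame is maximal. -/
theorem IsFrame.maximal' (p : ℕ) [Fact p.Prime] [CharP F p] (hp : Nat.card F = p) (hn : t = 7 ∨ 9 ≤ t) :
    Cfsg.Geo.IsMaximalIn (commutator (O q)) (Hgrp q D) := by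
  classical
  have hn7 : 7 ≤ Fintype.card ι := by rw [h.card_eq]; omega
  refine ⟨lt_of_le_of_ne inf_le_right fun he => ?_, fun M hle hM => ?_⟩
  · let i : Fin 7 → Fin t := fun k => ⟨k.val, by omega⟩
    have hi : Function.Injective i := fun a d e => Fin.ext (by simpa [i] using e)
    set u := b (i 0) + b (i 1) + b (i 2) + b (i 3) with hu
    set u' := b (i 3) + b (i 4) + b (i 5) + b (i 6) with hu'
    have hne : ∀ a d, a ≠ d → polar q (b (i a)) (b (i d)) = 0 := fun a d had => h.orth _ _ (hi.ne had)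
    have hqu : q u = 4 * c := by
      simp [hu, QuadraticMap.map_add ⇑q, polar_add_left, hne, h.val]
      ring
    have hqu' : q u' = 4 * c := by
      simp [hu', QuadraticMap.map_add ⇑q, polar_add_left, hne, h.val]
      ring
    have h4 : (4 : F) * c ≠ 0 := by
      rw [show (4 : F) = 2 * 2 by norm_num]
      exact mul_ne_zero (mul_ne_zero h.two h.two) h.c_ne
    have hmem := he.ge (pair_mem h.nondeg hn7 (a := u) (b := u') (by rw [hqu]; exact h4) (by rw [hqu, hqu']))
    obtain ⟨j, hj⟩ := ((h.mem_Hgrp_iff hD hspan).1 hmem).1 (i 0)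
    have e0 : app (refl q u * refl q u') (b (i 0)) = b (i 0) - ((4 * c)⁻¹ * (2 * c)) • u := by
      have e1 : polar q (b (i 0)) u = 2 * c := by
        simp [hu, polar_add_right, hne, polar_self', h.val]
      have e2 : app (refl q u') (b (i 0)) = b (i 0) :=
        app_refl_of_ortho (by simp [hu', polar_add_right, hne])
      rw [app_mul, e2, app_refl, hqu, e1]
    have hco : ∀ l : Fin 7, (l = 0 ∨ l = 1) → co q b c (i l) (app (refl q u * refl q u') (b (i 0))) ≠ 0 := by
      intro l hl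
      rw [e0, co_sub, co_smul, hu, co_add, co_add, co_add]
      have h2 : (4 * c)⁻¹ * (2 * c) = (2 : F)⁻¹ := by
        rw [show (4 : F) = 2 * 2 by norm_num]
        field_simp [h.two, h.c_ne]
      rw [h2]
      rcases hl with rfl | rfl <;> simp [h.co_b, hi.eq_iff, h.two]
      intro e
      exact one_ne_zero (α := F) (by field_simp [h.two] at e; linear_combination e)
    have h01 : i 0 ≠ i 1 := hi.ne (by simp)
    rcases eq_or_ne (i 0) j with e | e
    · refine hco 1 (Or.inr rfl) ?_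
      rcases hj with e' | e' <;> rw [e'] <;> simp [co_neg, h.co_b_ne (show j ≠ i 1 from e ▸ h01)]
    · refine hco 0 (Or.inl rfl) ?_
      rcases hj with e' | e' <;> rw [e'] <;> simp [co_neg, h.co_b_ne (Ne.symm e)]
  · by_cases hM' : M ≤ Hgrp q D
    · exact Or.inl (le_antisymm hM' hle)
    obtain ⟨g, hgM, hg⟩ := SetLike.not_le_iff_exists.1 hM'
    have hgens := h.hasGens hD hspan hn7
    exact Or.inr (le_antisymm hM (h.commutator_le_of_not_mono' (X := M)
      ⟨fun i j hij => hle (hgens.signs i j hij), fun i j k l hij hkl => hle (hgens.perms i j k l hij hkl)⟩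
      p hp hn hgM fun hm => hg ((h.mem_Hgrp_iff hD hspan).2 ⟨hm, hM hgM⟩)))

omit h hD hspan in
/-- Maximality inside the matrix group. -/
theorem maximal_omegaGL' {Q : (ι → F) → F} (hQ : Cfsg.Geo.IsNondegenerateQuadraticForm Q) (h2 : (2 : F) ≠ 0)
    (hn : Fintype.card ι = 7 ∨ 9 ≤ Fintype.card ι) (hprime : (Fintype.card F).Prime)
    (hD : Cfsg.Geo.IsOrthogonalMDecomposition Q 1 D) :
    Cfsg.Geo.IsMaximalIn (Cfsg.Geo.omegaGL Q) (Cfsg.Geo.decompositionStabilizer D ⊓ Cfsg.Geo.omegaGL Q) := by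
  have hq := OrthTools.quadOf_nondegenerate hQ
  obtain ⟨b, c, hfr, hspan⟩ := exists_frame hq h2 (by omega) hD.decomp.decomp
    (fun i j hij x hx y hy => hD.decomp.orthogonal i j hij x hx y hy)
    (fun i x hx hx0 => (hD.decomp.nondegenerate i x hx hx0).2) hD.isometric
  obtain ⟨r, hchar⟩ := CharP.exists F
  obtain ⟨e, hr, hre⟩ := FiniteField.card F r
  have hcard : Nat.card F = r := by
    rw [Nat.card_eq_fintype_card, hre]
    rw [hre] at hprime
    rw [Nat.Prime.eq_one_of_pow hprime, pow_one]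
  have : Fact r.Prime := ⟨hr⟩
  have ht : t = 7 ∨ 9 ≤ t := by rw [← hfr.card_eq]; exact hn
  have hmax := hfr.maximal' hD.decomp.decomp hspan r hcard ht
  exact OrthPair.maximal_transport hQ hmax

omit h hD hspan in
/-- Maximality inside the matrix group, at least thirteen frame vectors. -/
theorem maximal_omegaGL {Q : (ι → F) → F} (hQ : Cfsg.Geo.IsNondegenerateQuadraticForm Q) (h2 : (2 : F) ≠ 0)
    (h13 : 13 ≤ Fintype.card ι) (hprime : (Fintype.card F).Prime)
    (hD : Cfsg.Geo.IsOrthogonalMDecomposition Q 1 D) :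
    Cfsg.Geo.IsMaximalIn (Cfsg.Geo.omegaGL Q) (Cfsg.Geo.decompositionStabilizer D ⊓ Cfsg.Geo.omegaGL Q) :=
  maximal_omegaGL' hQ h2 (Or.inr (by omega)) hprime hD

end CfsgLib.GeomClasses.Frame
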