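import Cfsg.Agent.Lib.GeomClasses.FrameRoots
import Cfsg.Agent.Lib.GeomClasses.SphereAll

/-!
Roots of a group containing the frame generators: changes of sign, a first short root, and planes through a root.
-/

set_option autoImplicit false
set_option linter.unusedSectionVars false

namespace CfsgLib.GeomClasses.Frame

open QuadraticMap CfsgLib.Orth CfsgLib.GeomClasses

variable {ι : Type} [Fintype ι] [DecidableEq ι] {F : Type*} [Field F]
  {q : QuadraticForm F (ι → F)} {n : ℕ} {b : Fin n → ι → F} {c : F}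

variable (h : IsFrame q b c) {X : Subgroup (O q)} (hX : HasGens b X)
include h

theorem IsFrame.eq_of_supp_one {f : ι → F} (hf : q f = c) (hc : (supp q b c f).card ≤ 1) :
    ∃ j, f = b j ∨ f = -b j := by
  classical
  obtain ⟨j, hj⟩ : (supp q b c f).Nonempty := by
    by_contra he
    rw [Finset.not_nonempty_iff_eq_empty] at he
    have h1 := h.sum_sq hf
    rw [Finset.sum_eq_zero fun i _ => ?_] at h1
    · exact zero_ne_one h1
    · rw [notMem_supp.1 (by rw [he]; simp), zero_pow two_ne_zero]
  have hout : ∀ i, i ≠ j → co q b c i f = 0 := fun i hi =>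
    notMem_supp.1 fun hi' => hi (Finset.card_le_one.1 hc i hi' j hj)
  refine ⟨j, ?_⟩
  have h1 := h.sum_sq hf
  rw [Finset.sum_eq_single j (fun i _ hi => by rw [hout i hi, zero_pow two_ne_zero]) (by simp), pow_two] at h1
  rcases mul_self_eq_one_iff.1 h1 with e | e
  · left
    refine h.ext_co fun i => ?_
    rcases eq_or_ne i j with rfl | hi
    · rw [e, h.co_b_self]
    · rw [hout i hi, h.co_b_ne (Ne.symm hi)]
  · right
    refine h.ext_co fun i => ?_
    rcases eq_or_ne i j with rfl | hi
    · rw [e, co_neg, h.co_b_self]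
    · rw [hout i hi, co_neg, h.co_b_ne (Ne.symm hi), neg_zero]

theorem IsFrame.sum_sq_supp {f : ι → F} (hf : q f = c) : ∑ i ∈ supp q b c f, co q b c i f ^ 2 = 1 := by
  rw [← h.sum_sq hf]
  exact Finset.sum_subset (Finset.subset_univ _) fun i _ hi => by rw [notMem_supp.1 hi, zero_pow two_ne_zero]

include hX

/-- Signs do not matter. -/
theorem IsFrame.phi_of_sq {f g : ι → F} (hg : Phi q b c X g)
    (hsq : ∀ i, co q b c i f ^ 2 = co q b c i g ^ 2) : Phi q b c X f := by
  classical
  have e : f = app (h.sgn (Finset.univ.filter fun i => co q b c i f ≠ co q b c i g)) g := by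
    refine h.ext_co fun i => ?_
    rw [h.co_sgn]
    split_ifs with hi
    · simp only [Finset.mem_filter, Finset.mem_univ, true_and] at hi
      exact ((sq_eq_sq_iff_eq_or_eq_neg).1 (hsq i)).resolve_left hi
    · simpa using hi
  rw [e]
  exact h.phi_flip hX hg _

/-- A root reflected in the same root with some signs changed. -/
theorem IsFrame.flip_refl {f : ι → F} (hf : Phi q b c X f) (K : Finset (Fin n)) :
    ∃ g, Phi q b c X g ∧ ∀ i, co q b c i g = (if i ∈ K then 4 * (∑ l ∈ K, co q b c l f ^ 2) - 3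
      else 4 * (∑ l ∈ K, co q b c l f ^ 2) - 1) * co q b c i f := by
  classical
  refine ⟨app (refl q f) (app (h.sgn K) f), h.phi_refl hf (h.phi_flip hX hf K), fun i => ?_⟩
  have hip : ip q c (app (h.sgn K) f) f = 1 - 2 * ∑ l ∈ K, co q b c l f ^ 2 := by
    rw [h.ip_eq_sum, ← h.sum_sq hf.1, Finset.mul_sum, eq_sub_iff_add_eq,
      show ∑ l ∈ K, 2 * co q b c l f ^ 2 = ∑ l : Fin n, if l ∈ K then 2 * co q b c l f ^ 2 else 0 by
        rw [Finset.sum_ite_mem, Finset.univ_inter], ← Finset.sum_add_distrib]
    refine Finset.sum_congr rfl fun l _ => ?_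
    rw [h.co_sgn]
    split_ifs <;> ring
  rw [h.co_refl_unit hf.1, hip, h.co_sgn]
  split_ifs <;> ring

/-- A set with square sum a quarter carries a root. -/
theorem IsFrame.flip_keep {f : ι → F} (hf : Phi q b c X f) {K : Finset (Fin n)}
    (hK : 4 * ∑ l ∈ K, co q b c l f ^ 2 = 1) : ∃ g, Phi q b c X g ∧ supp q b c g = supp q b c f ∩ K ∧
      ∀ i ∈ K, co q b c i g = -(2 * co q b c i f) := by
  classical
  obtain ⟨g, hg, hco⟩ := h.flip_refl hX hf K
  refine ⟨g, hg, ?_, fun i hi => by rw [hco, if_pos hi, hK]; ring⟩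
  ext i
  rw [Finset.mem_inter, mem_supp, mem_supp, hco, hK]
  by_cases hi : i ∈ K <;> simp [hi, show (1 : F) - 3 = -2 by ring, h.two]

/-- A set with square sum three quarters can be dropped. -/
theorem IsFrame.flip_drop {f : ι → F} (hf : Phi q b c X f) {K : Finset (Fin n)}
    (hK : 4 * ∑ l ∈ K, co q b c l f ^ 2 = 3) : ∃ g, Phi q b c X g ∧ supp q b c g = supp q b c f \ K ∧
      ∀ i ∉ K, co q b c i g = 2 * co q b c i f := by
  classical
  obtain ⟨g, hg, hco⟩ := h.flip_refl hX hf K
  refine ⟨g, hg, ?_, fun i hi => by rw [hco, if_neg hi, hK]; ring⟩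
  ext i
  rw [Finset.mem_sdiff, mem_supp, mem_supp, hco, hK]
  by_cases hi : i ∈ K <;> simp [hi, show (3 : F) - 1 = 2 by ring, h.two]

/-- A root on two frame vectors which is no long root gives one on three. -/
theorem IsFrame.supp_two_step (hn : 4 ≤ n) {f : ι → F} (hf : Phi q b c X f) {i j : Fin n} (hij : i ≠ j)
    (hs : supp q b c f = {i, j}) (hne : 2 * co q b c j f ^ 2 ≠ 1) :
    ∃ g, Phi q b c X g ∧ (supp q b c g).card = 3 := by
  classical
  obtain ⟨k, hk⟩ := exists_outside (S := ({i, j} : Finset (Fin n))) (by rw [Finset.card_pair hij]; omega)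
  simp only [Finset.mem_insert, Finset.mem_singleton, not_or] at hk
  set σ := Equiv.swap i j * Equiv.swap j k with hσ
  have hout : ∀ l, l ≠ i → l ≠ j → co q b c l f = 0 := fun l h1 h2 => notMem_supp.1 (by rw [hs]; simp [h1, h2])
  have hi0 : co q b c i f ≠ 0 := mem_supp.1 (by rw [hs]; simp)
  have hj0 : co q b c j f ≠ 0 := mem_supp.1 (by rw [hs]; simp)
  set g := app (h.perm σ) f with hgdef
  have hg : Phi q b c X g := h.phi_perm hX hf (by rw [hs, Finset.card_pair hij]; omega) σ
  have hσs : ∀ l, σ.symm l = Equiv.swap j k (Equiv.swap i j l) := fun l => by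
    rw [Equiv.symm_apply_eq, hσ, Equiv.Perm.mul_apply, Equiv.swap_apply_self, Equiv.swap_apply_self]
  have gi : co q b c i g = 0 := by
    rw [hgdef, h.co_perm, hσs, Equiv.swap_apply_left, Equiv.swap_apply_left, hout k hk.1 hk.2]
  have gj : co q b c j g = co q b c i f := by
    rw [hgdef, h.co_perm, hσs, Equiv.swap_apply_right, Equiv.swap_apply_of_ne_of_ne hij (Ne.symm hk.1)]
  have gk : co q b c k g = co q b c j f := by
    rw [hgdef, h.co_perm, hσs, Equiv.swap_apply_of_ne_of_ne hk.1 hk.2, Equiv.swap_apply_right]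
  have gout : ∀ l, l ≠ i → l ≠ j → l ≠ k → co q b c l g = 0 := fun l h1 h2 h3 => by
    rw [hgdef, h.co_perm, hσs, Equiv.swap_apply_of_ne_of_ne h1 h2, Equiv.swap_apply_of_ne_of_ne h2 h3, hout l h1 h2]
  have hip : ip q c g f = co q b c i f * co q b c j f := by
    rw [ip_comm, h.ip_eq_sum_of (s := {i, j}) (fun l hl => by simp at hl; exact hout l hl.1 hl.2) g,
      Finset.sum_pair hij, gi, gj]
    ring
  refine ⟨app (refl q f) g, h.phi_refl hf hg, ?_⟩
  have e : supp q b c (app (refl q f) g) = {i, j, k} := by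
    ext l
    rw [mem_supp, h.co_refl_unit hf.1, hip]
    rcases eq_or_ne l i with rfl | h1
    · simp [gi, hi0, hj0, h.two]
    rcases eq_or_ne l j with rfl | h2
    · simp only [gj, Finset.mem_insert, true_or, or_true, iff_true]
      rw [show co q b c i f - 2 * (co q b c i f * co q b c l f) * co q b c l f =
        co q b c i f * (1 - 2 * co q b c l f ^ 2) by ring]
      exact mul_ne_zero hi0 (sub_ne_zero.2 (Ne.symm hne))
    rcases eq_or_ne l k with rfl | h3
    · simp [gk, hout l h1 h2, hj0]
    · simp [gout l h1 h2 h3, hout l h1 h2, h1, h2, h3]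
  rw [e, Finset.card_insert_of_notMem (by simp [hij, Ne.symm hk.1]), Finset.card_pair (Ne.symm hk.2)]

/-- An element fixing two lines which is no signed permutation gives a root that is no long root. -/
theorem IsFrame.exists_start (hn : 5 ≤ n) {x : O q} (hx : x ∈ X) {a a' : Fin n} (haa : a ≠ a')
    (ha : app x (b a) = b a ∨ app x (b a) = -b a) (ha' : app x (b a') = b a' ∨ app x (b a') = -b a')
    (hne : ¬ Mono b x) : ∃ f, Phi q b c X f ∧ 3 ≤ (supp q b c f).card ∧ (supp q b c f).card + 2 ≤ n := by
  classical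
  by_contra hc
  push Not at hc
  have hzero : ∀ d, (app x (b d) = b d ∨ app x (b d) = -b d) → ∀ g, co q b c d g = 0 →
      co q b c d (app x g) = 0 := fun d hd g hg => by
    have h1 : ip q c (app x g) (app x (b d)) = 0 := by rw [ip_app]; exact hg
    rcases hd with e | e <;> rw [e] at h1
    · exact h1
    · rwa [ip_neg_right, neg_eq_zero] at h1
  have hbad : ∀ g, Phi q b c X g → co q b c a g = 0 → co q b c a' g = 0 →
      (supp q b c (app x g)).card ≤ 2 := fun g hg hga hga' => by
    by_contra h2
    have hlt := hc _ (h.phi_move hX hg hx ha) (by omega)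
    have hsub : supp q b c (app x g) ⊆ ({a, a'} : Finset (Fin n))ᶜ := fun l hl => by
      simp only [Finset.mem_compl, Finset.mem_insert, Finset.mem_singleton, not_or]
      exact ⟨fun e => mem_supp.1 hl (e ▸ hzero a ha g hga), fun e => mem_supp.1 hl (e ▸ hzero a' ha' g hga')⟩
    have := Finset.card_le_card hsub
    rw [Finset.card_compl, Fintype.card_fin, Finset.card_pair haa] at this
    omega
  obtain ⟨i, hi⟩ := not_forall.1 hne
  push Not at hi
  have hia : ∀ d, (app x (b d) = b d ∨ app x (b d) = -b d) → i ≠ d := fun d hd e => by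
    subst e
    rcases hd with e' | e'
    · exact (hi i).1 e'
    · exact (hi i).2 e'
  have hia' : i ≠ a' := hia a' ha'
  have hia : i ≠ a := hia a ha
  set g := app x (b i) with hgdef
  have hgP : Phi q b c X g := h.phi_move hX (h.phi_b hX i) hx ha
  have hg2 : (supp q b c g).card = 2 := by
    have := hbad _ (h.phi_b hX i) (h.co_b_ne hia) (h.co_b_ne hia')
    by_contra h2
    obtain ⟨j, hj⟩ := h.eq_of_supp_one hgP.1 (by rw [← hgdef] at this; omega)
    rcases hj with e | e
    · exact (hi j).1 e
    · exact (hi j).2 e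
  obtain ⟨u, v, huv, hsupp⟩ := Finset.card_eq_two.1 hg2
  have hgu : co q b c u g ≠ 0 := mem_supp.1 (by rw [hsupp]; simp)
  have hgv : co q b c v g ≠ 0 := mem_supp.1 (by rw [hsupp]; simp)
  have hgout : ∀ l, l ≠ u → l ≠ v → co q b c l g = 0 := fun l h1 h2 =>
    notMem_supp.1 (by rw [hsupp]; simp [h1, h2])
  have hspecial : ∀ l ∈ ({u, v} : Finset (Fin n)), 2 * co q b c l g ^ 2 = 1 := by
    intro l hl
    by_contra h2
    obtain ⟨l', hl'⟩ : ∃ l', supp q b c g = {l', l} ∧ l' ≠ l := by
      rw [Finset.mem_insert, Finset.mem_singleton] at hl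
      rcases hl with rfl | rfl
      · exact ⟨v, by rw [hsupp, Finset.pair_comm], Ne.symm huv⟩
      · exact ⟨u, hsupp, huv⟩
    obtain ⟨g', hg', h3⟩ := h.supp_two_step hX (by omega) hgP hl'.2 hl'.1 h2
    have := hc g' hg' (by omega)
    omega
  have hsu := hspecial u (by simp)
  have hsv := hspecial v (by simp)
  set s := co q b c u g with hs
  have hcard : 1 < ({i, a, a'} : Finset (Fin n))ᶜ.card := by
    rw [Finset.card_compl, Fintype.card_fin]
    have := Finset.card_le_three (a := i) (b := a) (c := a')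
    omega
  obtain ⟨j, hj, j', hj', hjj⟩ := Finset.one_lt_card.1 hcard
  have hkey : ∀ j, j ≠ i → j ≠ a → j ≠ a' → co q b c u (app x (b j)) ≠ 0 ∧
      co q b c v (app x (b j)) * co q b c v g = -(s * co q b c u (app x (b j))) ∧
      ∀ l, l ≠ u → l ≠ v → co q b c l (app x (b j)) = 0 := by
    intro j hji hja hja'
    set y := app x (b j) with hy
    obtain ⟨σ, hσu, hσv⟩ : ∃ σ : Equiv.Perm (Fin n), σ u = i ∧ σ v = j := by
      refine ⟨Equiv.swap (Equiv.swap u i v) j * Equiv.swap u i, ?_, ?_⟩
      · rw [Equiv.Perm.mul_apply, Equiv.swap_apply_left, Equiv.swap_apply_of_ne_of_ne ?_ (Ne.symm hji)]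
        intro e
        exact huv ((Equiv.swap u i).injective (by rw [Equiv.swap_apply_left]; exact e))
      · rw [Equiv.Perm.mul_apply, Equiv.swap_apply_left]
    have hl : Phi q b c X (s • (b i + b j)) := by
      refine h.phi_of_sq hX (h.phi_perm hX hgP (by omega) σ) fun l => ?_
      rw [co_smul, co_add, h.co_perm, h.co_b, h.co_b]
      rcases eq_or_ne l i with rfl | hli
      · rw [if_pos rfl, if_neg hji, σ.symm_apply_eq.2 hσu.symm]; ring
      rcases eq_or_ne l j with rfl | hlj
      · rw [if_pos rfl, if_neg (Ne.symm hli), σ.symm_apply_eq.2 hσv.symm]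
        exact mul_left_cancel₀ h.two (by linear_combination hsu - hsv)
      · rw [if_neg (Ne.symm hli), if_neg (Ne.symm hlj), hgout]
        · ring
        · exact fun e => hli (by rw [← hσu, ← e, Equiv.apply_symm_apply])
        · exact fun e => hlj (by rw [← hσv, ← e, Equiv.apply_symm_apply])
    have himg : app x (s • (b i + b j)) = s • (g + y) := by rw [map_smul, map_add]
    have h2 := hbad _ hl (by rw [co_smul, co_add, h.co_b_ne hia, h.co_b_ne hja]; ring)
      (by rw [co_smul, co_add, h.co_b_ne hia', h.co_b_ne hja']; ring)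
    rw [himg] at h2
    have horth : s * co q b c u y + co q b c v g * co q b c v y = 0 := by
      have h1 : ip q c g y = 0 := by rw [hgdef, hy, ip_app, h.ip_b, if_neg (Ne.symm hji)]
      rwa [h.ip_eq_sum_of (s := {u, v}) (fun l hl => by simp at hl; exact hgout l hl.1 hl.2) y,
        Finset.sum_pair huv] at h1
    have hs0 : s ≠ 0 := hgu
    have hsum : ∀ l, co q b c l (s • (g + y)) = s * (co q b c l g + co q b c l y) := fun l => by
      rw [co_smul, co_add]
    have hyu : co q b c u y ≠ 0 := by
      intro e0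
      have e1 : co q b c v y = 0 := by
        rw [e0, mul_zero, zero_add] at horth
        exact (mul_eq_zero.1 horth).resolve_left hgv
      obtain ⟨w, hw⟩ : ∃ w, co q b c w y ≠ 0 := by
        by_contra hall
        push Not at hall
        have h1 := h.sum_sq (x := y) (by rw [hy, Q_app, h.val])
        simp [hall] at h1
      have hw1 : w ≠ u := fun e => hw (e ▸ e0)
      have hw2 : w ≠ v := fun e => hw (e ▸ e1)
      have : ({u, v, w} : Finset (Fin n)) ⊆ supp q b c (s • (g + y)) := by
        intro l hl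
        simp only [Finset.mem_insert, Finset.mem_singleton] at hl
        rw [mem_supp, hsum]
        rcases hl with rfl | rfl | rfl
        · rw [e0, add_zero]; exact mul_ne_zero hs0 hgu
        · rw [e1, add_zero]; exact mul_ne_zero hs0 hgv
        · rw [hgout l hw1 hw2, zero_add]; exact mul_ne_zero hs0 hw
      have := Finset.card_le_card this
      rw [Finset.card_insert_of_notMem (by simp [huv, Ne.symm hw1]), Finset.card_pair (Ne.symm hw2)] at this
      omega
    refine ⟨hyu, by linear_combination horth, fun l h1 h3 => ?_⟩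
    have hv0 : co q b c v y ≠ 0 := fun e => hyu (by
      rw [e, mul_zero, add_zero] at horth; exact (mul_eq_zero.1 horth).resolve_left hs0)
    have h4 := hbad _ (h.phi_b hX j) (h.co_b_ne hja) (h.co_b_ne hja')
    have h5 : ({u, v} : Finset (Fin n)) = supp q b c y :=
      Finset.eq_of_subset_of_card_le (fun l hl => by
        simp only [Finset.mem_insert, Finset.mem_singleton] at hl
        rw [mem_supp]
        rcases hl with rfl | rfl
        · exact hyu
        · exact hv0) (by rw [Finset.card_pair huv]; exact h4)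
    exact notMem_supp.1 (by rw [← h5]; simp [h1, h3])
  simp only [Finset.mem_compl, Finset.mem_insert, Finset.mem_singleton, not_or] at hj hj'
  obtain ⟨hy0, hy1, hy2⟩ := hkey j hj.1 hj.2.1 hj.2.2
  obtain ⟨hy0', hy1', -⟩ := hkey j' hj'.1 hj'.2.1 hj'.2.2
  have h1 : ip q c (app x (b j)) (app x (b j')) = 0 := by rw [ip_app, h.ip_b, if_neg hjj]
  rw [h.ip_eq_sum_of (s := {u, v}) (fun l hl => by simp at hl; exact hy2 l hl.1 hl.2), Finset.sum_pair huv] at h1
  refine mul_ne_zero hy0 hy0' (mul_left_cancel₀ h.two ?_)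
  rw [mul_zero]
  linear_combination h1 - co q b c u (app x (b j)) * co q b c u (app x (b j')) * hsu +
    co q b c v (app x (b j)) * co q b c v (app x (b j')) * hsv -
    2 * (co q b c v (app x (b j')) * co q b c v g) * hy1 +
    2 * (s * co q b c u (app x (b j))) * hy1'

section Plane

variable [Finite F] (p : ℕ) [Fact p.Prime] [CharP F p] (hcard : Nat.card F = p)
include hcard

omit hX [Finite F] hcard in
theorem IsFrame.co_vec (i j : Fin n) (u : ι → F) (x : Fin 3 → F) (l : Fin n) :
    co q b c l (x 0 • b i + x 1 • b j + x 2 • u) =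
      (if i = l then x 0 else 0) + (if j = l then x 1 else 0) + x 2 * co q b c l u := by
  rw [co_add, co_add, co_smul, co_smul, co_smul, h.co_b, h.co_b]
  split_ifs <;> ring

/-- A root in a plane with a third vector gives every unit vector of that three-space. -/
theorem IsFrame.plane_full (h5 : 5 ≤ p) {i j : Fin n} (hij : i ≠ j) {u : ι → F} (hi : co q b c i u = 0)
    (hj : co q b c j u = 0) (hN : ip q c u u ≠ 0) (hsupp : (supp q b c u).card + 4 ≤ n) {f : Fin 3 → F}
    (hf : Phi q b c X (f 0 • b i + f 1 • b j + f 2 • u)) (hz : f 2 ≠ 0) (hxy : f 0 ≠ 0 ∨ f 1 ≠ 0)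
    (hb₀ : ¬ (f 1 = 0 ∧ 2 * f 0 ^ 2 = 1)) (hb₁ : ¬ (f 0 = 0 ∧ 2 * f 1 ^ 2 = 1))
    (hb₂ : ¬ (4 * f 0 ^ 2 = 1 ∧ 4 * f 1 ^ 2 = 1)) (x : Fin 3 → F)
    (hx : SphereThree.ip3 (ip q c u u) x x = 1) : Phi q b c X (x 0 • b i + x 1 • b j + x 2 • u) := by
  classical
  set N := ip q c u u with hNdef
  let vec : (Fin 3 → F) → ι → F := fun x => x 0 • b i + x 1 • b j + x 2 • u
  have hip : ∀ x y, ip q c (vec x) (vec y) = SphereThree.ip3 N x y := fun x y => by
    have e1 : ip q c (b i) u = 0 := by rw [ip_comm]; exact hi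
    have e2 : ip q c (b j) u = 0 := by rw [ip_comm]; exact hj
    have e3 : ip q c u (b i) = 0 := hi
    have e4 : ip q c u (b j) = 0 := hj
    simp only [vec, ip_add_left, ip_add_right, ip_smul_left, ip_smul_right, h.ip_b, if_pos, if_neg hij,
      if_neg (Ne.symm hij), e1, e2, e3, e4, ← hNdef, SphereThree.ip3]
    ring
  have hR : SphereThree.IsRootSet N {x | Phi q b c X (vec x)} :=
    { unit := fun x hx => by rw [← hip]; exact (h.unit_iff _).1 hx.1
      refl := fun x hx y hy => by
        have h1 := h.phi_refl hx hy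
        rw [h.refl_unit hx.1, hip] at h1
        change Phi q b c X (vec _)
        convert h1 using 1
        simp only [vec, Pi.sub_apply, Pi.smul_apply, smul_eq_mul]
        module
      neg := fun x hx => by
        have h1 := h.phi_neg hx
        change Phi q b c X (vec _)
        convert h1 using 1
        simp only [vec, Pi.neg_apply]
        module
      e₀ := by
        change Phi q b c X (vec _)
        simpa [vec] using h.phi_b hX i
      e₁ := by
        change Phi q b c X (vec _)
        simpa [vec] using h.phi_b hX j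
      swap := fun x hx => by
        have hs : supp q b c (vec x) ⊆ insert i (insert j (supp q b c u)) := fun l hl => by
          rw [mem_supp, h.co_vec] at hl
          simp only [Finset.mem_insert, mem_supp]
          by_contra hc
          push Not at hc
          simp [hc.1.symm, hc.2.1.symm, hc.2.2] at hl
        have h1 := h.phi_perm hX hx (by
          have := Finset.card_le_card hs
          have := Finset.card_insert_le i (insert j (supp q b c u))
          have := Finset.card_insert_le j (supp q b c u)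
          omega) (Equiv.swap i j)
        change Phi q b c X (vec _)
        convert h1 using 1
        refine h.ext_co fun l => ?_
        rw [h.co_perm, Equiv.symm_swap, h.co_vec, h.co_vec]
        rcases eq_or_ne l i with rfl | hli
        · simp [hij, Ne.symm hij, hi, hj]
        rcases eq_or_ne l j with rfl | hlj
        · simp [hij, Ne.symm hij, hi, hj]
        · simp [Equiv.swap_apply_of_ne_of_ne hli hlj, Ne.symm hli, Ne.symm hlj] }
  exact SphereThree.full hR p h.two hN hcard h5 (f := f) hf hz hxy hb₀ hb₁ hb₂ x hx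

end Plane

/-- Four quarters give a root on five frame vectors. -/
theorem IsFrame.quarter_step (hn : 6 ≤ n) {f : ι → F} (hf : Phi q b c X f) (hc : (supp q b c f).card = 4)
    (hq : ∀ i ∈ supp q b c f, 4 * co q b c i f ^ 2 = 1) (h3 : (3 : F) ≠ 0) :
    ∃ g i₁ i₅, Phi q b c X g ∧ supp q b c g = insert i₅ (supp q b c f) ∧ i₁ ∈ supp q b c f ∧
      i₅ ∉ supp q b c f ∧ 16 * co q b c i₁ g ^ 2 = 9 ∧ 4 * co q b c i₅ g ^ 2 = 1 ∧
      ∀ l ∈ (supp q b c f).erase i₁, 16 * co q b c l g ^ 2 = 1 := by
  classical
  obtain ⟨i₁, hi₁⟩ : (supp q b c f).Nonempty := Finset.card_pos.1 (by omega)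
  obtain ⟨i₅, hi₅⟩ := exists_outside (S := supp q b c f) (by omega)
  have hne : i₁ ≠ i₅ := fun e => hi₅ (e ▸ hi₁)
  have hfi₅ : co q b c i₅ f = 0 := notMem_supp.1 hi₅
  set g := app (h.perm (Equiv.swap i₁ i₅)) f with hgdef
  have gco : ∀ l, co q b c l g = co q b c (Equiv.swap i₁ i₅ l) f := fun l => by
    rw [hgdef, h.co_perm, Equiv.symm_swap]
  have hip : 4 * ip q c g f = 3 := by
    rw [ip_comm, h.ip_eq_sum_of (s := supp q b c f) (fun l hl => notMem_supp.1 hl) g, ← Finset.sum_erase_add _ _ hi₁,
      gco i₁, Equiv.swap_apply_left, hfi₅, mul_zero, add_zero, Finset.mul_sum,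
      Finset.sum_congr rfl fun l hl => show 4 * (co q b c l f * co q b c l g) = 1 by
        obtain ⟨h1, h2⟩ := Finset.mem_erase.1 hl
        rw [gco, Equiv.swap_apply_of_ne_of_ne h1 (fun e => hi₅ (by rw [← e]; exact h2))]
        linear_combination hq l h2, Finset.sum_const, Finset.card_erase_of_mem hi₁, hc]
    norm_num
  refine ⟨app (refl q f) g, i₁, i₅, h.phi_refl hf (h.phi_perm hX hf (by omega) _), ?_, hi₁, hi₅, ?_, ?_, ?_⟩
  · ext l
    rw [mem_supp, h.co_refl_unit hf.1, gco, Finset.mem_insert, mem_supp]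
    rcases eq_or_ne l i₁ with rfl | h1
    · rw [Equiv.swap_apply_left, hfi₅]
      have : 2 * ip q c g f ≠ 0 := fun e => h3 (by linear_combination 2 * e - hip)
      simp [mem_supp.1 hi₁, this]
    rcases eq_or_ne l i₅ with rfl | h5
    · rw [Equiv.swap_apply_right, hfi₅]
      simp [mem_supp.1 hi₁]
    · rw [Equiv.swap_apply_of_ne_of_ne h1 h5]
      constructor
      · intro hne; right; intro e; apply hne; rw [e]; ring
      · rintro (e | hne)
        · exact absurd e h5
        · intro e; apply hne
          exact (mul_eq_zero.1 (show (1 - 2 * ip q c g f) * co q b c l f = 0 by linear_combination e)).resolve_left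
            fun e' => one_ne_zero (α := F) (by linear_combination -2 * e' - hip)
  · rw [h.co_refl_unit hf.1, gco, Equiv.swap_apply_left, hfi₅]
    linear_combination 4 * co q b c i₁ f ^ 2 * (4 * ip q c g f + 3) * hip + 9 * hq i₁ hi₁
  · rw [h.co_refl_unit hf.1, gco, Equiv.swap_apply_right, hfi₅]
    linear_combination hq i₁ hi₁
  · intro l hl
    obtain ⟨h1, h2⟩ := Finset.mem_erase.1 hl
    rw [h.co_refl_unit hf.1, gco, Equiv.swap_apply_of_ne_of_ne h1 (fun e => hi₅ (by rw [← e]; exact h2))]
    linear_combination hq l h2 + 4 * co q b c l f ^ 2 * (4 * ip q c g f - 1) * hip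

end CfsgLib.GeomClasses.Frame
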