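import Cfsg.Agent.Lib.GeomClasses.FrameStep

/-!
The unit vectors whose reflection, paired with a frame reflection, lies in the group: closure properties, and the
passage from all short unit vectors to the whole of `Ω`.
-/

set_option autoImplicit false
set_option linter.unusedSectionVars false

namespace CfsgLib.GeomClasses.Frame

open QuadraticMap CfsgLib.Orth

variable {ι : Type} [Fintype ι] [DecidableEq ι] {F : Type*} [Field F]
  {q : QuadraticForm F (ι → F)} {n : ℕ} {b : Fin n → ι → F} {c : F}

/-- The support in the frame. -/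
noncomputable def supp (q : QuadraticForm F (ι → F)) (b : Fin n → ι → F) (c : F) (f : ι → F) :
    Finset (Fin n) := by
  classical exact Finset.univ.filter fun i => co q b c i f ≠ 0

theorem mem_supp {f : ι → F} {i : Fin n} : i ∈ supp q b c f ↔ co q b c i f ≠ 0 := by
  classical simp [supp]

theorem notMem_supp {f : ι → F} {i : Fin n} : i ∉ supp q b c f ↔ co q b c i f = 0 := by
  simp [mem_supp]

theorem supp_subset {f : ι → F} {S : Finset (Fin n)} : supp q b c f ⊆ S ↔ ∀ i ∉ S, co q b c i f = 0 := by
  refine ⟨fun h i hi => notMem_supp.1 fun h' => hi (h h'), fun h i hi => ?_⟩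
  by_contra hc
  exact mem_supp.1 hi (h i hc)

theorem exists_zero {f : ι → F} (hf : (supp q b c f).card < n) : ∃ a, co q b c a f = 0 := by
  by_contra hc
  push Not at hc
  have := Finset.card_le_card (s := (Finset.univ : Finset (Fin n))) (t := supp q b c f) fun i _ => mem_supp.2 (hc i)
  simp only [Finset.card_univ, Fintype.card_fin] at this
  omega

theorem exists_outside {S : Finset (Fin n)} (hS : S.card < n) : ∃ a, a ∉ S := by
  by_contra hc
  push Not at hc
  have := Finset.card_le_card (s := (Finset.univ : Finset (Fin n))) (t := S) fun i _ => hc i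
  simp only [Finset.card_univ, Fintype.card_fin] at this
  omega

variable (q b c) in
/-- The roots of the group. -/
def Phi (X : Subgroup (O q)) (f : ι → F) : Prop :=
  q f = c ∧ ∀ a, refl q f * refl q (b a) ∈ X

variable (h : IsFrame q b c) {X : Subgroup (O q)} (hX : HasGens b X)
include h hX

theorem IsFrame.phi_of_one {f : ι → F} (hf : q f = c) {a : Fin n}
    (hmem : refl q f * refl q (b a) ∈ X) : Phi q b c X f := by
  refine ⟨hf, fun a' => ?_⟩
  rcases eq_or_ne a a' with rfl | hne
  · exact hmem
  · have := X.mul_mem hmem (hX.signs a a' hne)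
    rwa [mul_assoc, ← mul_assoc (refl q (b a)), refl_mul_self, one_mul] at this

theorem IsFrame.phi_b (i : Fin n) : Phi q b c X (b i) :=
  h.phi_of_one hX (h.val i) (a := i) (by rw [refl_mul_self]; exact X.one_mem)

omit hX in
theorem IsFrame.phi_neg {f : ι → F} (hf : Phi q b c X f) : Phi q b c X (-f) :=
  ⟨by rw [QuadraticMap.map_neg, hf.1], fun a => by rw [refl_neg]; exact hf.2 a⟩

omit h hX in
theorem phi_pair {f g : ι → F} (hf : Phi q b c X f) (hg : Phi q b c X g) (a : Fin n) :
    refl q f * refl q g ∈ X := by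
  have := X.mul_mem (hf.2 a) (X.inv_mem (hg.2 a))
  rwa [mul_inv_rev, refl_inv, refl_inv, mul_assoc, ← mul_assoc (refl q (b a)), refl_mul_self, one_mul] at this

omit hX in
/-- The roots are closed under their reflections. -/
theorem IsFrame.phi_refl {f g : ι → F} (hf : Phi q b c X f) (hg : Phi q b c X g) :
    Phi q b c X (app (refl q f) g) := by
  refine ⟨by rw [Q_app, hg.1], fun a => ?_⟩
  have := X.mul_mem (phi_pair hf hg a) (hf.2 a)
  have h2 := refl_conj (refl q f) g
  rw [refl_inv] at h2
  rwa [← mul_assoc, h2] at this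

theorem IsFrame.phi_flip {f : ι → F} (hf : Phi q b c X f) (K : Finset (Fin n)) :
    Phi q b c X (app (h.sgn K) f) := by
  classical
  induction K using Finset.induction_on with
  | empty => rwa [h.sgn_empty, app_one]
  | insert i K hi ih =>
    have e' : insert i K = symmDiff {i} K := by
      ext l
      by_cases hl : l = i <;> simp [hl, hi, Finset.mem_symmDiff]
    rw [e', ← h.sgn_mul, h.sgn_single, app_mul]
    exact h.phi_refl (h.phi_b hX i) ih

theorem IsFrame.phi_move {f : ι → F} (hf : Phi q b c X f) {m : O q} (hm : m ∈ X) {a a' : Fin n}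
    (ha : app m (b a) = b a' ∨ app m (b a) = -b a') : Phi q b c X (app m f) := by
  refine h.phi_of_one hX (by rw [Q_app, hf.1]) (a := a') ?_
  have := X.mul_mem (X.mul_mem hm (hf.2 a)) (X.inv_mem hm)
  have e : refl q (app m (b a)) = refl q (b a') := by
    rcases ha with e | e <;> rw [e]
    rw [refl_neg]
  rwa [show m * (refl q f * refl q (b a)) * m⁻¹ = (m * refl q f * m⁻¹) * (m * refl q (b a) * m⁻¹) by group,
    refl_conj, refl_conj, e] at this

/-- Permuting the coordinates of a root with two equal coordinates gives a root. -/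
theorem IsFrame.phi_perm {f : ι → F} (hf : Phi q b c X f) (hlt : (supp q b c f).card + 2 ≤ n)
    (σ : Equiv.Perm (Fin n)) : Phi q b c X (app (h.perm σ) f) := by
  classical
  rcases Int.units_eq_one_or (Equiv.Perm.sign σ) with e | e
  · exact h.phi_move hX hf (h.perm_mem hX e) (a := ⟨0, by omega⟩) (Or.inl (h.perm_b σ _))
  obtain ⟨k, hk, k', hk', hkk⟩ : ∃ k ∈ (supp q b c f)ᶜ, ∃ k' ∈ (supp q b c f)ᶜ, k ≠ k' := by
    refine Finset.one_lt_card.1 ?_
    rw [Finset.card_compl, Fintype.card_fin]
    omega
  rw [Finset.mem_compl, notMem_supp] at hk hk'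
  have e1 : app (h.perm σ) f = app (h.perm (σ * Equiv.swap k k')) f := by
    rw [h.perm_mul, app_mul]
    congr 1
    refine h.ext_co fun l => ?_
    rw [h.co_perm, Equiv.symm_swap]
    rcases eq_or_ne l k with rfl | hlk
    · rw [Equiv.swap_apply_left, hk, hk']
    rcases eq_or_ne l k' with rfl | hlk'
    · rw [Equiv.swap_apply_right, hk, hk']
    · rw [Equiv.swap_apply_of_ne_of_ne hlk hlk']
  rw [e1]
  exact h.phi_move hX hf (h.perm_mem hX (by rw [map_mul, e, Equiv.Perm.sign_swap hkk]; rfl)) (a := ⟨0, by omega⟩)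
    (Or.inl (h.perm_b _ _))

omit hX in
theorem IsFrame.supp_perm (σ : Equiv.Perm (Fin n)) (f : ι → F) :
    supp q b c (app (h.perm σ) f) = (supp q b c f).map σ.toEmbedding := by
  ext l
  rw [mem_supp, h.co_perm, Finset.mem_map_equiv, mem_supp]

/-- All short unit vectors of one support size lie in the roots as soon as those in one set do. -/
theorem IsFrame.phi_transport {k : ℕ} (hk : k + 2 ≤ n) {T : Finset (Fin n)} (hT : T.card = k)
    (hall : ∀ f, q f = c → supp q b c f ⊆ T → Phi q b c X f) :
    ∀ f, q f = c → (supp q b c f).card ≤ k → Phi q b c X f := by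
  classical
  intro f hf hc
  obtain ⟨T', hsub, hT'⟩ := Finset.exists_superset_card_eq hc (by rw [Fintype.card_fin]; omega)
  obtain ⟨σ, hσ⟩ : ∃ σ : Equiv.Perm (Fin n), T.map σ.toEmbedding = T' := by
    let e : {x // x ∈ T} ≃ {x // x ∈ T'} := Finset.equivOfCardEq (by rw [hT, hT'])
    refine ⟨e.extendSubtype, Finset.eq_of_subset_of_card_le (fun l hl => ?_) (by rw [Finset.card_map, hT, hT'])⟩
    obtain ⟨x, hx, rfl⟩ := Finset.mem_map.1 hl
    exact e.extendSubtype_mem x hx
  have h1 : Phi q b c X (app (h.perm σ⁻¹) f) := by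
    refine hall _ (by rw [Q_app, hf]) ?_
    rw [← hσ] at hsub
    rw [h.supp_perm]
    intro l hl
    rw [Finset.mem_map_equiv] at hl
    have h2 := hsub hl
    rw [Finset.mem_map_equiv] at h2
    simpa [Equiv.Perm.inv_def] using h2
  have := h.phi_perm hX h1 (by rw [h.supp_perm, Finset.card_map]; omega) σ
  rwa [← app_mul, ← h.perm_mul, mul_inv_cancel, h.perm_one, app_one] at this

omit hX in
/-- If the reflection pairs of all unit vectors lie in the group, it contains `Ω`. -/
theorem IsFrame.commutator_le_of_unit [Fintype F] (hn : 11 ≤ n) (a : Fin n)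
    (hall : ∀ f, q f = c → refl q f * refl q (b a) ∈ X) : commutator (O q) ≤ X := by
  classical
  have hq := h.nondeg
  have hcard : 11 ≤ Fintype.card ι := by rw [h.card_eq]; exact hn
  refine OrthEich.commutator_le hq (by omega) fun u v hu huv => ?_
  have hpair : ∀ f g, q f = c → q g = c → refl q f * refl q g ∈ X := fun f g hf hg => by
    have := X.mul_mem (hall f hf) (X.inv_mem (hall g hg))
    rwa [mul_inv_rev, refl_inv, refl_inv, mul_assoc, ← mul_assoc (refl q (b a)), refl_mul_self, one_mul] at this
  have hunit : ∀ w, q w = c → polar q u w = 0 → eich q u w ∈ X := fun w hw huw => by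
    rw [eich_eq_refl_mul hu huw (by rw [hw]; exact h.c_ne)]
    refine hpair _ _ hw ?_
    rw [QuadraticMap.map_add ⇑q, QuadraticMap.map_smul, polar_smul_right, hu, polar_comm (f := ⇑q) w u, huw, hw]
    simp
  have hscale : ∀ (t : F) w, q w = c → polar q u w = 0 → eich q u (t • w) ∈ X := fun t w hw huw => by
    have huw' : polar q u (t • w) = 0 := by rw [polar_smul_right, huw, smul_zero]
    rcases eq_or_ne t 0 with rfl | ht
    · have h0 : eich q u ((0 : F) • u) = 1 := eich_smul_self hu 0
      rw [zero_smul] at h0 ⊢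
      rw [h0]
      exact X.one_mem
    have e : eich q u (t • w) = eich q (t • u) w := by
      refine ext_app fun x => ?_
      have hu' : q (t • u) = 0 := by rw [QuadraticMap.map_smul, hu, smul_zero]
      have huw'' : polar q (t • u) w = 0 := by rw [polar_smul_left, huw, smul_zero]
      rw [app_eich hu huw', app_eich hu' huw'']
      simp only [QuadraticMap.map_smul, polar_smul_right, smul_smul, smul_eq_mul]
      match_scalars <;> ring
    rw [e]
    have hu' : q (t • u) = 0 := by rw [QuadraticMap.map_smul, hu, smul_zero]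
    have huw'' : polar q (t • u) w = 0 := by rw [polar_smul_left, huw, smul_zero]
    rw [eich_eq_refl_mul hu' huw'' (by rw [hw]; exact h.c_ne)]
    refine hpair _ _ hw ?_
    rw [QuadraticMap.map_add ⇑q, QuadraticMap.map_smul, polar_smul_right, hu', polar_comm (f := ⇑q) w, huw'', hw]
    simp
  set W := OrthTools.orth q (Submodule.span F ({u, v} : Set (ι → F)))
  have hW : Fintype.card ι - 2 ≤ Module.finrank F W := by
    rw [OrthTools.finrank_orth hq]
    have := OrthEich.finrank_pair_le (F := F) u v
    omega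
  obtain ⟨s, hs, hqs⟩ : ∃ s ∈ W, q s ≠ 0 := by
    by_contra hc
    push Not at hc
    have := two_finrank_le hq hc
    omega
  obtain ⟨r, hr, hqr⟩ : ∃ r ∈ W ⊓ OrthTools.orth q (Submodule.span F {s}), q r ≠ 0 := by
    by_contra hc
    push Not at hc
    have := two_finrank_le hq hc
    have := OrthTools.finrank_inf_orth hq W s
    omega
  obtain ⟨hrW, hsr⟩ := OrthTools.mem_inf_orth hr
  obtain ⟨r', hr', hqr'⟩ : ∃ r' ∈ (W ⊓ OrthTools.orth q (Submodule.span F {s})) ⊓
      OrthTools.orth q (Submodule.span F {r}), q r' ≠ 0 := by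
    by_contra hc
    push Not at hc
    have := two_finrank_le hq hc
    have := OrthTools.finrank_inf_orth hq W s
    have := OrthTools.finrank_inf_orth hq (W ⊓ OrthTools.orth q (Submodule.span F {s})) r
    omega
  obtain ⟨hr'1, hrr'⟩ := OrthTools.mem_inf_orth hr'
  obtain ⟨hr'W, hsr'⟩ := OrthTools.mem_inf_orth hr'1
  obtain ⟨r'', hr'', hqr''⟩ : ∃ r'' ∈ ((W ⊓ OrthTools.orth q (Submodule.span F {s})) ⊓
      OrthTools.orth q (Submodule.span F {r})) ⊓ OrthTools.orth q (Submodule.span F {r'}), q r'' ≠ 0 := by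
    by_contra hc
    push Not at hc
    have := two_finrank_le hq hc
    have := OrthTools.finrank_inf_orth hq W s
    have := OrthTools.finrank_inf_orth hq (W ⊓ OrthTools.orth q (Submodule.span F {s})) r
    have := OrthTools.finrank_inf_orth hq ((W ⊓ OrthTools.orth q (Submodule.span F {s})) ⊓
      OrthTools.orth q (Submodule.span F {r})) r'
    omega
  obtain ⟨hr''1, hr'r''⟩ := OrthTools.mem_inf_orth hr''
  obtain ⟨hr''2, hrr''⟩ := OrthTools.mem_inf_orth hr''1
  obtain ⟨hr''W, hsr''⟩ := OrthTools.mem_inf_orth hr''2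
  -- two orthogonal unit vectors orthogonal to `u` and `v`
  obtain ⟨x₁, y₁, hxy₁⟩ := exists_binary h.two hqs hqr c
  obtain ⟨x₂, y₂, hxy₂⟩ := exists_binary h.two hqr' hqr'' c
  set w₁ := x₁ • s + y₁ • r with hw₁
  set w₂ := x₂ • r' + y₂ • r'' with hw₂
  have hqw₁ : q w₁ = c := by
    rw [hw₁, QuadraticMap.map_add ⇑q, QuadraticMap.map_smul, QuadraticMap.map_smul, polar_smul_left,
      polar_smul_right, hsr]
    simp only [smul_eq_mul, mul_zero, add_zero]
    linear_combination hxy₁
  have hqw₂ : q w₂ = c := by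
    rw [hw₂, QuadraticMap.map_add ⇑q, QuadraticMap.map_smul, QuadraticMap.map_smul, polar_smul_left,
      polar_smul_right, hr'r'']
    simp only [smul_eq_mul, mul_zero, add_zero]
    linear_combination hxy₂
  have h12 : polar q w₁ w₂ = 0 := by
    rw [hw₁, hw₂]
    simp [polar_add_left, polar_add_right, polar_smul_left, polar_smul_right, hsr', hsr'', hrr', hrr'']
  have hw₁W : w₁ ∈ W := W.add_mem (W.smul_mem _ hs) (W.smul_mem _ hrW)
  have hw₂W : w₂ ∈ W := W.add_mem (W.smul_mem _ hr'W) (W.smul_mem _ hr''W)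
  obtain ⟨hu1, hv1⟩ := OrthEich.mem_orth_pair.1 hw₁W
  obtain ⟨hu2, hv2⟩ := OrthEich.mem_orth_pair.1 hw₂W
  obtain ⟨α, β, hαβ⟩ := exists_binary h.two h.c_ne h.c_ne (c - q v)
  set v' := v + α • w₁ + β • w₂ with hv'
  have hqv' : q v' = c := by
    rw [hv', QuadraticMap.map_add ⇑q, QuadraticMap.map_add ⇑q, QuadraticMap.map_smul, QuadraticMap.map_smul,
      polar_smul_right, polar_smul_right, polar_add_left, polar_smul_left, hv1, hv2, h12, hqw₁, hqw₂]
    simp only [smul_eq_mul, mul_zero, add_zero]
    linear_combination hαβ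
  have huv' : polar q u v' = 0 := by simp [hv', polar_add_right, polar_smul_right, huv, hu1, hu2]
  have e : eich q u v = eich q u v' * (eich q u ((-α) • w₁) * eich q u ((-β) • w₂)) := by
    rw [eich_add hu (by rw [polar_smul_right, hu1, smul_zero]) (by rw [polar_smul_right, hu2, smul_zero]),
      eich_add hu huv' (by rw [polar_add_right, polar_smul_right, polar_smul_right, hu1, hu2]; simp)]
    congr 1
    rw [hv']
    module
  rw [e]
  exact X.mul_mem (hunit v' hqv' huv') (X.mul_mem (hscale _ w₁ hqw₁ hu1) (hscale _ w₂ hqw₂ hu2))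

end CfsgLib.GeomClasses.Frame
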