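import Cfsg.Agent.Lib.GeomClasses.FrameBase

/-!
If every element of the group fixing two frame lines permutes the frame lines, then so does every element.

The proof uses the dihedral group generated by a sign change and a conjugate of a sign change, and the fact that an
orthonormal family invariant under the signed alternating group on at least five frame vectors meets the frame.
-/

set_option autoImplicit false
set_option linter.unusedSectionVars false

namespace CfsgLib.GeomClasses.Frame

open QuadraticMap CfsgLib.Orth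

variable {ι : Type} [Fintype ι] [DecidableEq ι] {F : Type*} [Field F]
  {q : QuadraticForm F (ι → F)} {n : ℕ} {b : Fin n → ι → F} {c : F} (h : IsFrame q b c)
include h

/-- An isometry fixing some frame vectors fixes their combinations. -/
theorem IsFrame.fix_of_co {m : O q} {S : Finset (Fin n)} (hm : ∀ j ∈ S, app m (b j) = b j) {x : ι → F}
    (hx : ∀ i ∉ S, co q b c i x = 0) : app m x = x := by
  conv_lhs => rw [← h.expand x]
  conv_rhs => rw [← h.expand x]
  rw [map_sum]
  refine Finset.sum_congr rfl fun i _ => ?_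
  by_cases hi : i ∈ S
  · rw [map_smul, hm i hi]
  · rw [hx i hi, zero_smul, map_zero]

theorem IsFrame.app_flip {x y : Fin n} (hxy : x ≠ y) (v : ι → F) :
    app (refl q (b x) * refl q (b y)) v = v - (2 * co q b c y v) • b y - (2 * co q b c x v) • b x := by
  rw [app_mul, h.refl_unit (h.val y), h.refl_unit (h.val x), ip_sub_left, ip_smul_left]
  simp only [co, h.ip_b, if_neg (Ne.symm hxy), mul_zero, sub_zero]

theorem IsFrame.co_cycle {x y z : Fin n} (hxy : x ≠ y) (hyz : y ≠ z) (v : ι → F) (l : Fin n) :
    co q b c l (app (refl q (b x - b y) * refl q (b y - b z)) v) =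
      co q b c (Equiv.swap y z (Equiv.swap x y l)) v := by
  rw [app_mul, h.co_swap hxy, h.co_swap hyz]

theorem IsFrame.app_cycle {x y z : Fin n} (hxy : x ≠ y) (hyz : y ≠ z) (hxz : x ≠ z) (v : ι → F) :
    app (refl q (b x - b y) * refl q (b y - b z)) v = v + (co q b c z v - co q b c x v) • b x +
      (co q b c x v - co q b c y v) • b y + (co q b c y v - co q b c z v) • b z := by
  refine h.ext_co fun l => ?_
  rw [h.co_cycle hxy hyz, co_add, co_add, co_add, co_smul, co_smul, co_smul, h.co_b, h.co_b, h.co_b]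
  rcases eq_or_ne l x with rfl | hlx
  · rw [Equiv.swap_apply_left, Equiv.swap_apply_left, if_pos rfl, if_neg (Ne.symm hxy), if_neg (Ne.symm hxz)]
    ring
  rcases eq_or_ne l y with rfl | hly
  · rw [Equiv.swap_apply_right, Equiv.swap_apply_of_ne_of_ne hxy hxz, if_pos rfl, if_neg hxy, if_neg (Ne.symm hyz)]
    ring
  rcases eq_or_ne l z with rfl | hlz
  · rw [Equiv.swap_apply_of_ne_of_ne hlx hly, Equiv.swap_apply_right, if_pos rfl, if_neg hxz, if_neg hyz]
    ring
  · rw [Equiv.swap_apply_of_ne_of_ne hlx hly, Equiv.swap_apply_of_ne_of_ne hly hlz, if_neg (Ne.symm hlx),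
      if_neg (Ne.symm hly), if_neg (Ne.symm hlz)]
    ring

/-- An orthonormal family invariant under the signed three-cycles of five frame vectors meets the frame. -/
theorem IsFrame.frame_line {P : Finset (Fin n)} (hP : 5 ≤ P.card) {f : Fin n → ι → F}
    (hf : ∀ i j, ip q c (f i) (f j) = if i = j then 1 else 0)
    (hflip : ∀ x ∈ P, ∀ y ∈ P, x ≠ y → ∀ l, ∃ l',
      app (refl q (b x) * refl q (b y)) (f l) = f l' ∨ app (refl q (b x) * refl q (b y)) (f l) = -f l')
    (hcyc : ∀ x ∈ P, ∀ y ∈ P, ∀ z ∈ P, x ≠ y → y ≠ z → x ≠ z → ∀ l, ∃ l',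
      app (refl q (b x - b y) * refl q (b y - b z)) (f l) = f l' ∨
        app (refl q (b x - b y) * refl q (b y - b z)) (f l) = -f l')
    {l : Fin n} {p : Fin n} (hp : p ∈ P) (hne : co q b c p (f l) ≠ 0) :
    ∃ p' ∈ P, f l = b p' ∨ f l = -b p' := by
  classical
  set v := f l with hv
  set a := fun i => co q b c i v with ha
  have hunit : ip q c v v = 1 := by rw [hv, hf, if_pos rfl]
  have alt : ∀ w, (∃ l', w = f l' ∨ w = -f l') → ip q c w v ≠ 0 → w = v ∨ w = -v := by
    rintro w ⟨l', hl'⟩ hw
    rcases eq_or_ne l' l with rfl | hne'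
    · exact hl'
    · rcases hl' with rfl | rfl <;> simp [ip_neg_left, hv, hf, hne'] at hw
  have hflip' : ∀ x ∈ P, ∀ y ∈ P, x ≠ y → (a x = 0 ∧ a y = 0) ∨ (∀ i, i ≠ x → i ≠ y → a i = 0) ∨
      2 * (a x ^ 2 + a y ^ 2) = 1 := by
    intro x hx y hy hxy
    by_cases hs : 2 * (a x ^ 2 + a y ^ 2) = 1
    · exact Or.inr (Or.inr hs)
    have hip : ip q c (app (refl q (b x) * refl q (b y)) v) v ≠ 0 := by
      rw [h.app_flip hxy, ip_sub_left, ip_sub_left, ip_smul_left, ip_smul_left, hunit, ip_comm (b y), ip_comm (b x)]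
      intro he
      exact hs (by simp only [ha, co] at he ⊢; linear_combination -he)
    rcases alt _ (hflip x hx y hy hxy l) hip with e | e
    · left
      refine ⟨?_, ?_⟩
      · have := congrArg (co q b c x) e
        rw [h.app_flip hxy, co_sub, co_sub, co_smul, co_smul, h.co_b_self, h.co_b_ne (Ne.symm hxy)] at this
        exact (mul_eq_zero.1 (show 2 * a x = 0 by linear_combination -this)).resolve_left h.two
      · have := congrArg (co q b c y) e
        rw [h.app_flip hxy, co_sub, co_sub, co_smul, co_smul, h.co_b_self, h.co_b_ne hxy] at this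
        exact (mul_eq_zero.1 (show 2 * a y = 0 by linear_combination -this)).resolve_left h.two
    · right; left
      intro i hix hiy
      have := congrArg (co q b c i) e
      rw [h.app_flip hxy, co_sub, co_sub, co_smul, co_smul, co_neg, h.co_b_ne (Ne.symm hix),
        h.co_b_ne (Ne.symm hiy)] at this
      exact (mul_eq_zero.1 (show 2 * a i = 0 by linear_combination this)).resolve_left h.two
  have hother : ∀ s : Finset (Fin n), s.card ≤ 4 → ∃ r ∈ P, r ∉ s := by
    intro s hs
    by_contra hc
    push Not at hc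
    have := Finset.card_le_card (s := P) (t := s) hc
    omega
  -- no support in two coordinates unless in one
  have htwo : ∀ y ∈ P, y ≠ p → (∀ i, i ≠ p → i ≠ y → a i = 0) → a y = 0 := by
    intro y hy hyp hall
    by_contra hay
    obtain ⟨z, hz, hzs⟩ := hother {p, y} (Finset.card_le_two.trans (by norm_num))
    simp only [Finset.mem_insert, Finset.mem_singleton, not_or] at hzs
    have haz : a z = 0 := hall z hzs.1 hzs.2
    have hsum : a p ^ 2 + a y ^ 2 = 1 := by
      have h1 : ∀ i ∉ ({p, y} : Finset (Fin n)), co q b c i v = 0 := fun i hi => by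
        simp only [Finset.mem_insert, Finset.mem_singleton, not_or] at hi
        exact hall i hi.1 hi.2
      rw [h.ip_eq_sum_of h1, Finset.sum_pair (Ne.symm hyp)] at hunit
      simp only [ha]
      linear_combination hunit
    have hip : ip q c (app (refl q (b p - b y) * refl q (b y - b z)) v) v ≠ 0 := by
      rw [h.app_cycle (Ne.symm hyp) (Ne.symm hzs.2) (Ne.symm hzs.1), ip_add_left, ip_add_left, ip_add_left,
        ip_smul_left, ip_smul_left, ip_smul_left, hunit, ip_comm (b y), ip_comm (b z), ip_comm (b p)]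
      intro he
      refine mul_ne_zero hne hay ?_
      simp only [ha, co] at he hsum haz ⊢
      rw [haz] at he
      linear_combination he + hsum
    rcases alt _ (hcyc p hp y hy z hz (Ne.symm hyp) (Ne.symm hzs.2) (Ne.symm hzs.1) l) hip with e | e <;>
    · have := congrArg (co q b c z) e
      rw [h.co_cycle (Ne.symm hyp) (Ne.symm hzs.2), Equiv.swap_apply_of_ne_of_ne hzs.1 hzs.2,
        Equiv.swap_apply_right] at this
      refine hay ?_
      simp only [ha, co_neg] at this haz ⊢
      rw [this, haz]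
      try simp
  by_cases hsingle : ∀ i, i ≠ p → a i = 0
  · refine ⟨p, hp, ?_⟩
    have hv' : v = a p • b p := h.ext_co fun i => by
      rw [co_smul, h.co_b]
      split_ifs with hi
      · rw [hi, mul_one]
      · rw [mul_zero]; exact hsingle i (Ne.symm hi)
    have h1 : a p * a p = 1 := by
      rwa [hv', ip_smul_left, ip_smul_right, h.ip_b, if_pos rfl, mul_one] at hunit
    rcases mul_self_eq_one_iff.1 h1 with e | e
    · left; rw [hv', e, one_smul]
    · right; rw [hv', e, neg_one_smul]
  exfalso
  have hspan : ∀ x ∈ P, x ≠ p → ¬ ∀ i, i ≠ p → i ≠ x → a i = 0 := fun x hx hxp hall =>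
    hsingle fun i hi => if hix : i = x then hix ▸ htwo x hx hxp hall else hall i hi hix
  have hpair : ∀ x ∈ P, x ≠ p → 2 * (a p ^ 2 + a x ^ 2) = 1 := by
    intro x hx hxp
    rcases hflip' p hp x hx (Ne.symm hxp) with e | e | e
    · exact absurd e.1 hne
    · exact absurd e (hspan x hx hxp)
    · exact e
  obtain ⟨y, hy, hyp⟩ := hother {p} (by simp)
  rw [Finset.mem_singleton] at hyp
  obtain ⟨z, hz, hzs⟩ := hother {p, y} (Finset.card_le_two.trans (by norm_num))
  simp only [Finset.mem_insert, Finset.mem_singleton, not_or] at hzs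
  by_cases hay : a y = 0
  · have haz : a z = 0 := by
      have h1 := hpair y hy hyp
      rw [hay] at h1
      exact eq_zero_of_pow_eq_zero (n := 2) ((mul_eq_zero.1
        (show 2 * a z ^ 2 = 0 by linear_combination hpair z hz hzs.1 - h1)).resolve_left h.two)
    have hap : 2 * a p ^ 2 = 1 := by have h1 := hpair y hy hyp; rw [hay] at h1; linear_combination h1
    have hip : ip q c (app (refl q (b p - b y) * refl q (b y - b z)) v) v ≠ 0 := by
      rw [h.app_cycle (Ne.symm hyp) (Ne.symm hzs.2) (Ne.symm hzs.1), ip_add_left, ip_add_left, ip_add_left,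
        ip_smul_left, ip_smul_left, ip_smul_left, hunit, ip_comm (b y), ip_comm (b z), ip_comm (b p)]
      intro he
      refine one_ne_zero (α := F) ?_
      simp only [ha, co] at he hay haz hap ⊢
      rw [hay, haz] at he
      linear_combination 2 * he + hap
    rcases alt _ (hcyc p hp y hy z hz (Ne.symm hyp) (Ne.symm hzs.2) (Ne.symm hzs.1) l) hip with e | e <;>
    · have := congrArg (co q b c y) e
      rw [h.co_cycle (Ne.symm hyp) (Ne.symm hzs.2), Equiv.swap_apply_right,
        Equiv.swap_apply_of_ne_of_ne (Ne.symm hyp) (Ne.symm hzs.1)] at this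
      refine hne ?_
      simp only [ha, co_neg] at this hay ⊢
      rw [this, hay]
      try simp
  · have h1 := hpair y hy hyp
    have h2 := hpair z hz hzs.1
    have hyz : 2 * (a y ^ 2 + a z ^ 2) = 1 := by
      rcases hflip' y hy z hz (Ne.symm hzs.2) with e | e | e
      · exact absurd e.1 hay
      · exact absurd (e p (Ne.symm hyp) (Ne.symm hzs.1)) hne
      · exact e
    have hy4 : 4 * a y ^ 2 = 1 := by linear_combination hyz - h2 + h1
    have hp4 : 4 * a p ^ 2 = 1 := by linear_combination 2 * h1 - hy4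
    have hall4 : ∀ x ∈ P, 4 * a x ^ 2 = 1 := fun x hx => by
      rcases eq_or_ne x p with rfl | hxp
      · exact hp4
      · linear_combination 2 * hpair x hx hxp - hp4
    obtain ⟨w, hw, hws⟩ := hother {p, y, z} (Finset.card_le_three.trans (by norm_num))
    simp only [Finset.mem_insert, Finset.mem_singleton, not_or] at hws
    obtain ⟨r, hr, hrs⟩ := hother {p, y, z, w} (Finset.card_le_four)
    simp only [Finset.mem_insert, Finset.mem_singleton, not_or] at hrs
    obtain ⟨l₁, hl₁⟩ := hflip p hp y hy (Ne.symm hyp) l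
    obtain ⟨l₂, hl₂⟩ := hflip z hz w hw (Ne.symm hws.2.2) l₁
    have hm : ∃ l', app (refl q (b z) * refl q (b w)) (app (refl q (b p) * refl q (b y)) v) = f l' ∨
        app (refl q (b z) * refl q (b w)) (app (refl q (b p) * refl q (b y)) v) = -f l' := by
      refine ⟨l₂, ?_⟩
      rcases hl₁ with e | e <;> rcases hl₂ with e' | e' <;> rw [e] <;> simp [map_neg, e']
    have hme : app (refl q (b z) * refl q (b w)) (app (refl q (b p) * refl q (b y)) v) =
        v - (2 * a y) • b y - (2 * a p) • b p - (2 * a w) • b w - (2 * a z) • b z := by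
      rw [h.app_flip (Ne.symm hws.2.2), h.app_flip (Ne.symm hyp)]
      simp only [co_sub, co_smul, h.co_b_ne (Ne.symm hws.1), h.co_b_ne (Ne.symm hws.2.1), h.co_b_ne (Ne.symm hzs.1),
        h.co_b_ne (Ne.symm hzs.2), mul_zero, sub_zero, ha]
    rw [hme] at hm
    have hip : ip q c (v - (2 * a y) • b y - (2 * a p) • b p - (2 * a w) • b w - (2 * a z) • b z) v ≠ 0 := by
      simp only [ip_sub_left, ip_smul_left, hunit, ip_comm (b _)]
      intro he
      have := hall4 z hz
      have := hall4 w hw
      refine h.two ?_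
      simp only [ha, co] at *
      linear_combination (-2 : F) * he - hy4 - hp4 - (hall4 z hz) - (hall4 w hw)
    rcases alt _ hm hip with e | e
    · have := congrArg (co q b c p) e
      simp only [co_sub, co_smul, h.co_b_self, h.co_b_ne hyp, h.co_b_ne hzs.1, h.co_b_ne hws.1] at this
      refine hne ((mul_eq_zero.1 (show 2 * a p = 0 from ?_)).resolve_left h.two)
      simp only [ha] at this ⊢
      linear_combination -this
    · have := congrArg (co q b c r) e
      simp only [co_sub, co_smul, co_neg, h.co_b_ne (Ne.symm hrs.1), h.co_b_ne (Ne.symm hrs.2.1),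
        h.co_b_ne (Ne.symm hrs.2.2.1), h.co_b_ne (Ne.symm hrs.2.2.2)] at this
      have h4r := hall4 r hr
      refine one_ne_zero (α := F) ?_
      simp only [ha] at this h4r
      linear_combination -h4r + 2 * co q b c r v * this

omit h in
/-- Two sets of the same size differ in no or in at least two places. -/
theorem one_lt_card_symmDiff {L E : Finset (Fin n)} (hL : 0 < L.card) (he : L.card = E.card)
    (hne : symmDiff L E ≠ ∅) : 1 < (symmDiff L E).card := by
  have h1 := Finset.card_sdiff_add_card_inter L E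
  have h2 := Finset.card_sdiff_add_card_inter E L
  rw [Finset.inter_comm] at h2
  have h3 : (symmDiff L E).card = (L \ E).card + (E \ L).card := by
    rw [symmDiff_def, Finset.sup_eq_union, Finset.card_union_of_disjoint disjoint_sdiff_sdiff]
  have h4 : 0 < (symmDiff L E).card := Finset.card_pos.2 (Finset.nonempty_iff_ne_empty.2 hne)
  omega

variable {X : Subgroup (O q)} (hX : HasGens b X)
include hX

variable (H0 : ∀ g ∈ X, ∀ a a', a ≠ a' → (app g (b a) = b a ∨ app g (b a) = -b a) →
  (app g (b a') = b a' ∨ app g (b a') = -b a') → Mono b g)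
include H0

theorem IsFrame.mono_of_lines (hn : 4 ≤ n) {g : O q} (hg : g ∈ X) {l l' p p' : Fin n} (hl : l ≠ l') (hp : p ≠ p')
    (he : app g (b l) = b p ∨ app g (b l) = -b p) (he' : app g (b l') = b p' ∨ app g (b l') = -b p') :
    Mono b g := by
  obtain ⟨m, hm, hmono, hmb, hmb'⟩ := h.exists_move₂ hX hn hp hl
  have h1 : Mono b (m * g) := H0 _ (X.mul_mem hm hg) l l' hl
    (by rcases he with e | e <;> simp [e, hmb]) (by rcases he' with e | e <;> simp [e, hmb'])
  have := mono_mul (h.mono_inv hmono) h1
  rwa [inv_mul_cancel_left] at this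

/-- The signed three-cycle data of an element of `X` conjugating into signed permutations. -/
theorem IsFrame.line_of_invariant (hn : 4 ≤ n) {g : O q} (hg : g ∈ X) {P : Finset (Fin n)} (hP : 5 ≤ P.card)
    (hinv : ∀ m ∈ X, (∀ j ∉ P, app m (b j) = b j) → Mono b (g⁻¹ * m * g)) : Mono b g := by
  classical
  have key : ∀ m ∈ X, (∀ j ∉ P, app m (b j) = b j) → ∀ l, ∃ l',
      app m (app g (b l)) = app g (b l') ∨ app m (app g (b l)) = -app g (b l') := by
    intro m hm hfix l
    obtain ⟨l', hl'⟩ := hinv m hm hfix l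
    refine ⟨l', ?_⟩
    have e1 : app m (app g (b l)) = app g (app (g⁻¹ * m * g) (b l)) := by
      simp [app_app_inv]
    rw [e1]
    rcases hl' with e | e <;> rw [e]
    · exact Or.inl rfl
    · right; rw [map_neg]
  have hex : ∀ p, ∃ l, co q b c p (app g (b l)) ≠ 0 := fun p => by
    by_contra hc
    push Not at hc
    have h0 : app g⁻¹ (b p) = 0 := h.ext_co fun l => by
      have := hc l
      rw [co_zero]
      rw [co, ← ip_app g⁻¹, app_inv_app, ip_comm] at this
      exact this
    have := congrArg (app g) h0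
    rw [app_app_inv, map_zero] at this
    have h1 := h.co_b_self p
    rw [this, co_zero] at h1
    exact zero_ne_one h1
  have hline : ∀ p ∈ P, ∀ l, co q b c p (app g (b l)) ≠ 0 →
      ∃ p' ∈ P, app g (b l) = b p' ∨ app g (b l) = -b p' := fun p hp l hl =>
    h.frame_line hP (f := fun l => app g (b l))
      (fun i j => by rw [ip_app, h.ip_b])
      (fun x hx y hy hxy l => key _ (hX.signs x y hxy) (fun j hj => by
        have hjy : j ≠ y := fun e => hj (by rw [e]; exact hy)
        have hjx : j ≠ x := fun e => hj (by rw [e]; exact hx)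
        rw [app_mul, app_refl_of_ortho (h.orth j y hjy), app_refl_of_ortho (h.orth j x hjx)]) l)
      (fun x hx y hy z hz hxy hyz _ l => key _ (hX.perms x y y z hxy hyz) (fun j hj => by
        have hjx : j ≠ x := fun e => hj (by rw [e]; exact hx)
        have hjy : j ≠ y := fun e => hj (by rw [e]; exact hy)
        have hjz : j ≠ z := fun e => hj (by rw [e]; exact hz)
        rw [h.cycle_b hxy hyz, Equiv.swap_apply_of_ne_of_ne hjy hjz, Equiv.swap_apply_of_ne_of_ne hjx hjy]) l)
      hp hl
  obtain ⟨p, hp⟩ : P.Nonempty := Finset.card_pos.1 (by omega)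
  obtain ⟨l, hl⟩ := hex p
  obtain ⟨p', hp'P, hp'⟩ := hline p hp l hl
  obtain ⟨p₂, hp₂⟩ : (P.erase p').Nonempty := Finset.card_pos.1 (by rw [Finset.card_erase_of_mem hp'P]; omega)
  obtain ⟨hp₂ne, hp₂P⟩ := Finset.mem_erase.1 hp₂
  obtain ⟨l₂, hl₂⟩ := hex p₂
  obtain ⟨p'', -, hp''⟩ := hline p₂ hp₂P l₂ hl₂
  have hll : l ≠ l₂ := fun e => hl₂ (by
    rw [← e]; rcases hp' with e' | e' <;> simp [e', co_neg, h.co_b_ne hp₂ne.symm])
  have hpp : p' ≠ p'' := fun e => by
    subst e
    have h1 : ip q c (app g (b l)) (app g (b l₂)) = 0 := by rw [ip_app, h.ip_b, if_neg hll]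
    have h2 := h.ip_b p' p'
    rw [if_pos rfl] at h2
    rcases hp' with e | e <;> rcases hp'' with e' | e' <;> simp [e, e', ip_neg_left, ip_neg_right, h2] at h1
  exact h.mono_of_lines hX H0 hn hg hll hpp hp' hp''

/-- An element commuting with a sign change on few vectors is a signed permutation. -/
theorem IsFrame.commute_mono {J : Finset (Fin n)} (hJ : 1 < J.card) (hcard : J.card + 5 ≤ n) {x : O q}
    (hx : x ∈ X) (hcomm : Commute x (h.sgn J)) : Mono b x := by
  classical
  have hinv : Mono b x⁻¹ := by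
    refine h.line_of_invariant hX H0 (by omega) (X.inv_mem hx) (P := Jᶜ) (by
      rw [Finset.card_compl, Fintype.card_fin]; omega) fun m hm hfix => ?_
    rw [inv_inv]
    suffices H : ∀ a ∈ J, app (x * m * x⁻¹) (b a) = b a by
      obtain ⟨a, ha, a', ha', hne⟩ := Finset.one_lt_card.1 hJ
      exact H0 _ (X.mul_mem (X.mul_mem hx hm) (X.inv_mem hx)) a a' hne (Or.inl (H a ha)) (Or.inl (H a' ha'))
    intro a ha
    have hco : ∀ i ∉ J, co q b c i (app x⁻¹ (b a)) = 0 := by
      intro i hi
      have h1 : app x⁻¹ (app (h.sgn J) (b a)) = app (h.sgn J) (app x⁻¹ (b a)) := by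
        rw [← app_mul, ← app_mul, hcomm.inv_left.eq]
      rw [h.sgn_b, if_pos ha, map_neg] at h1
      have h2 := congrArg (co q b c i) h1
      rw [co_neg, h.co_sgn, if_neg hi] at h2
      exact (mul_eq_zero.1 (show 2 * co q b c i (app x⁻¹ (b a)) = 0 by linear_combination -h2)).resolve_left h.two
    rw [app_mul, app_mul, h.fix_of_co (fun j hj => hfix j (by simp [hj])) hco, app_app_inv]
  simpa using h.mono_inv hinv

omit hX H0 in
/-- A signed permutation conjugate to a sign change fixes all but few frame vectors. -/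
theorem IsFrame.card_moved {g z : O q} {K : Finset (Fin n)} (hz : z = g * h.sgn K * g⁻¹) (hmono : Mono b z) :
    ∃ P : Finset (Fin n), n ≤ P.card + 2 * K.card ∧ (∀ p ∈ P, app z (b p) = b p) ∧
      ∀ j ∉ P, ∃ j' ∉ P, app z (b j) = b j' ∨ app z (b j) = -b j' := by
  classical
  choose σ hσ using hmono
  have hz2 : ∀ x, app z (app z x) = x := fun x => by
    rw [← app_mul, hz, show g * h.sgn K * g⁻¹ * (g * h.sgn K * g⁻¹) = g * (h.sgn K * h.sgn K) * g⁻¹ by group,
      h.sgn_mul, symmDiff_self, Finset.bot_eq_empty, h.sgn_empty, mul_one, mul_inv_cancel, app_one]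
  have hσσ : ∀ i, σ (σ i) = i := by
    intro i
    by_contra hne
    have h1 : co q b c i (app z (app z (b i))) = 1 := by rw [hz2, h.co_b_self]
    rcases hσ i with e | e <;> rcases hσ (σ i) with e' | e' <;>
      simp [e, e', co_neg, h.co_b_ne hne] at h1
  set S := Finset.univ.filter fun i => app z (b i) ≠ b i with hS
  have hSclosed : ∀ i ∈ S, σ i ∈ S := by
    intro i hi
    simp only [hS, Finset.mem_filter, Finset.mem_univ, true_and] at hi ⊢
    intro hfix
    refine hi ?_
    rcases hσ i with e | e
    · have h1 := hz2 (b i)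
      rw [e, hfix] at h1
      rw [e, h1]
    · have h1 := hz2 (b i)
      rw [e, map_neg, hfix] at h1
      have h3 := congrArg (co q b c (σ i)) h1
      rw [co_neg, h.co_b_self, h.co_b] at h3
      split_ifs at h3 with hii
      · exact absurd (show (2 : F) = 0 by linear_combination -h3) h.two
      · exact absurd (show (1 : F) = 0 by linear_combination -h3) one_ne_zero
  refine ⟨Sᶜ, ?_, fun p hp => by simpa [hS] using hp, fun j hj => ?_⟩
  swap
  · exact ⟨σ j, by simpa using hSclosed j (by simpa using hj), hσ j⟩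
  set R := S.filter fun i => i ≤ σ i with hR
  have hSR : S.card ≤ 2 * R.card := by
    refine (Finset.card_le_card (t := R ∪ R.image σ) fun i hi => ?_).trans
      ((Finset.card_union_le _ _).trans (by have := Finset.card_image_le (s := R) (f := σ); omega))
    rcases le_total i (σ i) with hle | hle
    · exact Finset.mem_union_left _ (Finset.mem_filter.2 ⟨hi, hle⟩)
    · exact Finset.mem_union_right _ (Finset.mem_image.2
        ⟨σ i, Finset.mem_filter.2 ⟨hSclosed i hi, by rwa [hσσ]⟩, hσσ i⟩)
  set W := Submodule.span F ((K.image fun k => app g (b k) : Finset (ι → F)) : Set (ι → F))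
  have hmem : ∀ x, app z x - x ∈ W := by
    intro x
    obtain ⟨y, rfl⟩ : ∃ y, app g y = x := ⟨app g⁻¹ x, app_app_inv g x⟩
    have e1 : app z (app g y) = app g (app (h.sgn K) y) := by rw [hz]; simp [app_inv_app]
    have e2 : app (h.sgn K) y - y = ∑ k ∈ K, (-(2 * co q b c k y)) • b k := h.ext_co fun i => by
      simp only [co_sub, h.co_sgn, co_sum, co_smul, h.co_b, mul_ite, mul_one, mul_zero, Finset.sum_ite_eq']
      split_ifs <;> ring
    rw [e1, ← map_sub, e2, map_sum]
    refine Submodule.sum_mem _ fun k hk => ?_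
    rw [map_smul]
    exact W.smul_mem _ (Submodule.subset_span (by
      rw [Finset.coe_image]; exact ⟨k, hk, rfl⟩))
  have hli : LinearIndependent F fun r : R => (⟨app z (b r.1) - b r.1, hmem _⟩ : W) := by
    rw [Fintype.linearIndependent_iff]
    intro a ha r
    have h1 := congrArg (fun w : W => co q b c r.1 (w : ι → F)) ha
    simp only [Submodule.coe_sum, Submodule.coe_smul, co_sum, co_smul, ZeroMemClass.coe_zero, co_zero] at h1
    obtain ⟨hrS, hrle⟩ := Finset.mem_filter.1 r.2
    rw [Finset.sum_eq_single r] at h1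
    · refine (mul_eq_zero.1 h1).resolve_right ?_
      simp only [hS, Finset.mem_filter, Finset.mem_univ, true_and] at hrS
      rw [co_sub, h.co_b_self]
      rcases hσ r.1 with e | e <;> rw [e] <;> by_cases hr : σ r.1 = r.1
      · exact absurd (e.trans (by rw [hr])) hrS
      · rw [h.co_b_ne hr]; simp
      · rw [hr, co_neg, h.co_b_self]; intro e0; exact h.two (by linear_combination -e0)
      · rw [co_neg, h.co_b_ne hr]; simp
    · intro d _ hdr
      obtain ⟨hdS, hdle⟩ := Finset.mem_filter.1 d.2
      have hd1 : d.1 ≠ r.1 := fun e => hdr (Subtype.ext e)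
      have hd2 : σ d.1 ≠ r.1 := fun e => hd1 (by
        have : σ r.1 = d.1 := by rw [← e, hσσ]
        rw [e] at hdle; rw [this] at hrle; exact le_antisymm hdle hrle)
      rw [co_sub, h.co_b_ne hd1]
      rcases hσ d.1 with e | e <;> simp [e, co_neg, h.co_b_ne hd2]
    · simp
  have h1 := hli.fintype_card_le_finrank
  have h2 : Module.finrank F W ≤ K.card := (finrank_span_finset_le_card _).trans Finset.card_image_le
  rw [Fintype.card_coe] at h1
  rw [Finset.card_compl, Fintype.card_fin]
  have := Finset.card_le_univ S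
  rw [Fintype.card_fin] at this
  omega

/-- If a conjugate of a small sign change is a signed permutation then so is the conjugating element. -/
theorem IsFrame.conj_mono (hn : 13 ≤ n) {g : O q} (hg : g ∈ X) {K : Finset (Fin n)} (hK0 : 1 < K.card)
    (hK : K.card ≤ 4) (hz : Mono b (g * h.sgn K * g⁻¹)) : Mono b g := by
  obtain ⟨P, hcard, hfix, hout⟩ := h.card_moved rfl hz
  refine h.line_of_invariant hX H0 (by omega) hg (P := P) (by omega) fun m hm hmfix => ?_
  refine h.commute_mono hX H0 hK0 (by omega) (X.mul_mem (X.mul_mem (X.inv_mem hg) hm) hg) ?_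
  set z := g * h.sgn K * g⁻¹ with hzdef
  have hmz : m * z = z * m := by
    refine ext_app fun x => ?_
    rw [← h.expand x]
    simp only [map_sum, map_smul, app_mul]
    refine Finset.sum_congr rfl fun l _ => ?_
    congr 1
    by_cases hl : l ∈ P
    · rw [hfix l hl]
      refine (h.fix_of_co hfix fun j hj => ?_).symm
      rw [co]
      conv_lhs => arg 4; rw [← hmfix j hj]
      rw [ip_app, h.ip_b, if_neg fun e : l = j => hj (e ▸ hl)]
    · obtain ⟨j, hj, e⟩ := hout l hl
      rcases e with e | e <;> rw [e, hmfix l hl, e] <;> simp [hmfix j hj]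
  have : h.sgn K = g⁻¹ * z * g := by rw [hzdef]; group
  rw [this, commute_iff_eq, show g⁻¹ * m * g * (g⁻¹ * z * g) = g⁻¹ * (m * z) * g by group, hmz]
  group

omit h hX H0 in
theorem conj_shift {G : Type*} [Group G] {h' s : G} (hs : s * h' * s⁻¹ = h'⁻¹) (k : ℤ) :
    h' ^ k * s * (h' ^ k)⁻¹ = h' ^ (2 * k) * s := by
  have h1 : s * (h' ^ k)⁻¹ = h' ^ k * s := by
    have h2 : s * (h' ^ k)⁻¹ * s⁻¹ = h' ^ k := by
      rw [← zpow_neg, ← conj_zpow, hs, inv_zpow', neg_neg]
    calc s * (h' ^ k)⁻¹ = s * (h' ^ k)⁻¹ * s⁻¹ * s := by group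
      _ = _ := by rw [h2]
  rw [mul_assoc, h1, ← mul_assoc, ← zpow_add, two_mul]

omit h hX H0 in
theorem inv_pair {G : Type*} [Group G] {s u : G} (hs : s * s = 1) (hu : u * u = 1) :
    s * (s * u) * s⁻¹ = (s * u)⁻¹ ∧ u * (s * u) * u⁻¹ = (s * u)⁻¹ ∧ s * u * u = s ∧ (s * u)⁻¹ * s = u := by
  have hs' : s⁻¹ = s := inv_eq_of_mul_eq_one_right hs
  have hu' : u⁻¹ = u := inv_eq_of_mul_eq_one_right hu
  simp only [mul_inv_rev, hs', hu', ← mul_assoc, hs, one_mul, true_and]
  refine ⟨?_, ?_, ?_⟩ <;> simp [mul_assoc, hs, hu]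

/-- All elements are signed permutations. -/
theorem IsFrame.all_mono [Finite F] (hn : 13 ≤ n) : ∀ g ∈ X, Mono b g := by
  classical
  intro g hg
  let i : ℕ → Fin n := fun k => ⟨k % n, Nat.mod_lt _ (by omega)⟩
  have hi : ∀ {a d : ℕ}, a < 13 → d < 13 → a ≠ d → i a ≠ i d := fun ha hd hne e => hne (by
    have := congrArg Fin.val e
    simp only [i] at this
    rwa [Nat.mod_eq_of_lt (by omega), Nat.mod_eq_of_lt (by omega)] at this)
  set E : Finset (Fin n) := {i 0, i 1}
  set J : Finset (Fin n) := {i 2, i 3, i 4, i 5}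
  have h01 : i 0 ≠ i 1 := hi (by norm_num) (by norm_num) (by norm_num)
  have hEc : E.card = 2 := Finset.card_pair h01
  have hE0 : 1 < E.card := by omega
  have hJc : J.card = 4 := by
    simp only [J]
    rw [Finset.card_insert_of_notMem, Finset.card_insert_of_notMem, Finset.card_pair] <;>
      simp [hi]
  have hJ0 : 1 < J.card := by omega
  have he : h.sgn E ∈ X := by rw [show h.sgn E = _ from h.sgn_pair h01]; exact hX.signs _ _ h01
  set s := g * h.sgn E * g⁻¹ with hsdef
  set u := h.sgn J with hudef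
  have huX : u ∈ X := by
    have h23 : i 2 ≠ i 3 := hi (by norm_num) (by norm_num) (by norm_num)
    have h45 : i 4 ≠ i 5 := hi (by norm_num) (by norm_num) (by norm_num)
    have : u = h.sgn {i 2, i 3} * h.sgn {i 4, i 5} := by
      rw [h.sgn_mul, hudef]
      congr 1
      ext l
      simp only [J, Finset.mem_symmDiff, Finset.mem_insert, Finset.mem_singleton]
      have := hi (a := 2) (d := 4) (by norm_num) (by norm_num) (by norm_num)
      have := hi (a := 2) (d := 5) (by norm_num) (by norm_num) (by norm_num)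
      have := hi (a := 3) (d := 4) (by norm_num) (by norm_num) (by norm_num)
      have := hi (a := 3) (d := 5) (by norm_num) (by norm_num) (by norm_num)
      by_cases e2 : l = i 2 <;> by_cases e3 : l = i 3 <;> by_cases e4 : l = i 4 <;> by_cases e5 : l = i 5 <;>
        simp_all
    rw [this, h.sgn_pair h23, h.sgn_pair h45]
    exact X.mul_mem (hX.signs _ _ h23) (hX.signs _ _ h45)
  have hsX : s ∈ X := X.mul_mem (X.mul_mem hg he) (X.inv_mem hg)
  have hinv : ∀ K, h.sgn K * h.sgn K = 1 := fun K => by
    rw [h.sgn_mul, symmDiff_self, Finset.bot_eq_empty, h.sgn_empty]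
  have hu2 : u⁻¹ = u := inv_eq_of_mul_eq_one_right (hinv J)
  have hs2 : s⁻¹ = s := inv_eq_of_mul_eq_one_right (by
    rw [hsdef, show g * h.sgn E * g⁻¹ * (g * h.sgn E * g⁻¹) = g * (h.sgn E * h.sgn E) * g⁻¹ by group, hinv,
      mul_one, mul_inv_cancel])
  have huu : u * u = 1 := hinv J
  have hss : s * s = 1 := by rw [← mul_inv_cancel s, hs2]
  set h' := s * u with hh'
  obtain ⟨hsh, huh, hhu, hhs⟩ := inv_pair hss huu
  rw [← hh'] at hsh huh hhu hhs
  have hh'X : h' ∈ X := X.mul_mem hsX huX
  have hpow : ∀ k : ℤ, h' ^ k * g * h.sgn E * (h' ^ k * g)⁻¹ = h' ^ k * s * (h' ^ k)⁻¹ := fun k => by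
    rw [hsdef]; group
  have hgk : ∀ k : ℤ, h' ^ k * g ∈ X := fun k => X.mul_mem (X.zpow_mem hh'X k) hg
  have hcmem : ∀ k : ℤ, h' ^ k * s * (h' ^ k)⁻¹ ∈ X := fun k =>
    X.mul_mem (X.mul_mem (X.zpow_mem hh'X k) hsX) (X.inv_mem (X.zpow_mem hh'X k))
  rcases Nat.even_or_odd' (orderOf h') with ⟨m, hm | hm⟩
  · have hm0 : 0 < m := by have := orderOf_pos h'; omega
    set z := h' ^ (m : ℤ) with hzdef
    have hz1 : z ≠ 1 := by
      rw [hzdef, zpow_natCast]
      exact pow_ne_one_of_lt_orderOf (by omega) (by omega)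
    have hzz : h' ^ (2 * (m : ℤ)) = 1 := by
      rw [show (2 * (m : ℤ)) = ((2 * m : ℕ) : ℤ) by push_cast; ring, zpow_natCast, ← hm, pow_orderOf_eq_one]
    have hzinv : z⁻¹ = z := inv_eq_of_mul_eq_one_right (by rw [hzdef, ← zpow_add, ← two_mul, hzz])
    have hcomm : ∀ t : O q, t * h' * t⁻¹ = h'⁻¹ → Commute z t := by
      intro t ht
      have h1 : t * z * t⁻¹ = z := by
        rw [hzdef, ← conj_zpow, ht, inv_zpow]; exact hzinv
      exact (show t * z = z * t by
        calc t * z = t * z * t⁻¹ * t := by group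
          _ = _ := by rw [h1]).symm
    have hzX : z ∈ X := X.zpow_mem hh'X _
    have hzmono : Mono b z := h.commute_mono hX H0 hJ0 (by omega) hzX (hcomm u huh)
    rcases Nat.even_or_odd' m with ⟨k, hk | hk⟩
    · have hzs : z * s = h' ^ (k : ℤ) * s * (h' ^ (k : ℤ))⁻¹ := by
        rw [conj_shift hsh, hzdef, hk]; push_cast; rfl
      set g' := g⁻¹ * h' ^ (k : ℤ) * g
      set y := g⁻¹ * (z * s) * g with hydef
      have hy : y = g' * h.sgn E * g'⁻¹ := by
        change y = g⁻¹ * h' ^ (k : ℤ) * g * h.sgn E * (g⁻¹ * h' ^ (k : ℤ) * g)⁻¹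
        rw [hydef, hzs, hsdef]; group
      have hyX : y ∈ X := X.mul_mem (X.mul_mem (X.inv_mem hg) (X.mul_mem hzX hsX)) hg
      have hyE : Commute y (h.sgn E) := by
        have h1 : Commute (z * s) s := (hcomm s hsh).mul_left (Commute.refl s)
        have h2 := h1.map (MulAut.conj g⁻¹).toMonoidHom
        simp only [MulEquiv.coe_toMonoidHom, MulAut.conj_apply, inv_inv] at h2
        rwa [show g⁻¹ * s * g = h.sgn E by rw [hsdef]; group] at h2
      have hymono : Mono b y := h.commute_mono hX H0 hE0 (by omega) hyX hyE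
      rw [hy] at hymono
      have hg' : Mono b g' := h.conj_mono hX H0 hn
        (X.mul_mem (X.mul_mem (X.inv_mem hg) (X.zpow_mem hh'X _)) hg) hE0 (by omega) hymono
      obtain ⟨L, hLc, hL⟩ := h.sgn_conj hg' E
      have hzg : g * h.sgn (symmDiff L E) * g⁻¹ = z := by
        rw [← h.sgn_mul, ← hL, ← hy, hydef, show g⁻¹ * (z * s) * g * h.sgn E = g⁻¹ * (z * s) * (g * h.sgn E) by
          group, show g * h.sgn E = s * g by rw [hsdef]; group,
          show g * (g⁻¹ * (z * s) * (s * g)) * g⁻¹ = z * (s * s) by group, hss, mul_one]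
      refine h.conj_mono hX H0 hn hg (K := symmDiff L E) ?_ ?_ (by rw [hzg]; exact hzmono)
      · refine one_lt_card_symmDiff (by omega) (by rw [hLc]) fun e => ?_
        rw [e, h.sgn_empty, mul_one, mul_inv_cancel] at hzg
        exact hz1 hzg.symm
      · have h1 : symmDiff L E ⊆ L ∪ E := fun x hx => by
          rcases Finset.mem_symmDiff.1 hx with ⟨h1, -⟩ | ⟨h1, -⟩ <;> simp [h1]
        have := Finset.card_le_card h1
        have := Finset.card_union_le L E
        omega
    · have hzu : z * u = h' ^ (k : ℤ) * s * (h' ^ (k : ℤ))⁻¹ := by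
        rw [conj_shift hsh, hzdef, hk]
        push_cast
        rw [zpow_add_one, mul_assoc, mul_assoc]
        congr 1
        rw [← hhu, mul_assoc, huu, mul_one]
      have hzuX : z * u ∈ X := X.mul_mem hzX huX
      have hzumono : Mono b (z * u) :=
        h.commute_mono hX H0 hJ0 (by omega) hzuX ((hcomm u huh).mul_left (Commute.refl u))
      rw [hzu, ← hpow] at hzumono
      have hg' := h.conj_mono hX H0 hn (hgk _) hE0 (by omega) hzumono
      obtain ⟨L, hLc, hL⟩ := h.sgn_conj hg' E
      rw [hpow, ← hzu] at hL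
      have hzJ : z = h.sgn (symmDiff L J) := by rw [← h.sgn_mul, ← hL, mul_assoc, huu, mul_one]
      have hs : Mono b s := by
        refine h.commute_mono hX H0 (J := symmDiff L J) ?_ ?_ hsX (hzJ ▸ (hcomm s hsh).symm)
        · have := Finset.card_sdiff_add_card_inter J L
          have := Finset.card_le_card (Finset.inter_subset_right : J ∩ L ⊆ L)
          have := Finset.card_le_card (show J \ L ⊆ symmDiff L J from fun x hx =>
            Finset.mem_symmDiff.2 (Or.inr (Finset.mem_sdiff.1 hx)))
          omega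
        · have h1 : symmDiff L J ⊆ L ∪ J := fun x hx => by
            rcases Finset.mem_symmDiff.1 hx with ⟨h1, -⟩ | ⟨h1, -⟩ <;> simp [h1]
          have := Finset.card_le_card h1
          have := Finset.card_union_le L J
          omega
      exact h.conj_mono hX H0 hn hg hE0 (by omega) hs
  · exfalso
    have hone : h' ^ (2 * (m : ℤ) + 1) = 1 := by
      rw [show (2 * (m : ℤ) + 1) = ((2 * m + 1 : ℕ) : ℤ) by push_cast; ring, zpow_natCast, ← hm,
        pow_orderOf_eq_one]
    have hus : h' ^ (m : ℤ) * s * (h' ^ (m : ℤ))⁻¹ = u := by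
      have h1 : h' ^ (2 * (m : ℤ)) = h'⁻¹ := by
        rw [zpow_add_one] at hone
        exact eq_inv_of_mul_eq_one_left hone
      rw [conj_shift hsh, h1, hhs]
    rw [← hpow] at hus
    have hg' := h.conj_mono hX H0 hn (hgk _) hE0 (by omega) (by rw [hus]; exact h.mono_sgn J)
    obtain ⟨L, hLc, hL⟩ := h.sgn_conj hg' E
    rw [hus] at hL
    have := congrArg Finset.card (h.sgn_inj hL)
    omega

end CfsgLib.GeomClasses.Frame
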