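import Cfsg.Agent.Lib.GeomClasses.FrameAll

/-!
For at least seven frame vectors a root on three or more of them, and not on all but one, gives the whole of `Ω`.
-/

set_option autoImplicit false
set_option linter.unusedSectionVars false

namespace CfsgLib.GeomClasses.Frame

open QuadraticMap CfsgLib.Orth CfsgLib.GeomClasses

variable {ι : Type} [Fintype ι] [DecidableEq ι] {F : Type*} [Field F] [Fintype F]
  {q : QuadraticForm F (ι → F)} {n : ℕ} {b : Fin n → ι → F} {c : F}

variable (h : IsFrame q b c) {X : Subgroup (O q)}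
include h

/-- If the reflection pairs of all unit vectors lie in the group, it contains `Ω`. -/
theorem IsFrame.commutator_le_of_unit' (hn : 7 ≤ n) (a : Fin n)
    (hall : ∀ f, q f = c → refl q f * refl q (b a) ∈ X) : commutator (O q) ≤ X := by
  classical
  have hq := h.nondeg
  have hcard : 7 ≤ Fintype.card ι := by rw [h.card_eq]; exact hn
  refine OrthEich.commutator_le hq (by omega) fun u v hu huv => ?_
  have hpair : ∀ f g, q f = c → q g = c → refl q f * refl q g ∈ X := fun f g hf hg => by
    have := X.mul_mem (hall f hf) (X.inv_mem (hall g hg))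
    rwa [mul_inv_rev, refl_inv, refl_inv, mul_assoc, ← mul_assoc (refl q (b a)), refl_mul_self, one_mul] at this
  have hunit : ∀ w, q w = c → polar q u w = 0 → eich q u w ∈ X := fun w hw huw => by
    rw [eich_eq_refl_mul hu huw (by rw [hw]; exact h.c_ne)]
    refine hpair _ _ hw ?_
    rw [QuadraticMap.map_add ⇑q, QuadraticMap.map_smul, polar_smul_right, hu, polar_comm (f := ⇑q) w u, huw, hw]
    simp
  have hscale : ∀ (t : F) w, q w = c → polar q u w = 0 → eich q u (t • w) ∈ X := fun t w hw huw => by
    have huw' : polar q u (t • w) = 0 := by rw [polar_smul_right, huw, smul_zero]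
    rcases eq_or_ne t 0 with rfl | ht
    · have h0 : eich q u ((0 : F) • u) = 1 := eich_smul_self hu 0
      rw [zero_smul] at h0 ⊢
      rw [h0]
      exact X.one_mem
    have e : eich q u (t • w) = eich q (t • u) w := by
      refine ext_app fun x => ?_
      have hu' : q (t • u) = 0 := by rw [QuadraticMap.map_smul, hu, smul_zero]
      have huw'' : polar q (t • u) w = 0 := by rw [polar_smul_left, huw, smul_zero]
      rw [app_eich hu huw', app_eich hu' huw'']
      simp only [QuadraticMap.map_smul, polar_smul_right, smul_smul, smul_eq_mul]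
      match_scalars <;> ring
    rw [e]
    have hu' : q (t • u) = 0 := by rw [QuadraticMap.map_smul, hu, smul_zero]
    have huw'' : polar q (t • u) w = 0 := by rw [polar_smul_left, huw, smul_zero]
    rw [eich_eq_refl_mul hu' huw'' (by rw [hw]; exact h.c_ne)]
    refine hpair _ _ hw ?_
    rw [QuadraticMap.map_add ⇑q, QuadraticMap.map_smul, polar_smul_right, hu', polar_comm (f := ⇑q) w, huw'', hw]
    simp
  -- two orthogonal vectors of value `c` orthogonal to `u`
  have pick : ∀ W : Submodule F (ι → F), Fintype.card ι + 3 ≤ 2 * Module.finrank F W →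
      ∃ w ∈ W, q w = c := by
    intro W hW
    obtain ⟨s, hs, hqs⟩ : ∃ s ∈ W, q s ≠ 0 := by
      by_contra hc
      push Not at hc
      have := two_finrank_le hq hc
      omega
    obtain ⟨r, hr, hqr⟩ : ∃ r ∈ W ⊓ OrthTools.orth q (Submodule.span F {s}), q r ≠ 0 := by
      by_contra hc
      push Not at hc
      have := two_finrank_le hq hc
      have := OrthTools.finrank_inf_orth hq W s
      omega
    obtain ⟨hrW, hsr⟩ := OrthTools.mem_inf_orth hr
    obtain ⟨x, y, hxy⟩ := exists_binary h.two hqs hqr c
    refine ⟨x • s + y • r, W.add_mem (W.smul_mem _ hs) (W.smul_mem _ hrW), ?_⟩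
    rw [QuadraticMap.map_add ⇑q, QuadraticMap.map_smul, QuadraticMap.map_smul, polar_smul_left,
      polar_smul_right, hsr]
    simp only [smul_eq_mul, mul_zero, add_zero]
    linear_combination hxy
  set W := (⊤ : Submodule F (ι → F)) ⊓ OrthTools.orth q (Submodule.span F {u})
  have hWd : Fintype.card ι ≤ Module.finrank F W + 1 := by
    have := OrthTools.finrank_inf_orth hq ⊤ u
    rwa [finrank_top, Module.finrank_fintype_fun_eq_card] at this
  obtain ⟨w₁, hw₁W, hqw₁⟩ := pick W (by omega)
  obtain ⟨w₂, hw₂, hqw₂⟩ := pick (W ⊓ OrthTools.orth q (Submodule.span F {w₁})) (by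
    have := OrthTools.finrank_inf_orth hq W w₁
    omega)
  obtain ⟨hw₂W, h12⟩ := OrthTools.mem_inf_orth hw₂
  have hu1 : polar q u w₁ = 0 := (OrthTools.mem_inf_orth hw₁W).2
  have hu2 : polar q u w₂ = 0 := (OrthTools.mem_inf_orth hw₂W).2
  set P₁ := polar q v w₁
  set P₂ := polar q v w₂
  obtain ⟨α', β', hαβ⟩ := exists_binary h.two h.c_ne h.c_ne (c - q v + P₁ ^ 2 / (4 * c) + P₂ ^ 2 / (4 * c))
  set α := α' - P₁ / (2 * c) with hα
  set β := β' - P₂ / (2 * c) with hβ
  set v' := v + α • w₁ + β • w₂ with hv'
  have hqv' : q v' = c := by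
    rw [hv', QuadraticMap.map_add ⇑q, QuadraticMap.map_add ⇑q, QuadraticMap.map_smul, QuadraticMap.map_smul,
      polar_smul_right, polar_smul_right, polar_add_left, polar_smul_left, h12, hqw₁, hqw₂]
    simp only [smul_eq_mul, mul_zero, add_zero]
    have := h.two
    have := h.c_ne
    have h4 : (4 : F) = 2 * 2 := by norm_num
    rw [h4] at hαβ
    field_simp at hαβ
    rw [hα, hβ]
    field_simp
    linear_combination hαβ
  have huv' : polar q u v' = 0 := by simp [hv', polar_add_right, polar_smul_right, huv, hu1, hu2]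
  have e : eich q u v = eich q u v' * (eich q u ((-α) • w₁) * eich q u ((-β) • w₂)) := by
    rw [eich_add hu (by rw [polar_smul_right, hu1, smul_zero]) (by rw [polar_smul_right, hu2, smul_zero]),
      eich_add hu huv' (by rw [polar_add_right, polar_smul_right, polar_smul_right, hu1, hu2]; simp)]
    congr 1
    rw [hv']
    module
  rw [e]
  exact X.mul_mem (hunit v' hqv' huv') (X.mul_mem (hscale _ w₁ hqw₁ hu1) (hscale _ w₂ hqw₂ hu2))

variable (hX : HasGens b X) (p : ℕ) [Fact p.Prime] [CharP F p] (hcard : Nat.card F = p)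
include hX hcard

/-- A root on at least three and at most all but two frame vectors gives `Ω`. -/
theorem IsFrame.commutator_le_of_root (hn : 7 ≤ n) {f : ι → F} (hf : Phi q b c X f)
    (hf3 : 3 ≤ (supp q b c f).card) (hfn : (supp q b c f).card + 2 ≤ n) : commutator (O q) ≤ X := by
  suffices H : ∀ v, q v = c → Phi q b c X v from
    h.commutator_le_of_unit' hn ⟨0, by omega⟩ fun v hv => (H v hv).2 _
  have hp2 : p ≠ 2 := fun e => h.two (by exact_mod_cast e ▸ CharP.cast_eq_zero F p)
  have hp := (Fact.out : p.Prime)
  rcases Nat.lt_or_ge p 5 with hp5 | hp5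
  · have hp3 : p = 3 := by
      have := hp.two_le
      interval_cases p <;> first | rfl | exact absurd rfl hp2 | exact absurd hp (by norm_num)
    subst hp3
    refine h.phi_all_three hX (by omega) (by exact_mod_cast CharP.cast_eq_zero F 3) (fun y hy => ?_) hf hf3
    exact pow_pred_eq_one 3 hcard hy
  obtain ⟨g, hg, hgc⟩ : ∃ g, Phi q b c X g ∧ (supp q b c g).card = 3 := by
    rcases (show p = 5 ∨ 7 ≤ p by
      rcases Nat.lt_or_ge p 7 with h | h
      · left; interval_cases p <;> first | rfl | exact absurd hp (by norm_num)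
      · exact Or.inr h) with e | e
    · subst e
      exact h.exists_three_five hX 5 hcard (by omega) (by exact_mod_cast CharP.cast_eq_zero F 5)
        (fun y hy => sq_five hcard hy) hf hf3 hfn
    · exact h.exists_three_big hX p hcard (by omega) e hf hf3 hfn
  exact h.phi_all hX p hcard (by omega) hp5
    (h.phi_le_four hX p hcard (by omega) hp5 (h.phi_le_three hX p hcard (by omega) hp5 hg hgc))

end CfsgLib.GeomClasses.Frame
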