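import Cfsg.Agent.Lib.GeomClasses.Forms


/-! The linear groups of small dimension: general form of a maximality theorem. -/

set_option autoImplicit false

namespace CfsgLib.GeomClasses.MaxLinear.SympCase

open Matrix CfsgLib.GeomClasses

variable {ι : Type} [Fintype ι] [DecidableEq ι] {F : Type*} [Field F]
  {f : (ι → F) → (ι → F) → F}

theorem isSesq_of_symplectic (hf : Cfsg.Geo.IsSymplecticForm f) : IsSesq (RingHom.id F) f :=
  ⟨hf.bilinear.add_left, hf.bilinear.smul_left, hf.bilinear.add_right, hf.bilinear.smul_right⟩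

theorem formTv_mem (hf : Cfsg.Geo.IsSymplecticForm f) (v : ι → F) (c : F) :
    formTv f v c ∈ Cfsg.Geo.similarityGroup f ⊓ Cfsg.Geo.specialLinear ι F := by
  refine ⟨⟨1, fun x y => ?_⟩, formTv_mem_specialLinear _ _ _⟩
  rw [(isSesq_of_symplectic hf).formTv_form (hf.alternating v), hf.skew v y]
  simp
  ring

theorem similarity_of_eigen (hf : Cfsg.Geo.IsSymplecticForm f) (g : GL ι F)
    (h : ∀ v, ∃ c : F, fVec f v ᵥ* ((g⁻¹ : GL ι F) : Matrix ι ι F) =
      c • fVec f ((g : Matrix ι ι F) *ᵥ v)) :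
    g ∈ Cfsg.Geo.similarityGroup f := by
  have hs := isSesq_of_symplectic hf
  choose c hc using h
  have key : ∀ x v, f x v = c v * f ((g : Matrix ι ι F) *ᵥ x) ((g : Matrix ι ι F) *ᵥ v) := by
    intro x v
    have := congrArg (fun φ : ι → F => φ ⬝ᵥ ((g : Matrix ι ι F) *ᵥ x)) (hc v)
    rwa [← dotProduct_mulVec, gl_inv_mulVec_mulVec, smul_dotProduct, hs.fVec_dot, hs.fVec_dot] at this
  have sym : ∀ x v, f x v ≠ 0 → c x = c v := by
    intro x v hxv
    have h1 := key v x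
    rw [hf.skew v x, hf.skew ((g : Matrix ι ι F) *ᵥ v), mul_neg, neg_inj] at h1
    have h2 := h1.symm.trans (key x v)
    have h3 : f ((g : Matrix ι ι F) *ᵥ x) ((g : Matrix ι ι F) *ᵥ v) ≠ 0 := by
      intro h
      rw [key x v, h, mul_zero] at hxv
      exact hxv rfl
    exact mul_right_cancel₀ h3 h2
  have const : ∀ v w, v ≠ 0 → w ≠ 0 → c v = c w := by
    intro v w hv hw
    obtain ⟨x, hx1, hx2⟩ := exists_dot_ne_zero_both (hs.fVec_ne_zero hf.nondegenerate hv)
      (hs.fVec_ne_zero hf.nondegenerate hw)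
    rw [hs.fVec_dot] at hx1 hx2
    rw [← sym x v hx1, ← sym x w hx2]
  by_cases hall : ∀ v : ι → F, v = 0
  · exact ⟨1, fun u v => by rw [hall u, hall v]; simp [hs.zero_left]⟩
  push Not at hall
  obtain ⟨v₀, hv₀⟩ := hall
  have hc0 : c v₀ ≠ 0 := by
    intro h0
    obtain ⟨x, hx⟩ := (hf.nondegenerate v₀ hv₀).1
    exact hx (by rw [key x v₀, h0, zero_mul])
  refine ⟨Units.mk0 (c v₀)⁻¹ (inv_ne_zero hc0), fun u v => ?_⟩
  by_cases hv : v = 0
  · simp [hv, hs.zero_right]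
  · rw [key u v, const v v₀ hv hv₀, Units.val_mk0, ← mul_assoc, inv_mul_cancel₀ hc0, one_mul]

theorem exists_full_axis (hf : Cfsg.Geo.IsSymplecticForm f) {M : Subgroup (GL ι F)}
    (hM : ∀ v c, formTv f v c ∈ M) {w ψ : ι → F} (hw : w ≠ 0)
    (hψw : ψ ⬝ᵥ w = 0) (hmem : tv w ψ ∈ M) (hne : ¬ ∃ c : F, ψ = c • fVec f w) :
    ψ ∈ fullAxes M := by
  have hs := isSesq_of_symplectic hf
  have step : ∀ u, ψ ⬝ᵥ u = 0 → f u w ≠ 0 → ∀ c : F, tv (c • u) ψ ∈ M := by
    intro u hu huw c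
    have hfu : (((c / f w u) • fVec f u) : ι → F) ⬝ᵥ u = 0 := by
      simp [hs.fVec_dot, hf.alternating]
    have hwu : f w u ≠ 0 := by rw [hf.skew]; simpa using huw
    have h1 := M.mul_mem (M.mul_mem (hM u (c / f w u)) hmem) (M.inv_mem (hM u (c / f w u)))
    rw [formTv, tv_conj_tv hfu hψw, hu, zero_smul, sub_zero, smul_dotProduct, hs.fVec_dot,
      smul_eq_mul, div_mul_cancel₀ c hwu] at h1
    have h2 := M.mul_mem (M.inv_mem hmem) h1
    rwa [tv_inv hψw, tv_mul_tv_left (by simp [hψw]) (by simp [dotProduct_add, hψw, hu]),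
      neg_add_cancel_left] at h2
  obtain ⟨u, hu, huw⟩ : ∃ u, ψ ⬝ᵥ u = 0 ∧ f u w ≠ 0 := by
    by_contra h
    push Not at h
    have hψ0 : ψ ≠ 0 := fun h0 => hne ⟨0, by simp [h0]⟩
    obtain ⟨c, hc⟩ := exists_smul_of_ker_le (φ := ψ) (ψ := fVec f w) hψ0
      (fun a ha => by rw [hs.fVec_dot]; exact h a ha)
    have hc0 : c ≠ 0 := by
      rintro rfl
      rw [zero_smul] at hc
      exact hs.fVec_ne_zero hf.nondegenerate hw hc
    exact hne ⟨c⁻¹, by rw [hc, smul_smul, inv_mul_cancel₀ hc0, one_smul]⟩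
  intro v hv
  by_cases hvw : f v w = 0
  · have h4 : f (v + u) w ≠ 0 := by rwa [hs.add_left, hvw, zero_add]
    have h3 := M.mul_mem (step (v + u) (by simp [dotProduct_add, hv, hu]) h4 1) (step u hu huw (-1))
    rw [one_smul] at h3
    rwa [tv_mul_tv_left (by simp [dotProduct_add, hv, hu]) (by simp [hu]), neg_one_smul,
      add_neg_cancel_right] at h3
  · simpa using step v hv hvw 1

theorem maximal_symplectic {F : Type*} [Field F] [Fintype F] (n : ℕ) (hn : 3 ≤ n) (f : (Fin n → F) → (Fin n → F) → F) (hf : Cfsg.Geo.IsSymplecticForm f) : Cfsg.Geo.IsMaximalIn (Cfsg.Geo.specialLinear (Fin n) F) (Cfsg.Geo.similarityGroup f ⊓ Cfsg.Geo.specialLinear (Fin n) F) := by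
  have hs := isSesq_of_symplectic hf
  refine ⟨lt_of_le_of_ne inf_le_right fun heq => ?_, fun M hle hMle => ?_⟩
  · -- a transvection which is not a similitude
    let v : Fin n → F := Pi.single ⟨0, by omega⟩ 1
    have hv : v ≠ 0 := by simp [v]
    obtain ⟨φ, hφv, hφ⟩ : ∃ φ : Fin n → F, φ ⬝ᵥ v = 0 ∧ ¬ ∃ c : F, φ = c • fVec f v := by
      by_contra h
      push Not at h
      obtain ⟨c₁, h1⟩ := h (Pi.single ⟨1, by omega⟩ 1) (by simp [v])
      obtain ⟨c₂, h2⟩ := h (Pi.single ⟨2, by omega⟩ 1) (by simp [v])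
      have e1 := congrFun h1 ⟨1, by omega⟩
      have e2 := congrFun h1 ⟨2, by omega⟩
      have e3 := congrFun h2 ⟨2, by omega⟩
      simp at e1 e2 e3
      rcases e2 with e2 | e2
      · simp [e2] at e1
      · simp [e2] at e3
    obtain ⟨u, hu, huv⟩ : ∃ u, φ ⬝ᵥ u = 0 ∧ f u v ≠ 0 := by
      by_contra h
      push Not at h
      have hφ0 : φ ≠ 0 := fun h0 => hφ ⟨0, by simp [h0]⟩
      obtain ⟨c, hc⟩ := exists_smul_of_ker_le (φ := φ) (ψ := fVec f v) hφ0
        (fun a ha => by rw [hs.fVec_dot]; exact h a ha)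
      have hc0 : c ≠ 0 := by
        rintro rfl
        rw [zero_smul] at hc
        exact hs.fVec_ne_zero hf.nondegenerate hv hc
      exact hφ ⟨c⁻¹, by rw [hc, smul_smul, inv_mul_cancel₀ hc0, one_smul]⟩
    have hg : tv v φ ∈ Cfsg.Geo.specialLinear (Fin n) F := tv_mem_specialLinear _ _
    rw [← heq] at hg
    obtain ⟨c, hc⟩ := hg.1
    have h1 := hc u v
    rw [tv_mulVec hφv, tv_mulVec hφv, hu, hφv, zero_smul, add_zero, add_zero] at h1
    have hc1 : (c : F) = 1 := (mul_eq_right₀ huv).1 h1.symm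
    obtain ⟨y, hy⟩ : ∃ y, φ ⬝ᵥ y ≠ 0 := by
      by_contra h
      push Not at h
      exact hφ ⟨0, dot_right_cancel fun x => by simp [h x]⟩
    have h2 := hc u y
    rw [tv_mulVec hφv, tv_mulVec hφv, hu, zero_smul, add_zero, hc1, one_mul, hs.add_right,
      hs.smul_right, add_eq_left, RingHom.id_apply] at h2
    exact mul_ne_zero hy huv h2
  · by_cases hall : M ≤ Cfsg.Geo.similarityGroup f
    · exact Or.inl (le_antisymm (le_inf hall hMle) hle)
    right
    refine le_antisymm hMle ?_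
    obtain ⟨g, hgM, hg⟩ := SetLike.not_le_iff_exists.1 hall
    obtain ⟨v, hv⟩ : ∃ v, ∀ c : F, fVec f v ᵥ* ((g⁻¹ : GL (Fin n) F) : Matrix (Fin n) (Fin n) F) ≠
        c • fVec f ((g : Matrix (Fin n) (Fin n) F) *ᵥ v) := by
      by_contra h
      push Not at h
      exact hg (similarity_of_eigen hf g h)
    have hv0 : v ≠ 0 := by
      rintro rfl
      apply hv 0
      have : fVec f 0 = 0 := funext fun i => hs.zero_right _
      simp [this]
    have hM : ∀ v c, formTv f v c ∈ M := fun v c => hle (formTv_mem hf v c)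
    have hd : fVec f v ⬝ᵥ v = 0 := by rw [hs.fVec_dot, hf.alternating]
    have hmem := M.mul_mem (M.mul_mem hgM (hM v 1)) (M.inv_mem hgM)
    rw [formTv, one_smul, conj_tv g hd] at hmem
    have hψ := exists_full_axis hf hM (gl_mulVec_ne_zero g hv0)
      (by rw [← dotProduct_mulVec, gl_inv_mulVec_mulVec, hd]) hmem
      (fun ⟨c, hc⟩ => hv c hc)
    have hψ0 : fVec f v ᵥ* ((g⁻¹ : GL (Fin n) F) : Matrix (Fin n) (Fin n) F) ≠ 0 := fun h =>
      hv 0 (by rw [h, zero_smul])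
    generalize fVec f v ᵥ* ((g⁻¹ : GL (Fin n) F) : Matrix (Fin n) (Fin n) F) = ψ at hψ hψ0
    apply specialLinear_le_of_fullAxes_eq_top
    apply hs.span_fVec hf.nondegenerate
    have step : ∀ x, ψ ⬝ᵥ x ≠ 0 → fVec f x ∈ fullAxes M := fun x hx =>
      fVec_mem_of_invariant hs (hf.alternating x) one_ne_zero (hM x 1) hψ hx
    intro x
    by_cases hx : ψ ⬝ᵥ x = 0
    · obtain ⟨a, ha⟩ : ∃ a, ψ ⬝ᵥ a ≠ 0 := by
        by_contra h
        push Not at h
        exact hψ0 (dot_right_cancel fun y => by simp [h y])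
      have := (fullAxes M).sub_mem (step (x + a) (by simpa [dotProduct_add, hx] using ha)) (step a ha)
      rwa [hs.fVec_add, add_sub_cancel_right] at this
    · exact step x hx

end CfsgLib.GeomClasses.MaxLinear.SympCase
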