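import Cfsg.Agent.Lib.GeomClasses.Unit


/-! The linear groups of small dimension: general form of a maximality theorem. -/

set_option autoImplicit false

namespace CfsgLib.GeomClasses.MaxLinear.UnitCase

open Matrix CfsgLib.GeomClasses CfsgLib.GeomClasses.Unit

variable {ι : Type} [Fintype ι] [DecidableEq ι] {F : Type*} [Field F] [Fintype F] {σ : F ≃+* F}
  {f : (ι → F) → (ι → F) → F}

theorem similarity_of_eigen (hf : Cfsg.Geo.IsUnitaryForm σ f) (hn : 2 ≤ Fintype.card ι) (g : GL ι F)
    (h : ∀ v, f v v = 0 → ∃ c : F, fVec f v ᵥ* ((g⁻¹ : GL ι F) : Matrix ι ι F) =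
      c • fVec f ((g : Matrix ι ι F) *ᵥ v)) :
    g ∈ Cfsg.Geo.similarityGroup f := by
  have hs := Unit.sesq hf
  let R : F → (ι → F) → Prop := fun c v =>
    ∀ x, f x v = c * f ((g : Matrix ι ι F) *ᵥ x) ((g : Matrix ι ι F) *ᵥ v)
  have hR : ∀ v, f v v = 0 → ∃ c, R c v := by
    intro v hv
    obtain ⟨c, hc⟩ := h v hv
    refine ⟨c, fun x => ?_⟩
    have := congrArg (fun φ : ι → F => φ ⬝ᵥ ((g : Matrix ι ι F) *ᵥ x)) hc
    rwa [← dotProduct_mulVec, gl_inv_mulVec_mulVec, smul_dotProduct, hs.fVec_dot, hs.fVec_dot] at this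
  have key : ∀ v w, f v v = 0 → f w w = 0 → v ≠ 0 → w ≠ 0 → ∀ a b, R a v → R b w → a = b := by
    intro v w hv hw hv0 hw0 a b ha hb
    obtain ⟨y, hy⟩ := (hf.nondegenerate v hv0).1
    by_cases hdep : ∃ s : F, w = s • v
    · obtain ⟨s, rfl⟩ := hdep
      have hs0 : σ s ≠ 0 := by simpa using fun h0 : s = 0 => hw0 (by simp [h0])
      have e := hb y
      rw [mulVec_smul, Unit.smul_right hf, Unit.smul_right hf, ha y] at e
      have hne : f ((g : Matrix ι ι F) *ᵥ y) ((g : Matrix ι ι F) *ᵥ v) ≠ 0 := fun h0 => hy (by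
        rw [ha y, h0, mul_zero])
      apply mul_right_cancel₀ hne
      apply mul_left_cancel₀ hs0
      linear_combination e
    · -- an isotropic combination
      obtain ⟨s, hs0, hiso⟩ : ∃ s : F, s ≠ 0 ∧ f (v + s • w) (v + s • w) = 0 := by
        by_cases hwv : f w v = 0
        · refine ⟨1, one_ne_zero, ?_⟩
          rw [self_add_smul hf, hv, hw, hwv]
          simp
        · obtain ⟨c, hc0, hc⟩ := exists_skew hf.ne_refl hf.involutive
          refine ⟨c / f w v, div_ne_zero hc0 hwv, ?_⟩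
          rw [self_add_smul hf, hv, hw, div_mul_cancel₀ _ hwv]
          linear_combination hc
      obtain ⟨d, hd⟩ := hR _ hiso
      have hz : σ (a - d) • ((g : Matrix ι ι F) *ᵥ v) + (s * σ (b - d)) • ((g : Matrix ι ι F) *ᵥ w) = 0 := by
        by_contra hne
        obtain ⟨x, hx⟩ := (hf.nondegenerate _ hne).1
        apply hx
        obtain ⟨x', rfl⟩ : ∃ x', x = (g : Matrix ι ι F) *ᵥ x' :=
          ⟨_, (gl_mulVec_inv_mulVec g x).symm⟩
        rw [Unit.add_right hf, Unit.smul_right hf, Unit.smul_right hf, map_mul, hf.involutive,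
          hf.involutive]
        have e := hd x'
        rw [mulVec_add, mulVec_smul, Unit.add_right hf, Unit.add_right hf, Unit.smul_right hf,
          Unit.smul_right hf, ha x', hb x'] at e
        linear_combination e
      have hz' : σ (a - d) • v + (s * σ (b - d)) • w = 0 := gl_mulVec_injective g (by
        simpa [mulVec_add, mulVec_smul] using hz)
      have hb' : s * σ (b - d) = 0 := by
        by_contra h0
        refine hdep ⟨-σ (a - d) / (s * σ (b - d)), ?_⟩
        have e : (s * σ (b - d)) • w = (-σ (a - d)) • v := by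
          rw [neg_smul]; exact eq_neg_of_add_eq_zero_right hz'
        rw [div_eq_inv_mul, mul_smul, ← e, inv_smul_smul₀ h0]
      rw [hb', zero_smul, add_zero, smul_eq_zero] at hz'
      have e1 : a = d := sub_eq_zero.1 (σ.injective (by rw [map_zero]; exact hz'.resolve_right hv0))
      have e2 : b = d := sub_eq_zero.1 (σ.injective (by rw [map_zero]; exact (mul_eq_zero.1 hb').resolve_left hs0))
      rw [e1, e2]
  obtain ⟨v₀, hv00, hv₀⟩ := exists_isotropic hf hn
  obtain ⟨c, hc⟩ := hR v₀ hv₀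
  let W : Submodule F (ι → F) :=
    { carrier := {v | R c v}
      zero_mem' := fun x => by simp [Unit.zero_right hf]
      add_mem' := fun hv hw x => by
        rw [mulVec_add, Unit.add_right hf, Unit.add_right hf, hv x, hw x, mul_add]
      smul_mem' := fun s v hv x => by
        rw [mulVec_smul, Unit.smul_right hf, Unit.smul_right hf, hv x]
        ring }
  have hW : W = ⊤ := span_isotropic hf hn fun v hv => by
    obtain ⟨d, hd⟩ := hR v hv
    by_cases hv0 : v = 0
    · rw [hv0]; exact W.zero_mem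
    have hcd := key v₀ v hv₀ hv hv00 hv0 c d hc hd
    subst hcd
    exact hd
  have hc0 : c ≠ 0 := by
    intro h0
    obtain ⟨x, hx⟩ := (hf.nondegenerate v₀ hv00).1
    exact hx (by rw [hc x, h0, zero_mul])
  refine ⟨Units.mk0 c⁻¹ (inv_ne_zero hc0), fun u v => ?_⟩
  have hv : R c v := (hW ▸ Submodule.mem_top : v ∈ W)
  rw [hv u, Units.val_mk0, ← mul_assoc, inv_mul_cancel₀ hc0, one_mul]

theorem exists_pole (hf : Cfsg.Geo.IsUnitaryForm σ f) (ψ : ι → F) : ∃ p, fVec f p = ψ := by
  have h : fImage hf ⊤ = ⊤ := Submodule.eq_top_of_finrank_eq (by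
    rw [finrank_fImage, finrank_top])
  obtain ⟨p, -, hp⟩ := (show ψ ∈ fImage hf ⊤ by rw [h]; exact Submodule.mem_top)
  exact ⟨p, hp⟩

theorem fVec_conj (hf : Cfsg.Geo.IsUnitaryForm σ f) {u : ι → F} {c : F} (hu : f u u = 0)
    (hc : c + σ c = 0) (p : ι → F) :
    fVec f p ᵥ* (((formTv f u c)⁻¹ : GL ι F) : Matrix ι ι F) =
      fVec f (((formTv f u c : GL ι F) : Matrix ι ι F) *ᵥ p) := by
  refine dot_right_cancel fun x => ?_
  rw [← dotProduct_mulVec, (Unit.sesq hf).fVec_dot, (Unit.sesq hf).fVec_dot]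
  conv_lhs => rw [← formTv_isometry hf hu hc]
  rw [gl_mulVec_inv_mulVec]

/-- The commutator of two transvections, the axis of the second one containing the centre of the first. -/
theorem tv_commutator_mem {M : Subgroup (GL ι F)} {a α b β : ι → F} (ha : α ⬝ᵥ a = 0) (hb : β ⬝ᵥ b = 0)
    (hβa : β ⬝ᵥ a = 0) (h1 : tv a α ∈ M) (h2 : tv b β ∈ M) : tv ((α ⬝ᵥ b) • a) β ∈ M := by
  have h := M.mul_mem (M.mul_mem h2 h1) (M.inv_mem h2)
  rw [tv_conj_tv hb ha, hβa, zero_smul, add_zero] at h
  have h' := M.mul_mem h1 (M.inv_mem h)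
  have h0 : (α - (α ⬝ᵥ b) • β) ⬝ᵥ a = 0 := by rw [sub_dotProduct, smul_dotProduct, ha, hβa, smul_zero, sub_zero]
  rw [tv_inv h0, show -a = (-1 : F) • a by simp, tv_smul_comm h0, tv_mul_tv_right ha (by rw [smul_dotProduct, h0, smul_zero]),
    neg_one_smul, neg_sub, add_sub_cancel, ← tv_smul_comm hβa] at h'
  exact h'

theorem exists_full_axis (hf : Cfsg.Geo.IsUnitaryForm σ f) (hn : 4 ≤ Fintype.card ι)
    {M : Subgroup (GL ι F)} (hM : ∀ v c, f v v = 0 → c + σ c = 0 → formTv f v c ∈ M) {w ψ : ι → F}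
    (hw : w ≠ 0) (hww : f w w = 0) (hψw : ψ ⬝ᵥ w = 0) (hmem : tv w ψ ∈ M)
    (hne : ¬ ∃ c : F, ψ = c • fVec f w) : ψ ∈ fullAxes M := by
  have hs := Unit.sesq hf
  obtain ⟨c₀, hc₀0, hc₀⟩ := exists_skew hf.ne_refl hf.involutive
  have hskew : ∀ k : F, σ k = k → c₀ * k + σ (c₀ * k) = 0 := fun k hk => by
    rw [map_mul, hk]; linear_combination k * hc₀
  have hfix : ∀ a b : F, a + σ a = 0 → b + σ b = 0 → σ (a * b) = a * b := fun a b ha hb => by
    rw [map_mul, eq_neg_of_add_eq_zero_right ha, eq_neg_of_add_eq_zero_right hb]; ring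
  -- the vectors of M with axis ψ
  let T : AddSubgroup (ι → F) :=
    { carrier := {u | ψ ⬝ᵥ u = 0 ∧ tv u ψ ∈ M}
      zero_mem' := ⟨by simp, by rw [tv_zero_left]; exact M.one_mem⟩
      add_mem' := fun {a b} ha hb => ⟨by rw [dotProduct_add, ha.1, hb.1, add_zero],
        tv_mul_tv_left ha.1 hb.1 ▸ M.mul_mem ha.2 hb.2⟩
      neg_mem' := fun {a} ha => ⟨by rw [dotProduct_neg, ha.1, neg_zero],
        tv_inv ha.1 ▸ M.inv_mem ha.2⟩ }
  have step : ∀ p ∈ T, ∀ u, ψ ⬝ᵥ u = 0 → f u u = 0 → ∀ c, c + σ c = 0 → (c * f p u) • u ∈ T := by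
    intro p hp u hu huu c hc
    have hd : (c • fVec f u) ⬝ᵥ u = 0 := by simp [hs.fVec_dot, huu]
    refine ⟨by rw [dotProduct_smul, hu, smul_zero], ?_⟩
    have h1 := M.mul_mem (M.mul_mem (hM u c huu hc) hp.2) (M.inv_mem (hM u c huu hc))
    rw [formTv, tv_conj_tv hd hp.1, hu, zero_smul, sub_zero, smul_dotProduct, hs.fVec_dot,
      smul_eq_mul] at h1
    have h2 := M.mul_mem (M.inv_mem hp.2) h1
    rwa [tv_inv hp.1, tv_mul_tv_left (by simp [hp.1]) (by simp [dotProduct_add, hp.1, hu]),
      neg_add_cancel_left] at h2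
  have hwT : w ∈ T := ⟨hψw, hmem⟩
  -- an isotropic u₁ of pairing one with w
  obtain ⟨u₁, hu₁, hu₁w, hu₁u₁⟩ : ∃ u, ψ ⬝ᵥ u = 0 ∧ f w u = 1 ∧ f u u = 0 := by
    obtain ⟨u, hu, huw⟩ : ∃ u, ψ ⬝ᵥ u = 0 ∧ f u w ≠ 0 := by
      by_contra h
      push Not at h
      have hψ0 : ψ ≠ 0 := fun h0 => hne ⟨0, by simp [h0]⟩
      obtain ⟨c, hc⟩ := exists_smul_of_ker_le (φ := ψ) (ψ := fVec f w) hψ0
        (fun a ha => by rw [hs.fVec_dot]; exact h a ha)
      have hc0 : c ≠ 0 := by
        rintro rfl
        rw [zero_smul] at hc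
        exact hs.fVec_ne_zero hf.nondegenerate hw hc
      exact hne ⟨c⁻¹, by rw [hc, smul_smul, inv_mul_cancel₀ hc0, one_smul]⟩
    set u' := (f u w)⁻¹ • u with hu'
    have hu'w : f u' w = 1 := by rw [hu', Unit.smul_left hf, inv_mul_cancel₀ huw]
    obtain ⟨a, ha⟩ := exists_isotropic_add hf hww (x := u') (by rw [hu'w]; exact one_ne_zero)
    refine ⟨u' + a • w, by simp [hu', dotProduct_add, hu, hψw], ?_, ha⟩
    rw [Unit.add_right hf, Unit.smul_right hf a w w, hww, mul_zero, add_zero, hf.herm, hu'w, map_one]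
  -- skew multiples and fixed multiples
  have skewU : ∀ p : ι → F, p ∈ T → f p u₁ = 1 → ∀ c, c + σ c = 0 → c • u₁ ∈ T := fun p hp hpu c hc => by
    simpa [hpu] using step p hp u₁ hu₁ hu₁u₁ c hc
  have fixW : ∀ k : F, σ k = k → k • w ∈ T := by
    intro k hk
    set d := k / c₀ with hd
    have hdskew : d + σ d = 0 := by
      rw [hd, map_div₀, hk, eq_neg_of_add_eq_zero_right hc₀, div_neg, add_neg_cancel]
    -- vary the isotropic vector along w
    have hu2 : f (u₁ + d • w) (u₁ + d • w) = 0 := by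
      rw [self_add_smul hf, hu₁u₁, hww, hu₁w, mul_one]
      linear_combination hdskew
    have hw2 : f w (u₁ + d • w) = 1 := by
      rw [Unit.add_right hf, Unit.smul_right hf, hww, mul_zero, add_zero, hu₁w]
    have h1 := step w hwT _ (by simp [dotProduct_add, hu₁, hψw]) hu2 c₀ hc₀
    have h2 := skewU w hwT hu₁w c₀ hc₀
    rw [hw2, mul_one, smul_add, smul_smul, hd, mul_div_cancel₀ _ hc₀0] at h1
    simpa using T.sub_mem h1 h2
  -- every multiple of w
  have allW : ∀ s : F, s • w ∈ T := by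
    by_cases hx : ∃ x, ψ ⬝ᵥ x = 0 ∧ f x w = 0 ∧ f x x ≠ 0
    · obtain ⟨x, hx1, hx2, hx3⟩ := hx
      -- a second isotropic vector with non-skew pairing
      obtain ⟨u₂, hu₂, hu₂w, hu₂u₂, hz⟩ : ∃ u, ψ ⬝ᵥ u = 0 ∧ f w u = 1 ∧ f u u = 0 ∧
          f u₁ u + σ (f u₁ u) ≠ 0 := by
        have hyw : f (u₁ - x) w = 1 := by
          rw [Unit.sub_left hf, hx2, sub_zero, hf.herm, hu₁w, map_one]
        obtain ⟨a, ha⟩ := exists_isotropic_add hf hww (x := u₁ - x) (by rw [hyw]; exact one_ne_zero)
        refine ⟨u₁ - x + a • w, by simp [dotProduct_add, dotProduct_sub, hu₁, hx1, hψw], ?_, ha, ?_⟩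
        · rw [Unit.add_right hf, Unit.smul_right hf, hww, mul_zero, add_zero, hf.herm, hyw, map_one]
        · intro h0
          apply hx3
          have e := ha
          rw [self_add_smul hf, hww, Unit.sub_right hf w u₁ x, hu₁w, eq_zero_comm hf hx2, sub_zero, mul_one,
            Unit.sub_left hf, Unit.sub_right hf u₁, Unit.sub_right hf x, hu₁u₁, ← conj_form hf u₁ x] at e
          rw [Unit.add_right hf, Unit.sub_right hf u₁ u₁ x, Unit.smul_right hf, hu₁u₁, hf.herm u₁ w, hu₁w,
            map_one, mul_one, map_add, map_sub, map_zero, hf.involutive] at h0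
          linear_combination e - h0
      -- every multiple of u₂
      set z := f u₁ u₂ with hz'
      have allU : ∀ s : F, s • u₂ ∈ T := by
        intro s
        set k := (s + σ s) / (z + σ z) with hk
        have hkfix : σ k = k := by
          rw [hk, map_div₀, map_add, map_add, hf.involutive, hf.involutive, add_comm (σ s), add_comm (σ z)]
        set r := s - k * z with hr
        have hrskew : r + σ r = 0 := by
          rw [hr, map_sub, map_mul, hkfix]
          have : k * (z + σ z) = s + σ s := by rw [hk, div_mul_cancel₀ _ hz]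
          linear_combination -this
        have h1 : r • u₂ ∈ T := by simpa [hu₂w] using step w hwT u₂ hu₂ hu₂u₂ r hrskew
        have hd : k / c₀ + σ (k / c₀) = 0 := by
          rw [map_div₀, hkfix, eq_neg_of_add_eq_zero_right hc₀, div_neg, add_neg_cancel]
        have h2 := step _ (skewU w hwT hu₁w (k / c₀) hd) u₂ hu₂ hu₂u₂ c₀ hc₀
        rw [Unit.smul_left hf, ← hz', ← mul_assoc, mul_div_cancel₀ _ hc₀0] at h2
        have := T.add_mem h1 h2
        rwa [← add_smul, hr, sub_add_cancel] at this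
      have hu₂wne : f u₂ w ≠ 0 := ne_zero_comm hf (by rw [hu₂w]; exact one_ne_zero)
      intro s
      have h1 := step _ (allU (s / (c₀ * f u₂ w))) w hψw hww c₀ hc₀
      rwa [Unit.smul_left hf, show c₀ * (s / (c₀ * f u₂ w) * f u₂ w) = s by field_simp] at h1
    · -- the pole of the axis is isotropic and spans a totally singular plane with the centre
      push Not at hx
      obtain ⟨p, hp⟩ := exists_pole hf ψ
      have hψdot : ∀ x, ψ ⬝ᵥ x = f x p := fun x => by rw [← hp, hs.fVec_dot]
      have hwp : f w p = 0 := by rw [← hψdot]; exact hψw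
      have hpp : f p p = 0 := by
        set S := Submodule.span F ({ψ, fVec f w} : Set (ι → F)) with hS
        have hmem : ∀ x ∈ dotAnn S, ψ ⬝ᵥ x = 0 ∧ f x w = 0 := fun x hx =>
          ⟨mem_dotAnn.1 hx _ (Submodule.subset_span (Set.mem_insert _ _)),
            by rw [← hs.fVec_dot]; exact mem_dotAnn.1 hx _ (Submodule.subset_span (Set.mem_insert_of_mem _ rfl))⟩
        have hP := le_perp_of_isotropic hf (P := dotAnn S) fun x h => hx x (hmem x h).1 (hmem x h).2
        have h2 := finrank_perp hf (dotAnn S)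
        have h3 : Module.finrank F (dotAnn S) + _ = _ := finrank_dotAnn S
        have h4 : Module.finrank F S ≤ 2 := by
          classical
          have := finrank_span_finset_le_card (R := F) ({ψ, fVec f w} : Finset (ι → F))
          rw [Finset.coe_pair] at this
          exact this.trans Finset.card_le_two
        have heq := Submodule.eq_of_le_of_finrank_le hP (by omega)
        have hpP : p ∈ dotAnn S := by
          rw [heq]
          exact (mem_perp' hf).2 fun x h => by rw [← hψdot]; exact (hmem x h).1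
        rw [← hψdot]
        exact (hmem p hpP).1
      have allP : ∀ r : F, r • p ∈ T := by
        intro r
        set b := r / c₀ with hb
        have hψp : ψ ⬝ᵥ p = 0 := by rw [hψdot, hpp]
        have hu : f (u₁ + b • p) (u₁ + b • p) = 0 := by
          have h1 : f u₁ p = 0 := by rw [← hψdot]; exact hu₁
          rw [self_add_smul hf, hu₁u₁, hpp, eq_zero_comm hf h1]
          simp
        have hwu : f w (u₁ + b • p) = 1 := by
          rw [Unit.add_right hf, Unit.smul_right hf, hu₁w, hwp, mul_zero, add_zero]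
        have h1 := step w hwT _ (by simp [dotProduct_add, hu₁, hψp]) hu c₀ hc₀
        rw [hwu, mul_one] at h1
        have := T.sub_mem h1 (skewU w hwT hu₁w c₀ hc₀)
        rwa [smul_add, add_sub_cancel_left, smul_smul, hb, mul_div_cancel₀ _ hc₀0] at this
      obtain ⟨q, hwq, hqq, hqp⟩ : ∃ q, f w q = 0 ∧ f q q = 0 ∧ f q p ≠ 0 := by
        obtain ⟨y, hy, hyp⟩ : ∃ y, f y w = 0 ∧ f y p ≠ 0 := by
          by_contra h
          push Not at h
          obtain ⟨c, hc⟩ := exists_smul_of_ker_le (φ := fVec f w) (ψ := fVec f p)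
            (hs.fVec_ne_zero hf.nondegenerate hw) (fun a ha => by rw [hs.fVec_dot] at ha ⊢; exact h a ha)
          exact hne ⟨c, by rw [← hp, hc]⟩
        obtain ⟨a, ha⟩ := exists_isotropic_add hf hpp hyp
        refine ⟨y + a • p, ?_, ha, ?_⟩
        · rw [Unit.add_right hf, Unit.smul_right hf, hwp, mul_zero, add_zero]
          exact eq_zero_comm hf hy
        · rwa [Unit.add_left hf, Unit.smul_left hf, hpp, mul_zero, add_zero]
      -- all transvections at q
      have allQ : ∀ r : F, tv (r • q) (fVec f q) ∈ M := by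
        set d := c₀ / f q p with hd
        have hd0 : d ≠ 0 := div_ne_zero hc₀0 hqp
        have hu : f (p + d • q) (p + d • q) = 0 := by
          rw [self_add_smul hf, hpp, hqq, map_mul]
          have e : d * f q p = c₀ := by rw [hd, div_mul_cancel₀ _ hqp]
          have e' : σ d * σ (f q p) = σ c₀ := by rw [← map_mul, e]
          linear_combination e + e' + hc₀
        set k := σ d * σ (f q p) with hk
        have hk0 : k ≠ 0 := by simp [hk, hd0, hqp]
        have hkskew : -k⁻¹ + σ (-k⁻¹) = 0 := by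
          have e : k = -c₀ := by
            rw [hk, ← map_mul, hd, div_mul_cancel₀ _ hqp]
            exact eq_neg_of_add_eq_zero_right hc₀
          rw [e, map_neg, map_inv₀, map_neg, eq_neg_of_add_eq_zero_right hc₀, neg_neg, inv_neg, neg_neg,
            add_neg_cancel]
        have hgp : (formTv f (p + d • q) (-k⁻¹) : GL ι F).val *ᵥ p = (-d) • q := by
          rw [formTv_mulVec hf hu, Unit.add_right hf, Unit.smul_right hf, hpp, zero_add, ← conj_form hf q p,
            ← hk, neg_mul, inv_mul_cancel₀ hk0]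
          module
        intro r
        have hr := allP (r / (-d * σ (-d)))
        have hG := hM _ _ hu hkskew
        have h1 := M.mul_mem (M.mul_mem hG hr.2) (M.inv_mem hG)
        have hσd : σ (-d) ≠ 0 := by simp [hd0]
        rw [conj_tv _ hr.1, mulVec_smul, hgp, ← hp, fVec_conj hf hu hkskew, hgp, hs.fVec_smul,
          ← tv_smul_comm ?_, smul_smul, smul_smul] at h1
        · convert h1 using 2
          congr 1
          simp only [RingHom.coe_coe]
          field_simp
        · rw [smul_smul, dotProduct_smul, hs.fVec_dot, hqq, smul_zero]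
      intro r
      have hψq : ψ ⬝ᵥ q ≠ 0 := by rwa [hψdot]
      have hfq : fVec f q ⬝ᵥ p ≠ 0 := by rw [hs.fVec_dot]; exact ne_zero_comm hf hqp
      -- first to the axis of q, then back
      set t := r / (fVec f q ⬝ᵥ p)
      have h1 := tv_commutator_mem hψw (by rw [dotProduct_smul, hs.fVec_dot, hqq, smul_zero])
        (by rw [hs.fVec_dot]; exact hwq) hmem (allQ (t / (ψ ⬝ᵥ q)))
      rw [dotProduct_smul, smul_eq_mul, div_mul_cancel₀ _ hψq] at h1
      have hp1 := allP 1
      rw [one_smul] at hp1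
      have h2 := tv_commutator_mem (by rw [dotProduct_smul, hs.fVec_dot, hwq, smul_zero]) hp1.1
        (by rw [dotProduct_smul, hψw, smul_zero]) h1 hp1.2
      refine ⟨by rw [dotProduct_smul, hψw, smul_zero], ?_⟩
      rwa [smul_smul, mul_div_cancel₀ _ hfq] at h2
  have hu₁wne : f u₁ w ≠ 0 := ne_zero_comm hf (by rw [hu₁w]; exact one_ne_zero)
  intro v hv
  suffices H : ∀ x, ψ ⬝ᵥ x = 0 → f x w ≠ 0 → x ∈ T by
    by_cases hvw : f v w = 0
    · have := T.sub_mem (H (v + u₁) (by simp [dotProduct_add, hv, hu₁])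
        (by rwa [Unit.add_left hf, hvw, zero_add])) (H u₁ hu₁ hu₁wne)
      rw [add_sub_cancel_right] at this
      exact this.2
    · exact (H v hv hvw).2
  intro x hx hxw
  obtain ⟨a, ha⟩ := exists_isotropic_add hf hww hxw
  have hwx : f w (x + a • w) ≠ 0 := by
    rw [Unit.add_right hf, Unit.smul_right hf, hww, mul_zero, add_zero]
    exact ne_zero_comm hf hxw
  have h1 := step _ (allW (c₀ * f w (x + a • w))⁻¹) (x + a • w) (by simp [dotProduct_add, hx, hψw]) ha c₀ hc₀
  rw [Unit.smul_left hf, mul_inv, show c₀ * (c₀⁻¹ * (f w (x + a • w))⁻¹ * f w (x + a • w)) = 1 by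
    field_simp, one_smul] at h1
  simpa using T.sub_mem h1 (allW a)

/-- An isotropic vector in a subspace of dimension at least two. -/
theorem exists_isotropic_mem (hf : Cfsg.Geo.IsUnitaryForm σ f) {P : Submodule F (ι → F)}
    (hP : 2 ≤ Module.finrank F P) : ∃ u ∈ P, u ≠ 0 ∧ f u u = 0 := by
  obtain ⟨a, ha, ha0⟩ := Submodule.exists_mem_ne_zero_of_ne_bot
    (show P ≠ ⊥ from fun h => by rw [h, finrank_bot] at hP; omega)
  by_cases haa : f a a = 0
  · exact ⟨a, ha, ha0, haa⟩
  obtain ⟨b, hb, hb0, hab⟩ : ∃ b ∈ P, b ≠ 0 ∧ f b a = 0 := by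
    obtain ⟨b, hb, hba⟩ : ∃ b ∈ P, b ∉ Submodule.span F {a} := by
      by_contra h
      push Not at h
      have h1 := Submodule.finrank_mono (show P ≤ Submodule.span F {a} from h)
      rw [finrank_span_singleton ha0] at h1
      omega
    refine ⟨b - (f b a / f a a) • a, P.sub_mem hb (P.smul_mem _ ha), fun h0 => hba ?_, ?_⟩
    · rw [sub_eq_zero.1 h0]
      exact Submodule.smul_mem _ _ (Submodule.mem_span_singleton_self a)
    · rw [Unit.sub_left hf, Unit.smul_left hf, div_mul_cancel₀ _ haa, sub_self]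
  by_cases hbb : f b b = 0
  · exact ⟨b, hb, hb0, hbb⟩
  obtain ⟨x, hx⟩ := exists_norm hf.ne_refl hf.involutive
    (show σ (- f a a / f b b) = - f a a / f b b by rw [map_div₀, map_neg, self_fixed hf, self_fixed hf])
  refine ⟨a + x • b, P.add_mem ha (P.smul_mem _ hb), fun h => ?_, ?_⟩
  · have := congrArg (fun z => f z a) h
    simp only [Unit.add_left hf, Unit.smul_left hf, Unit.zero_left hf, hab, mul_zero, add_zero] at this
    exact haa this
  · rw [self_add_smul hf, hx, hab, mul_zero, map_zero, div_mul_cancel₀ _ hbb]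
    ring

theorem full_axis_anisotropic (hf : Cfsg.Geo.IsUnitaryForm σ f) (hn : 4 ≤ Fintype.card ι)
    {M : Subgroup (GL ι F)} (hM : ∀ v c, f v v = 0 → c + σ c = 0 → formTv f v c ∈ M) {w ψ : ι → F}
    (hww : f w w ≠ 0) (hψw : ψ ⬝ᵥ w = 0) (hmem : tv w ψ ∈ M) : ψ ∈ fullAxes M := by
  have hs := Unit.sesq hf
  obtain ⟨c₀, hc₀0, hc₀⟩ := exists_skew hf.ne_refl hf.involutive
  by_cases hψ0 : ψ = 0
  · rw [hψ0]; exact (fullAxes M).zero_mem
  -- an isotropic vector in the axis, not orthogonal to w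
  obtain ⟨u, hu, huu, hwu⟩ : ∃ u, ψ ⬝ᵥ u = 0 ∧ f u u = 0 ∧ f w u ≠ 0 := by
    obtain ⟨b, hbψ, hbw, hbb⟩ : ∃ b, ψ ⬝ᵥ b = 0 ∧ f b w = 0 ∧ f b b ≠ 0 := by
      by_contra h
      push Not at h
      set S := Submodule.span F ({ψ, fVec f w} : Set (ι → F)) with hS
      have hmem : ∀ x ∈ dotAnn S, ψ ⬝ᵥ x = 0 ∧ f x w = 0 := fun x hx =>
        ⟨mem_dotAnn.1 hx _ (Submodule.subset_span (Set.mem_insert _ _)),
          by rw [← hs.fVec_dot]; exact mem_dotAnn.1 hx _ (Submodule.subset_span (Set.mem_insert_of_mem _ rfl))⟩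
      have hP := le_perp_of_isotropic hf (P := dotAnn S) fun x h' => h x (hmem x h').1 (hmem x h').2
      have h2 := finrank_perp hf (dotAnn S)
      have h3 : Module.finrank F (dotAnn S) + _ = _ := finrank_dotAnn S
      have h4 : Module.finrank F S ≤ 2 := by
        classical
        have := finrank_span_finset_le_card (R := F) ({ψ, fVec f w} : Finset (ι → F))
        rw [Finset.coe_pair] at this
        exact this.trans Finset.card_le_two
      have heq := Submodule.eq_of_le_of_finrank_le hP (by omega)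
      have hwP : w ∈ dotAnn S := by
        rw [heq]
        exact (mem_perp' hf).2 fun x hx => (hmem x hx).2
      exact hww (hmem w hwP).2
    obtain ⟨x, hx⟩ := exists_norm hf.ne_refl hf.involutive
      (show σ (- f w w / f b b) = - f w w / f b b by rw [map_div₀, map_neg, self_fixed hf, self_fixed hf])
    refine ⟨w + x • b, by simp [dotProduct_add, hψw, hbψ], ?_, ?_⟩
    · rw [self_add_smul hf, hx, hbw, mul_zero, div_mul_cancel₀ _ hbb]
      simp
    · rwa [Unit.add_right hf, Unit.smul_right hf, eq_zero_comm hf hbw, mul_zero, add_zero]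
  -- move the centre to an isotropic one
  have hd : (c₀ • fVec f u) ⬝ᵥ u = 0 := by simp [hs.fVec_dot, huu]
  have h1 := M.mul_mem (M.mul_mem (hM u c₀ huu hc₀) hmem) (M.inv_mem (hM u c₀ huu hc₀))
  rw [formTv, tv_conj_tv hd hψw, hu, zero_smul, sub_zero, smul_dotProduct, hs.fVec_dot, smul_eq_mul] at h1
  have h2 := M.mul_mem (M.inv_mem hmem) h1
  rw [tv_inv hψw, tv_mul_tv_left (by simp [hψw]) (by simp [dotProduct_add, hψw, hu]),
    neg_add_cancel_left] at h2
  have hcw : c₀ * f w u ≠ 0 := mul_ne_zero hc₀0 hwu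
  have hu0 : u ≠ 0 := fun h => hwu (by rw [h, Unit.zero_right hf])
  refine exists_full_axis hf hn hM (smul_ne_zero hcw hu0)
    (by rw [Unit.smul_left hf, Unit.smul_right hf, huu, mul_zero, mul_zero])
    (by rw [dotProduct_smul, hu, smul_zero]) h2 ?_
  rintro ⟨c, hc⟩
  have e : ψ ⬝ᵥ w = c * f w ((c₀ * f w u) • u) := by
    rw [hc, smul_dotProduct, hs.fVec_dot, smul_eq_mul]
  rw [hψw, Unit.smul_right hf] at e
  have hc0 : c ≠ 0 := by
    rintro rfl
    exact hψ0 (by rw [hc, zero_smul])
  exact mul_ne_zero hc0 (mul_ne_zero (by simpa using hcw) hwu) e.symm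

theorem maximal_unitary {F : Type*} [Field F] [Fintype F] (n : ℕ) (hn : 4 ≤ n) (σ : F ≃+* F) (f : (Fin n → F) → (Fin n → F) → F) (hf : Cfsg.Geo.IsUnitaryForm σ f) : Cfsg.Geo.IsMaximalIn (Cfsg.Geo.specialLinear (Fin n) F) (Cfsg.Geo.similarityGroup f ⊓ Cfsg.Geo.specialLinear (Fin n) F) := by
  have hs := Unit.sesq hf
  have hcard : Fintype.card (Fin n) = n := Fintype.card_fin n
  refine ⟨lt_of_le_of_ne inf_le_right fun heq => ?_, fun M hle hMle => ?_⟩
  · obtain ⟨v, hv0, hv⟩ := exists_isotropic hf (by omega)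
    obtain ⟨φ, hφv, hφ⟩ : ∃ φ : Fin n → F, φ ⬝ᵥ v = 0 ∧ ¬ ∃ c : F, φ = c • fVec f v := by
      by_contra h
      push Not at h
      have hle' : dotAnn (Submodule.span F {v}) ≤ Submodule.span F {fVec f v} := fun φ hφ => by
        obtain ⟨c, rfl⟩ := h φ (by
          rw [dotProduct_comm]; exact mem_dotAnn.1 hφ v (Submodule.mem_span_singleton_self v))
        exact Submodule.smul_mem _ _ (Submodule.mem_span_singleton_self _)
      have h1 := Submodule.finrank_mono hle'
      have h2 : Module.finrank F (dotAnn (Submodule.span F {v})) + _ = _ :=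
        finrank_dotAnn (Submodule.span F {v})
      rw [finrank_span_singleton hv0] at h2
      rw [finrank_span_singleton (hs.fVec_ne_zero hf.nondegenerate hv0)] at h1
      omega
    obtain ⟨u, hu, huv⟩ : ∃ u, φ ⬝ᵥ u = 0 ∧ f u v ≠ 0 := by
      by_contra h
      push Not at h
      have hφ0 : φ ≠ 0 := fun h0 => hφ ⟨0, by simp [h0]⟩
      obtain ⟨c, hc⟩ := exists_smul_of_ker_le (φ := φ) (ψ := fVec f v) hφ0
        (fun a ha => by rw [hs.fVec_dot]; exact h a ha)
      have hc0 : c ≠ 0 := by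
        rintro rfl
        rw [zero_smul] at hc
        exact hs.fVec_ne_zero hf.nondegenerate hv0 hc
      exact hφ ⟨c⁻¹, by rw [hc, smul_smul, inv_mul_cancel₀ hc0, one_smul]⟩
    have hg : tv v φ ∈ Cfsg.Geo.specialLinear (Fin n) F := tv_mem_specialLinear _ _
    rw [← heq] at hg
    obtain ⟨c, hc⟩ := hg.1
    have h1 := hc u v
    rw [tv_mulVec hφv, tv_mulVec hφv, hu, hφv, zero_smul, add_zero, add_zero] at h1
    have hc1 : (c : F) = 1 := (mul_eq_right₀ huv).1 h1.symm
    obtain ⟨y, hy⟩ : ∃ y, φ ⬝ᵥ y ≠ 0 := by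
      by_contra h
      push Not at h
      exact hφ ⟨0, dot_right_cancel fun x => by simp [h x]⟩
    have h2 := hc u y
    rw [tv_mulVec hφv, tv_mulVec hφv, hu, zero_smul, add_zero, hc1, one_mul, Unit.add_right hf,
      Unit.smul_right hf, add_eq_left] at h2
    exact mul_ne_zero (by simpa using hy) huv h2
  · by_cases hall : M ≤ Cfsg.Geo.similarityGroup f
    · exact Or.inl (le_antisymm (le_inf hall hMle) hle)
    right
    refine le_antisymm hMle ?_
    obtain ⟨g, hgM, hg⟩ := SetLike.not_le_iff_exists.1 hall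
    obtain ⟨v, hv, hvv⟩ : ∃ v, f v v = 0 ∧ ∀ c : F,
        fVec f v ᵥ* ((g⁻¹ : GL (Fin n) F) : Matrix (Fin n) (Fin n) F) ≠
          c • fVec f ((g : Matrix (Fin n) (Fin n) F) *ᵥ v) := by
      by_contra h
      push Not at h
      exact hg (similarity_of_eigen hf (by omega) g h)
    have hv0 : v ≠ 0 := by
      rintro rfl
      apply hvv 0
      have : fVec f 0 = 0 := funext fun i => hs.zero_right _
      simp [this]
    have hM : ∀ v c, f v v = 0 → c + σ c = 0 → formTv f v c ∈ M :=
      fun v c h1 h2 => hle (formTv_mem_similarity hf h1 h2)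
    obtain ⟨c₀, hc₀0, hc₀⟩ := exists_skew hf.ne_refl hf.involutive
    set w := (g : Matrix (Fin n) (Fin n) F) *ᵥ v with hw
    set ψ := (c₀ • fVec f v) ᵥ* ((g⁻¹ : GL (Fin n) F) : Matrix (Fin n) (Fin n) F) with hψdef
    have hd : (c₀ • fVec f v) ⬝ᵥ v = 0 := by rw [smul_dotProduct, hs.fVec_dot, hv, smul_zero]
    have hmem := M.mul_mem (M.mul_mem hgM (hM v c₀ hv hc₀)) (M.inv_mem hgM)
    rw [formTv, conj_tv g hd, ← hw, ← hψdef] at hmem
    have hψw : ψ ⬝ᵥ w = 0 := by rw [hψdef, hw, ← dotProduct_mulVec, gl_inv_mulVec_mulVec, hd]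
    have hne : ¬ ∃ c : F, ψ = c • fVec f w := by
      rintro ⟨c, hc⟩
      apply hvv (c / c₀)
      rw [hψdef, smul_vecMul] at hc
      rw [div_eq_inv_mul, mul_smul, ← hc, inv_smul_smul₀ hc₀0]
    have hw0 : w ≠ 0 := gl_mulVec_ne_zero g hv0
    -- the centre of the conjugated transvection is again isotropic
    have hψ : ψ ∈ fullAxes M := by
      by_cases hww : f w w = 0
      · exact exists_full_axis hf (by omega) hM hw0 hww hψw hmem hne
      · exact full_axis_anisotropic hf (by omega) hM hww hψw hmem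
    have hψ0 : ψ ≠ 0 := fun h => hne ⟨0, by rw [h, zero_smul]⟩
    apply specialLinear_le_of_fullAxes_eq_top
    apply hs.span_fVec hf.nondegenerate
    have step : ∀ x, f x x = 0 → ψ ⬝ᵥ x ≠ 0 → fVec f x ∈ fullAxes M := fun x hxx hx =>
      fVec_mem_of_invariant hs hxx hc₀0 (hM x c₀ hxx hc₀) hψ hx
    obtain ⟨a, haa, ha⟩ : ∃ a, f a a = 0 ∧ ψ ⬝ᵥ a ≠ 0 := by
      by_contra h
      push Not at h
      let W : Submodule F (Fin n → F) :=
        { carrier := {x | ψ ⬝ᵥ x = 0}
          zero_mem' := dotProduct_zero ψ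
          add_mem' := fun {p q} (hp : ψ ⬝ᵥ p = 0) (hq : ψ ⬝ᵥ q = 0) => by simp [dotProduct_add, hp, hq]
          smul_mem' := fun c p (hp : ψ ⬝ᵥ p = 0) => by simp [hp] }
      have hW : W = ⊤ := span_isotropic hf (by omega) h
      exact hψ0 (dot_right_cancel fun x => by
        rw [zero_dotProduct]; exact (hW ▸ Submodule.mem_top : x ∈ W))
    have all : ∀ x, f x x = 0 → fVec f x ∈ fullAxes M := by
      intro x hxx
      by_cases hx : ψ ⬝ᵥ x = 0
      · by_cases hax : f a x = 0
        · have := (fullAxes M).sub_mem (step (a + x) (by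
            rw [Unit.add_left hf, Unit.add_right hf, Unit.add_right hf, haa, hxx, hax,
              eq_zero_comm hf hax]; simp)
            (by simpa [dotProduct_add, hx] using ha)) (step a haa ha)
          rwa [hs.fVec_add, add_sub_cancel_left] at this
        · refine fVec_mem_of_invariant hs hxx hc₀0 (hM x c₀ hxx hc₀) (step a haa ha) ?_
          rw [hs.fVec_dot]
          exact ne_zero_comm hf hax
      · exact step x hxx hx
    intro v
    let W : Submodule F (Fin n → F) :=
      { carrier := {x | fVec f x ∈ fullAxes M}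
        zero_mem' := by
          have : fVec f 0 = 0 := funext fun i => hs.zero_right _
          simp [this]
        add_mem' := fun {p q} (hp : fVec f p ∈ fullAxes M) (hq : fVec f q ∈ fullAxes M) => by
          change fVec f (p + q) ∈ fullAxes M
          rw [hs.fVec_add]; exact (fullAxes M).add_mem hp hq
        smul_mem' := fun c p (hp : fVec f p ∈ fullAxes M) => by
          change fVec f (c • p) ∈ fullAxes M
          rw [hs.fVec_smul]; exact (fullAxes M).smul_mem _ hp }
    exact ((span_isotropic hf (by omega) all : W = ⊤) ▸ Submodule.mem_top : v ∈ W)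

end CfsgLib.GeomClasses.MaxLinear.UnitCase
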