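import Cfsg.Agent.Lib.GeomClasses.OrthEich

/-!
Stabilizers of totally singular and of non-degenerate subspaces, and of non-singular lines in characteristic
two, are maximal in `Ω`.
-/

set_option autoImplicit false
set_option linter.unusedSectionVars false

namespace CfsgLib.GeomClasses.OrthSubspace

open Matrix QuadraticMap CfsgLib.Maximal.TensorTools CfsgLib.Orth CfsgLib.GeomClasses.OrthEich

variable {ι : Type} [Fintype ι] [DecidableEq ι] {F : Type*} [Field F] [Fintype F]
  {q : QuadraticForm F (ι → F)} (hq : q.polarBilin.Nondegenerate) (hn : 7 ≤ Fintype.card ι)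
include hq hn

/-- Outside a subspace which is its own double orthogonal there is an orthogonal vector pairing non-trivially. -/
theorem exists_orth_pairing {W : Submodule F (ι → F)} {v : ι → F} (hv : v ∉ W) :
    ∃ y, y ∈ OrthTools.orth q W ∧ polar q y v ≠ 0 := by
  by_contra hc
  push Not at hc
  apply hv
  rw [← LinearMap.BilinForm.orthogonal_orthogonal hq (polarBilin_isRefl hq) W]
  exact LinearMap.BilinForm.mem_orthogonal_iff.2 fun y hy => hc y hy

theorem exists_nonzero_pairing {x : ι → F} (hx : x ≠ 0) :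
    ∃ y ∈ (⊤ : Submodule F (ι → F)), polar q x y ≠ 0 := by
  obtain ⟨a, ha⟩ := exists_polar_eq_one hq hx
  exact ⟨a, trivial, by rw [ha]; exact one_ne_zero⟩

/-- `Ω` does not stabilize a non-zero proper subspace. -/
theorem not_le_stab {W : Submodule F (ι → F)} (hW0 : W ≠ ⊥) (hW1 : W ≠ ⊤) :
    ¬ commutator (O q) ≤ stab q W := by
  intro hle
  obtain ⟨s, hs, hs0⟩ := Submodule.exists_mem_ne_zero_of_ne_bot hW0
  obtain ⟨y, hy, hsy⟩ := exists_nonzero_pairing hq hn hs0
  refine hW1 (top_le_iff.1 (absorb hq (S := W) (X := ⊤) (fun x _ hx => exists_nonzero_pairing hq hn hx)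
    (by rw [finrank_top, Module.finrank_fintype_fun_eq_card]; omega)
    (fun w _ a _ hw hwa s hs => ?_) hs hy hsy))
  exact mem_stab.1 (hle (eich_mem hq (by omega) hw hwa)) s hs

/-- The stabilizer of a totally singular subspace is maximal, unless the subspace is a hyperplane of a
totally singular subspace of half dimension. -/
theorem maximal_singular {W : Submodule F (ι → F)} (hW0 : W ≠ ⊥) (hW : ∀ x ∈ W, q x = 0)
    (hd : ∀ U : Submodule F (ι → F), (∀ x ∈ U, q x = 0) → Module.finrank F U = Module.finrank F W + 1 →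
      2 * Module.finrank F U ≠ Fintype.card ι) :
    Cfsg.Geo.IsMaximalIn (commutator (O q)) (stab q W ⊓ commutator (O q)) := by
  classical
  have hn7 : 7 ≤ Fintype.card ι := by omega
  have hWW : ∀ x ∈ W, ∀ y ∈ W, polar q x y = 0 := fun x hx y hy => by
    simp [QuadraticMap.polar, hW x hx, hW y hy, hW _ (W.add_mem hx hy)]
  have hk := two_finrank_le hq hW
  have hW1 : W ≠ ⊤ := fun h => by
    rw [h, finrank_top, Module.finrank_fintype_fun_eq_card] at hk; omega
  refine ⟨lt_of_le_of_ne inf_le_right fun he => not_le_stab hq hn hW0 hW1 (by rw [← he]; exact inf_le_left),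
    fun M hle hMC => ?_⟩
  by_cases hall : M ≤ stab q W
  · exact Or.inl (le_antisymm (le_inf hall hMC) hle)
  right
  refine le_antisymm hMC ?_
  obtain ⟨g, hgM, hg⟩ := SetLike.not_le_iff_exists.1 hall
  rw [mem_stab] at hg
  push Not at hg
  obtain ⟨w₀, hw₀, hgw₀⟩ := hg
  have hfullW : ∀ u ∈ W, Full M u := fun u hu => ⟨hW u hu, fun a ha => hle ⟨mem_stab.2 fun x hx => by
    rw [app_eich (hW u hu) ha, hWW x hx u hu, zero_smul, add_zero]
    exact W.add_mem hx (W.smul_mem _ hu), eich_mem hq hn7 (hW u hu) ha⟩⟩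
  set v := app g w₀ with hv
  have hfv : Full M v := full_conj hgM (hfullW w₀ hw₀)
  by_cases hcase : ∃ w ∈ W, polar q v w ≠ 0
  · obtain ⟨w, hw, hvw⟩ := hcase
    exact commutator_le_of_pair hq hn7 (hfullW w hw) hfv hvw
  push Not at hcase
  have hvorth : v ∈ OrthTools.orth q W := OrthTools.mem_orth.2 fun y hy => by
    rw [polar_comm]; exact hcase y hy
  obtain ⟨y, hy, hyv⟩ := exists_orth_pairing hq hn hgw₀
  set a := y + (-q y / polar q y v) • v with ha
  have hqa : q a = 0 := by
    rw [ha, QuadraticMap.map_add ⇑q, QuadraticMap.map_smul, hfv.1, polar_smul_right]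
    simp [div_mul_cancel₀ _ hyv]
  have haW : a ∈ OrthTools.orth q W := Submodule.add_mem _ hy (Submodule.smul_mem _ _ hvorth)
  have hav : polar q v a ≠ 0 := by
    rw [ha, polar_add_right, polar_smul_right, polar_self', hfv.1, mul_zero, smul_zero, add_zero, polar_comm]
    exact hyv
  obtain ⟨c, hc, hac, hqc⟩ : ∃ c ∈ OrthTools.orth q W, polar q a c = 0 ∧ q c ≠ 0 := by
    by_contra hc
    push Not at hc
    set X := OrthTools.orth q W ⊓ OrthTools.orth q (Submodule.span F {a})
    have h1 := two_finrank_le hq (W := X) fun x hx => hc x hx.1 (OrthTools.mem_inf_orth hx).2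
    have h2 : Module.finrank F (OrthTools.orth q W) ≤ Module.finrank F X + 1 := OrthTools.finrank_inf_orth hq _ a
    rw [OrthTools.finrank_orth hq] at h2
    have hts : ∀ x ∈ W ⊔ Submodule.span F {v}, q x = 0 := by
      intro x hx
      obtain ⟨w, hw, z, hz, rfl⟩ := Submodule.mem_sup.1 hx
      obtain ⟨t, rfl⟩ := Submodule.mem_span_singleton.1 hz
      rw [QuadraticMap.map_add ⇑q, QuadraticMap.map_smul, hfv.1, polar_smul_right, hW w hw,
        polar_comm (f := ⇑q) w v, hcase w hw]
      simp
    have h3 : Module.finrank F W + 1 ≤ Module.finrank F ↥(W ⊔ Submodule.span F {v}) :=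
      Submodule.finrank_lt_finrank_of_lt (lt_of_le_of_ne le_sup_left fun he => hgw₀ (by
        rw [he]; exact Submodule.mem_sup_right (Submodule.mem_span_singleton_self v)))
    have h5 : Module.finrank F ↥(W ⊔ Submodule.span F {v}) ≤ Module.finrank F W + 1 :=
      (Submodule.finrank_add_le_finrank_add_finrank _ _).trans (Nat.add_le_add_left
        ((finrank_span_le_card ({v} : Set (ι → F))).trans (by simp)) _)
    have h6 := two_finrank_le hq hts
    exact hd _ hts (le_antisymm h5 h3) (by omega)
  have hE : eich q a c ∈ M := hle ⟨mem_stab.2 fun x hx => by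
    rw [app_eich hqa hac, OrthTools.mem_orth.1 haW x hx, OrthTools.mem_orth.1 hc x hx]
    simpa using hx, eich_mem hq hn7 hqa hac⟩
  refine commutator_le_of_pair hq hn7 hfv (full_conj hE hfv) ?_
  rw [app_eich hqa hac, polar_add_left, polar_add_left, polar_smul_left, polar_smul_left, polar_self', hfv.1,
    polar_comm (f := ⇑q) c v, polar_comm (f := ⇑q) a v]
  simp only [smul_eq_mul, mul_zero, zero_add]
  rw [show polar q v a * polar q v c + (-polar q v c - q c * polar q v a) * polar q v a =
    -(q c * polar q v a * polar q v a) by ring]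
  exact neg_ne_zero.2 (mul_ne_zero (mul_ne_zero hqc hav) hav)

/-- In characteristic two the stabilizer of a non-singular line is maximal. -/
theorem maximal_line (h2 : (2 : F) = 0) {v : ι → F} (hv : q v ≠ 0) :
    Cfsg.Geo.IsMaximalIn (commutator (O q))
      (stab q (Submodule.span F {v}) ⊓ commutator (O q)) := by
  classical
  have hn7 : 7 ≤ Fintype.card ι := by omega
  have hv0 : v ≠ 0 := fun h => hv (by rw [h, QuadraticMap.map_zero])
  set W := Submodule.span F ({v} : Set (ι → F)) with hWdef
  have hW0 : W ≠ ⊥ := fun h => hv0 (by simpa [hWdef] using h)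
  have hW1 : W ≠ ⊤ := fun h => by
    have h1 := finrank_span_singleton (K := F) hv0
    rw [← hWdef, h, finrank_top, Module.finrank_fintype_fun_eq_card] at h1
    omega
  refine ⟨lt_of_le_of_ne inf_le_right fun he => not_le_stab hq hn hW0 hW1 (by rw [← he]; exact inf_le_left),
    fun M hle hMC => ?_⟩
  by_cases hall : M ≤ stab q W
  · exact Or.inl (le_antisymm (le_inf hall hMC) hle)
  right
  refine le_antisymm hMC ?_
  obtain ⟨g, hgM, hg⟩ := SetLike.not_le_iff_exists.1 hall
  set v' := app g v with hv'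
  have hv'W : v' ∉ W := fun hin => hg (mem_stab.2 fun x hx => by
    obtain ⟨t, rfl⟩ := Submodule.mem_span_singleton.1 hx
    rw [map_smul]
    exact W.smul_mem t hin)
  have hbase : ∀ u a, q u = 0 → polar q u a = 0 → polar q v u = 0 → polar q v a = 0 → eich q u a ∈ M := by
    intro u a hu hua hvu hva
    refine hle ⟨mem_stab.2 fun x hx => ?_, eich_mem hq hn7 hu hua⟩
    obtain ⟨t, rfl⟩ := Submodule.mem_span_singleton.1 hx
    rw [app_eich hu hua, polar_smul_left, polar_smul_left, hvu, hva]
    simpa using hx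
  have hbase' : ∀ u a, q u = 0 → polar q u a = 0 → polar q v' u = 0 → polar q v' a = 0 → eich q u a ∈ M := by
    intro u a hu hua hvu hva
    have hg' : ∀ z, polar q v (app g⁻¹ z) = polar q v' z := fun z => by rw [← polar_app g, app_app_inv]
    have hua' : polar q (app g⁻¹ u) (app g⁻¹ a) = 0 := by rw [polar_app, hua]
    have h1 := M.mul_mem (M.mul_mem hgM (hbase (app g⁻¹ u) (app g⁻¹ a) (by rw [Q_app, hu]) hua'
      (by rw [hg', hvu]) (by rw [hg', hva]))) (M.inv_mem hgM)
    rwa [eich_conj (by rw [Q_app, hu]) hua', app_app_inv, app_app_inv] at h1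
  set P := Submodule.span F ({v, v'} : Set (ι → F)) with hP
  have hfull : ∀ u, q u = 0 → u ∉ P → polar q v u = 0 → polar q v' u = 0 → Full M u := by
    intro u hu huP hvu hv'u
    have hvu' : v ∉ Submodule.span F ({u, v'} : Set (ι → F)) := fun hin => by
      obtain ⟨α, β, hab⟩ := Submodule.mem_span_pair.1 hin
      by_cases hα : α = 0
      · rw [hα, zero_smul, zero_add] at hab
        have hβ : β ≠ 0 := fun h0 => hv0 (by rw [← hab, h0, zero_smul])
        exact hv'W (Submodule.mem_span_singleton.2 ⟨β⁻¹, by rw [← hab, inv_smul_smul₀ hβ]⟩)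
      · refine huP (Submodule.mem_span_pair.2 ⟨α⁻¹, -(α⁻¹ * β), ?_⟩)
        rw [← hab, smul_add, inv_smul_smul₀ hα]
        module
    obtain ⟨z, hz, hzv⟩ := exists_orth_pairing hq hn hvu'
    rw [mem_orth_pair] at hz
    refine ⟨hu, fun a ha => ?_⟩
    set t := polar q a v / polar q z v
    have h1 : polar q u (t • z) = 0 := by rw [polar_smul_right, hz.1, smul_zero]
    have h3 : polar q u (a - t • z) = 0 := by rw [polar_sub_right, ha, h1, sub_zero]
    rw [show a = t • z + (a - t • z) by abel, ← eich_add hu h1 h3]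
    refine M.mul_mem (hbase' u _ hu h1 hv'u (by rw [polar_smul_right, hz.2, smul_zero])) (hbase u _ hu h3 hvu ?_)
    rw [polar_comm, polar_sub_left, polar_smul_left, smul_eq_mul, div_mul_cancel₀ _ hzv, sub_self]
  set X := OrthTools.orth q P with hX
  obtain ⟨C, hC⟩ := Submodule.exists_isCompl P
  have h1 := OrthTools.finrank_orth hq P
  have h3 := finrank_pair_le (F := F) v v'
  have h4 := Submodule.finrank_add_eq_of_isCompl hC
  have h5 := Submodule.finrank_sup_add_finrank_inf_eq X C
  have h6 := Submodule.finrank_le (X ⊔ C)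
  rw [Module.finrank_fintype_fun_eq_card] at h4 h6
  rw [← hX] at h1
  obtain ⟨u, ⟨huX, huC⟩, hu0, hu⟩ := OrthTools.exists_singular hq (X ⊓ C) (by rw [← hP] at h3; omega)
  have huP : u ∉ P := fun h => hu0 (Submodule.disjoint_def.1 hC.disjoint u h huC)
  obtain ⟨y, hy, hyu⟩ := exists_orth_pairing hq hn huP
  set u' := y + (-q y / polar q y u) • u with hu'
  have hqu' : q u' = 0 := by
    rw [hu', QuadraticMap.map_add ⇑q, QuadraticMap.map_smul, hu, polar_smul_right]
    simp [div_mul_cancel₀ _ hyu]
  have huu' : polar q u' u ≠ 0 := by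
    rwa [hu', polar_add_left, polar_smul_left, polar_self', hu, mul_zero, smul_zero, add_zero]
  have hu'P : u' ∉ P := fun hin => huu' (by
    exact OrthTools.mem_orth.1 huX u' hin)
  have hu'X : u' ∈ X := X.add_mem hy (X.smul_mem _ huX)
  replace huX := mem_orth_pair.1 huX
  replace hu'X := mem_orth_pair.1 hu'X
  exact commutator_le_of_pair hq hn7 (hfull u hu huP huX.1 huX.2) (hfull u' hqu' hu'P hu'X.1 hu'X.2) huu'

/-- A non-degenerate subspace of dimension at least two takes every value, in odd characteristic. -/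
theorem exists_value_two (h2 : (2 : F) ≠ 0) {X : Submodule F (ι → F)}
    (hX : ∀ x ∈ X, x ≠ 0 → ∃ y ∈ X, polar q x y ≠ 0) (hd : 2 ≤ Module.finrank F X) (c : F) :
    ∃ x ∈ X, q x = c := by
  by_cases hs : ∃ u ∈ X, u ≠ 0 ∧ q u = 0
  · obtain ⟨u, hu, hu0, hqu⟩ := hs
    obtain ⟨t, ht, hqt, hut⟩ := OrthTools.exists_partner hX hu hu0 hqu
    refine ⟨u + c • t, X.add_mem hu (X.smul_mem _ ht), ?_⟩
    rw [QuadraticMap.map_add ⇑q, QuadraticMap.map_smul, polar_smul_right, hqu, hqt, hut]
    simp
  push Not at hs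
  obtain ⟨a, ha, ha0⟩ := Submodule.exists_mem_ne_zero_of_ne_bot (p := X) fun h => by
    rw [h, finrank_bot] at hd; omega
  obtain ⟨b, hb, hb0⟩ := Submodule.exists_mem_ne_zero_of_ne_bot
    (p := X ⊓ OrthTools.orth q (Submodule.span F {a})) fun h => by
      have h1 := OrthTools.finrank_inf_orth hq X a
      rw [h, finrank_bot] at h1; omega
  obtain ⟨hbX, hab⟩ := OrthTools.mem_inf_orth hb
  obtain ⟨x, y, hxy⟩ := CfsgLib.Orth.exists_binary h2 (hs a ha ha0) (hs b hbX hb0) c
  refine ⟨x • a + y • b, X.add_mem (X.smul_mem _ ha) (X.smul_mem _ hbX), ?_⟩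
  rw [QuadraticMap.map_add ⇑q, QuadraticMap.map_smul, QuadraticMap.map_smul, polar_smul_left, polar_smul_right, hab]
  simp only [smul_eq_mul, mul_zero, add_zero]
  linear_combination hxy

/-- An isometry fixing a singular vector and the vectors of `U` orthogonal to it, and translating the
complement of `U` along the vector, is an Eichler element. -/
theorem eq_eich_of_translation {U : Submodule F (ι → F)} {u b : ι → F} (hqu : q u = 0) (hu : u ∈ U) (hu0 : u ≠ 0)
    (hUn : ∀ x ∈ U, x ≠ 0 → ∃ y ∈ U, polar q x y ≠ 0) {W : Submodule F (ι → F)}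
    (hsplit : ∀ x, ∃ w ∈ W, ∃ z ∈ U, w + z = x) (hWU : ∀ w ∈ W, ∀ z ∈ U, polar q w z = 0)
    (hb : b ∈ W) {d : O q} (hfix : ∀ z ∈ U, polar q u z = 0 → app d z = z)
    (htr : ∀ w ∈ W, app d w = w - polar q w b • u) : d = eich q u b := by
  have hub : polar q u b = 0 := by rw [polar_comm]; exact hWU b hb u hu
  have hbu : ∀ w ∈ W, app (eich q u b) w = w - polar q w b • u := fun w hw => by
    rw [app_eich hqu hub, hWU w hw u hu]
    simp [sub_eq_add_neg]
  have hbz : ∀ z ∈ U, polar q u z = 0 → app (eich q u b) z = z := fun z hz huz => by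
    rw [app_eich hqu hub, polar_comm (f := ⇑q) z u, huz, polar_comm (f := ⇑q) z b, hWU b hb z hz]
    simp
  obtain ⟨t, ht, hqt, hut⟩ := OrthTools.exists_partner hUn hu hu0 hqu
  set e := (eich q u b)⁻¹ * d with he
  have heW : ∀ w ∈ W, app e w = w := fun w hw => by
    refine app_injective (eich q u b) ?_
    rw [he, ← app_mul, mul_inv_cancel_left, htr w hw, hbu w hw]
  have heH : ∀ z ∈ U, polar q u z = 0 → app e z = z := fun z hz huz => by
    refine app_injective (eich q u b) ?_
    rw [he, ← app_mul, mul_inv_cancel_left, hfix z hz huz, hbz z hz huz]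
  have heu : app e u = u := heH u hu (by rw [polar_self', hqu, mul_zero])
  have het : app e t = t := by
    set D := app e t - t with hD
    have h1 : polar q D u = 0 := by
      have := polar_app e t u
      rw [heu] at this
      rw [hD, polar_sub_left, this, sub_self]
    have h2 : ∀ z, polar q u z = 0 → polar q D z = 0 := by
      intro z huz
      obtain ⟨w, hw, z', hz', rfl⟩ := hsplit z
      rw [polar_add_right, polar_comm (f := ⇑q) u w, hWU w hw u hu, zero_add] at huz
      have e1 := polar_app e t w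
      have e2 := polar_app e t z'
      rw [heW w hw] at e1
      rw [heH z' hz' huz] at e2
      rw [hD, polar_sub_left, polar_add_right, polar_add_right, e1, e2, sub_self]
    have h3 : D = polar q t D • u := by
      refine sub_eq_zero.1 (by_contra fun h0 => ?_)
      obtain ⟨y, hy⟩ := exists_polar_eq_one hq h0
      have h4 := h2 (y - polar q u y • t) (by rw [polar_sub_right, polar_smul_right, hut]; simp)
      rw [polar_sub_right, polar_smul_right, polar_comm (f := ⇑q) D t, smul_eq_mul, sub_eq_zero] at h4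
      rw [polar_sub_left, polar_smul_left, h4, smul_eq_mul, mul_comm (polar q t D), sub_self] at hy
      exact zero_ne_one hy
    have h5 : app e t = t + polar q t D • u := by rw [← h3, hD]; abel
    have h6 : q (app e t) = q t := Q_app e t
    rw [h5, QuadraticMap.map_add ⇑q, QuadraticMap.map_smul, polar_smul_right, hqu, hqt, polar_comm (f := ⇑q) t u,
      hut] at h6
    simp at h6
    rw [h5, h6, zero_smul, add_zero]
  have he1 : e = 1 := ext_app fun x => by
    rw [app_one]
    obtain ⟨w, hw, z, hz, rfl⟩ := hsplit x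
    rw [show z = (z - polar q u z • t) + polar q u z • t by abel, map_add, map_add, map_smul, heW w hw, het,
      heH _ (U.sub_mem hz (U.smul_mem _ ht)) (by rw [polar_sub_right, polar_smul_right, hut]; simp)]
  exact (inv_mul_eq_one.1 he1).symm

/-- An overgroup of the stabilizer of a non-degenerate subspace of dimension at least three, whose complement has
dimension at least four, gets an Eichler element with centre in the complement and axis outside it. -/
theorem outside_small (h2 : (2 : F) ≠ 0) {W : Submodule F (ι → F)}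
    (hW : ∀ x ∈ W, x ≠ 0 → ∃ y ∈ W, polar q x y ≠ 0) (h3 : 3 ≤ Module.finrank F W)
    (h4 : Module.finrank F W + 4 ≤ Fintype.card ι) (hle2 : 2 * Module.finrank F W ≤ Fintype.card ι)
    (hsw : 2 * Module.finrank F W = Fintype.card ι →
      ∀ g ∈ commutator (O q), ¬ ∀ x ∈ W, app g x ∈ OrthTools.orth q W)
    {M : Subgroup (O q)} (hMC : M ≤ commutator (O q))
    (hEU : ∀ u ∈ OrthTools.orth q W, ∀ a ∈ OrthTools.orth q W, q u = 0 → polar q u a = 0 → eich q u a ∈ M)
    (hEW : ∀ u ∈ W, ∀ a ∈ W, q u = 0 → polar q u a = 0 → eich q u a ∈ M)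
    {g : O q} (hgM : g ∈ M) (hg : g ∉ stab q W) :
    ∃ u ∈ OrthTools.orth q W, u ≠ 0 ∧ q u = 0 ∧
      ∃ a, polar q u a = 0 ∧ a ∉ OrthTools.orth q W ∧ eich q u a ∈ M := by
  by_contra hc
  push Not at hc
  set U := OrthTools.orth q W with hU
  have hdU : Module.finrank F U = Fintype.card ι - Module.finrank F W := OrthTools.finrank_orth hq W
  have hUn : ∀ x ∈ U, x ≠ 0 → ∃ y ∈ U, polar q x y ≠ 0 := OrthTools.orth_nondegenerate hq hW
  have hWU : ∀ w ∈ W, ∀ u ∈ U, polar q w u = 0 := fun w hw u hu => OrthTools.mem_orth.1 hu w hw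
  have hUW : ∀ u ∈ U, ∀ w ∈ W, polar q u w = 0 := fun u hu w hw => by rw [polar_comm]; exact hWU w hw u hu
  have hdisj : Disjoint W U := Submodule.disjoint_def.2 fun x hxW hxU => by
    by_contra h0
    obtain ⟨y, hy, hxy⟩ := hW x hxW h0
    exact hxy (hUW x hxU y hy)
  have hsplit : ∀ x, ∃ w ∈ W, ∃ u ∈ U, w + u = x := by
    have h : W ⊔ U = ⊤ := Submodule.eq_top_of_finrank_eq (by
      have h1 := Submodule.finrank_sup_add_finrank_inf_eq W U
      rw [hdisj.eq_bot, finrank_bot] at h1
      rw [Module.finrank_fintype_fun_eq_card]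
      omega)
    exact fun x => Submodule.mem_sup.1 (h ▸ Submodule.mem_top (x := x))
  -- a point of `U` going into `U` gives an element of the stabilizer
  have R : ∀ k ∈ M, ∀ u ∈ U, u ≠ 0 → q u = 0 → app k u ∈ U → k ∈ stab q W := by
    intro k hk u hu hu0 hqu hku
    have hku0 : app k u ≠ 0 := fun h => hu0 (app_injective k (h.trans (map_zero _).symm))
    have hH : ∀ z ∈ U, polar q u z = 0 → app k z ∈ U := fun z hz huz => by
      by_contra hout
      refine hc _ hku hku0 (by rw [Q_app, hqu]) (app k z) (by rw [polar_app, huz]) hout ?_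
      have := M.mul_mem (M.mul_mem hk (hEU u hu z hz hqu huz)) (M.inv_mem hk)
      rwa [eich_conj hqu huz] at this
    obtain ⟨t, ht, -, hut⟩ := OrthTools.exists_partner hUn hku hku0 (by rw [Q_app, hqu])
    have hline : ∀ w ∈ W, app k w - polar q (app k w) t • app k u ∈ W := by
      intro w hw
      obtain ⟨w', hw', y, hy, e⟩ := hsplit (app k w)
      suffices y = polar q (app k w) t • app k u by rw [← this, ← e, add_sub_cancel_right]; exact hw'
      have hyu : polar q (app k u) y = 0 := by
        have := polar_app k w u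
        rw [← e, polar_add_left, hWU w' hw' _ hku, zero_add, hWU w hw u hu] at this
        rw [polar_comm]; exact this
      have hyt : polar q (app k w) t = polar q y t := by rw [← e, polar_add_left, hWU w' hw' t ht, zero_add]
      rw [hyt]
      refine sub_eq_zero.1 (by_contra fun h0 => ?_)
      obtain ⟨z, hz, hyz⟩ := hUn _ (U.sub_mem hy (U.smul_mem _ hku)) h0
      apply hyz
      set z' := z - polar q (app k u) z • t with hz'
      obtain ⟨z₀, hz₀⟩ : ∃ z₀, app k z₀ = z' := ⟨_, app_app_inv k z'⟩
      have huz' : polar q (app k u) z' = 0 := by rw [hz', polar_sub_right, polar_smul_right, hut]; simp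
      -- the vectors of `U` orthogonal to the image point come from `U`
      have hz₀U : z₀ ∈ U := by
        have hle : (U ⊓ OrthTools.orth q (Submodule.span F {u})).map (app k) ≤
            U ⊓ OrthTools.orth q (Submodule.span F {app k u}) := by
          rintro _ ⟨a, ha, rfl⟩
          obtain ⟨ha, hua⟩ := OrthTools.mem_inf_orth ha
          refine ⟨hH a ha hua, OrthTools.mem_orth.2 fun b hb => ?_⟩
          obtain ⟨r, rfl⟩ := Submodule.mem_span_singleton.1 hb
          rw [polar_smul_left, polar_app, hua, smul_zero]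
        have hlt : Module.finrank F ↥(U ⊓ OrthTools.orth q (Submodule.span F {app k u})) < Module.finrank F U :=
          Submodule.finrank_lt_finrank_of_lt (lt_of_le_of_ne inf_le_left fun h => by
            have := (OrthTools.mem_inf_orth (h.symm ▸ ht :
              t ∈ U ⊓ OrthTools.orth q (Submodule.span F {app k u}))).2
            rw [hut] at this
            exact one_ne_zero this)
        have h1 := OrthTools.finrank_inf_orth hq U u
        have h2' := (Submodule.equivMapOfInjective _ (app_injective k)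
          (U ⊓ OrthTools.orth q (Submodule.span F {u}))).finrank_eq
        have heq := Submodule.eq_of_le_of_finrank_le hle (by omega)
        have hmem : z' ∈ U ⊓ OrthTools.orth q (Submodule.span F {app k u}) := by
          refine ⟨U.sub_mem hz (U.smul_mem _ ht), OrthTools.mem_orth.2 fun b hb => ?_⟩
          obtain ⟨r, rfl⟩ := Submodule.mem_span_singleton.1 hb
          rw [polar_smul_left, huz', smul_zero]
        rw [← heq] at hmem
        obtain ⟨a, ha, hak⟩ := hmem
        rw [← app_injective k (hak.trans hz₀.symm)]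
        exact ha.1
      have e1 : polar q y z' = 0 := by
        have := polar_app k w z₀
        rw [hz₀, ← e, polar_add_left, hWU w' hw' z' (U.sub_mem hz (U.smul_mem _ ht)), zero_add,
          hWU w hw z₀ hz₀U] at this
        exact this
      rw [hz', polar_sub_right, polar_smul_right, smul_eq_mul, sub_eq_zero] at e1
      rw [polar_sub_left, polar_smul_left, e1, smul_eq_mul, mul_comm (polar q y t), sub_self]
    by_contra hkW
    obtain ⟨w₁, hw₁, hw₁'⟩ : ∃ w₁ ∈ W, polar q (app k w₁) t ≠ 0 := by
      by_contra h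
      push Not at h
      exact hkW (mem_stab.2 fun w hw => by simpa [h w hw] using hline w hw)
    have hsw' : polar q (app k⁻¹ t) w₁ ≠ 0 := by
      rw [← polar_app k, app_app_inv, polar_comm]; exact hw₁'
    obtain ⟨w, hw, hqw, hwt⟩ := exists_singular_pairing hq hW h3 hw₁ hsw'
    have hwt' : polar q (app k w) t ≠ 0 := by
      rwa [← polar_app k, app_app_inv, polar_comm] at hwt
    obtain ⟨a, ha, hax⟩ := SetLike.exists_of_lt (show Submodule.span F {w} < W ⊓ OrthTools.orth q (Submodule.span F {w}) from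
      lt_of_le_of_ne ((Submodule.span_singleton_le_iff_mem _ _).2 ⟨hw, OrthTools.mem_orth.2 fun b hb => by
        obtain ⟨r, rfl⟩ := Submodule.mem_span_singleton.1 hb
        rw [polar_smul_left, polar_self', hqw, mul_zero, smul_zero]⟩) fun h => by
        have h1 := OrthTools.finrank_inf_orth hq W w
        have h5 : Module.finrank F (Submodule.span F ({w} : Set (ι → F))) ≤ 1 :=
          (finrank_span_le_card ({w} : Set (ι → F))).trans (by simp)
        rw [← h] at h1
        omega)
    obtain ⟨haW, hwa⟩ := OrthTools.mem_inf_orth ha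
    set β := polar q (app k w) t
    set γ := polar q (app k a) t
    set w' := app k w - β • app k u with hw'
    set a' := app k a - γ • app k u with ha'
    have hw'W := hline w hw
    have ha'W := hline a haW
    have hkk : polar q (app k u) (app k u) = 0 := by rw [polar_app, polar_self', hqu, mul_zero]
    have hkuw : ∀ x ∈ W, polar q (app k u) (app k x) = 0 := fun x hx => by rw [polar_app, hUW u hu x hx]
    have hqw' : q w' = 0 := by
      rw [hw', sub_eq_add_neg, ← neg_smul, QuadraticMap.map_add ⇑q, QuadraticMap.map_smul, Q_app, Q_app, hqw, hqu,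
        polar_smul_right, polar_comm, hkuw w hw]
      simp
    have hw'a' : polar q w' a' = 0 := by
      rw [hw', ha', polar_sub_left, polar_sub_right, polar_sub_right, polar_smul_left, polar_smul_left,
        polar_smul_right, polar_smul_right, polar_app, hwa, hkuw a haW, hkk, polar_comm (f := ⇑q) (app k w),
        hkuw w hw]
      simp
    have hkwa : polar q (app k w) (app k a) = 0 := by rw [polar_app, hwa]
    have hqkw : q (app k w) = 0 := by rw [Q_app, hqw]
    set d := eich q (app k w) (app k a) * eich q w' (-a') with hd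
    have hdM : d ∈ M := by
      refine M.mul_mem ?_ (hEW w' hw'W _ (W.neg_mem ha'W) hqw' (by rw [polar_neg_right, hw'a', neg_zero]))
      have := M.mul_mem (M.mul_mem hk (hEW w hw a haW hqw hwa)) (M.inv_mem hk)
      rwa [eich_conj hqw hwa] at this
    have hdfix : ∀ z ∈ U, polar q (app k u) z = 0 → app d z = z := by
      intro z hz huz
      have e2 : ∀ x ∈ W, polar q z (app k x) = 0 := by
        intro x hx
        have := hUW z hz _ (hline x hx)
        rwa [polar_sub_right, polar_smul_right, polar_comm (f := ⇑q) z (app k u), huz, smul_zero, sub_zero] at this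
      rw [hd, app_mul, app_eich hqw' (by rw [polar_neg_right, hw'a', neg_zero]), hUW z hz w' hw'W,
        polar_neg_right, hUW z hz a' ha'W]
      simp [app_eich hqkw hkwa, e2 w hw, e2 a haW]
    have htr : ∀ x ∈ W, ∃ c : F, app d x = x - c • app k u ∧
        (polar q x w' = 0 → polar q x a' = 1 → c = β) := by
      intro x hx
      have hw'n : polar q w' (-a') = 0 := by rw [polar_neg_right, hw'a', neg_zero]
      set x₁ := app (eich q w' (-a')) x with hx₁
      have hx₁W : x₁ ∈ W := by
        rw [hx₁, app_eich hqw' hw'n]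
        exact W.add_mem (W.add_mem hx (W.smul_mem _ (W.neg_mem ha'W))) (W.smul_mem _ hw'W)
      have hp : polar q x₁ (app k u) = 0 := by rw [polar_comm]; exact hUW _ hku x₁ hx₁W
      have e1 : app k w = w' + β • app k u := by rw [hw', sub_add_cancel]
      have e2 : app k a = a' + γ • app k u := by rw [ha', sub_add_cancel]
      have hqa : q (app k a) = q a' := by
        rw [e2, QuadraticMap.map_add ⇑q, QuadraticMap.map_smul, Q_app, hqu, polar_smul_right,
          polar_comm (f := ⇑q) a', hUW _ hku a' ha'W]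
        simp
      have e3 : app (eich q w' a') x₁ = x := by
        rw [hx₁, ← app_mul, eich_add hqw' hw'a' hw'n, add_neg_cancel, ← zero_smul F w', eich_smul_self hqw',
          app_one]
      refine ⟨-(polar q x₁ w' * γ + (-polar q x₁ a' - q a' * polar q x₁ w') * β), ?_, fun h1 h2 => ?_⟩
      · rw [hd, app_mul, ← hx₁]
        conv_rhs => rw [← e3]
        rw [app_eich hqkw hkwa, app_eich hqw' hw'a', hqa, e1, e2, polar_add_right, polar_add_right,
          polar_smul_right, polar_smul_right, hp, smul_zero, smul_zero, add_zero, add_zero]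
        module
      · have h1' : polar q x₁ w' = 0 := by
          rw [hx₁, app_eich hqw' hw'n, polar_add_left, polar_add_left, polar_smul_left, polar_smul_left, h1,
            polar_neg_left, polar_comm (f := ⇑q) a' w', hw'a', polar_self', hqw']
          simp
        have h2' : polar q x₁ a' = 1 := by
          rw [hx₁, app_eich hqw' hw'n, polar_add_left, polar_add_left, polar_smul_left, polar_smul_left, h1, h2,
            hw'a']
          simp
        rw [h1', h2']
        simp
    choose c hc' hc'' using htr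
    -- the translation functional is represented inside `W`
    obtain ⟨b₀, hb₀⟩ : ∃ b₀, ∀ x, polar q b₀ x = polar q (app d x) t := ⟨app d⁻¹ t, fun x => by
      rw [← polar_app d, app_app_inv, polar_comm]⟩
    obtain ⟨b, hb, zb, hzb, hbz⟩ := hsplit b₀
    have hcb : ∀ x (hx : x ∈ W), app d x = x - polar q x (-b) • app k u := by
      intro x hx
      have h := hb₀ x
      rw [hc' x hx, polar_sub_left, polar_smul_left, hWU x hx t ht, hut, ← hbz, polar_add_left, hUW zb hzb x hx,
        add_zero, zero_sub, smul_eq_mul, mul_one] at h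
      rw [polar_neg_right, polar_comm, h, neg_neg, hc' x hx]
    have hdE := eq_eich_of_translation hq hn (by rw [Q_app, hqu]) hku hku0 hUn hsplit hWU (W.neg_mem hb) hdfix hcb
    refine hc _ hku hku0 (by rw [Q_app, hqu]) (-b) (by rw [polar_comm]; exact hWU _ (W.neg_mem hb) _ hku) ?_
      (hdE ▸ hdM)
    intro hbU
    have hb0 : -b = 0 := Submodule.disjoint_def.1 hdisj _ (W.neg_mem hb) hbU
    have hw'0 : w' ≠ 0 := fun h0 => by
      have h1 : app k w = app k (β • u) := by rw [map_smul, ← sub_eq_zero, ← hw', h0]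
      have h5 : β • u = 0 := Submodule.disjoint_def.1 hdisj _ (app_injective k h1 ▸ hw) (U.smul_mem _ hu)
      exact (smul_eq_zero.1 h5).elim hwt' hu0
    obtain ⟨r, hr, -, hwr⟩ := OrthTools.exists_partner hW hw'W hw'0 hqw'
    obtain ⟨y, hy, hya⟩ : ∃ y ∈ W, polar q y (a' - polar q a' r • w') ≠ 0 := by
      obtain ⟨y, hy, hay⟩ := hW (a' - polar q a' r • w') (W.sub_mem ha'W (W.smul_mem _ hw'W)) fun h0 => by
        refine hax (Submodule.mem_span_singleton.2 ⟨polar q a' r, app_injective k ?_⟩)
        have h1 : app k a - (γ • app k u) = polar q a' r • (app k w - β • app k u) := sub_eq_zero.1 h0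
        have h5 : (γ - polar q a' r * β) • u = a - polar q a' r • w := app_injective k (by
          rw [map_smul, map_sub, map_smul, sub_smul, mul_smul]
          rw [smul_sub, sub_eq_iff_eq_add] at h1
          rw [h1]; abel)
        have h6 : a - polar q a' r • w = 0 := Submodule.disjoint_def.1 hdisj _
          (W.sub_mem haW (W.smul_mem _ hw)) (h5 ▸ U.smul_mem _ hu)
        rw [sub_eq_zero.1 h6, map_smul]
      exact ⟨y, hy, by rwa [polar_comm]⟩
    set x₀ := y - polar q y w' • r
    have hx₀ : x₀ ∈ W := W.sub_mem hy (W.smul_mem _ hr)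
    have hx₀w : polar q x₀ w' = 0 := by
      rw [polar_sub_left, polar_smul_left, polar_comm (f := ⇑q) r w', hwr]; simp
    have hx₀a : polar q x₀ a' ≠ 0 := by
      rw [polar_sub_right, polar_smul_right, smul_eq_mul] at hya
      rw [polar_sub_left, polar_smul_left, smul_eq_mul, polar_comm (f := ⇑q) r a']
      rwa [mul_comm] at hya
    have h7 := hc'' _ (W.smul_mem (polar q x₀ a')⁻¹ hx₀) (by rw [polar_smul_left, hx₀w, smul_zero])
      (by rw [polar_smul_left, smul_eq_mul, inv_mul_cancel₀ hx₀a])
    have h8 := (hc' _ (W.smul_mem (polar q x₀ a')⁻¹ hx₀)).symm.trans (hcb _ (W.smul_mem (polar q x₀ a')⁻¹ hx₀))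
    rw [h7, hb0, polar_zero_right, zero_smul, sub_zero, sub_eq_self] at h8
    exact (smul_eq_zero.1 h8).elim hwt' hku0
  -- a point of `U` does not go into `W`
  have S : ∀ k ∈ M, k ∉ stab q W → ∀ u ∈ U, u ≠ 0 → q u = 0 → app k u ∉ W := by
    intro k hk hkW u hu hu0 hqu hku
    have hinv : ∀ w ∈ U, ∀ a ∈ U, q w = 0 → polar q w a = 0 → ∀ s ∈ W.map (app k),
        app (eich q w a) s ∈ W.map (app k) := by
      rintro w hw a ha hqw hwa _ ⟨x, hx, rfl⟩
      have hk' : k⁻¹ * eich q w a * k ∈ stab q W := R _ (M.mul_mem (M.mul_mem (M.inv_mem hk) (hEU w hw a ha hqw hwa)) hk)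
        u hu hu0 hqu (by
          rw [app_mul, app_mul, app_eich hqw hwa (app k u), hWU _ hku w hw, hWU _ hku a ha]
          simpa [app_inv_app] using hu)
      exact ⟨_, mem_stab.1 hk' x hx, by rw [← app_mul, ← mul_assoc, mul_inv_cancel_left, app_mul]⟩
    by_cases hx : ∃ x ∈ W, ∃ y ∈ U, polar q (app k x) y ≠ 0
    · obtain ⟨x, hx, y, hy, hxy⟩ := hx
      have hsub := absorb hq hUn (by omega) hinv ⟨x, hx, rfl⟩ hy hxy
      have h1 := Submodule.finrank_mono hsub
      rw [(Submodule.equivMapOfInjective _ (app_injective k) W).finrank_eq.symm] at h1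
      have heq : U = W.map (app k) := Submodule.eq_of_le_of_finrank_le hsub (by
        rw [(Submodule.equivMapOfInjective _ (app_injective k) W).finrank_eq.symm]; omega)
      exact hsw (by omega) k (hMC hk) fun z hz => heq ▸ ⟨z, hz, rfl⟩
    · push Not at hx
      refine hkW (mem_stab.2 fun x hxW => ?_)
      obtain ⟨w, hw, z, hz, e⟩ := hsplit (app k x)
      have hz0 : z = 0 := by
        by_contra h0
        obtain ⟨y, hy, hzy⟩ := hUn z hz h0
        exact hzy (by have := hx x hxW y hy; rwa [← e, polar_add_left, hWU w hw y hy, zero_add] at this)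
      rw [← e, hz0, add_zero]; exact hw
  obtain ⟨u, hu, hu0, hqu⟩ := OrthTools.exists_singular hq U (by omega)
  obtain ⟨σ, hσ, π, hπ, e⟩ := hsplit (app g u)
  have hπ0 : π ≠ 0 := fun h => S g hgM hg u hu hu0 hqu (by rw [← e, h, add_zero]; exact hσ)
  obtain ⟨v, hv, hv0, hqv, hπv, hπe⟩ : ∃ v ∈ U, v ≠ 0 ∧ q v = 0 ∧ polar q π v = 0 ∧ (q π = 0 → v = π) := by
    by_cases hqπ : q π = 0
    · exact ⟨π, hπ, hπ0, hqπ, by rw [polar_self', hqπ, mul_zero], fun _ => rfl⟩
    · obtain ⟨v, hv, hv0, hqv⟩ := OrthTools.exists_singular hq (U ⊓ OrthTools.orth q (Submodule.span F {π}))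
        (by have := OrthTools.finrank_inf_orth hq U π; omega)
      exact ⟨v, hv.1, hv0, hqv, (OrthTools.mem_inf_orth hv).2, fun h => absurd h hqπ⟩
  obtain ⟨a, ha, hva, hπa, hqa⟩ : ∃ a ∈ U, polar q v a = 0 ∧ polar q π a = 0 ∧ q a ≠ 0 := by
    by_contra h
    push Not at h
    set T := U ⊓ OrthTools.orth q (Submodule.span F ({v, π} : Set (ι → F))) with hT
    have hTq : ∀ z ∈ T, q z = 0 := fun z hz => h z hz.1 (mem_orth_pair.1 hz.2).1 (mem_orth_pair.1 hz.2).2
    have hTle : T ≤ Submodule.span F ({v, π} : Set (ι → F)) := by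
      intro x hx
      by_contra hxn
      obtain ⟨y, hy, hyx⟩ := exists_orth_pairing hq hn hxn
      obtain ⟨w, hw, z, hz, rfl⟩ := hsplit y
      obtain ⟨h1, h1'⟩ := mem_orth_pair.1 hy
      rw [polar_add_right, hUW v hv w hw, zero_add] at h1
      rw [polar_add_right, hUW π hπ w hw, zero_add] at h1'
      rw [polar_add_left, hWU w hw x hx.1, zero_add] at hyx
      exact hyx (OrthClasses.polar_of_singular hTq ⟨hz, mem_orth_pair.2 ⟨h1, h1'⟩⟩ hx)
    have h1 := Submodule.finrank_mono hTle
    have hTd : Module.finrank F U ≤ Module.finrank F T + Module.finrank F (Submodule.span F ({v, π} : Set (ι → F))) := by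
      have e1 := Submodule.finrank_sup_add_finrank_inf_eq U (OrthTools.orth q (Submodule.span F ({v, π} : Set (ι → F))))
      have e2 := Submodule.finrank_le (U ⊔ OrthTools.orth q (Submodule.span F ({v, π} : Set (ι → F))))
      have e3 := OrthTools.finrank_orth hq (Submodule.span F ({v, π} : Set (ι → F)))
      rw [Module.finrank_fintype_fun_eq_card] at e2
      rw [← hT] at e1
      omega
    by_cases hqπ : q π = 0
    · rw [hπe hqπ, Set.pair_eq_singleton, finrank_span_singleton hπ0] at h1 hTd
      omega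
    · have h3' := finrank_pair_le (F := F) v π
      have heq : T = Submodule.span F ({v, π} : Set (ι → F)) := Submodule.eq_of_le_of_finrank_le hTle (by omega)
      exact hqπ (hTq π (heq ▸ Submodule.subset_span (by simp)))
  have hinv : ∀ b ∈ U, polar q v b = 0 → polar q π b = 0 → ∀ x ∈ W, app g⁻¹ (app (eich q v b) (app g x)) ∈ W := by
    intro b hb hvb hπb x hx
    have hk : g⁻¹ * eich q v b * g ∈ stab q W := R _ (M.mul_mem (M.mul_mem (M.inv_mem hgM) (hEU v hv b hb hqv hvb)) hgM)
      u hu hu0 hqu (by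
        rw [app_mul, app_mul, app_eich hqv hvb (app g u), ← e, polar_add_left, polar_add_left, hWU σ hσ v hv,
          hWU σ hσ b hb, hπv, hπb]
        simp [e, app_inv_app, hu])
    have := mem_stab.1 hk x hx
    rwa [app_mul, app_mul] at this
  have hmove : ∀ x ∈ W, polar q (app g x) v ≠ 0 → app g⁻¹ v ∈ W := by
    intro x hx hxv
    have h1 := hinv a ha hva hπa x hx
    have h1' := hinv (-a) (U.neg_mem ha) (by rw [polar_neg_right, hva, neg_zero])
      (by rw [polar_neg_right, hπa, neg_zero]) x hx
    rw [app_eich hqv hva, map_add, map_add, app_inv_app, map_smul, map_smul] at h1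
    rw [app_eich hqv (by rw [polar_neg_right, hva, neg_zero]), map_add, map_add, app_inv_app, map_smul, map_smul,
      map_neg, QuadraticMap.map_neg, polar_neg_right] at h1'
    have h5 := W.sub_mem (W.add_mem h1 h1') (W.add_mem hx hx)
    have h6 : (-(2 * q a * polar q (app g x) v)) • app g⁻¹ v ∈ W := by
      convert h5 using 1
      module
    exact (Submodule.smul_mem_iff _ (neg_ne_zero.2 (mul_ne_zero (mul_ne_zero h2 hqa) hxv))).1 h6
  have hginv : g⁻¹ ∉ stab q W := fun h => hg (by simpa using (stab q W).inv_mem h)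
  by_cases hx : ∃ x ∈ W, polar q (app g x) v ≠ 0
  · obtain ⟨x, hx, hxv⟩ := hx
    exact S _ (M.inv_mem hgM) hginv v hv hv0 hqv (hmove x hx hxv)
  · push Not at hx
    refine hginv (R _ (M.inv_mem hgM) v hv hv0 hqv (OrthTools.mem_orth.2 fun x hxW => ?_))
    rw [← polar_app g, app_app_inv]
    exact hx x hxW

/-- The stabilizer of a non-degenerate subspace is maximal. -/
theorem maximal_nondegenerate {W : Submodule F (ι → F)} (hW0 : W ≠ ⊥)
    (hW : ∀ x ∈ W, x ≠ 0 → ∃ y ∈ W, polar q x y ≠ 0)
    (hle2 : 2 * Module.finrank F W ≤ Fintype.card ι)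
    (hsw : 2 * Module.finrank F W = Fintype.card ι →
      ∀ g ∈ commutator (O q), ¬ ∀ x ∈ W, app g x ∈ OrthTools.orth q W)
    (hex : ¬ (Module.finrank F W = 2 ∧ Fintype.card F ≤ 3 ∧ ∃ s ∈ W, s ≠ 0 ∧ q s = 0))
    (hU5 : Module.finrank F W + 5 ≤ Fintype.card ι ∨ ((2 : F) ≠ 0 ∧ 3 ≤ Module.finrank F W ∧
      Module.finrank F W + 4 ≤ Fintype.card ι) := by left; omega) :
    Cfsg.Geo.IsMaximalIn (commutator (O q)) (stab q W ⊓ commutator (O q)) := by
  classical
  have hn7 : 7 ≤ Fintype.card ι := by omega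
  set U := OrthTools.orth q W with hUdef
  have hdU : Module.finrank F U = Fintype.card ι - Module.finrank F W := OrthTools.finrank_orth hq W
  have hUn : ∀ x ∈ U, x ≠ 0 → ∃ y ∈ U, polar q x y ≠ 0 := OrthTools.orth_nondegenerate hq hW
  have hWU : ∀ w ∈ W, ∀ u ∈ U, polar q w u = 0 := fun w hw u hu => OrthTools.mem_orth.1 hu w hw
  have hUW : ∀ u ∈ U, ∀ w ∈ W, polar q u w = 0 := fun u hu w hw => by rw [polar_comm]; exact hWU w hw u hu
  have hdisj : Disjoint W U := Submodule.disjoint_def.2 fun x hxW hxU => by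
    by_contra h0
    obtain ⟨y, hy, hxy⟩ := hW x hxW h0
    exact hxy (hUW x hxU y hy)
  have hcompl : IsCompl W U := ⟨hdisj, codisjoint_iff.2 (Submodule.eq_top_of_finrank_eq (by
    have h1 := Submodule.finrank_sup_add_finrank_inf_eq W U
    rw [hdisj.eq_bot, finrank_bot] at h1
    rw [Module.finrank_fintype_fun_eq_card]
    omega))⟩
  have hsplit : ∀ x, ∃ w ∈ W, ∃ u ∈ U, w + u = x := fun x =>
    Submodule.mem_sup.1 (hcompl.sup_eq_top ▸ Submodule.mem_top (x := x))
  have hW1 : W ≠ ⊤ := fun h => by
    rw [h, finrank_top, Module.finrank_fintype_fun_eq_card] at hle2; omega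
  refine ⟨lt_of_le_of_ne inf_le_right fun he => not_le_stab hq hn hW0 hW1 (by rw [← he]; exact inf_le_left),
    fun M hle hMC => ?_⟩
  by_cases hall : M ≤ stab q W
  · exact Or.inl (le_antisymm (le_inf hall hMC) hle)
  right
  refine le_antisymm hMC ?_
  have hsU : ∀ h : O q, h ∈ stab q U → h ∈ stab q W := fun h hh => mem_stab.2 fun x hx => by
    obtain ⟨w, hw, u, hu, hwu⟩ := hsplit (app h x)
    have hu0 : u = 0 := by
      by_contra h0
      obtain ⟨y, hy, huy⟩ := hUn u hu h0
      apply huy
      have h1 : polar q (app h x) y = 0 := by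
        rw [← app_app_inv h y, polar_app]
        exact hWU x hx _ (mem_stab.1 ((stab q U).inv_mem hh) y hy)
      rwa [← hwu, polar_add_left, hWU w hw y hy, zero_add] at h1
    rw [← hwu, hu0, add_zero]
    exact hw
  have hEU : ∀ u ∈ U, ∀ a ∈ U, q u = 0 → polar q u a = 0 → eich q u a ∈ M := fun u hu a ha hqu hua =>
    hle ⟨mem_stab.2 fun x hx => by
      rw [app_eich hqu hua, hWU x hx u hu, hWU x hx a ha]
      simpa using hx, eich_mem hq hn7 hqu hua⟩
  have hEW : ∀ u ∈ W, ∀ a ∈ W, q u = 0 → polar q u a = 0 → eich q u a ∈ M := fun u hu a ha hqu hua =>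
    hle ⟨mem_stab.2 fun x hx => by
      rw [app_eich hqu hua]
      exact W.add_mem (W.add_mem hx (W.smul_mem _ ha)) (W.smul_mem _ hu), eich_mem hq hn7 hqu hua⟩
  obtain ⟨g, hgM, hg⟩ := SetLike.not_le_iff_exists.1 hall
  obtain ⟨u, hu, hu0, hqu, a₀, hua₀, ha₀, hEa₀⟩ : ∃ u ∈ U, u ≠ 0 ∧ q u = 0 ∧
      ∃ a, polar q u a = 0 ∧ a ∉ U ∧ eich q u a ∈ M := by
    rcases hU5 with hU5 | ⟨h2, h3, h4⟩
    swap
    · exact outside_small hq hn h2 hW h3 h4 hle2 hsw hMC hEU hEW hgM hg
    -- a root element of `M` moving `U`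
    obtain ⟨v, c, hqv, hvc, hhM, x₁, hx₁, hhx₁⟩ : ∃ v c, q v = 0 ∧ polar q v c = 0 ∧ eich q v c ∈ M ∧
        ∃ x ∈ U, app (eich q v c) x ∉ U := by
      by_contra hc
      push Not at hc
      have hin : ∀ u ∈ U, ∀ a ∈ U, q u = 0 → polar q u a = 0 → ∀ x ∈ U,
          app (eich q (app g u) (app g a)) x ∈ U := by
        intro u hu a ha hqu hua x hx
        refine hc _ _ (by rw [Q_app, hqu]) (by rw [polar_app, hua]) ?_ x hx
        rw [← eich_conj hqu hua]
        exact M.mul_mem (M.mul_mem hgM (hEU u hu a ha hqu hua)) (M.inv_mem hgM)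
      set U' := U.map (app g) with hU'
      have hdU' : Module.finrank F U' = Module.finrank F U :=
        (Submodule.equivMapOfInjective _ (app_injective g) U).finrank_eq.symm
      have hU'n : ∀ x ∈ U', x ≠ 0 → ∃ y ∈ U', polar q x y ≠ 0 := by
        rintro _ ⟨u, hu, rfl⟩ h0
        obtain ⟨y, hy, huy⟩ := hUn u hu fun h => h0 (by rw [h, map_zero])
        exact ⟨_, ⟨y, hy, rfl⟩, by rwa [polar_app]⟩
      by_cases hx : ∃ x ∈ U, ∃ y ∈ U', polar q x y ≠ 0
      · obtain ⟨x, hx, y, hy, hxy⟩ := hx
        have hsub : U' ≤ U := absorb hq hU'n (by omega) (fun w hw a ha hqw hwa s hs => by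
          obtain ⟨u, hu, rfl⟩ := hw
          obtain ⟨b, hb, rfl⟩ := ha
          exact hin u hu b hb (by rwa [Q_app] at hqw) (by rwa [polar_app] at hwa) s hs) hx hy hxy
        exact hg (hsU g (mem_stab.2 fun z hz => hsub ⟨z, hz, rfl⟩))
      · push Not at hx
        have hsub : U ≤ OrthTools.orth q U' := fun z hz => OrthTools.mem_orth.2 fun y hy => by
          rw [polar_comm]; exact hx z hz y hy
        have h1 := Submodule.finrank_mono hsub
        rw [OrthTools.finrank_orth hq U', hdU', hdU] at h1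
        have heq : U = OrthTools.orth q U' := Submodule.eq_of_le_of_finrank_eq hsub (by
          rw [OrthTools.finrank_orth hq U', hdU', hdU]; omega)
        refine hsw (by omega) g (hMC hgM) fun z hz => ?_
        rw [heq, OrthTools.mem_orth]
        rintro _ ⟨u, hu, rfl⟩
        rw [polar_app, hUW u hu z hz]
    -- an Eichler element with centre in `U` and axis outside
    set Z := U ⊓ OrthTools.orth q (Submodule.span F ({v, c} : Set (ι → F))) with hZdef
    have hdZ : Module.finrank F U ≤ Module.finrank F Z + 2 := by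
      have h1 := Submodule.finrank_sup_add_finrank_inf_eq U (OrthTools.orth q (Submodule.span F ({v, c} : Set (ι → F))))
      have h2 := Submodule.finrank_le (U ⊔ OrthTools.orth q (Submodule.span F ({v, c} : Set (ι → F))))
      have h3 := OrthTools.finrank_orth hq (Submodule.span F ({v, c} : Set (ι → F)))
      have h4 := finrank_pair_le (F := F) v c
      rw [Module.finrank_fintype_fun_eq_card] at h2
      rw [← hZdef] at h1
      omega
    have hfix : ∀ z ∈ Z, app (eich q v c) z = z := fun z hz => by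
      obtain ⟨h1, h2⟩ := mem_orth_pair.1 hz.2
      rw [app_eich hqv hvc, polar_comm (f := ⇑q) z v, polar_comm (f := ⇑q) z c, h1, h2]
      simp
    obtain ⟨u₁, hu₁, hu₁0, hqu₁⟩ := OrthTools.exists_singular hq Z (by omega)
    by_contra hc
    push Not at hc
    have hh : ∀ u ∈ U, u ≠ 0 → q u = 0 → app (eich q v c) u ∈ U → ∀ a ∈ U, polar q u a = 0 →
        app (eich q v c) a ∈ U := by
      intro u hu hu0 hqu hhu a ha hua
      by_contra hout
      refine hc _ hhu (fun h => hu0 (app_injective (eich q v c) (h.trans (map_zero _).symm))) (by rw [Q_app, hqu])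
        (app (eich q v c) a) (by rw [polar_app, hua]) hout ?_
      have := M.mul_mem (M.mul_mem hhM (hEU u hu a ha hqu hua)) (M.inv_mem hhM)
      rwa [eich_conj hqu hua] at this
    have hu₁U : app (eich q v c) u₁ ∈ U := by rw [hfix u₁ hu₁]; exact hu₁.1
    obtain ⟨C, hC⟩ := Submodule.exists_isCompl (Submodule.span F ({u₁} : Set (ι → F)))
    obtain ⟨u₂, ⟨hu₂', hu₂C⟩, hu₂0, hqu₂⟩ : ∃ x ∈ (U ⊓ OrthTools.orth q (Submodule.span F {u₁})) ⊓ C,
        x ≠ 0 ∧ q x = 0 := OrthTools.exists_singular hq _ (by
      have h1 := Submodule.finrank_add_eq_of_isCompl hC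
      have h2 := Submodule.finrank_sup_add_finrank_inf_eq (U ⊓ OrthTools.orth q (Submodule.span F {u₁})) C
      have h3 := Submodule.finrank_le ((U ⊓ OrthTools.orth q (Submodule.span F {u₁})) ⊔ C)
      have h4 := OrthTools.finrank_inf_orth hq U u₁
      rw [Module.finrank_fintype_fun_eq_card] at h1 h3
      rw [finrank_span_singleton hu₁0] at h1
      omega)
    obtain ⟨hu₂, hu₁₂⟩ := OrthTools.mem_inf_orth hu₂'
    have hu₂' : u₂ ∉ Submodule.span F ({u₁} : Set (ι → F)) := fun h => hu₂0 (Submodule.disjoint_def.1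
      hC.disjoint u₂ h hu₂C)
    apply hhx₁
    obtain ⟨z₀, h1, h2⟩ := exists_polar_eq_zero_one hq hu₂'
    obtain ⟨w, hw, z, hz, rfl⟩ := hsplit z₀
    rw [polar_add_right, hUW u₁ hu₁.1 w hw, zero_add] at h1
    rw [polar_add_right, hUW u₂ hu₂ w hw, zero_add] at h2
    set t := polar q u₂ x₁
    have e1 := hh u₁ hu₁.1 hu₁0 hqu₁ hu₁U (t • z) (U.smul_mem t hz) (by rw [polar_smul_right, h1, smul_zero])
    have e2 := hh u₂ hu₂ hu₂0 hqu₂ (hh u₁ hu₁.1 hu₁0 hqu₁ hu₁U u₂ hu₂ hu₁₂) (x₁ - t • z) (U.sub_mem hx₁ (U.smul_mem t hz))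
      (by rw [polar_sub_right, polar_smul_right, h2, smul_eq_mul, mul_one, sub_self])
    have := U.add_mem e2 e1
    rwa [← map_add, sub_add_cancel] at this

  obtain ⟨w₀, hw₀, aU, haU, hwa⟩ := hsplit a₀
  have hw₀0 : w₀ ≠ 0 := fun h => ha₀ (by rw [← hwa, h, zero_add]; exact haU)
  have huaU : polar q u aU = 0 := by rwa [← hwa, polar_add_right, hUW u hu w₀ hw₀, zero_add] at hua₀
  have hw₀M : eich q u w₀ ∈ M := by
    have h1 := M.mul_mem hEa₀ (hEU u hu _ (U.neg_mem haU) hqu (by rw [polar_neg_right, huaU, neg_zero]))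
    rwa [eich_add hqu hua₀ (by rw [polar_neg_right, huaU, neg_zero]), ← hwa, add_neg_cancel_right] at h1
  -- moving singular vectors of `U`
  have hmove : ∀ x ∈ U, ∀ y ∈ U, q x = 0 → q y = 0 → polar q x y ≠ 0 →
      ∃ k ∈ M, (∀ z ∈ W, app k z = z) ∧ app k x = y := by
    intro x hx y hy hqx hqy hxy
    set e := polar q x y with he
    obtain ⟨Y, hYU, hYd, hY, -, hYn⟩ := OrthClasses.remove_pair hq hUn hx (U.smul_mem e⁻¹ hy) hqx
      (by rw [QuadraticMap.map_smul, hqy, smul_zero])
      (by rw [polar_smul_right, ← he, smul_eq_mul, inv_mul_cancel₀ hxy])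
    obtain ⟨w, hw, hqw⟩ : ∃ w ∈ Y, q w = -e⁻¹ := by
      rcases hU5 with hU5 | ⟨h2, -, h4⟩
      · exact exists_value_in hq hYn (by omega) _
      · exact exists_value_two hq hn h2 hYn (by omega) _
    obtain ⟨hxw, hyw⟩ := hY w hw
    rw [polar_smul_left, smul_eq_zero_iff_right (inv_ne_zero hxy)] at hyw
    set p := e⁻¹ • x + e⁻¹ • y + w with hp
    have hpU : p ∈ U := U.add_mem (U.add_mem (U.smul_mem _ hx) (U.smul_mem _ hy)) (hYU hw)
    have hqp : q p = 0 := by
      rw [hp]
      simp only [QuadraticMap.map_add ⇑q, QuadraticMap.map_smul, polar_add_left, polar_smul_left,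
        polar_smul_right, hqx, hqy, hqw, hxw, hyw, ← he, smul_eq_mul]
      field_simp
      ring
    have hxp : polar q x p = 1 := by
      rw [hp]
      simp [polar_add_right, polar_smul_right, polar_self', hqx, hxw, ← he, hxy]
    have hyp : polar q y p = 1 := by
      rw [hp]
      simp [polar_add_right, polar_smul_right, polar_self', hqy, hyw, polar_comm (f := ⇑q) y x, ← he, hxy]
    obtain ⟨h1, h2⟩ := app_eich_move hqp hqx hqy hxp hyp
    refine ⟨_, hEU p hpU _ (U.sub_mem hy hx) hqp h1, fun z hz => ?_, h2⟩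
    rw [app_eich hqp h1, hWU z hz p hpU, hWU z hz _ (U.sub_mem hy hx)]
    simp
  obtain ⟨u', hu'U, hqu', huu'⟩ := OrthTools.exists_partner hUn hu hu0 hqu
  obtain ⟨k₁, hk₁, hk₁W, hk₁u⟩ := hmove u hu u' hu'U hqu hqu' (by rw [huu']; exact one_ne_zero)
  -- the axes inside `W`
  let S : Submodule F (ι → F) :=
    { carrier := {w | w ∈ W ∧ eich q u w ∈ M}
      zero_mem' := ⟨W.zero_mem, by rw [← zero_smul F u, eich_smul_self hqu]; exact M.one_mem⟩
      add_mem' := by
        rintro a b ⟨ha, ha'⟩ ⟨hb, hb'⟩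
        exact ⟨W.add_mem ha hb, by rw [← eich_add hqu (hUW u hu a ha) (hUW u hu b hb)]; exact M.mul_mem ha' hb'⟩
      smul_mem' := by
        rintro t w ⟨hw, hw'⟩
        refine ⟨W.smul_mem t hw, ?_⟩
        rcases eq_or_ne t 0 with rfl | ht
        · rw [zero_smul, ← zero_smul F u, eich_smul_self hqu]; exact M.one_mem
        obtain ⟨k₂, hk₂, hk₂W, hk₂u⟩ := hmove u' hu'U (t • u) (U.smul_mem t hu) hqu'
          (by rw [QuadraticMap.map_smul, hqu, smul_zero])
          (by rw [polar_smul_right, polar_comm, huu', smul_eq_mul, mul_one]; exact ht)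
        have h1 := M.mul_mem (M.mul_mem (M.mul_mem hk₂ hk₁) hw') (M.inv_mem (M.mul_mem hk₂ hk₁))
        rwa [eich_conj hqu (hUW u hu w hw), app_mul, app_mul, hk₁u, hk₂u, hk₁W w hw, hk₂W w hw,
          eich_smul_left hqu (hUW u hu w hw)] at h1 }
  have hw₀S : w₀ ∈ S := ⟨hw₀, hw₀M⟩
  have hSW : S ≤ W := fun w hw => hw.1
  have hinvS : ∀ k ∈ M, (∀ x ∈ W, app k x ∈ W) → app k u = u → ∀ w ∈ S, app k w ∈ S := by
    intro k hk hkW hku w hw
    refine ⟨hkW w hw.1, ?_⟩
    have := M.mul_mem (M.mul_mem hk hw.2) (M.inv_mem hk)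
    rwa [eich_conj hqu (hUW u hu w hw.1), hku] at this
  have hWS : W ≤ S := by
    by_cases hk3 : 3 ≤ Module.finrank F W
    · obtain ⟨y, hy, hwy⟩ := hW w₀ hw₀ hw₀0
      refine absorb hq hW hk3 (fun w hw a ha hqw hwa s hs => hinvS _ (hEW w hw a ha hqw hwa)
        (fun x hx => ?_) ?_ s hs) hw₀S hy hwy
      · rw [app_eich hqw hwa]
        exact W.add_mem (W.add_mem hx (W.smul_mem _ ha)) (W.smul_mem _ hw)
      · rw [app_eich hqw hwa, hUW u hu w hw, hUW u hu a ha]
        simp
    have hpos : 0 < Module.finrank F W := Module.finrank_pos_iff_exists_ne_zero.2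
      ⟨⟨w₀, hw₀⟩, fun h => hw₀0 (congrArg Subtype.val h)⟩
    by_contra hne
    have hlt : Module.finrank F S < Module.finrank F W :=
      Submodule.finrank_lt_finrank_of_lt (lt_of_le_of_ne hSW fun he => hne he.ge)
    have hS1 : Submodule.span F {w₀} ≤ S := (Submodule.span_singleton_le_iff_mem _ _).2 hw₀S
    have h1 := Submodule.finrank_mono hS1
    rw [finrank_span_singleton hw₀0] at h1
    have hS : S = Submodule.span F {w₀} := (Submodule.eq_of_le_of_finrank_le hS1 (by
      rw [finrank_span_singleton hw₀0]; omega)).symm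
    have hrefl : ∀ x ∈ W, q x ≠ 0 → ∀ s ∈ S, app (refl q x) s ∈ S := by
      intro x hx hqx s hs
      obtain ⟨Y, hYU, hYd, hY, -, hYn⟩ := OrthClasses.remove_pair hq hUn hu hu'U hqu hqu' huu'
      obtain ⟨b, hb, hqb⟩ := exists_value_in hq hYn (by rcases hU5 with hU5 | ⟨-, h3, -⟩ <;> omega) (q x)
      have hkM : refl q x * refl q b ∈ M := hle ⟨mem_stab.2 fun z hz => by
        rw [app_mul, app_refl_of_ortho (hWU z hz b (hYU hb)), app_refl]
        exact W.sub_mem hz (W.smul_mem _ hx), pair_mem hq hn7 hqx hqb.symm⟩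
      have h2 := hinvS _ hkM (fun z hz => by
        rw [app_mul, app_refl_of_ortho (hWU z hz b (hYU hb)), app_refl]
        exact W.sub_mem hz (W.smul_mem _ hx))
        (by rw [app_mul, app_refl_of_ortho (hY b hb).1, app_refl_of_ortho (hUW u hu x hx)]) s hs
      rwa [app_mul, app_refl_of_ortho (hWU s hs.1 b (hYU hb))] at h2
    -- vectors pairing non-trivially with `w₀` off its line are singular
    have hsing : ∀ x ∈ W, polar q w₀ x ≠ 0 → x ∉ Submodule.span F {w₀} → q x = 0 := by
      intro x hx hwx hxn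
      by_contra hqx
      have h2 := hrefl x hx hqx w₀ hw₀S
      rw [app_refl, hS] at h2
      have h3 : ((q x)⁻¹ * polar q w₀ x) • x ∈ Submodule.span F ({w₀} : Set (ι → F)) := by
        simpa using Submodule.sub_mem _ (Submodule.mem_span_singleton_self w₀) h2
      exact hxn ((Submodule.smul_mem_iff _ (mul_ne_zero (inv_ne_zero hqx) hwx)).1 h3)
    by_cases hqw₀ : q w₀ = 0
    · obtain ⟨r, hr, hqr, hwr⟩ := OrthTools.exists_partner hW hw₀ hw₀0 hqw₀
      have hqd : q (w₀ - r) = -1 := by
        rw [sub_eq_add_neg, QuadraticMap.map_add ⇑q, QuadraticMap.map_neg, polar_neg_right, hqw₀, hqr, hwr]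
        ring
      have h2 := hrefl (w₀ - r) (W.sub_mem hw₀ hr) (by rw [hqd]; exact neg_ne_zero.2 one_ne_zero) w₀ hw₀S
      rw [app_refl, hqd, polar_sub_right, polar_self', hqw₀, hwr, hS] at h2
      have h3 : r ∈ Submodule.span F ({w₀} : Set (ι → F)) := by
        convert h2 using 1
        norm_num
      obtain ⟨t, rfl⟩ := Submodule.mem_span_singleton.1 h3
      rw [polar_smul_right, polar_self', hqw₀] at hwr
      simp at hwr
    obtain ⟨y, hy, hwy⟩ := hW w₀ hw₀ hw₀0
    by_cases h2 : (2 : F) = 0
    · set y₁ := (polar q w₀ y)⁻¹ • y with hy₁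
      have hwy₁ : polar q w₀ y₁ = 1 := by rw [hy₁, polar_smul_right, smul_eq_mul, inv_mul_cancel₀ hwy]
      have hy₁W : y₁ ∈ W := W.smul_mem _ hy
      clear_value y₁
      have hww : polar q w₀ w₀ = 0 := by rw [polar_self', h2, zero_mul]
      have hval : ∀ μ : F, q y₁ + μ * μ * q w₀ + μ = 0 := by
        intro μ
        have h4 : polar q w₀ (y₁ + μ • w₀) = 1 := by
          rw [polar_add_right, polar_smul_right, hww, hwy₁, smul_zero, add_zero]
        have := hsing (y₁ + μ • w₀) (W.add_mem hy₁W (W.smul_mem μ hw₀))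
          (by rw [h4]; exact one_ne_zero) fun hin => by
            obtain ⟨t, ht⟩ := Submodule.mem_span_singleton.1 hin
            rw [← ht, polar_smul_right, hww, smul_zero] at h4
            exact zero_ne_one h4
        rw [QuadraticMap.map_add ⇑q, QuadraticMap.map_smul, polar_smul_right, polar_comm (f := ⇑q) y₁ w₀, hwy₁] at this
        simpa [smul_eq_mul] using this
      have e0 : q y₁ = 0 := by simpa using hval 0
      have e1 := hval 1
      have hF : (Finset.univ : Finset F) ⊆ {0, 1} := fun μ _ => by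
        have h4 : μ * (μ - 1) = 0 := by
          linear_combination hval μ - (μ * μ) * e1 + (μ * μ - 1) * e0 - μ * h2 + (μ * μ) * h2
        rcases mul_eq_zero.1 h4 with h | h
        · simp [h]
        · simp [sub_eq_zero.1 h]
      have h5 := Finset.card_le_card hF
      rw [Finset.card_univ] at h5
      have h6 : Finset.card ({0, 1} : Finset F) ≤ 2 := Finset.card_le_two
      exact hex ⟨by omega, by omega, y₁, hy₁W,
        fun h0 => one_ne_zero (by rw [← hwy₁, h0, polar_zero_right]), e0⟩
    · obtain ⟨x₂, hx₂, hx₂n⟩ := SetLike.not_le_iff_exists.1 (show ¬ W ≤ Submodule.span F ({w₀} : Set (ι → F)) from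
        fun hle' => hne (hS ▸ hle'))
      have h2q : 2 * q w₀ ≠ 0 := mul_ne_zero h2 hqw₀
      set b := x₂ - (polar q w₀ x₂ / (2 * q w₀)) • w₀ with hb
      have hwb : polar q w₀ b = 0 := by
        rw [hb, polar_sub_right, polar_smul_right, polar_self', smul_eq_mul, div_mul_cancel₀ _ h2q, sub_self]
      have hbW : b ∈ W := W.sub_mem hx₂ (W.smul_mem _ hw₀)
      have hbn : b ∉ Submodule.span F ({w₀} : Set (ι → F)) := fun hin => hx₂n (by
        have := Submodule.add_mem _ hin (Submodule.smul_mem _ (polar q w₀ x₂ / (2 * q w₀))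
          (Submodule.mem_span_singleton_self w₀))
        rwa [hb, sub_add_cancel] at this)
      have hval : ∀ μ : F, μ ≠ 0 → q b + μ * μ * q w₀ = 0 := by
        intro μ hμ
        have := hsing (b + μ • w₀) (W.add_mem hbW (W.smul_mem μ hw₀))
          (by rw [polar_add_right, polar_smul_right, polar_self', hwb, zero_add]; exact mul_ne_zero hμ h2q)
          fun hin => hbn (by simpa using
            Submodule.sub_mem _ hin (Submodule.smul_mem _ μ (Submodule.mem_span_singleton_self w₀)))
        rw [QuadraticMap.map_add ⇑q, QuadraticMap.map_smul, polar_smul_right, polar_comm (f := ⇑q) b w₀, hwb] at this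
        simpa [smul_eq_mul] using this
      have e1 := hval 1 one_ne_zero
      have hF : (Finset.univ : Finset F) ⊆ {0, 1, -1} := fun μ _ => by
        by_cases hμ : μ = 0
        · simp [hμ]
        have h4 : μ * μ = 1 * 1 := mul_right_cancel₀ hqw₀ (by linear_combination hval μ hμ - e1)
        rcases mul_self_eq_mul_self_iff.1 h4 with h | h <;> simp [h]
      have h5 := Finset.card_le_card hF
      rw [Finset.card_univ] at h5
      have h6 : Finset.card ({0, 1, -1} : Finset F) ≤ 3 := Finset.card_le_three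
      refine hex ⟨by omega, by omega, b + w₀, W.add_mem hbW hw₀,
        fun h0 => hbn (Submodule.mem_span_singleton.2 ⟨-1, by rw [eq_neg_of_add_eq_zero_left h0]; simp⟩), ?_⟩
      rw [QuadraticMap.map_add ⇑q, polar_comm (f := ⇑q) b w₀, hwb]
      linear_combination e1
  -- conclusion
  have hfu : Full M u := ⟨hqu, fun a ha => by
    obtain ⟨w, hw, b, hb, rfl⟩ := hsplit a
    have hub : polar q u b = 0 := by rwa [polar_add_right, hUW u hu w hw, zero_add] at ha
    rw [← eich_add hqu (hUW u hu w hw) hub]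
    exact M.mul_mem (hWS hw).2 (hEU u hu b hb hqu hub)⟩
  have hfu' := full_conj hk₁ hfu
  rw [hk₁u] at hfu'
  exact commutator_le_of_pair hq hn7 hfu hfu' (by rw [polar_comm, huu']; exact one_ne_zero)

end CfsgLib.GeomClasses.OrthSubspace
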