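import Cfsg.Agent.Lib.GeomClasses.OrthPair
import Cfsg.Agent.Lib.GeomClasses.OrthSubspace

/-!
Quadratic forms with a complex structure `J`: `Q (a x + b J x) = N(a, b) Q x`, and singular vectors with
prescribed pairings.
-/

set_option autoImplicit false
set_option linter.unusedSectionVars false

namespace CfsgLib.GeomClasses.OrthCplx

open Matrix QuadraticMap CfsgLib.Orth CfsgLib.Maximal.TensorTools

variable {ι : Type} [Fintype ι] [DecidableEq ι] {F : Type*} [Field F]
  {q : QuadraticForm F (ι → F)} {J : (ι → F) →ₗ[F] (ι → F)} {α c : F}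

/-- `J` generates a quadratic field of similarities which is not self-adjoint. -/
structure Cplx (q : QuadraticForm F (ι → F)) (J : (ι → F) →ₗ[F] (ι → F)) (α c : F) : Prop where
  nondeg : q.polarBilin.Nondegenerate
  card : 9 ≤ Fintype.card ι
  sq : ∀ x, J (J x) = α • J x - c • x
  adj : ∀ x y, polar q (J x) y = α * polar q x y - polar q x (J y)
  qJ : ∀ x, q (J x) = c * q x
  self_J : ∀ x, polar q x (J x) = α * q x
  irred : ∀ a b : F, a * a + α * a * b + c * b * b = 0 → a = 0 ∧ b = 0

/-- `W` is closed under `J`. -/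
def JInv (J : (ι → F) →ₗ[F] (ι → F)) (W : Submodule F (ι → F)) : Prop := ∀ x ∈ W, J x ∈ W

/-- The `J`-span of the vectors. -/
def jspan {k : ℕ} (J : (ι → F) →ₗ[F] (ι → F)) (v : Fin k → ι → F) : Submodule F (ι → F) :=
  Submodule.span F (Set.range (Sum.elim v (fun i => J (v i))))

theorem mem_jspan {k : ℕ} (v : Fin k → ι → F) (i : Fin k) : v i ∈ jspan J v :=
  Submodule.subset_span ⟨.inl i, rfl⟩

theorem map_mem_jspan {k : ℕ} (v : Fin k → ι → F) (i : Fin k) : J (v i) ∈ jspan J v :=
  Submodule.subset_span ⟨.inr i, rfl⟩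

theorem finrank_jspan {k : ℕ} (v : Fin k → ι → F) : Module.finrank F (jspan J v) ≤ 2 * k := by
  refine (finrank_range_le_card (R := F) _).trans ?_
  simp [two_mul]

section

variable (C : Cplx q J α c)
include C

theorem jinv_jspan {k : ℕ} (v : Fin k → ι → F) : JInv J (jspan J v) := by
  intro x hx
  induction hx using Submodule.span_induction with
  | mem x hx =>
    rcases hx with ⟨i | i, rfl⟩
    · exact map_mem_jspan v i
    · show J (J (v i)) ∈ _
      rw [C.sq]
      exact Submodule.sub_mem _ (Submodule.smul_mem _ _ (map_mem_jspan v i))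
        (Submodule.smul_mem _ _ (mem_jspan v i))
  | zero => rw [map_zero]; exact Submodule.zero_mem _
  | add x y _ _ hx hy => rw [map_add]; exact Submodule.add_mem _ hx hy
  | smul a x _ hx => rw [map_smul]; exact Submodule.smul_mem _ _ hx

theorem c_ne : c ≠ 0 := fun h => one_ne_zero (C.irred 0 1 (by rw [h]; ring)).2

theorem polar_J_right (x y : ι → F) : polar q x (J y) = α * polar q x y - polar q (J x) y := by
  rw [C.adj]; ring

theorem polar_JJ (x y : ι → F) : polar q (J x) (J y) = c * polar q x y := by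
  simp only [QuadraticMap.polar, ← map_add, C.qJ]
  ring

theorem polar_J_self (x : ι → F) : polar q (J x) x = α * q x := by
  rw [polar_comm]; exact C.self_J x

theorem q_comb (x : ι → F) (a b : F) : q (a • x + b • J x) = (a * a + α * a * b + c * b * b) * q x := by
  rw [QuadraticMap.map_add ⇑q, QuadraticMap.map_smul, QuadraticMap.map_smul, C.qJ, polar_smul_left,
    polar_smul_right, C.self_J]
  simp only [smul_eq_mul]
  ring

/-- A `J`-invariant subspace not containing `x` meets the line `F(J) x` trivially. -/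
theorem coeff_zero {W : Submodule F (ι → F)} (hW : JInv J W) {x : ι → F} (hx : x ∉ W) {a b : F}
    (h : a • x + b • J x ∈ W) : a = 0 ∧ b = 0 := by
  refine C.irred a b ?_
  by_contra hN
  apply hx
  refine (Submodule.smul_mem_iff W hN).1 ?_
  have h1 := W.sub_mem (W.smul_mem (a + α * b) h) (W.smul_mem b (hW _ h))
  rw [map_add, map_smul, map_smul, C.sq] at h1
  convert h1 using 1
  module

theorem indep_zero {x : ι → F} (hx : x ≠ 0) {a b : F} (h : a • x + b • J x = 0) : a = 0 ∧ b = 0 :=
  coeff_zero C (W := ⊥) (fun y hy => by simp_all) (by simpa using hx) (by simpa using h)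

theorem J_notMem {W : Submodule F (ι → F)} (hW : JInv J W) {x : ι → F} (hx : x ∉ W) : J x ∉ W := fun h =>
  one_ne_zero (coeff_zero C hW hx (a := 0) (b := 1) (by simpa using h)).2

theorem jinv_orth {W : Submodule F (ι → F)} (hW : JInv J W) : JInv J (OrthTools.orth q W) := by
  intro x hx
  refine OrthTools.mem_orth.2 fun y hy => ?_
  rw [polar_J_right C, OrthTools.mem_orth.1 hx y hy, OrthTools.mem_orth.1 hx _ (hW y hy)]
  ring

variable [Fintype F]

theorem norm_surjective (t : F) : ∃ a b : F, a * a + α * a * b + c * b * b = t := by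
  classical
  by_cases h2 : (2 : F) = 0
  · haveI : CharP F 2 := CharTwo.of_one_ne_zero_of_two_eq_zero one_ne_zero h2
    obtain ⟨a, ha⟩ := FiniteField.isSquare_of_char_two (ringChar.eq F 2) t
    exact ⟨a, 0, by rw [ha]; ring⟩
  · have h4 : (4 : F) ≠ 0 := by rw [show (4 : F) = 2 * 2 by norm_num]; exact mul_ne_zero h2 h2
    have hd : c - α * α / 4 ≠ 0 := by
      intro h
      have := C.irred (-α) 2 (by field_simp at h; linear_combination h)
      exact h2 this.2
    obtain ⟨x, y, hxy⟩ := CfsgLib.Orth.exists_binary h2 one_ne_zero hd t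
    exact ⟨x - α * y / 2, y, by rw [← hxy, show (4 : F) = 2 * 2 by norm_num]; field_simp; ring⟩

theorem exists_value_ne {W : Submodule F (ι → F)} (hW4 : Module.finrank F W ≤ 4) :
    ∃ z ∈ OrthTools.orth q W, q z ≠ 0 := by
  by_contra h
  push Not at h
  have h1 := two_finrank_le C.nondeg h
  rw [OrthTools.finrank_orth C.nondeg] at h1
  have := C.card
  omega

omit [Fintype F] in
/-- A singular vector of `W` is orthogonal to no less than `W` when the orthogonal of `W` is singular. -/
theorem mem_orth_of_singular {W : Submodule F (ι → F)} (hW : JInv J W) (hW6 : Module.finrank F W ≤ 6)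
    (hts : ∀ z ∈ OrthTools.orth q W, q z = 0) {x : ι → F} (hx : x ∈ W) (hqx : q x = 0) :
    x ∈ OrthTools.orth q W := by
  by_contra hxR
  set U := OrthTools.orth q W ⊔ jspan J ![x] with hU
  have hU0 : ∀ y ∈ U, q y = 0 := by
    intro y hy
    obtain ⟨r, hr, z, hz, rfl⟩ := Submodule.mem_sup.1 hy
    obtain ⟨d, hd⟩ := (Submodule.mem_span_range_iff_exists_fun F).1 hz
    simp only [Fintype.sum_sum_type, Fin.sum_univ_one, Sum.elim_inl, Sum.elim_inr, Matrix.cons_val_zero] at hd
    have hzW : z ∈ W := hd ▸ W.add_mem (W.smul_mem _ hx) (W.smul_mem _ (hW x hx))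
    rw [QuadraticMap.map_add ⇑q, hts r hr, polar_comm, OrthTools.mem_orth.1 hr z hzW, ← hd, q_comb C, hqx]
    simp
  have hinf : OrthTools.orth q W ⊓ jspan J ![x] = ⊥ := by
    rw [Submodule.eq_bot_iff]
    rintro y ⟨hy, hy'⟩
    obtain ⟨d, hd⟩ := (Submodule.mem_span_range_iff_exists_fun F).1 hy'
    simp only [Fintype.sum_sum_type, Fin.sum_univ_one, Sum.elim_inl, Sum.elim_inr, Matrix.cons_val_zero] at hd
    obtain ⟨e1, e2⟩ := coeff_zero C (jinv_orth C hW) hxR (a := d (.inl 0)) (b := d (.inr 0)) (by rw [hd]; exact hy)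
    rw [← hd, e1, e2, zero_smul, zero_smul, add_zero]
  have h2 : 2 ≤ Module.finrank F ↥(jspan J ![x]) := by
    have hx0 : x ≠ 0 := fun e => hxR (e ▸ Submodule.zero_mem _)
    have hli : LinearIndependent F ![x, J x] := LinearIndependent.pair_iff.2 fun r t h => indep_zero C hx0 h
    have h6 := finrank_span_eq_card hli
    rw [Fintype.card_fin] at h6
    refine h6.symm.le.trans (Submodule.finrank_mono (Submodule.span_le.2 ?_))
    rintro _ ⟨i, rfl⟩
    fin_cases i
    · exact mem_jspan ![x] 0
    · exact map_mem_jspan ![x] 0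
  have h3 := Submodule.finrank_sup_add_finrank_inf_eq (OrthTools.orth q W) (jspan J ![x])
  rw [hinf, finrank_bot, ← hU, OrthTools.finrank_orth C.nondeg] at h3
  have h4 := two_finrank_le C.nondeg hU0
  have := C.card
  omega

/-- A singular vector with the same pairings with `W` as `v₀`, from a non-singular vector of the orthogonal. -/
theorem exists_singular_eq_of_value {W : Submodule F (ι → F)} (hW : JInv J W) (v₀ : ι → F) {z : ι → F}
    (hz : z ∈ OrthTools.orth q W) (hqz : q z ≠ 0) :
    ∃ v, q v = 0 ∧ ∀ w ∈ W, polar q w v = polar q w v₀ := by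
  have hJz := jinv_orth C hW z hz
  have hd : 4 * c - α * α ≠ 0 := by
    intro h
    have h2 : (2 : F) = 0 := (C.irred (-α) 2 (by linear_combination h)).2
    haveI : CharP F 2 := CharTwo.of_one_ne_zero_of_two_eq_zero one_ne_zero h2
    obtain ⟨s, hs⟩ := FiniteField.isSquare_of_char_two (ringChar.eq F 2) c
    have hα : α = 0 := mul_self_eq_zero.1 (by linear_combination -h + 2 * c * h2)
    exact one_ne_zero (C.irred s 1 (by rw [hα, hs]; linear_combination (s * s) * h2)).2
  set D := q z * (4 * c - α * α) with hD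
  have hD0 : D ≠ 0 := mul_ne_zero hqz hd
  set A := polar q v₀ z with hA
  set B := polar q v₀ (J z) with hB
  set a := (α * B - 2 * c * A) / D with ha
  set b := (α * A - 2 * B) / D with hb
  set v₁ := v₀ + (a • z + b • J z) with hv₁
  have e1 : polar q v₁ z = 0 := by
    rw [hv₁, polar_add_left, polar_add_left, polar_smul_left, polar_smul_left, polar_self', polar_J_self C]
    simp only [smul_eq_mul, ← hA, ha, hb]
    field_simp
    rw [hD]
    ring
  have e2 : polar q v₁ (J z) = 0 := by
    rw [hv₁, polar_add_left, polar_add_left, polar_smul_left, polar_smul_left, C.self_J, polar_self', C.qJ]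
    simp only [smul_eq_mul, ← hB, ha, hb]
    field_simp
    rw [hD]
    ring
  obtain ⟨x, y, hxy⟩ := norm_surjective C (-q v₁ / q z)
  refine ⟨v₁ + (x • z + y • J z), ?_, fun w hw => ?_⟩
  · rw [QuadraticMap.map_add ⇑q, q_comb C, hxy, polar_add_right, polar_smul_right, polar_smul_right, e1, e2,
      div_mul_cancel₀ _ hqz]
    simp
  · rw [hv₁, polar_add_right, polar_add_right, polar_add_right, polar_add_right, polar_smul_right,
      polar_smul_right, polar_smul_right, polar_smul_right, OrthTools.mem_orth.1 hz w hw,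
      OrthTools.mem_orth.1 hJz w hw]
    simp

/-- A non-singular vector orthogonal to a space of less than half the dimension. -/
theorem exists_value_of_lt {W : Submodule F (ι → F)} (hW : 2 * Module.finrank F W < Fintype.card ι) :
    ∃ z ∈ OrthTools.orth q W, q z ≠ 0 := by
  by_contra h
  push Not at h
  have h1 := two_finrank_le C.nondeg h
  rw [OrthTools.finrank_orth C.nondeg] at h1
  omega

/-- A singular vector with the same pairings with `W` as `v₀`. -/
theorem exists_singular_eq {W : Submodule F (ι → F)} (hW : JInv J W) (hW6 : Module.finrank F W ≤ 6)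
    (v₀ : ι → F) (hwit : Module.finrank F W ≤ 4 ∨ ∃ x ∈ W, q x = 0 ∧ polar q x v₀ ≠ 0) :
    ∃ v, q v = 0 ∧ ∀ w ∈ W, polar q w v = polar q w v₀ := by
  by_cases hts : ∀ z ∈ OrthTools.orth q W, q z = 0
  · rcases hwit with h4 | ⟨x, hx, hqx, hxv⟩
    · obtain ⟨z, hz, hqz⟩ := exists_value_ne C h4
      exact absurd (hts z hz) hqz
    have hxR := mem_orth_of_singular C hW hW6 hts hx hqx
    refine ⟨v₀ + (-q v₀ / polar q x v₀) • x, ?_, fun w hw => ?_⟩
    · rw [QuadraticMap.map_add ⇑q, QuadraticMap.map_smul, hqx, polar_smul_right, polar_comm (f := ⇑q) v₀ x,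
        smul_eq_mul, smul_eq_mul, mul_zero, add_zero, div_mul_cancel₀ _ hxv, add_neg_cancel]
    · rw [polar_add_right, polar_smul_right, OrthTools.mem_orth.1 hxR w hw, smul_zero, add_zero]
  push Not at hts
  obtain ⟨z, hz, hqz⟩ := hts
  exact exists_singular_eq_of_value C hW v₀ hz hqz

omit [Fintype F] in
theorem exists_pairing {S : Submodule F (ι → F)} {x : ι → F} (hx : x ∉ S) :
    ∃ v, (∀ s ∈ S, polar q s v = 0) ∧ polar q x v ≠ 0 := by
  by_contra hc
  push Not at hc
  apply hx
  rw [← LinearMap.BilinForm.orthogonal_orthogonal C.nondeg (polarBilin_isRefl C.nondeg) S]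
  refine LinearMap.BilinForm.mem_orthogonal_iff.2 fun y hy => ?_
  show polar q y x = 0
  rw [polar_comm]
  exact hc y fun s hs => OrthTools.mem_orth.1 hy s hs

omit [Fintype F] in
theorem exists_pairing_two {S : Submodule F (ι → F)} {x y : ι → F} (hx : x ∉ S) (hy : y ∉ S) :
    ∃ v, (∀ s ∈ S, polar q s v = 0) ∧ polar q x v ≠ 0 ∧ polar q y v ≠ 0 := by
  obtain ⟨v₁, h1, h1x⟩ := exists_pairing C hx
  obtain ⟨v₂, h2, h2y⟩ := exists_pairing C hy
  by_cases h1y : polar q y v₁ = 0
  · by_cases h2x : polar q x v₂ = 0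
    · exact ⟨v₁ + v₂, fun s hs => by rw [polar_add_right, h1 s hs, h2 s hs, add_zero],
        by rwa [polar_add_right, h2x, add_zero], by rwa [polar_add_right, h1y, zero_add]⟩
    · exact ⟨v₂, h2, h2x, h2y⟩
  · exact ⟨v₁, h1, h1x, h1y⟩

/-- A singular vector orthogonal to `S` and outside `W`. -/
theorem exists_link' {S W : Submodule F (ι → F)}
    (h : Module.finrank F S + Module.finrank F W + 3 ≤ Fintype.card ι) :
    ∃ w, w ∈ OrthTools.orth q S ∧ w ∉ W ∧ q w = 0 := by
  obtain ⟨X, hX⟩ := (W.comap (OrthTools.orth q S).subtype).exists_isCompl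
  have h1 := Submodule.finrank_add_eq_of_isCompl hX
  have h2 : Module.finrank F ↥(W.comap (OrthTools.orth q S).subtype) ≤ Module.finrank F W := by
    rw [← Submodule.finrank_map_subtype_eq]
    exact Submodule.finrank_mono (Submodule.map_comap_le _ _)
  have h3 := OrthTools.finrank_orth C.nondeg S
  obtain ⟨w, hw, hw0, hqw⟩ := OrthTools.exists_singular C.nondeg (X.map (OrthTools.orth q S).subtype)
    (by rw [Submodule.finrank_map_subtype_eq]; omega)
  obtain ⟨⟨w', hw'⟩, hwX, rfl⟩ := hw
  refine ⟨w', hw', fun h => hw0 ?_, hqw⟩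
  have := Submodule.disjoint_def.1 hX.disjoint ⟨w', hw'⟩ (by simpa using h) hwX
  simpa using congrArg Subtype.val this

/-- A singular vector orthogonal to `W` and outside `W`. -/
theorem exists_link {W : Submodule F (ι → F)} (hW4 : Module.finrank F W ≤ 4)
    (hW : Module.finrank F W ≤ 2 ∨ ∀ x ∈ W, x ∈ OrthTools.orth q W → x = 0) :
    ∃ w, w ∈ OrthTools.orth q W ∧ w ∉ W ∧ q w = 0 := by
  have h4 := C.card
  rcases hW with h2 | hR
  · exact exists_link' C (by omega)
  · have h3 := OrthTools.finrank_orth C.nondeg W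
    obtain ⟨w, hw, hw0, hqw⟩ := OrthTools.exists_singular C.nondeg (OrthTools.orth q W) (by omega)
    exact ⟨w, hw, fun h => hw0 (hR w h hw), hqw⟩

omit [Fintype F] in
/-- A singular vector pairing non-trivially with a `J`-line spans with it a non-degenerate space. -/
theorem rad_pair {u a : ι → F} (hu : q u = 0) (hua : polar q u a ≠ 0 ∨ polar q (J u) a ≠ 0) :
    ∀ x ∈ jspan J ![u, a], x ∈ OrthTools.orth q (jspan J ![u, a]) → x = 0 := by
  intro x hx hxo
  obtain ⟨d, hd⟩ := (Submodule.mem_span_range_iff_exists_fun F).1 hx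
  simp only [Fintype.sum_sum_type, Fin.sum_univ_two, Sum.elim_inl, Sum.elim_inr, Matrix.cons_val_zero,
    Matrix.cons_val_one] at hd
  have h0 : ∀ y ∈ jspan J ![u, a], polar q y x = 0 := fun y hy => OrthTools.mem_orth.1 hxo y hy
  have k1 := h0 u (mem_jspan ![u, a] 0)
  have k2 := h0 _ (map_mem_jspan (J := J) ![u, a] 0)
  simp only [Matrix.cons_val_zero] at k2
  have eJJ : polar q (J u) (J u) = 0 := by rw [polar_JJ C, polar_self', hu]; simp
  rw [← hd] at k1 k2
  simp only [polar_add_right, polar_smul_right, smul_eq_mul, polar_self', hu, C.self_J, polar_J_self C, eJJ,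
    polar_JJ C, polar_J_right C u a, mul_zero, zero_add, add_zero] at k1 k2
  set p := polar q u a with hp
  set r := polar q (J u) a with hr
  have hN : r * r + α * r * (-p) + c * (-p) * (-p) ≠ 0 := fun h => by
    obtain ⟨e1, e2⟩ := C.irred r (-p) h
    rcases hua with h' | h'
    · exact h' (by simpa using e2)
    · exact h' e1
  have d1 : d (.inr 1) = 0 := by
    have : d (.inr 1) * (r * r + α * r * (-p) + c * (-p) * (-p)) = 0 := by
      linear_combination p * k2 - r * k1
    exact (mul_eq_zero.1 this).resolve_right hN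
  rw [d1] at k1 k2
  have d0 : d (.inl 1) = 0 := by
    rcases hua with h' | h'
    · exact (mul_eq_zero.1 (show d (.inl 1) * p = 0 by linear_combination k1)).resolve_right h'
    · exact (mul_eq_zero.1 (show d (.inl 1) * r = 0 by linear_combination k2)).resolve_right h'
  rw [d0, d1, zero_smul, zero_smul, add_zero, add_zero] at hd
  have k3 := h0 a (mem_jspan ![u, a] 1)
  have k4 := h0 _ (map_mem_jspan (J := J) ![u, a] 1)
  simp only [Matrix.cons_val_one, Matrix.cons_val_zero] at k4
  rw [← hd] at k3 k4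
  have eau : polar q (J a) u = α * p - r := by rw [polar_comm, polar_J_right C u a]
  simp only [polar_add_right, polar_smul_right, smul_eq_mul, polar_comm (f := ⇑q) a u,
    polar_comm (f := ⇑q) a (J u), eau, polar_JJ C, ← hp, ← hr] at k3 k4
  have d3 : d (.inr 0) = 0 := by
    have : d (.inr 0) * (r * r + α * r * (-p) + c * (-p) * (-p)) = 0 := by
      linear_combination p * k4 + (r - α * p) * k3
    exact (mul_eq_zero.1 this).resolve_right hN
  rw [d3] at k3 k4
  have d2 : d (.inl 0) = 0 := by
    rcases hua with h' | h'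
    · exact (mul_eq_zero.1 (show d (.inl 0) * p = 0 by linear_combination k3)).resolve_right h'
    · by_cases hp0 : p = 0
      · have : d (.inl 0) * r = 0 := by linear_combination -k4 + d (.inl 0) * α * hp0
        exact (mul_eq_zero.1 this).resolve_right h'
      · exact (mul_eq_zero.1 (show d (.inl 0) * p = 0 by linear_combination k3)).resolve_right hp0
  rw [← hd, d2, d3, zero_smul, zero_smul, add_zero]

omit [Fintype F] in
theorem indep_link {u w : ι → F} {W : Submodule F (ι → F)} (hu : u ∈ W) (hW : JInv J W) (hw : w ∉ W)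
    {x : ι → F} (hxW : x ∈ W) (hx : x ∈ jspan J ![u, w]) : x ∈ jspan J ![u] := by
  obtain ⟨d, hd⟩ := (Submodule.mem_span_range_iff_exists_fun F).1 hx
  simp only [Fintype.sum_sum_type, Fin.sum_univ_two, Sum.elim_inl, Sum.elim_inr, Matrix.cons_val_zero,
    Matrix.cons_val_one] at hd
  have h : d (.inl 1) • w + d (.inr 1) • J w ∈ W := by
    have := W.sub_mem hxW (W.add_mem (W.smul_mem (d (.inl 0)) hu) (W.smul_mem (d (.inr 0)) (hW u hu)))
    rw [← hd] at this
    convert this using 1
    module
  obtain ⟨e1, e2⟩ := coeff_zero C hW hw h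
  rw [← hd, e1, e2, zero_smul, zero_smul, add_zero, add_zero]
  exact Submodule.add_mem _ (Submodule.smul_mem _ _ (mem_jspan ![u] 0)) (Submodule.smul_mem _ _ (map_mem_jspan ![u] 0))

theorem eq_add_singular {u a : ι → F} (hu : q u = 0) (hua : polar q u a = 0) (ha : q a ≠ 0) :
    ∃ y, q y = 0 ∧ polar q u y = 0 ∧ q (a + y) = 0 := by
  have hS : a ∉ Submodule.span F ({u} : Set (ι → F)) := fun h => by
    obtain ⟨t, rfl⟩ := Submodule.mem_span_singleton.1 h
    rw [QuadraticMap.map_smul, hu, smul_zero] at ha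
    exact ha rfl
  obtain ⟨v₀, h0, h0a⟩ := exists_pairing C hS
  obtain ⟨v, hv, hveq⟩ := exists_singular_eq C (jinv_jspan C ![u, a]) ((finrank_jspan _).trans (by omega)) v₀
    (Or.inl (finrank_jspan _))
  have e1 := hveq u (mem_jspan ![u, a] 0)
  have e2 := hveq a (mem_jspan ![u, a] 1)
  rw [h0 u (Submodule.mem_span_singleton_self u)] at e1
  refine ⟨(-q a / polar q a v) • v, ?_, ?_, ?_⟩
  · rw [QuadraticMap.map_smul, hv, smul_zero]
  · rw [polar_smul_right, e1, smul_zero]
  · rw [QuadraticMap.map_add ⇑q, QuadraticMap.map_smul, hv, polar_smul_right, smul_zero, add_zero,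
      smul_eq_mul, div_mul_cancel₀ _ (e2 ▸ h0a), add_neg_cancel]

end

end CfsgLib.GeomClasses.OrthCplx
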