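import Cfsg.Agent.Lib.GeomClasses.OrthCplxMax

/-!
The normaliser of a quadratic field of similarities is maximal in `Ω`.
-/

set_option autoImplicit false
set_option linter.unusedSectionVars false

namespace CfsgLib.GeomClasses.OrthCplx

open Matrix QuadraticMap CfsgLib.Orth CfsgLib.Maximal.TensorTools CfsgLib.GeomClasses.OrthEich

variable {ι : Type} [Fintype ι] [DecidableEq ι] {F : Type*} [Field F] [Fintype F]

theorem mem_span_one {K : Subalgebra F (Matrix ι ι F)} (hK : Cfsg.Geo.IsFieldSubalgebra 2 K) {j : Matrix ι ι F}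
    (hj : j ∈ K) (hns : ∀ a : F, j ≠ a • 1) [Nonempty ι] {k : Matrix ι ι F} (hk : k ∈ K) :
    ∃ a b : F, k = a • 1 + b • j := by
  let φ : (Fin 2 → F) →ₗ[F] K :=
    { toFun := fun d => ⟨d 0 • 1 + d 1 • j, K.add_mem (K.smul_mem K.one_mem _) (K.smul_mem hj _)⟩
      map_add' := fun d e => Subtype.ext (by simp only [Pi.add_apply, Subalgebra.coe_add]; module)
      map_smul' := fun s d => Subtype.ext (by
        simp only [Pi.smul_apply, smul_eq_mul, RingHom.id_apply, Subalgebra.coe_smul]; module) }
  have hinj : Function.Injective φ := by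
    refine (injective_iff_map_eq_zero φ).2 fun d hd => ?_
    have h : d 0 • (1 : Matrix ι ι F) + d 1 • j = 0 := congrArg Subtype.val hd
    have h1 : d 1 = 0 := by
      by_contra hne
      refine hns (-(d 0 / d 1)) ((smul_right_injective _ hne) ?_)
      show d 1 • j = d 1 • (-(d 0 / d 1)) • (1 : Matrix ι ι F)
      rw [smul_smul, mul_neg, mul_div_cancel₀ _ hne, neg_smul, ← neg_eq_of_add_eq_zero_right h]
    rw [h1, zero_smul, add_zero] at h
    have h0 : d 0 = 0 := (smul_eq_zero.1 h).resolve_right one_ne_zero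
    funext i; fin_cases i <;> simp [h0, h1]
  have hsurj : Function.Surjective φ :=
    (LinearMap.injective_iff_surjective_of_finrank_eq_finrank
      (by rw [Module.finrank_fin_fun]; exact hK.finrank_eq.symm)).1 hinj
  obtain ⟨d, hd⟩ := hsurj ⟨k, hk⟩
  exact ⟨d 0, d 1, (congrArg Subtype.val hd).symm⟩

theorem maximal_field {Q : (ι → F) → F} (hn : 9 ≤ Fintype.card ι)
    (hQ : Cfsg.Geo.IsNondegenerateQuadraticForm Q) (K : Subalgebra F (Matrix ι ι F))
    (hK : Cfsg.Geo.IsFieldSubalgebra 2 K) (hac : Cfsg.Geo.IsAdjointClosedFor (QuadraticMap.polar Q) K)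
    (hnsa : ¬ Cfsg.Geo.IsSelfAdjointFor (QuadraticMap.polar Q) K)
    (hsc : ∀ k ∈ K, ∃ c : F, ∀ v : ι → F, Q (Matrix.mulVec k v) = c * Q v) :
    Cfsg.Geo.IsMaximalIn (Cfsg.Geo.omegaGL Q) (Cfsg.Geo.subalgebraNormalizer K ⊓ Cfsg.Geo.omegaGL Q) := by
  classical
  have : Nonempty ι := Fintype.card_pos_iff.1 (by omega)
  refine OrthPair.maximal_transport hQ ?_
  have hq := OrthTools.quadOf_nondegenerate hQ
  set q := quadOf hQ with hqdef
  have hQq : ∀ v, Q v = q v := fun v => (congrFun (quadOf_coe hQ) v).symm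
  have hnz : ∀ {x : ι → F}, (∀ y, polar q x y = 0) → x = 0 := fun h => eq_zero_of_polar hq h
  simp only [Cfsg.Geo.IsSelfAdjointFor, not_forall] at hnsa
  obtain ⟨j, hj, u₁, v₁, huv₁⟩ := hnsa
  obtain ⟨j', hj', hjj'⟩ := hac j hj
  have hpol : ∀ x y, QuadraticMap.polar Q x y = polar q x y := fun x y => by
    simp only [QuadraticMap.polar, hQq]
  have hns : ∀ a : F, j ≠ a • 1 := by
    rintro a rfl
    apply huv₁
    rw [hpol, hpol, Matrix.smul_mulVec, Matrix.smul_mulVec, Matrix.one_mulVec, Matrix.one_mulVec, polar_smul_left,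
      polar_smul_right]
  obtain ⟨α, β, rfl⟩ := mem_span_one hK hj hns hj'
  set J := Matrix.toLin' j with hJd
  have hJ : ∀ x, J x = j *ᵥ x := fun x => Matrix.toLin'_apply j x
  have h0 : ∀ x y, polar q (J x) y = α * polar q x y + β * polar q x (J y) := fun x y => by
    rw [hJ, hJ, ← hpol, hjj', hpol, Matrix.add_mulVec, Matrix.smul_mulVec, Matrix.smul_mulVec, Matrix.one_mulVec,
      polar_add_right, polar_smul_right, polar_smul_right, smul_eq_mul, smul_eq_mul]
  have hne : ∃ x y, polar q x y ≠ 0 := by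
    by_contra hc
    push Not at hc
    have := hnz (hc (Pi.single (Classical.arbitrary ι) 1))
    simp at this
  have hβ : β = -1 := by
    by_contra hβ
    have h1 : ∀ x y, (1 - β) * polar q (J x) y = α * polar q x y := fun x y => by
      have e1 := h0 x y
      have e2 : polar q x (J y) = α * polar q x y + β * polar q (J x) y := by
        rw [polar_comm, h0 y x, polar_comm (f := ⇑q) y x, polar_comm (f := ⇑q) y (J x)]
      rw [e2] at e1
      have hb : (1 + β) * ((1 - β) * polar q (J x) y - α * polar q x y) = 0 := by linear_combination e1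
      exact sub_eq_zero.1 ((mul_eq_zero.1 hb).resolve_left fun e => hβ (eq_neg_of_add_eq_zero_right e))
    by_cases hb1 : β = 1
    · subst hb1
      obtain ⟨x, y, hxy⟩ := hne
      have hα : α = 0 := by
        have := h1 x y
        rw [sub_self, zero_mul] at this
        exact (mul_eq_zero.1 this.symm).resolve_right hxy
      apply huv₁
      rw [hpol, hpol, ← hJ, ← hJ, h0, hα]
      ring
    · refine hns (α / (1 - β)) (Matrix.toLin'.injective (LinearMap.ext fun x => ?_))
      rw [map_smul, Matrix.toLin'_one, LinearMap.smul_apply, LinearMap.id_apply]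
      refine sub_eq_zero.1 (hnz fun y => ?_)
      show polar q (J x - (α / (1 - β)) • x) y = 0
      rw [polar_sub_left, polar_smul_left, smul_eq_mul, sub_eq_zero, div_mul_eq_mul_div,
        eq_div_iff (sub_ne_zero.2 (Ne.symm hb1)), ← h1]
      ring
  subst hβ
  have hadj : ∀ x y, polar q (J x) y = α * polar q x y - polar q x (J y) := fun x y => by rw [h0]; ring
  obtain ⟨c, hc⟩ := hsc j hj
  have hqJ : ∀ x, q (J x) = c * q x := fun x => by rw [hJ, ← hQq, ← hQq, hc]
  have hJJ : ∀ x y, polar q (J x) (J y) = c * polar q x y := fun x y => by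
    simp only [QuadraticMap.polar, ← map_add, hqJ]
    ring
  have hsq : ∀ x, J (J x) = α • J x - c • x := fun x => by
    refine sub_eq_zero.1 (hnz fun y => ?_)
    rw [polar_sub_left, polar_sub_left, polar_smul_left, polar_smul_left, hadj (J x) y, hJJ]
    simp only [smul_eq_mul]
    ring
  obtain ⟨κ, hκ⟩ := hsc (1 + j) (K.add_mem K.one_mem hj)
  have hxJ : ∀ x, polar q x (J x) = (κ - 1 - c) * q x := fun x => by
    simp only [QuadraticMap.polar]
    rw [show x + J x = (1 + j) *ᵥ x by rw [Matrix.add_mulVec, Matrix.one_mulVec, hJ], hqJ, ← hQq ((1 + j) *ᵥ x), hκ,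
      hQq]
    ring
  have hκα : κ - 1 - c = α := by
    obtain ⟨x, y, hxy⟩ := hne
    have e := hxJ (x + y)
    rw [map_add, polar_add_left, polar_add_right, polar_add_right, hxJ, hxJ, QuadraticMap.map_add ⇑q,
      polar_comm (f := ⇑q) y (J x), hadj] at e
    have e' : ((κ - 1 - c) - α) * polar q x y = 0 := by linear_combination -e
    exact sub_eq_zero.1 ((mul_eq_zero.1 e').resolve_right hxy)
  rw [hκα] at hxJ
  have hjsq : j * j = α • j - c • (1 : Matrix ι ι F) := Matrix.toLin'.injective (LinearMap.ext fun x => by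
    rw [Matrix.toLin'_mul, map_sub, map_smul, map_smul, Matrix.toLin'_one]
    exact hsq x)
  have hirr : ∀ a b : F, a * a + α * a * b + c * b * b = 0 → a = 0 ∧ b = 0 := by
    intro a b hN
    have hprod : (a • (1 : Matrix ι ι F) + b • j) * ((a + α * b) • (1 : Matrix ι ι F) - b • j) = 0 := by
      rw [mul_sub, add_mul, add_mul, smul_mul_smul_comm, smul_mul_smul_comm, smul_mul_smul_comm,
        smul_mul_smul_comm, one_mul, one_mul, mul_one, hjsq]
      match_scalars
      · linear_combination hN
      · ring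
    have hb : b = 0 := by
      by_cases hz : a • (1 : Matrix ι ι F) + b • j = 0
      · by_contra hb
        refine hns (-(a / b)) ((smul_right_injective _ hb) ?_)
        show b • j = b • (-(a / b)) • (1 : Matrix ι ι F)
        rw [smul_smul, mul_neg, mul_div_cancel₀ _ hb, neg_smul, ← neg_eq_of_add_eq_zero_right hz]
      · obtain ⟨y, hy, hxy⟩ := hK.inv _ (K.add_mem (K.smul_mem K.one_mem a) (K.smul_mem hj b)) hz
        have h2 : (a + α * b) • (1 : Matrix ι ι F) - b • j = 0 := by
          have h3 := congrArg (y * ·) hprod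
          simp only [mul_zero, ← mul_assoc] at h3
          rwa [hK.comm y hy _ (K.add_mem (K.smul_mem K.one_mem a) (K.smul_mem hj b)), hxy, one_mul] at h3
        by_contra hb
        refine hns ((a + α * b) / b) ((smul_right_injective _ hb) ?_)
        show b • j = b • ((a + α * b) / b) • (1 : Matrix ι ι F)
        rw [smul_smul, mul_div_cancel₀ _ hb, ← sub_eq_zero.1 h2]
    subst hb
    exact ⟨mul_self_eq_zero.1 (by linear_combination hN), rfl⟩
  have C : Cplx q J α c := ⟨hq, hn, hsq, hadj, hqJ, hxJ, hirr⟩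
  -- membership
  have hmem_of_comm : ∀ g : O q, (∀ x, app g (J x) = J (app g x)) →
      (g : GL ι F) ∈ Cfsg.Geo.subalgebraNormalizer K := by
    intro g hg
    have hcj : ((g : GL ι F) : Matrix ι ι F) * j = j * ((g : GL ι F) : Matrix ι ι F) :=
      Matrix.toLin'.injective (LinearMap.ext fun x => by
        rw [Matrix.toLin'_mul, Matrix.toLin'_mul]
        exact hg x)
    have hck : ∀ k ∈ K, ((g : GL ι F) : Matrix ι ι F) * k * (((g : GL ι F)⁻¹ : GL ι F) : Matrix ι ι F) = k := by
      intro k hk
      obtain ⟨a, b, rfl⟩ := mem_span_one hK hj hns hk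
      rw [mul_add, Matrix.mul_smul, Matrix.mul_smul, mul_one, hcj,
        show a • ((g : GL ι F) : Matrix ι ι F) + b • (j * ((g : GL ι F) : Matrix ι ι F)) =
          (a • 1 + b • j) * ((g : GL ι F) : Matrix ι ι F) by rw [add_mul, Matrix.smul_mul, Matrix.smul_mul, one_mul],
        mul_assoc, ← Units.val_mul, mul_inv_cancel, Units.val_one, mul_one]
    refine fun k => ⟨fun hk => by rw [hck k hk]; exact hk, fun hk => ?_⟩
    have h2 : k = ((g : GL ι F) : Matrix ι ι F) * k * (((g : GL ι F)⁻¹ : GL ι F) : Matrix ι ι F) := by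
      obtain ⟨a, b, hab⟩ := mem_span_one hK hj hns hk
      have h3 := hck _ (K.add_mem (K.smul_mem K.one_mem a) (K.smul_mem hj b))
      rw [← hab] at h3
      have h4 := congrArg (fun z => (((g : GL ι F)⁻¹ : GL ι F) : Matrix ι ι F) * z * ((g : GL ι F) : Matrix ι ι F)) h3
      simp only [mul_assoc, ← Units.val_mul, inv_mul_cancel, Units.val_one, mul_one] at h4
      simp only [← mul_assoc, ← Units.val_mul, inv_mul_cancel, Units.val_one, one_mul] at h4
      simpa [mul_assoc] using h4.symm
    exact h2 ▸ hk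
  have hline : ∀ g : O q, (g : GL ι F) ∈ Cfsg.Geo.subalgebraNormalizer K →
      ∀ v, app g (J v) ∈ jspan J ![app g v] := by
    intro g hg v
    obtain ⟨a, b, hab⟩ := mem_span_one hK hj hns ((hg j).1 hj)
    have : app g (J v) = a • app g v + b • J (app g v) := by
      have h := congrArg (fun z => z *ᵥ (((g : GL ι F) : Matrix ι ι F) *ᵥ v)) hab
      simp only [← Matrix.mulVec_mulVec, Matrix.add_mulVec, Matrix.smul_mulVec, Matrix.one_mulVec] at h
      rw [gl_inv_mulVec_mulVec] at h
      exact h
    rw [this]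
    exact Submodule.add_mem _ (Submodule.smul_mem _ _ (mem_jspan ![app g v] 0))
      (Submodule.smul_mem _ _ (map_mem_jspan ![app g v] 0))
  have hn7 : 7 ≤ Fintype.card ι := by omega
  refine ⟨lt_of_le_of_ne inf_le_right fun he => ?_, fun M hle hMC => ?_⟩
  · -- properness
    obtain ⟨u, -, huW, hqu⟩ := exists_link C (W := jspan J (![] : Fin 0 → ι → F)) ((finrank_jspan _).trans (by omega))
      (Or.inl ((finrank_jspan _).trans (by omega)))
    have hu0 : u ≠ 0 := fun e => huW (e ▸ Submodule.zero_mem _)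
    obtain ⟨a, ha, haW, hqa⟩ := exists_link C (W := jspan J ![u]) ((finrank_jspan _).trans (by omega))
      (Or.inl (finrank_jspan _))
    have hJu : J u ∉ Submodule.span F ({u} : Set (ι → F)) := fun h => by
      obtain ⟨t, ht⟩ := Submodule.mem_span_singleton.1 h
      exact one_ne_zero (indep_zero C hu0 (a := -t) (b := 1) (by rw [← ht]; module)).2
    have huS : u ∉ Submodule.span F ({J u, a, J a} : Set (ι → F)) := fun h => by
      obtain ⟨x, z, hz, hxz⟩ := Submodule.mem_span_insert.1 h
      obtain ⟨y, y', rfl⟩ := Submodule.mem_span_pair.1 hz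
      obtain ⟨e1, e2⟩ := coeff_zero C (jinv_jspan C ![u]) haW (a := y) (b := y') (by
        have := Submodule.sub_mem _ (mem_jspan (J := J) ![u] 0)
          (Submodule.smul_mem _ x (map_mem_jspan (J := J) ![u] 0))
        convert this using 1
        simp only [Matrix.cons_val_zero]
        linear_combination (norm := module) -hxz)
      rw [e1, e2, zero_smul, zero_smul, add_zero, add_zero] at hxz
      exact one_ne_zero (indep_zero C hu0 (a := 1) (b := -x) (by
        rw [one_smul, neg_smul, ← sub_eq_add_neg, sub_eq_zero]; exact hxz)).1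
    obtain ⟨v₀, h0, h0u⟩ := exists_pairing C huS
    obtain ⟨v, hv, hveq⟩ := exists_singular_eq C (jinv_jspan C ![u, a]) ((finrank_jspan _).trans (by omega)) v₀
      (Or.inl (finrank_jspan _))
    have eu : polar q u v ≠ 0 := fun e => h0u ((hveq u (mem_jspan ![u, a] 0)).symm.trans e)
    have eJu : polar q (J u) v = 0 :=
      (hveq _ (map_mem_jspan ![u, a] 0)).trans (h0 _ (Submodule.subset_span (by simp)))
    have ea : polar q a v = 0 := (hveq a (mem_jspan ![u, a] 1)).trans (h0 a (Submodule.subset_span (by simp)))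
    have eJa : polar q (J a) v = 0 :=
      (hveq _ (map_mem_jspan ![u, a] 1)).trans (h0 _ (Submodule.subset_span (by simp)))
    have e1 := OrthTools.mem_orth.1 ha _ (mem_jspan ![u] 0)
    have e2 := OrthTools.mem_orth.1 ha _ (map_mem_jspan ![u] 0)
    simp only [Matrix.cons_val_zero] at e1 e2
    have hg := hline (eich q u a) (he.ge (eich_mem hq hn7 hqu e1)).1 v
    obtain ⟨d, hd⟩ := (Submodule.mem_span_range_iff_exists_fun F).1 hg
    simp only [Fintype.sum_sum_type, Fin.sum_univ_one, Sum.elim_inl, Sum.elim_inr, Matrix.cons_val_zero] at hd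
    have hgv : app (eich q u a) v = v + polar q v u • a := by
      rw [app_eich hqu e1, hqa, polar_comm (f := ⇑q) v a, ea]; simp
    have hgJv : app (eich q u a) (J v) = J v + (α * polar q v u) • a := by
      rw [app_eich hqu e1, hqa, C.adj v u, polar_comm (f := ⇑q) v (J u), eJu, C.adj v a, polar_comm (f := ⇑q) v (J a),
        eJa, polar_comm (f := ⇑q) v a, ea]
      simp
    rw [hgv, hgJv, map_add, map_smul] at hd
    have p1 := congrArg (fun z => polar q u z) hd
    simp only [polar_add_right, polar_smul_right, polar_J_right C u v, polar_J_right C u a, e1, e2, eJu,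
      smul_eq_mul] at p1
    have p2 := congrArg (fun z => polar q (J u) z) hd
    simp only [polar_add_right, polar_smul_right, polar_JJ C, e1, e2, eJu, smul_eq_mul, mul_zero, add_zero,
      zero_add] at p2
    have hd1 : d (.inr 0) = 1 := by
      have h' : (d (.inr 0) - 1) * (c * polar q u v) = 0 := by linear_combination p2
      exact sub_eq_zero.1 ((mul_eq_zero.1 h').resolve_right (mul_ne_zero (c_ne C) eu))
    rw [hd1] at p1 hd
    have hd0 : d (.inl 0) = 0 := by
      have h' : d (.inl 0) * polar q u v = 0 := by linear_combination p1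
      exact (mul_eq_zero.1 h').resolve_right eu
    rw [hd0] at hd
    have hz : polar q v u • (J a - α • a) = 0 := by linear_combination (norm := module) hd
    have hvu : polar q v u ≠ 0 := by rwa [polar_comm]
    have := (smul_eq_zero.1 hz).resolve_left hvu
    have ha0 : a ≠ 0 := fun e => haW (by rw [e]; exact Submodule.zero_mem _)
    exact one_ne_zero (indep_zero C ha0 (a := -α) (b := 1) (by linear_combination (norm := module) this)).2
  · by_cases hall : M ≤ (Cfsg.Geo.subalgebraNormalizer K).comap (O q).subtype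
    · exact Or.inl (le_antisymm (le_inf hall hMC) hle)
    right
    refine le_antisymm hMC ?_
    have hk : ∀ u, q u = 0 → Root M u (J u) := fun u hu =>
      { su := hu
        sa := by rw [C.qJ, hu, mul_zero]
        orth := by rw [C.self_J, hu, mul_zero]
        mem := fun t => hle ⟨hmem_of_comm _ fun x => app_kline C hu t x,
          eich_mem hq hn7 hu (by rw [polar_smul_right, C.self_J, hu]; simp)⟩ }
    obtain ⟨g, hgM, hg⟩ := SetLike.not_le_iff_exists.1 hall
    suffices hex : ∃ v, q v = 0 ∧ app g (J v) ∉ jspan J ![app g v] by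
      obtain ⟨v, hv, hnot⟩ := hex
      exact commutator_le_of_moved C hk ((hk v hv).conj hgM) hnot fun e => hnot (by
        have hv0 : v = 0 := app_injective g (e.trans (map_zero _).symm)
        subst hv0
        simp)
    by_contra hcon
    push Not at hcon
    apply hg
    set A : (ι → F) →ₗ[F] (ι → F) := (app g).comp (J.comp (app g⁻¹)) with hA
    have hAw : ∀ w, q w = 0 → ∃ a b : F, A w = a • w + b • J w := fun w hw => by
      have := hcon (app g⁻¹ w) (by rw [Q_app, hw])
      rw [app_app_inv] at this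
      obtain ⟨d, hd⟩ := (Submodule.mem_span_range_iff_exists_fun F).1 this
      simp only [Fintype.sum_sum_type, Fin.sum_univ_one, Sum.elim_inl, Sum.elim_inr, Matrix.cons_val_zero] at hd
      exact ⟨d (.inl 0), d (.inr 0), hd.symm⟩
    obtain ⟨u₀, -, hu₀W, hqu₀⟩ := exists_link C (W := jspan J (![] : Fin 0 → ι → F)) ((finrank_jspan _).trans (by omega))
      (Or.inl ((finrank_jspan _).trans (by omega)))
    obtain ⟨a, b, hab⟩ := hAw u₀ hqu₀
    have hu₀0 : u₀ ≠ 0 := fun e => hu₀W (e ▸ Submodule.zero_mem _)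
    have hconst : ∀ x y, q x = 0 → q y = 0 → polar q x y = 0 → x ≠ 0 → y ∉ jspan J ![x] →
        ∀ r s r' s' : F, A x = r • x + s • J x → A y = r' • y + s' • J y → r = r' ∧ s = s' := by
      intro x y hx hy hxy hx0 hy1 r s r' s' e e'
      obtain ⟨r'', s'', e''⟩ := hAw (x + y) (by rw [QuadraticMap.map_add ⇑q, hx, hy, hxy]; simp)
      rw [map_add, e, e', map_add] at e''
      have hyz : (r' - r'') • y + (s' - s'') • J y = (r'' - r) • x + (s'' - s) • J x := by
        linear_combination (norm := module) e''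
      obtain ⟨f1, f2⟩ := coeff_zero C (jinv_jspan C ![x]) hy1 (a := r' - r'') (b := s' - s'') (by
        rw [hyz]
        exact Submodule.add_mem _ (Submodule.smul_mem _ _ (mem_jspan ![x] 0))
          (Submodule.smul_mem _ _ (map_mem_jspan ![x] 0)))
      rw [f1, f2, zero_smul, zero_smul, add_zero] at hyz
      obtain ⟨g1, g2⟩ := indep_zero C hx0 hyz.symm
      exact ⟨by linear_combination -g1 - f1, by linear_combination -g2 - f2⟩
    have hsing : ∀ w, q w = 0 → A w = a • w + b • J w := by
      intro w hw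
      rcases eq_or_ne w 0 with rfl | hw0
      · simp
      by_cases hsep : w ∉ jspan J ![u₀] ∧ polar q u₀ w = 0
      · obtain ⟨r', s', hrs'⟩ := hAw w hw
        obtain ⟨c1, c2⟩ := hconst u₀ w hqu₀ hw hsep.2 hu₀0 hsep.1 a b r' s' hab hrs'
        rw [hrs', c1, c2]
      obtain ⟨z, hz, hzW, hqz⟩ := exists_link C (W := jspan J ![u₀, w]) (finrank_jspan _) (by
        by_cases hw1 : w ∈ jspan J ![u₀]
        · refine Or.inl ((Submodule.finrank_mono (Submodule.span_le.2 ?_ :
            jspan J ![u₀, w] ≤ jspan J ![u₀])).trans (finrank_jspan _))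
          rintro _ ⟨i | i, rfl⟩ <;> fin_cases i
          · exact mem_jspan ![u₀] 0
          · exact hw1
          · exact map_mem_jspan ![u₀] 0
          · exact jinv_jspan C ![u₀] _ hw1
        · exact Or.inr (rad_pair C hqu₀ (Or.inl fun e => hsep ⟨hw1, e⟩)))
      have z1 := OrthTools.mem_orth.1 hz _ (mem_jspan ![u₀, w] 0)
      have z2 := OrthTools.mem_orth.1 hz _ (mem_jspan ![u₀, w] 1)
      simp only [Matrix.cons_val_zero, Matrix.cons_val_one] at z1 z2
      obtain ⟨r, s, hrs⟩ := hAw z hqz
      obtain ⟨r', s', hrs'⟩ := hAw w hw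
      have hn1 : z ∉ jspan J ![u₀] := fun hm => hzW ((Submodule.span_le.2 (by
        rintro _ ⟨i | i, rfl⟩ <;> fin_cases i
        · exact mem_jspan ![u₀, w] 0
        · exact map_mem_jspan ![u₀, w] 0) : jspan J ![u₀] ≤ jspan J ![u₀, w]) hm)
      have hn2 : z ∉ jspan J ![w] := fun hm => hzW ((Submodule.span_le.2 (by
        rintro _ ⟨i | i, rfl⟩ <;> fin_cases i
        · exact mem_jspan ![u₀, w] 1
        · exact map_mem_jspan ![u₀, w] 1) : jspan J ![w] ≤ jspan J ![u₀, w]) hm)
      obtain ⟨c1, c2⟩ := hconst u₀ z hqu₀ hqz z1 hu₀0 hn1 a b r s hab hrs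
      obtain ⟨c3, c4⟩ := hconst w z hw hqz z2 hw0 hn2 r' s' r s hrs' hrs
      rw [hrs', c3, c4, c1, c2]
    have hallx : ∀ x, A x = a • x + b • J x := by
      intro x
      rcases eq_or_ne x 0 with rfl | hx0
      · simp
      obtain ⟨v₀, -, hv₀⟩ := exists_pairing C (S := ⊥) (x := x) (by simpa using hx0)
      obtain ⟨y, hy, hyeq⟩ := exists_singular_eq C (jinv_jspan C ![x]) ((finrank_jspan _).trans (by omega)) v₀
        (Or.inl ((finrank_jspan _).trans (by omega)))
      have hxy : polar q x y ≠ 0 := fun e => hv₀ ((hyeq x (mem_jspan ![x] 0)).symm.trans e)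
      set t := -q x / polar q x y with ht
      have h1 : q (x + t • y) = 0 := by
        rw [QuadraticMap.map_add ⇑q, QuadraticMap.map_smul, polar_smul_right, hy, ht]
        simp [div_mul_cancel₀ _ hxy]
      have := hsing _ h1
      rw [map_add, map_smul, hsing y hy, map_add, map_smul] at this
      linear_combination (norm := module) this
    have hgj : ((g : GL ι F) : Matrix ι ι F) * j * (((g : GL ι F)⁻¹ : GL ι F) : Matrix ι ι F) = a • 1 + b • j :=
      Matrix.toLin'.injective (LinearMap.ext fun x => by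
        rw [mul_assoc, Matrix.toLin'_mul, Matrix.toLin'_mul, map_add, map_smul, map_smul, Matrix.toLin'_one]
        exact hallx x)
    have hb : b ≠ 0 := by
      rintro rfl
      refine hns a ?_
      have h := congrArg (fun z => (((g : GL ι F)⁻¹ : GL ι F) : Matrix ι ι F) * z * ((g : GL ι F) : Matrix ι ι F)) hgj
      simpa [mul_assoc] using h
    have hfwd : ∀ k ∈ K, ((g : GL ι F) : Matrix ι ι F) * k * (((g : GL ι F)⁻¹ : GL ι F) : Matrix ι ι F) ∈ K := by
      intro k hk
      obtain ⟨a', b', rfl⟩ := mem_span_one hK hj hns hk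
      rw [mul_add, add_mul, Matrix.mul_smul, Matrix.mul_smul, Matrix.smul_mul, Matrix.smul_mul, mul_one, hgj,
        ← Units.val_mul, mul_inv_cancel, Units.val_one]
      exact K.add_mem (K.smul_mem K.one_mem _) (K.smul_mem (K.add_mem (K.smul_mem K.one_mem _) (K.smul_mem hj _)) _)
    refine fun k => ⟨hfwd k, fun hk => ?_⟩
    replace hk : ((g : GL ι F) : Matrix ι ι F) * k * (((g : GL ι F)⁻¹ : GL ι F) : Matrix ι ι F) ∈ K := hk
    obtain ⟨a', b', hk'⟩ := mem_span_one hK hj hns hk
    have hk2 : k = (a' - b' / b * a) • 1 + (b' / b) • j := by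
      have h4 : ((g : GL ι F) : Matrix ι ι F) * k * (((g : GL ι F)⁻¹ : GL ι F) : Matrix ι ι F) =
          ((g : GL ι F) : Matrix ι ι F) * ((a' - b' / b * a) • 1 + (b' / b) • j) *
            (((g : GL ι F)⁻¹ : GL ι F) : Matrix ι ι F) := by
        rw [hk']
        simp only [mul_add, add_mul, Matrix.mul_smul, Matrix.smul_mul, mul_one, hgj, ← Units.val_mul,
          mul_inv_cancel, Units.val_one]
        match_scalars <;> field_simp <;> ring
      exact ((g : GL ι F)).isUnit.mul_left_cancel ((((g : GL ι F))⁻¹).isUnit.mul_right_cancel h4)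
    rw [hk2]
    exact K.add_mem (K.smul_mem K.one_mem _) (K.smul_mem hj _)

end CfsgLib.GeomClasses.OrthCplx
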