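import Cfsg.Agent.Lib.GeomClasses.OrthDecompBase

/-!
Orthogonal decompositions into isometric non-degenerate blocks: tools.
-/

set_option autoImplicit false
set_option linter.unusedSectionVars false

namespace CfsgLib.GeomClasses.OrthDecomp

open Matrix QuadraticMap CfsgLib.Orth CfsgLib.GeomClasses.OrthEich CfsgLib.GeomClasses.OrthPair
  CfsgLib.GeomClasses.OrthRat CfsgLib.Maximal.TensorTools

variable {ι : Type} [Fintype ι] [DecidableEq ι] {F : Type*} [Field F] [Fintype F]
  {q : QuadraticForm F (ι → F)}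

/-- An orthogonal decomposition into blocks of dimension at least three, in odd characteristic. -/
structure Dec (q : QuadraticForm F (ι → F)) {t : ℕ} (D : Fin t → Submodule F (ι → F)) (k : ℕ) : Prop
    extends Base q D k where
  two : (2 : F) ≠ 0
  three : 3 ≤ k
  big : 4 ≤ k ∨ 5 ≤ Fintype.card F

variable {t : ℕ} {D : Fin t → Submodule F (ι → F)} {k : ℕ} (P : Dec q D k)
include P

variable {M : Subgroup (O q)} (hle : Hgrp q D ≤ M)
include hle

/-- Every multiple of a pairing on a singular line of a block. -/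
theorem Dec.line_mem {i : Fin t} {u X p b : ι → F} (hu : q u = 0) (hX : X ∈ axes M hu) (hp : p ∈ D i)
    (hb : b ∈ D i) (hqp : q p = 0) (hpb : polar q p b = 0) (hup : polar q u p = 0) (hub : polar q u b = 0)
    (hqb : q b ≠ 0) (c : F) : (c * polar q X p) • p ∈ axes M hu := by
  obtain ⟨x, y, hxy⟩ := exists_binary P.two (one_ne_zero (α := F)) one_ne_zero (c / (-2 * q b))
  have key : ∀ s : F, ((-2 * q b) * s ^ 2 * polar q X p) • p ∈ axes M hu := by
    intro s
    have h1 := P.diff_mem hle hu hX hp ((D i).smul_mem s hb) hqp (by rw [polar_smul_right, hpb, smul_zero]) hup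
      (by rw [polar_smul_right, hub, smul_zero])
    have h3 := P.diff_mem hle hu hX hp ((D i).smul_mem (-s) hb) hqp (by rw [polar_smul_right, hpb, smul_zero]) hup
      (by rw [polar_smul_right, hub, smul_zero])
    convert (axes M hu).add_mem h1 h3 using 1
    rw [polar_smul_right, polar_smul_right, QuadraticMap.map_smul, QuadraticMap.map_smul]
    simp only [smul_eq_mul]
    module
  have := (axes M hu).add_mem (key x) (key y)
  rw [← add_smul] at this
  convert this using 2
  have hne : (-2 * q b) ≠ 0 := mul_ne_zero (neg_ne_zero.2 P.two) hqb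
  rw [show (-2 * q b) * x ^ 2 * polar q X p + (-2 * q b) * y ^ 2 * polar q X p =
    (-2 * q b) * (1 * x ^ 2 + 1 * y ^ 2) * polar q X p by ring, hxy, mul_div_cancel₀ _ hne]

/-- A centre without component in a block and an axis with one. -/
theorem Dec.case_zero {i : Fin t} {v X : ι → F} (hv : q v = 0) (hv0 : v ≠ 0) (hvi : P.cmp i v = 0)
    (hX : X ∈ axes M hv) (hXi : P.cmp i X ≠ 0) : Goal D M := by
  have hd : 3 ≤ Module.finrank F (D i) := by rw [P.rank]; exact P.three
  obtain ⟨y, hy, hy'⟩ := P.block i _ (Decomp.comp_mem P.decomp i X) hXi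
  obtain ⟨p, hp, hqp, hXp⟩ := exists_singular_pairing P.nondeg (P.block i) hd hy hy'
  have hp0 : p ≠ 0 := fun h => hXp (by rw [h, polar_zero_right])
  obtain ⟨b, hb, hpb, hqb⟩ := aniso_perp P.nondeg P.two (P.block i) hd hp hp0 hqp
  have hperp : ∀ z ∈ D i, polar q v z = 0 := fun z hz => by rw [P.polar_cmp v hz, hvi, polar_zero_left]
  have hne : polar q X p ≠ 0 := by rwa [P.polar_cmp X hp]
  have h1 := P.line_mem hle hv hX hp hb hqp hpb (hperp p hp) (hperp b hb) hqb (polar q X p)⁻¹
  rw [inv_mul_cancel₀ hne, one_smul] at h1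
  refine P.goal_of_singular hle hv (fun h => hv0 ?_) hp hp0 hqp h1
  rw [← hvi]
  exact (Decomp.comp_of_mem P.decomp h).symm

end CfsgLib.GeomClasses.OrthDecomp
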