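import Cfsg.Agent.Lib.GeomClasses.OrthDecompBase

/-!
A root element leaving the blocks generates `Ω` with the stabilizer, for blocks of dimension at least three.
-/

set_option autoImplicit false
set_option linter.unusedSectionVars false

namespace CfsgLib.GeomClasses.OrthDecomp

open Matrix QuadraticMap CfsgLib.Orth CfsgLib.GeomClasses.OrthEich CfsgLib.GeomClasses.OrthPair
  CfsgLib.GeomClasses.OrthRat CfsgLib.Maximal.TensorTools

variable {ι : Type} [Fintype ι] [DecidableEq ι] {F : Type*} [Field F] [Fintype F]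
  {q : QuadraticForm F (ι → F)} {t : ℕ} {D : Fin t → Submodule F (ι → F)} {k : ℕ} (P : Base q D k)
include P

theorem Base.perp {i l : Fin t} (h : l ≠ i) {u : ι → F} (hu : u ∈ D i) : ∀ z ∈ D l, polar q u z = 0 :=
  fun z hz => P.orth i l (Ne.symm h) u hu z hz

variable (hk : 3 ≤ k)
include hk

theorem Base.block_nonzero (i : Fin t) : ∃ u ∈ D i, u ≠ 0 ∧ q u = 0 :=
  OrthTools.exists_singular P.nondeg (D i) (by rw [P.rank]; exact hk)

/-- Root elements across two blocks leave the stabilizer. -/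
theorem Base.proper : Hgrp q D < commutator (O q) := by
  refine lt_of_le_of_ne inf_le_right fun he => ?_
  have h2 := P.decomp.two_le
  set i : Fin t := ⟨0, by omega⟩
  set l : Fin t := ⟨1, by omega⟩
  have hli : l ≠ i := by simp [i, l, Fin.ext_iff]
  obtain ⟨u, hu, hu0, hqu⟩ := P.block_nonzero hk i
  obtain ⟨p, hp, hqp, hup⟩ := OrthTools.exists_partner (P.block i) hu hu0 hqu
  obtain ⟨w, hw, hqw⟩ := exists_aniso P.nondeg (P.block l) (by rw [P.rank]; omega)
  have huw : polar q u w = 0 := P.perp hli hu w hw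
  have hmem := he.ge (eich_mem P.nondeg P.seven hqu huw)
  obtain ⟨σ, hσ⟩ := hmem.1
  have hin : app (eich q u w) p ∈ D (σ i) := by
    rw [← hσ i]
    exact ⟨p, hp, by rw [Matrix.toLin'_apply]; rfl⟩
  have hpw : polar q p w = 0 := P.perp hli hp w hw
  have hpu : polar q p u = 1 := by rw [polar_comm, hup]
  rw [app_eich hqu huw, hpw, hpu, one_smul, neg_zero, zero_sub, mul_one] at hin
  by_cases h : σ i = l
  · rw [h] at hin
    have h1 := P.cmp_ne (Ne.symm hli) hin
    rw [map_add, map_add, map_smul, P.cmp_self hp, P.cmp_self hu, P.cmp_ne (Ne.symm hli) hw, add_zero] at h1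
    have := congrArg (fun z => polar q z u) h1
    simp only [polar_add_left, polar_smul_left, hpu, polar_self', hqu, polar_zero_left, smul_eq_mul] at this
    simp at this
  · have h1 := P.cmp_ne (Ne.symm h) hin
    rw [map_add, map_add, map_smul, P.cmp_ne hli hp, P.cmp_ne hli hu, P.cmp_self hw, smul_zero, add_zero,
      zero_add] at h1
    exact hqw (by rw [h1, QuadraticMap.map_zero])

variable {M : Subgroup (O q)} (hle : Hgrp q D ≤ M)
include hle

/-- Every multiple of a singular vector of a block pairing with an axis is an axis. -/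
def Lines (D : Fin t → Submodule F (ι → F)) (M : Subgroup (O q)) : Prop :=
  ∀ ⦃i : Fin t⦄ ⦃u X p : ι → F⦄ (hu : q u = 0), X ∈ axes M hu → p ∈ D i → p ≠ 0 → q p = 0 →
    (∀ z ∈ D i, polar q u z = 0) → polar q X p ≠ 0 → ∀ c : F, c • p ∈ axes M hu

variable (HL : Lines D M)
include HL

/-- A line of axes in another block gives the block. -/
theorem Base.spread {l : Fin t} {u p : ι → F} (hu : q u = 0) (hperp : ∀ z ∈ D l, polar q u z = 0) (hp : p ∈ D l)
    (hp0 : p ≠ 0) (hqp : q p = 0) (hA : ∀ s : F, s • p ∈ axes M hu) : ∀ x ∈ D l, x ∈ axes M hu := by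
  obtain ⟨r, hr, hqr, hpr⟩ := OrthTools.exists_partner (P.block l) hp hp0 hqp
  have hrA : ∀ c : F, c • r ∈ axes M hu := HL hu (hA 1) hr
    (fun h => by rw [h, polar_zero_right] at hpr; exact zero_ne_one hpr) hqr hperp
    (by rw [one_smul, hpr]; exact one_ne_zero)
  intro x hx
  set y := x - polar q x r • p with hy
  have hyD : y ∈ D l := (D l).sub_mem hx ((D l).smul_mem _ hp)
  have hry : polar q r y = 0 := by
    rw [hy, polar_sub_right, polar_smul_right, polar_comm (f := ⇑q) r p, hpr, polar_comm (f := ⇑q) r x]; simp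
  have h := P.diff_mem hle hu (hA 1) hr hyD hqr hry (hperp r hr) (hperp y hyD)
  rw [one_smul, hpr, one_smul] at h
  have h2 := (axes M hu).sub_mem h (hrA (-polar q p y - q y * 1))
  rw [add_sub_cancel_right] at h2
  have := (axes M hu).add_mem h2 (hA (polar q x r))
  rwa [hy, sub_add_cancel] at this

/-- Symmetry between the centre and a line of axes. -/
theorem Base.flip {i l : Fin t} (hli : l ≠ i) {u p : ι → F} (hu : u ∈ D i) (hu0 : u ≠ 0) (hqu : q u = 0)
    (hp : p ∈ D l) (hqp : q p = 0) (hA : ∀ s : F, s • p ∈ axes M hqu) : ∀ x ∈ D i, x ∈ axes M hqp := by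
  have hpu : polar q p u = 0 := P.perp (Ne.symm hli) hp u hu
  refine P.spread hk hle HL hqp (P.perp (Ne.symm hli) hp) hu hu0 hqu fun s => ?_
  have hps : polar q p (s • u) = 0 := by rw [polar_smul_right, hpu, smul_zero]
  refine ⟨hps, ?_⟩
  rw [eich_swap hqp (by rw [QuadraticMap.map_smul, hqu, smul_zero]) hps,
    eich_smul_left hqu (by rw [polar_neg_right, polar_comm, hpu, neg_zero]), smul_neg, ← neg_smul]
  exact (hA (-s)).2

/-- All pairs of blocks are linked. -/
theorem Base.link (hG : Goal D M) :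
    ∀ a b, a ≠ b → ∀ u ∈ D a, ∀ hu : q u = 0, u ≠ 0 → ∀ x ∈ D b, x ∈ axes M hu := by
  have hd : ∀ l, 3 ≤ Module.finrank F (D l) := fun l => by rw [P.rank]; exact hk
  obtain ⟨i, u, hu, w, hu0, hqu, hwi, huw, hw⟩ := hG
  obtain ⟨l, hli, hwl⟩ : ∃ l, l ≠ i ∧ P.cmp l w ≠ 0 := by
    by_contra h
    push Not at h
    exact hwi (Decomp.mem_of_comp_eq_zero P.decomp h)
  obtain ⟨y, hy, hwy⟩ := P.block l _ (Decomp.comp_mem P.decomp l w) hwl
  obtain ⟨p, hp, hqp, hwp⟩ := exists_singular_pairing P.nondeg (P.block l) (hd l) hy hwy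
  have hp0 : p ≠ 0 := fun h => hwp (by rw [h, polar_zero_right])
  rw [← P.polar_cmp w hp] at hwp
  have hA : ∀ s : F, s • p ∈ axes M hqu :=
    HL hqu (show w ∈ axes M hqu from ⟨huw, hw⟩) hp hp0 hqp (P.perp hli hu) hwp
  intro a c hac v hv hqv hv0
  obtain ⟨σ, hσi, hσl⟩ : ∃ g ∈ Hgrp q D, app g u ∈ D a ∧ app g p ∈ D c := by
    obtain ⟨w₁, h₁, hm₁, -⟩ := P.exists_move i a a
    set l₁ := Equiv.swap i a l
    obtain ⟨w₂, h₂, hm₂, -⟩ := P.exists_move l₁ c a
    refine ⟨w₂ * w₁, mul_mem h₂ h₁, ?_, ?_⟩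
    · have := hm₁ i u hu
      rw [Equiv.swap_apply_left] at this
      have h := hm₂ a _ this
      have hla : a ≠ l₁ := fun h => hli (Equiv.injective (Equiv.swap i a) (by
        rw [Equiv.swap_apply_left]; exact h.symm))
      rwa [Equiv.swap_apply_of_ne_of_ne hla hac, ← app_mul] at h
    · have h := hm₂ l₁ _ (hm₁ l p hp)
      rwa [Equiv.swap_apply_left, ← app_mul] at h
  obtain ⟨ha, hc⟩ := hσl
  have hu' : q (app σ u) = 0 := by rw [Q_app, hqu]
  have hp' : q (app σ p) = 0 := by rw [Q_app, hqp]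
  have hA' : ∀ s : F, s • app σ p ∈ axes M hu' := fun s => by
    have := axes_move (hle hσi) hqu hu' rfl (hA s)
    rwa [map_smul] at this
  have h0 : app σ u ≠ 0 := fun h => hu0 (app_injective σ (by rw [h, map_zero]))
  have hp0' : app σ p ≠ 0 := fun h => hp0 (app_injective σ (by rw [h, map_zero]))
  have hflip := P.flip hk hle HL (Ne.symm hac) ha h0 hu' hc hp' hA'
  exact P.flip hk hle HL hac hc hp0' hp' hv hqv fun s => hflip _ ((D a).smul_mem s hv)

/-- Linked blocks give full centres. -/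
theorem Base.full (hG : Goal D M) {i : Fin t} {u : ι → F} (hu : u ∈ D i) (hqu : q u = 0) (hu0 : u ≠ 0) :
    Full M u := by
  refine ⟨hqu, fun Y hY => ?_⟩
  suffices Y ∈ axes M hqu from this.2
  rw [← Decomp.sum_comp P.decomp Y]
  refine AddSubgroup.sum_mem _ fun l _ => ?_
  by_cases hl : l = i
  · subst hl
    have h : polar q u (P.cmp l Y) = 0 := by rw [← P.polar_cmp' Y hu, hY]
    exact ⟨h, hle (P.eich_block hu (Decomp.comp_mem P.decomp l Y) hqu h)⟩
  · exact P.link hk hle HL hG i l (Ne.symm hl) u hu hqu hu0 _ (Decomp.comp_mem P.decomp l Y)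

/-- A root element leaving the blocks gives `Ω`. -/
theorem Base.commutator_le_of_goal (hG : Goal D M) : commutator (O q) ≤ M := by
  obtain ⟨i, u, hu, -, hu0, hqu, -⟩ := id hG
  obtain ⟨p, hp, hqp, hup⟩ := OrthTools.exists_partner (P.block i) hu hu0 hqu
  have hp0 : p ≠ 0 := fun h => by rw [h, polar_zero_right] at hup; exact zero_ne_one hup
  exact commutator_le_of_pair P.nondeg P.seven (P.full hk hle HL hG hu hqu hu0) (P.full hk hle HL hG hp hqp hp0)
    (by rw [polar_comm, hup]; exact one_ne_zero)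

end CfsgLib.GeomClasses.OrthDecomp
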