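import Cfsg.Agent.Lib.GeomClasses.OrthDecompClass
import Cfsg.Agent.Lib.GeomClasses.OrthDecompRoot

/-!
Orthogonal decompositions into blocks of dimension at least four in characteristic two.
-/

set_option autoImplicit false
set_option linter.unusedSectionVars false

namespace CfsgLib.GeomClasses.OrthDecomp

open Matrix QuadraticMap CfsgLib.Orth CfsgLib.GeomClasses.OrthEich CfsgLib.GeomClasses.OrthPair
  CfsgLib.GeomClasses.OrthRat CfsgLib.Maximal.TensorTools

variable {ι : Type} [Fintype ι] [DecidableEq ι] {F : Type*} [Field F] [Fintype F]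
  {q : QuadraticForm F (ι → F)} {t : ℕ} {D : Fin t → Submodule F (ι → F)} {k : ℕ}

section Space

variable (hq : q.polarBilin.Nondegenerate) (h2 : (2 : F) = 0)
include hq h2

theorem polar_self_zero (x : ι → F) : polar q x x = 0 := by rw [polar_self', h2, zero_mul]

omit hq in
theorem polar_swap_neg_vec (x : ι → F) : -x = x := by
  funext i
  simp only [Pi.neg_apply]
  linear_combination -(x i) * h2

/-- The complement of a hyperbolic plane in a block. -/
theorem complement_two {X : Submodule F (ι → F)} (hX : ∀ x ∈ X, x ≠ 0 → ∃ y ∈ X, polar q x y ≠ 0) {a b : ι → F}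
    (ha : a ∈ X) (hb : b ∈ X) (hab : polar q a b = 1) :
    ∃ Y : Submodule F (ι → F), Y ≤ X ∧ Module.finrank F X ≤ Module.finrank F Y + 2 ∧
      (∀ y ∈ Y, polar q a y = 0 ∧ polar q b y = 0) ∧ (∀ x ∈ Y, x ≠ 0 → ∃ y ∈ Y, polar q x y ≠ 0) ∧
      ∀ z ∈ X, polar q a z = 0 → polar q b z = 0 → z ∈ Y := by
  set Y := X ⊓ OrthTools.orth q (Submodule.span F ({a, b} : Set (ι → F))) with hY
  refine ⟨Y, inf_le_left, ?_, fun y hy => mem_orth_pair.1 hy.2, fun x hx hx0 => ?_,
    fun z hz h1 h3 => ⟨hz, mem_orth_pair.2 ⟨h1, h3⟩⟩⟩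
  · have h1 := Submodule.finrank_sup_add_finrank_inf_eq X (OrthTools.orth q (Submodule.span F ({a, b} : Set (ι → F))))
    have h3 := OrthTools.finrank_orth hq (Submodule.span F ({a, b} : Set (ι → F)))
    have h4 := finrank_pair_le (F := F) a b
    have h5 := Submodule.finrank_le (X ⊔ OrthTools.orth q (Submodule.span F ({a, b} : Set (ι → F))))
    rw [Module.finrank_fintype_fun_eq_card] at h5
    rw [← hY] at h1
    omega
  obtain ⟨y, hy, hxy⟩ := hX x hx.1 hx0
  obtain ⟨hax, hbx⟩ := mem_orth_pair.1 hx.2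
  refine ⟨y - polar q b y • a - polar q a y • b,
    ⟨X.sub_mem (X.sub_mem hy (X.smul_mem _ ha)) (X.smul_mem _ hb), mem_orth_pair.2 ⟨?_, ?_⟩⟩, ?_⟩
  · simp [polar_sub_right, polar_smul_right, polar_self_zero hq h2, hab]
  · simp [polar_sub_right, polar_smul_right, polar_self_zero hq h2, polar_comm (f := ⇑q) b a, hab]
  · simp only [polar_sub_right, polar_smul_right, polar_comm (f := ⇑q) x a, polar_comm (f := ⇑q) x b, hax, hbx,
      smul_zero, sub_zero]
    exact hxy

/-- A vector of a given value orthogonal to two vectors with non-zero pairing. -/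
theorem value_perp {X : Submodule F (ι → F)} (hX : ∀ x ∈ X, x ≠ 0 → ∃ y ∈ X, polar q x y ≠ 0)
    (hd : 3 ≤ Module.finrank F X) {a b : ι → F} (ha : a ∈ X) (hb : b ∈ X) (hab : polar q a b ≠ 0) (c : F) :
    ∃ z ∈ X, q z = c ∧ polar q a z = 0 ∧ polar q b z = 0 := by
  classical
  haveI := CfsgLib.OrthOmega.charP_two_of_two_eq_zero h2
  obtain ⟨Y, hYX, hYd, hY, hYn, -⟩ := complement_two hq h2 hX ha (b := (polar q a b)⁻¹ • b) (X.smul_mem _ hb)
    (by rw [polar_smul_right, smul_eq_mul, inv_mul_cancel₀ hab])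
  obtain ⟨z, hz, hqz⟩ := exists_aniso hq hYn (by omega)
  obtain ⟨s, hs⟩ := FiniteField.isSquare_of_char_two (ringChar.eq F 2) (c / q z)
  refine ⟨s • z, hYX (Y.smul_mem _ hz), ?_, ?_, ?_⟩
  · rw [QuadraticMap.map_smul, ← hs, smul_eq_mul, div_mul_cancel₀ _ hqz]
  · rw [polar_smul_right, (hY z hz).1, smul_zero]
  · have h := (hY z hz).2
    rw [polar_smul_left, smul_eq_mul] at h
    rw [polar_smul_right, (mul_eq_zero.1 h).resolve_left (inv_ne_zero hab), smul_zero]

end Space

variable (P : Base q D k) (h2 : (2 : F) = 0) (hk : 4 ≤ k)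
include P h2 hk

/-- An element not stabilizing the decomposition moves an anisotropic vector of a block out of the blocks. -/
theorem Base.exists_split_even (hex : 5 ≤ k ∨ 3 ≤ Fintype.card F ∨ ∀ i, ¬ Cfsg.Geo.IsPlusTypeOn (⇑q) (D i))
    {g : O q} (hg : (g : GL ι F) ∉ Cfsg.Geo.decompositionStabilizer D) :
    ∃ j, ∃ a ∈ D j, q a ≠ 0 ∧ ∀ i, app g a ∉ D i := by
  classical
  haveI := CfsgLib.OrthOmega.charP_two_of_two_eq_zero h2
  by_contra hcon
  push Not at hcon
  apply hg
  refine Decomp.mem_stabilizer_of_image P.decomp fun j => ?_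
  suffices H : ∃ a, ∀ x ∈ D j, app g x ∈ D a from H
  have hne : ∀ x : ι → F, q x ≠ 0 → app g x ≠ 0 := fun x hx h =>
    hx (by rw [← Q_app g, h, QuadraticMap.map_zero])
  have hlink : ∀ v ∈ D j, ∀ w ∈ D j, q v ≠ 0 → q w ≠ 0 → polar q v w ≠ 0 →
      ∀ a b, app g v ∈ D a → app g w ∈ D b → a = b := fun v _ w _ _ _ hvw a b ha hb => by
    by_contra hab
    exact hvw (by rw [← polar_app g, P.orth a b hab _ ha _ hb])
  obtain ⟨v, hv, hqv⟩ := exists_aniso P.nondeg (P.block j) (by rw [P.rank]; omega)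
  obtain ⟨a, hga⟩ := hcon j v hv hqv
  refine ⟨a, fun x hx => ?_⟩
  suffices H : ∀ v' ∈ D j, q v' ≠ 0 → app g v' ∈ D a by
    by_cases hqx : q x = 0
    · by_cases hx0 : x = 0
      · rw [hx0, map_zero]; exact Submodule.zero_mem _
      obtain ⟨y, hy, hqy, hxy⟩ := OrthTools.exists_partner (P.block j) hx hx0 hqx
      obtain ⟨z, hz, hqz, hxz, -⟩ := value_perp P.nondeg h2 (P.block j) (by rw [P.rank]; omega) hx hy
        (by rw [hxy]; exact one_ne_zero) 1
      have h1 := H (x + z) ((D j).add_mem hx hz) (by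
        rw [QuadraticMap.map_add ⇑q, hqx, hqz, hxz]; simp)
      have h3 := H z hz (by rw [hqz]; exact one_ne_zero)
      have h4 := (D a).sub_mem h1 h3
      rwa [← map_sub, add_sub_cancel_right] at h4
    · exact H x hx hqx
  intro v' hv' hqv'
  obtain ⟨b, hgb⟩ := hcon j v' hv' hqv'
  by_cases hab : a = b
  · exact hab.symm ▸ hgb
  exfalso
  have hvv : polar q v v' = 0 := by
    by_contra h
    exact hab (hlink v hv v' hv' hqv hqv' h a b hga hgb)
  have hv0 : v ≠ 0 := fun h => hqv (by rw [h, QuadraticMap.map_zero])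
  have hv0' : v' ≠ 0 := fun h => hqv' (by rw [h, QuadraticMap.map_zero])
  have hind : v ∉ Submodule.span F {v'} := fun hin => by
    obtain ⟨s, rfl⟩ := Submodule.mem_span_singleton.1 hin
    rw [map_smul] at hga
    have h := P.cmp_ne (Ne.symm hab) hga
    rw [map_smul, P.cmp_self hgb] at h
    exact smul_ne_zero (left_ne_zero_of_smul hv0) (hne v' hqv') h
  have hind' : v' ∉ Submodule.span F {v} := fun hin => by
    obtain ⟨s, rfl⟩ := Submodule.mem_span_singleton.1 hin
    rw [map_smul] at hgb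
    have h := P.cmp_ne hab hgb
    rw [map_smul, P.cmp_self hga] at h
    exact smul_ne_zero (left_ne_zero_of_smul hv0') (hne v hqv) h
  have hdual : ∀ x y : ι → F, x ∈ D j → y ∈ D j → y ∉ Submodule.span F {x} → q x ≠ 0 → polar q x y = 0 →
      ∃ w ∈ D j, q w ≠ 0 ∧ polar q x w = 0 ∧ polar q y w = 1 := by
    intro x y hx hy hyx hqx hxy
    obtain ⟨w₀, h0, h1⟩ := exists_polar_eq_zero_one P.nondeg hyx
    set w := P.cmp j w₀
    have hw : w ∈ D j := Decomp.comp_mem P.decomp j w₀
    rw [P.polar_cmp' w₀ hx] at h0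
    rw [P.polar_cmp' w₀ hy] at h1
    by_cases hqw : q w = 0
    · refine ⟨w + x, (D j).add_mem hw hx, ?_, ?_, ?_⟩
      · rw [QuadraticMap.map_add ⇑q, hqw, polar_comm (f := ⇑q) w x, h0, zero_add, add_zero]; exact hqx
      · rw [polar_add_right, h0, polar_self_zero P.nondeg h2, add_zero]
      · rw [polar_add_right, h1, polar_comm (f := ⇑q) y x, hxy, add_zero]
    · exact ⟨w, hw, hqw, h0, h1⟩
  obtain ⟨w, hw, hqw, hv'w, hvw⟩ := hdual v' v hv' hv hind hqv' (by rw [polar_comm, hvv])
  obtain ⟨w', hw', hqw', hvw', hv'w'⟩ := hdual v v' hv hv' hind' hqv hvv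
  obtain ⟨c, hgw⟩ := hcon j w hw hqw
  obtain ⟨c', hgw'⟩ := hcon j w' hw' hqw'
  obtain rfl := hlink v hv w hw hqv hqw (by rw [hvw]; exact one_ne_zero) a c hga hgw
  obtain rfl := hlink v' hv' w' hw' hqv' hqw' (by rw [hv'w']; exact one_ne_zero) b c' hgb hgw'
  have hww : polar q w w' = 0 := by
    by_contra h
    exact hab (hlink w hw w' hw' hqw hqw' h a b hgw hgw')
  have hmain : ∀ x ∈ D j, polar q v x ≠ 0 → polar q v' x ≠ 0 → q x = 0 := by
    intro x hx h h'
    by_contra hqx
    obtain ⟨e, he⟩ := hcon j x hx hqx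
    exact hab ((hlink v hv x hx hqv hqx h a e hga he).trans (hlink v' hv' x hx hqv' hqx h' b e hgb he).symm)
  have hsum : ∀ s : F, s ≠ 0 → q w + s * s * q w' = 0 := fun s hs => by
    have h := hmain (w + s • w') ((D j).add_mem hw ((D j).smul_mem _ hw'))
      (by rw [polar_add_right, polar_smul_right, hvw, hvw', smul_zero, add_zero]; exact one_ne_zero)
      (by rw [polar_add_right, polar_smul_right, hv'w, hv'w', smul_eq_mul, mul_one, zero_add]; exact hs)
    rwa [QuadraticMap.map_add ⇑q, QuadraticMap.map_smul, polar_smul_right, hww, smul_zero, add_zero,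
      smul_eq_mul] at h
  have hF : Fintype.card F = 2 := by
    by_contra hF
    have h3 : 1 < Fintype.card F := Fintype.one_lt_card
    obtain ⟨s, hs0, hs1⟩ : ∃ s : F, s ≠ 0 ∧ s ≠ 1 := by
      by_contra hc
      push Not at hc
      have := Finset.card_le_card (show (Finset.univ : Finset F) ⊆ {0, 1} from fun x _ => by
        by_cases hx : x = 0
        · simp [hx]
        · simp [hc x hx])
      have h4 := Finset.card_le_two (a := (0 : F)) (b := 1)
      rw [Finset.card_univ] at this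
      omega
    have h := hsum s hs0
    have h' := hsum 1 one_ne_zero
    have h5 : (s - 1) ^ 2 * q w' = 0 := by linear_combination h - h' - (s - 1) * q w' * h2
    exact hqw' ((mul_eq_zero.1 h5).resolve_left (pow_ne_zero _ (sub_ne_zero.2 hs1)))
  have hone : ∀ x : F, x ≠ 0 → x = 1 := by
    intro x hx
    by_contra h1
    have h3 : Finset.card ({0, 1, x} : Finset F) = 3 := by
      rw [Finset.card_insert_of_notMem (by simp [Ne.symm hx]), Finset.card_pair (Ne.symm h1)]
    have h4 := Finset.card_le_univ ({0, 1, x} : Finset F)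
    omega
  by_cases hk5 : 5 ≤ k
  · -- there is room for a third summand
    obtain ⟨Y, hYX, hYd, hY, hYn, hYm⟩ := complement_two P.nondeg h2 (P.block j) hv hw hvw
    rw [P.rank] at hYd
    have hv'Y := hYm v' hv' hvv (by rw [polar_comm, hv'w])
    have hw'Y := hYm w' hw' hvw' hww
    obtain ⟨Z, hZY, hZd, hZ, hZn, -⟩ := complement_two P.nondeg h2 hYn hv'Y hw'Y hv'w'
    obtain ⟨z, hz, hqz⟩ := exists_aniso P.nondeg hZn (by omega)
    have hzD : z ∈ D j := hYX (hZY hz)
    refine hqz ?_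
    have h := hmain (w + w' + z) ((D j).add_mem ((D j).add_mem hw hw') hzD)
      (by simp [polar_add_right, hvw, hvw', (hY z (hZY hz)).1])
      (by simp [polar_add_right, hv'w, hv'w', (hZ z hz).1])
    rw [QuadraticMap.map_add ⇑q, QuadraticMap.map_add ⇑q, polar_add_left, hww, (hY z (hZY hz)).2, (hZ z hz).2,
      hone _ hqw, hone _ hqw'] at h
    linear_combination h - h2
  rcases hex with hex | hex | hex
  · omega
  · omega
  · apply hex j
    refine ⟨Submodule.span F ({v + v', w + w'} : Set (ι → F)), ?_, ?_, ?_⟩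
    · rw [Submodule.span_le]
      rintro z (rfl | rfl)
      · exact (D j).add_mem hv hv'
      · exact (D j).add_mem hw hw'
    · intro z hz
      obtain ⟨r, s, rfl⟩ := Submodule.mem_span_pair.1 hz
      have e1 : q (v + v') = 0 := by
        rw [QuadraticMap.map_add ⇑q, hvv, hone _ hqv, hone _ hqv', add_zero, one_add_one_eq_two, h2]
      have e2 : q (w + w') = 0 := by
        rw [QuadraticMap.map_add ⇑q, hww, hone _ hqw, hone _ hqw', add_zero, one_add_one_eq_two, h2]
      have e3 : polar q (v + v') (w + w') = 0 := by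
        rw [polar_add_left, polar_add_right, polar_add_right, hvw, hvw', hv'w, hv'w', add_zero, zero_add,
          one_add_one_eq_two, h2]
      rw [QuadraticMap.map_add ⇑q, QuadraticMap.map_smul, QuadraticMap.map_smul, e1, e2, polar_smul_left,
        polar_smul_right, e3]
      simp
    · have hli : LinearIndependent F ![v + v', w + w'] := by
        rw [LinearIndependent.pair_iff]
        intro r s hrs
        have h1 := congrArg (fun z => polar q z w) hrs
        have h3 := congrArg (fun z => polar q z v) hrs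
        simp only [polar_add_left, polar_smul_left, hvw, hv'w, polar_comm (f := ⇑q) w' w, hww,
          polar_self_zero P.nondeg h2, polar_comm (f := ⇑q) w v, polar_comm (f := ⇑q) v' v, hvv,
          polar_comm (f := ⇑q) w' v, hvw', polar_zero_left, smul_eq_mul] at h1 h3
        exact ⟨by simpa using h1, by simpa using h3⟩
      have h6 := finrank_span_eq_card hli
      rw [Matrix.range_cons_cons_empty] at h6
      rw [P.rank, h6, Fintype.card_fin]
      omega

/-- Some member of the class has several components. -/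
theorem Base.exists_cls_even (hex : 5 ≤ k ∨ 3 ≤ Fintype.card F ∨ ∀ i, ¬ Cfsg.Geo.IsPlusTypeOn (⇑q) (D i))
    {M : Subgroup (O q)} (hle : Hgrp q D ≤ M) {g : O q} (hgM : g ∈ M)
    (hg : (g : GL ι F) ∉ Cfsg.Geo.decompositionStabilizer D) :
    ∃ x ∈ Cls D M (1 : F), ∀ i, x ∉ D i := by
  classical
  haveI := CfsgLib.OrthOmega.charP_two_of_two_eq_zero h2
  have hd : ∀ i, 3 ≤ Module.finrank F (D i) := fun i => by rw [P.rank]; omega
  obtain ⟨i, a₁, ha₁, hqa₁, hout⟩ := P.exists_split_even h2 hk hex hg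
  obtain ⟨s, hs⟩ := FiniteField.isSquare_of_char_two (ringChar.eq F 2) (q a₁)⁻¹
  have hs0 : s ≠ 0 := fun h => inv_ne_zero hqa₁ (by rw [hs, h, mul_zero])
  set a₀ := s • a₁ with ha₀d
  have ha₀ : a₀ ∈ D i := (D i).smul_mem _ ha₁
  have hqa₀ : q a₀ = 1 := by rw [ha₀d, QuadraticMap.map_smul, ← hs, smul_eq_mul, inv_mul_cancel₀ hqa₁]
  set x := app g a₀ with hx
  have hxout : ∀ l, x ∉ D l := fun l hl => hout l (by
    rw [hx, ha₀d, map_smul] at hl
    exact (Submodule.smul_mem_iff _ hs0).1 hl)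
  have hqx : q x = 1 := by rw [hx, Q_app, hqa₀]
  refine ⟨x, ?_, hxout⟩
  obtain ⟨j, hj⟩ : ∃ j, P.cmp j x ≠ 0 := by
    by_contra h
    push Not at h
    rw [P.q_sum, Finset.sum_eq_zero fun l _ => by rw [h l, QuadraticMap.map_zero]] at hqx
    exact zero_ne_one hqx
  have hxj : P.cmp j x ∈ D j := Decomp.comp_mem P.decomp j x
  obtain ⟨w, hw, hxw⟩ := P.block j _ hxj hj
  obtain ⟨z, hz, hqz, hxz, hwz⟩ := value_perp P.nondeg h2 (P.block j) (hd j) hxj hw hxw
    (q ((polar q (P.cmp j x) w)⁻¹ • w) + 1)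
  set w₁ := (polar q (P.cmp j x) w)⁻¹ • w with hw₁
  set a := w₁ + z with had
  have ha : a ∈ D j := (D j).add_mem ((D j).smul_mem _ hw) hz
  have hqa : q a = 1 := by
    rw [had, QuadraticMap.map_add ⇑q, hqz, hw₁, polar_smul_left, hwz, smul_zero, add_zero, ← hw₁]
    linear_combination q w₁ * h2
  have hxa : polar q x a = 1 := by
    rw [P.polar_cmp x ha, had, polar_add_right, hxz, hw₁, polar_smul_right, smul_eq_mul, inv_mul_cancel₀ hxw,
      add_zero]
  obtain ⟨b, hb, hqb, hxb, -⟩ := value_perp P.nondeg h2 (P.block j) (hd j) hxj hw hxw 1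
  rw [← P.polar_cmp x hb] at hxb
  -- a block vector moved to one orthogonal to both
  set a' := app g⁻¹ a with ha'
  obtain ⟨r, hr⟩ : ∃ r, q (P.cmp r a') ≠ 0 := by
    by_contra h
    push Not at h
    have : q a' = 1 := by rw [ha', Q_app, hqa]
    rw [P.q_sum, Finset.sum_eq_zero fun l _ => h l] at this
    exact zero_ne_one this
  have hpr : P.cmp r a' ∈ D r := Decomp.comp_mem P.decomp r a'
  have hbr : P.cmp r (app g⁻¹ b) ∈ D r := Decomp.comp_mem P.decomp r _
  obtain ⟨c, hc, hqc, hac, hbc⟩ : ∃ c ∈ D r, q c = 1 ∧ polar q a' c = 0 ∧ polar q (app g⁻¹ b) c = 0 := by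
    by_cases hab : polar q (P.cmp r a') (P.cmp r (app g⁻¹ b)) = 0
    · obtain ⟨s, hs⟩ := FiniteField.isSquare_of_char_two (ringChar.eq F 2) (q (P.cmp r a'))⁻¹
      refine ⟨s • P.cmp r a', (D r).smul_mem _ hpr, ?_, ?_, ?_⟩
      · rw [QuadraticMap.map_smul, ← hs, smul_eq_mul, inv_mul_cancel₀ hr]
      · rw [polar_smul_right, P.polar_cmp a' hpr, polar_self_zero P.nondeg h2, smul_zero]
      · rw [polar_smul_right, P.polar_cmp _ hpr, polar_comm, hab, smul_zero]
    · obtain ⟨c, hc, hqc, h1, h3⟩ := value_perp P.nondeg h2 (P.block r) (hd r) hpr hbr hab 1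
      exact ⟨c, hc, hqc, by rwa [P.polar_cmp a' hc], by rwa [P.polar_cmp _ hc]⟩
  set y := app g c with hy
  have hay : polar q a y = 0 := by rw [hy, ← app_app_inv g a, polar_app, hac]
  have hby : polar q b y = 0 := by rw [hy, ← app_app_inv g b, polar_app, hbc]
  have hxy : refl q x * refl q y ∈ M := by
    have h1 := M.mul_mem (M.mul_mem hgM (hle (P.pair_block ha₀ hc (by rw [hqa₀]; exact one_ne_zero)
      (hqa₀.trans hqc.symm)))) (M.inv_mem hgM)
    rw [hx, hy, ← refl_conj, ← refl_conj]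
    convert h1 using 1
    group
  set h := refl q a * refl q b with hh
  have hhM : h ∈ M := hle (P.pair_block ha hb (by rw [hqa]; exact one_ne_zero) (hqa.trans hqb.symm))
  have hhy : app h y = y := by
    rw [hh, app_mul, app_refl_of_ortho (show polar q y b = 0 by rw [polar_comm, hby]),
      app_refl_of_ortho (show polar q y a = 0 by rw [polar_comm, hay])]
  have hhx : app h x = app (refl q x) a := by
    rw [hh, app_mul, app_refl_of_ortho hxb, app_refl a x, app_refl x a, polar_comm (f := ⇑q) a x, hxa, hqa, hqx,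
      inv_one, one_mul, one_smul, one_smul, ← neg_sub a x, polar_swap_neg_vec h2]
  have h1 := M.mul_mem (M.mul_mem hhM hxy) (M.inv_mem hhM)
  have h3 : refl q (app h x) * refl q (app h y) ∈ M := by
    rw [← refl_conj h x, ← refl_conj h y]
    convert h1 using 1
    group
  rw [hhy, hhx, ← refl_conj, refl_inv] at h3
  have h4 := M.mul_mem h3 (M.inv_mem hxy)
  rw [_root_.mul_inv_rev, refl_inv, refl_inv, mul_assoc, ← mul_assoc (refl q y), refl_mul_self, one_mul,
    mul_assoc, refl_mul_self, mul_one] at h4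
  exact P.cls_of_one hle one_ne_zero hqx ha hqa h4

/-- Multiples of pairings on singular lines. -/
theorem Base.lines_even {M : Subgroup (O q)} (hle : Hgrp q D ≤ M) : Lines D M := by
  intro i u X p hu hX hp hp0 hqp hperp hXp c
  obtain ⟨r, hr, hqr, hpr⟩ := OrthTools.exists_partner (P.block i) hp hp0 hqp
  obtain ⟨Y, hYX, hYd, hY, hYn, -⟩ := complement_two P.nondeg h2 (P.block i) hp hr hpr
  rw [P.rank] at hYd
  obtain ⟨b, hb, hqb⟩ := exists_aniso P.nondeg hYn (by omega)
  obtain ⟨b', hb', hbb⟩ := hYn b hb fun h => hqb (by rw [h, QuadraticMap.map_zero])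
  have hdiff : ∀ z ∈ Y, polar q X p • z + (-polar q X z - q z * polar q X p) • p ∈ axes M hu := fun z hz =>
    P.diff_mem hle hu hX hp (hYX hz) hqp (hY z hz).1 (hperp p hp) (hperp z (hYX hz))
  set s := c / (polar q X p * polar q b b') with hs
  have h := (axes M hu).sub_mem ((axes M hu).sub_mem (hdiff (s • b + b') (Y.add_mem (Y.smul_mem _ hb) hb'))
    (hdiff (s • b) (Y.smul_mem _ hb))) (hdiff b' hb')
  have hne : polar q X p * polar q b b' ≠ 0 := mul_ne_zero hXp hbb
  have h' := (axes M hu).neg_mem h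
  convert h' using 1
  rw [QuadraticMap.map_add ⇑q, polar_add_right, polar_smul_left (a := s)]
  match_scalars
  all_goals (try simp only [smul_eq_mul, hs])
  all_goals (try field_simp)
  all_goals (try ring_nf)

/-- A member with several components gives a root element. -/
theorem Base.goal_of_cls {M : Subgroup (O q)} (hle : Hgrp q D ≤ M) {x : ι → F} (hx : x ∈ Cls D M (1 : F))
    (hout : ∀ i, x ∉ D i) : Goal D M := by
  obtain ⟨i, hi⟩ : ∃ i, q (P.cmp i x) ≠ 0 := by
    by_contra h
    push Not at h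
    have := hx.1
    rw [P.q_sum, Finset.sum_eq_zero fun l _ => h l] at this
    exact zero_ne_one this
  set p := P.cmp i x with hpd
  have hp : p ∈ D i := Decomp.comp_mem P.decomp i x
  obtain ⟨hXd⟩ : Nonempty (3 ≤ Module.finrank F ↥(D i ⊓ OrthTools.orth q (Submodule.span F {p}))) := by
    refine ⟨?_⟩
    have := OrthTools.finrank_inf_orth P.nondeg (D i) p
    rw [P.rank] at this
    omega
  obtain ⟨u, hu', hu0, hqu⟩ := OrthTools.exists_singular P.nondeg _ hXd
  obtain ⟨hu, hpu⟩ := OrthTools.mem_inf_orth hu'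
  have hpn : p ∉ Submodule.span F {u} := fun hin => hi (by
    obtain ⟨s, hs⟩ := Submodule.mem_span_singleton.1 hin
    rw [← hs, QuadraticMap.map_smul, hqu, smul_zero])
  obtain ⟨b₀, h0, h1⟩ := exists_polar_eq_zero_one P.nondeg hpn
  set b := P.cmp i b₀
  have hb : b ∈ D i := Decomp.comp_mem P.decomp i b₀
  rw [P.polar_cmp' b₀ hu] at h0
  rw [P.polar_cmp' b₀ hp] at h1
  have hxu : polar q x u = 0 := by rw [P.polar_cmp x hu, hpu]
  have hxb : polar q x b = 1 := by rw [P.polar_cmp x hb, h1]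
  have hy := P.cls_app_H hle one_ne_zero (P.eich_block hu hb hqu h0) hx
  rw [app_eich hqu h0, hxu, hxb, zero_smul, add_zero, mul_zero, sub_zero, neg_one_smul] at hy
  have hyx : x + -u - x = -u := by abel
  obtain ⟨h3, h4⟩ := P.cls_root hle one_ne_zero hx hy (by rw [hyx, QuadraticMap.map_neg, hqu])
  rw [hyx, inv_one, one_smul] at h4
  refine ⟨i, -u, (D i).neg_mem hu, x, neg_ne_zero.2 hu0, by rw [QuadraticMap.map_neg, hqu], hout i, ?_, h4⟩
  rwa [hyx] at h3

/-- The stabilizer is maximal. -/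
theorem Base.maximal_even (hex : 5 ≤ k ∨ 3 ≤ Fintype.card F ∨ ∀ i, ¬ Cfsg.Geo.IsPlusTypeOn (⇑q) (D i)) :
    Cfsg.Geo.IsMaximalIn (commutator (O q)) (Hgrp q D) := by
  refine ⟨P.proper (by omega), fun M hle hM => ?_⟩
  by_cases h : M ≤ Hgrp q D
  · exact Or.inl (le_antisymm h hle)
  refine Or.inr (le_antisymm hM ?_)
  obtain ⟨g, hgM, hg⟩ := SetLike.not_le_iff_exists.1 h
  obtain ⟨x, hx, hout⟩ := P.exists_cls_even h2 hk hex hle hgM fun hs => hg ⟨hs, hM hgM⟩
  exact P.commutator_le_of_goal (by omega) hle (P.lines_even h2 hk hle) (P.goal_of_cls h2 hk hle hx hout)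

end CfsgLib.GeomClasses.OrthDecomp
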