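import Cfsg.Agent.Lib.GeomClasses.OrthPlaneRoot

/-!
Stabilizers of orthogonal decompositions into planes are maximal in `Ω`.
-/

set_option autoImplicit false
set_option linter.unusedSectionVars false

namespace CfsgLib.GeomClasses.OrthDecomp

open Matrix QuadraticMap CfsgLib.Orth CfsgLib.GeomClasses.OrthEich CfsgLib.GeomClasses.OrthPair
  CfsgLib.GeomClasses.OrthRat CfsgLib.Maximal.TensorTools

variable {ι : Type} [Fintype ι] [DecidableEq ι] {F : Type*} [Field F] [Fintype F]
  {q : QuadraticForm F (ι → F)} {t : ℕ} {D : Fin t → Submodule F (ι → F)}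

theorem subfield_top_of_sq_lt (K : Subfield F) (h : Fintype.card F < Nat.card K ^ 2) : K = ⊤ := by
  classical
  haveI := Fintype.ofFinite K
  have hc := Module.card_eq_pow_finrank (K := K) (V := F)
  rw [Nat.card_eq_fintype_card] at h
  have h1 : 1 < Fintype.card K := Fintype.one_lt_card
  have hr : Module.finrank K F ≤ 1 := by
    by_contra hr
    have := Nat.pow_le_pow_right (show 1 ≤ Fintype.card K by omega) (show 2 ≤ Module.finrank K F by omega)
    omega
  have hle : Fintype.card F ≤ Fintype.card K := by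
    rw [hc]
    exact (Nat.pow_le_pow_right (by omega) hr).trans_eq (pow_one _)
  have hsurj : Function.Surjective (Subtype.val : K → F) :=
    ((Fintype.bijective_iff_injective_and_card _).2
      ⟨Subtype.val_injective, le_antisymm (Fintype.card_subtype_le _) hle⟩).2
  rw [eq_top_iff]
  intro x _
  obtain ⟨y, rfl⟩ := hsurj x
  exact y.2

variable (P : PDec q D)
include P

theorem PDec.polar_out {n : Fin t} {u y : ι → F} (h : P.cmp n u = 0) (hy : y ∈ D n) : polar q u y = 0 := by
  rw [P.polar_cmp u hy, h, polar_zero_left]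

theorem PDec.eq_of_supp {n o : Fin t} (hno : n ≠ o) {u : ι → F}
    (h : ∀ r, r ≠ n → r ≠ o → P.cmp r u = 0) : u = P.cmp n u + P.cmp o u := by
  refine Decomp.eq_of_comp P.decomp fun r => ?_
  show P.cmp r u = P.cmp r (P.cmp n u + P.cmp o u)
  rw [map_add]
  by_cases hr : r = n
  · subst hr
    rw [P.toBase.cmp_self (Decomp.comp_mem P.decomp r u), P.toBase.cmp_ne hno (Decomp.comp_mem P.decomp o u),
      add_zero]
  by_cases hr' : r = o
  · subst hr'
    rw [P.toBase.cmp_ne hr (Decomp.comp_mem P.decomp n u), P.toBase.cmp_self (Decomp.comp_mem P.decomp r u),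
      zero_add]
  · rw [h r hr hr', P.toBase.cmp_ne hr (Decomp.comp_mem P.decomp n u),
      P.toBase.cmp_ne hr' (Decomp.comp_mem P.decomp o u), add_zero]

theorem PDec.pair_vec (n o : Fin t) (hno : n ≠ o) :
    ∃ v, q v = 0 ∧ v ≠ 0 ∧ ∀ r, r ≠ n → r ≠ o → P.cmp r v = 0 := by
  obtain ⟨p, hp, hqp⟩ := P.toBase.exists_value n (one_ne_zero (α := F))
  obtain ⟨p', hp', hqp'⟩ := P.toBase.exists_value o (neg_ne_zero.2 (one_ne_zero (α := F)))
  refine ⟨p + p', ?_, fun h => ?_, fun r hrn hro => ?_⟩
  · rw [QuadraticMap.map_add ⇑q, P.orth n o hno p hp p' hp', hqp, hqp']; ring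
  · have := congrArg (P.cmp n) h
    rw [map_add, P.toBase.cmp_self hp, P.toBase.cmp_ne hno hp', add_zero, map_zero] at this
    rw [this, QuadraticMap.map_zero] at hqp
    exact zero_ne_one hqp
  · rw [map_add, P.toBase.cmp_ne hrn hp, P.toBase.cmp_ne hro hp', add_zero]

variable {M : Subgroup (O q)} (hle : Hgrp q D ≤ M)
include hle

/-- An axis with a component in a further block gives that block. -/
theorem PDec.block_axes {u z : ι → F} (hu : q u = 0) {i l m : Fin t}
    (hsupp : ∀ n, n ≠ i → n ≠ l → P.cmp n u = 0) (hmi : m ≠ i) (hml : m ≠ l) (hz : z ∈ axes M hu)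
    (hzm : P.cmp m z ≠ 0) : ∀ y ∈ D m, y ∈ axes M hu := by
  classical
  obtain ⟨n, hn⟩ := P.exists_ne {i, l, m} (by
    have := Finset.card_le_three (a := i) (b := l) (c := m); have := P.five_le; omega)
  simp only [Finset.mem_insert, Finset.mem_singleton, not_or] at hn
  obtain ⟨hni, hnl, hnm⟩ := hn
  have hum := hsupp m hmi hml
  have hun := hsupp n hni hnl
  have hinv : ∀ a ∈ D m, q a ≠ 0 → ∀ y ∈ D m, y ∈ axes M hu → app (refl q a) y - y ∈ axes M hu := by
    intro a ha hqa y hy hyA
    obtain ⟨a', ha', hqa'⟩ := P.toBase.exists_value n hqa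
    have hh := hle (P.toBase.pair_block ha ha' hqa hqa'.symm)
    have hfu : app (refl q a * refl q a') u = u := by
      rw [app_mul, app_refl_of_ortho (P.polar_out hun ha'), app_refl_of_ortho (P.polar_out hum ha)]
    have h := axes_move hh hu hu hfu hyA
    rw [app_mul, app_refl_of_ortho (P.orth m n (Ne.symm hnm) y hy a' ha')] at h
    exact (axes M hu).sub_mem h hyA
  obtain ⟨d, hd, hd0, hdA⟩ : ∃ d ∈ D m, d ≠ 0 ∧ d ∈ axes M hu := by
    obtain ⟨a, ha, hqa, haz⟩ := P.aniso_pairing (Decomp.comp_mem P.decomp m z) hzm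
    rw [← P.polar_cmp' z ha, polar_comm] at haz
    obtain ⟨b, hb, hqb, hba, -⟩ := P.exists_same_value ha hqa
    have hh := hle (P.toBase.pair_block ha hb hqa hqb.symm)
    have hfu : app (refl q a * refl q b) u = u := by
      rw [app_mul, app_refl_of_ortho (P.polar_out hum hb), app_refl_of_ortho (P.polar_out hum ha)]
    have h := (axes M hu).sub_mem (axes_move hh hu hu hfu hz) hz
    set β := (q b)⁻¹ * polar q z b
    set α := (q a)⁻¹ * polar q (z - β • b) a
    have hd : app (refl q a * refl q b) z - z = -(β • b) - α • a := by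
      rw [app_mul, app_refl b z, app_refl a _]; abel
    rw [hd] at h
    refine ⟨_, (D m).sub_mem ((D m).neg_mem ((D m).smul_mem _ hb)) ((D m).smul_mem _ ha), fun h0 => ?_, h⟩
    have hβ : β = 0 := by
      by_contra hβ
      refine hba (Submodule.mem_span_singleton.2 ⟨-(β⁻¹ * α), ?_⟩)
      rw [neg_smul, mul_smul, ← neg_inj, neg_neg]
      rw [sub_eq_zero] at h0
      rw [← h0, smul_neg, inv_smul_smul₀ hβ]
    have hα : α ≠ 0 := by
      refine mul_ne_zero (inv_ne_zero hqa) ?_
      rw [hβ, zero_smul, sub_zero]; exact haz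
    rw [hβ, zero_smul, neg_zero, zero_sub, neg_eq_zero, smul_eq_zero] at h0
    exact hqa (by rw [h0.resolve_left hα, QuadraticMap.map_zero])
  obtain ⟨a, ha, hqa, had⟩ := P.aniso_pairing hd hd0
  have hline : ∀ s : F, s • a ∈ axes M hu := by
    set A := axes M hu with hA
    let K : Subfield F :=
      { carrier := {c | ∀ s : F, s • a ∈ A → (c * s) • a ∈ A}
        mul_mem' := fun {x y} hx hy s hs => by rw [mul_assoc]; exact hx _ (hy s hs)
        one_mem' := fun s hs => by rwa [one_mul]
        add_mem' := fun {x y} hx hy s hs => by rw [add_mul, add_smul]; exact A.add_mem (hx s hs) (hy s hs)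
        zero_mem' := fun s _ => by rw [zero_mul, zero_smul]; exact A.zero_mem
        neg_mem' := fun {x} hx s hs => by rw [neg_mul, neg_smul]; exact A.neg_mem (hx s hs)
        inv_mem' := fun x hx => by
          rcases eq_or_ne x 0 with rfl | h0
          · rw [_root_.inv_zero]; exact fun s _ => by rw [zero_mul, zero_smul]; exact A.zero_mem
          have h2 : 2 ≤ Fintype.card F := Fintype.one_lt_card
          have hpow : ∀ k : ℕ, ∀ s : F, s • a ∈ A → (x ^ k * s) • a ∈ A := by
            intro k
            induction k with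
            | zero => intro s hs; rwa [pow_zero, one_mul]
            | succ k ih => intro s hs; rw [pow_succ', mul_assoc]; exact hx _ (ih s hs)
          rw [← eq_inv_of_mul_eq_one_left (a := x ^ (Fintype.card F - 2)) (b := x) (by
            rw [← pow_succ, show Fintype.card F - 2 + 1 = Fintype.card F - 1 by omega,
              FiniteField.pow_card_sub_one_eq_one x h0])]
          exact hpow _ }
    have hsub : ∀ c ∈ P.valSet m a, c / q a ∈ K := by
      intro c hc s hs
      obtain ⟨-, b, hb, hqb, hBc⟩ := P.mem_valSet.1 hc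
      have h1 := hinv b hb hqb _ ((D m).smul_mem s ha) hs
      rw [app_refl, sub_sub_cancel_left] at h1
      have h2 := hinv a ha hqa _ ((D m).neg_mem ((D m).smul_mem _ hb)) h1
      rw [app_refl, sub_sub_cancel_left] at h2
      have e : -(((q a)⁻¹ * polar q (-(((q b)⁻¹ * polar q (s • a) b) • b)) a) • a) = (c / q a * s) • a := by
        rw [← neg_smul]
        congr 1
        rw [polar_neg_left, polar_smul_left, polar_smul_left, smul_eq_mul, smul_eq_mul, polar_comm (f := ⇑q) b a]
        field_simp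
        linear_combination s * hBc
      rwa [e] at h2
    have htop : K = ⊤ := by
      refine subfield_top_of_sq_lt K ?_
      have hcard : (P.valSet m a).card + 1 ≤ Nat.card K := by
        haveI := Fintype.ofFinite K
        rw [Nat.card_eq_fintype_card, ← Finset.card_univ]
        have h0 : (0 : F) ∉ (P.valSet m a).image fun c => c / q a := fun h => by
          obtain ⟨c, hc, he⟩ := Finset.mem_image.1 h
          exact div_ne_zero (P.mem_valSet.1 hc).1 hqa he
        rw [← Finset.card_image_of_injective (P.valSet m a)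
          (fun x y hxy => (div_left_inj' hqa).1 hxy : Function.Injective fun c => c / q a),
          ← Finset.card_insert_of_notMem h0]
        refine Finset.card_le_card_of_surjOn (fun x : K => (x : F)) ?_
        intro c hc
        simp only [Finset.coe_insert, Set.mem_insert_iff, Finset.mem_coe, Finset.mem_image] at hc
        rcases hc with rfl | ⟨c, hc, rfl⟩
        · exact ⟨0, by simp, rfl⟩
        · exact ⟨⟨_, hsub c hc⟩, by simp, rfl⟩
      obtain ⟨c1, c2, c3⟩ := P.card_valSet ha hqa
      have h1 : 1 < Fintype.card F := Fintype.one_lt_card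
      rcases P.ok with ⟨hm, -⟩ | ⟨-, h7⟩
      · have := c1 (hm m); nlinarith
      · by_cases h2 : (2 : F) = 0
        · have := c2 h2; nlinarith
        · have := c3 h2; nlinarith
    have hs0 : ∃ s₀ : F, s₀ ≠ 0 ∧ s₀ • a ∈ A := by
      refine ⟨-((q a)⁻¹ * polar q d a), neg_ne_zero.2 (mul_ne_zero (inv_ne_zero hqa) ?_), ?_⟩
      · rwa [polar_comm]
      · have := hinv a ha hqa d hd hdA
        rwa [app_refl, sub_sub_cancel_left, ← neg_smul] at this
    obtain ⟨s₀, hs₀, hsA⟩ := hs0
    intro s
    have h := (htop ▸ Subfield.mem_top (s / s₀) : s / s₀ ∈ K) s₀ hsA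
    rwa [div_mul_cancel₀ _ hs₀] at h
  obtain ⟨b, hb, hqb, hba, hab⟩ := P.exists_same_value ha hqa
  have hlineb : ∀ s : F, s • b ∈ axes M hu := fun s => by
    have hqb0 : q b ≠ 0 := by rwa [hqb]
    have h := hinv b hb hqb0 _ ((D m).smul_mem (-(s * q b / polar q a b)) ha) (hline _)
    rw [app_refl, sub_sub_cancel_left, polar_smul_left, ← neg_smul] at h
    convert h using 2
    rw [smul_eq_mul]
    field_simp
  intro y hy
  obtain ⟨α, β, rfl⟩ := P.span_two ha hb (fun h => hqa (by rw [h, QuadraticMap.map_zero])) hba hy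
  exact (axes M hu).add_mem (hline α) (hlineb β)

/-- All blocks outside the support. -/
def Outer (D : Fin t → Submodule F (ι → F)) (M : Subgroup (O q)) (u : ι → F) (hu : q u = 0) (i l : Fin t) : Prop :=
  ∀ r, r ≠ i → r ≠ l → ∀ y ∈ D r, y ∈ axes M hu

theorem PDec.outer_of_axis {u z : ι → F} (hu : q u = 0) {i l m : Fin t}
    (hsupp : ∀ n, n ≠ i → n ≠ l → P.cmp n u = 0) (hmi : m ≠ i) (hml : m ≠ l) (hz : z ∈ axes M hu)
    (hzm : P.cmp m z ≠ 0) : Outer D M u hu i l := by
  have hblock := P.block_axes hle hu hsupp hmi hml hz hzm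
  intro r hri hrl
  obtain ⟨w, hw, hwmap, hwfix⟩ := P.toBase.exists_move m r m
  have hwu : app w u = u := by
    conv_lhs => rw [← Decomp.sum_comp P.decomp u, map_sum]
    conv_rhs => rw [← Decomp.sum_comp P.decomp u]
    refine Finset.sum_congr rfl fun n _ => ?_
    show app w (P.cmp n u) = P.cmp n u
    by_cases hn : n = i ∨ n = l
    · refine hwfix n ?_ ?_ ?_ _ (Decomp.comp_mem P.decomp n u)
      · rcases hn with rfl | rfl
        · exact Ne.symm hmi
        · exact Ne.symm hml
      · rcases hn with rfl | rfl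
        · exact Ne.symm hri
        · exact Ne.symm hrl
      · rcases hn with rfl | rfl
        · exact Ne.symm hmi
        · exact Ne.symm hml
    · push Not at hn
      rw [hsupp n hn.1 hn.2, map_zero]
  obtain ⟨y, hy, hqy⟩ := P.toBase.exists_value m (one_ne_zero (α := F))
  have h := axes_move (hle hw) hu hu hwu (hblock y hy)
  have hwy : app w y ∈ D r := by
    have := hwmap m y hy
    rwa [Equiv.swap_apply_left] at this
  refine P.block_axes hle hu hsupp hri hrl h ?_
  rw [P.toBase.cmp_self hwy]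
  intro h0
  rw [← Q_app w, h0, QuadraticMap.map_zero] at hqy
  exact zero_ne_one hqy

theorem PDec.outer_flip {u v : ι → F} (hu : q u = 0) (hu0 : u ≠ 0) {i l n o : Fin t}
    (hsu : ∀ r, r ≠ i → r ≠ l → P.cmp r u = 0) (ho : Outer D M u hu i l) (hv : q v = 0)
    (hsv : ∀ r, r ≠ n → r ≠ o → P.cmp r v = 0) (hni : n ≠ i) (hnl : n ≠ l) (hoi : o ≠ i) (hol : o ≠ l) :
    Outer D M v hv n o := by
  have hvA : ∀ s : F, s • v ∈ axes M hu := fun s => by
    rw [← Decomp.sum_comp P.decomp (s • v)]
    refine AddSubgroup.sum_mem _ fun r _ => ?_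
    show P.cmp r (s • v) ∈ axes M hu
    rw [map_smul]
    by_cases hr : r = n
    · subst hr; exact ho r hni hnl _ ((D r).smul_mem _ (Decomp.comp_mem P.decomp r v))
    by_cases hr' : r = o
    · subst hr'; exact ho r hoi hol _ ((D r).smul_mem _ (Decomp.comp_mem P.decomp r v))
    rw [hsv r hr hr', smul_zero]; exact (axes M hu).zero_mem
  have huv : polar q u v = 0 := by simpa using (hvA 1).1
  have huA : u ∈ axes M hv := by
    have hvu : polar q v u = 0 := by rw [polar_comm, huv]
    refine ⟨hvu, ?_⟩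
    rw [eich_swap hv hu hvu]
    simpa using (hvA (-1)).2
  obtain ⟨m, hm⟩ : ∃ m, P.cmp m u ≠ 0 := by
    by_contra h
    push Not at h
    exact hu0 (Decomp.eq_of_comp P.decomp fun r => by rw [map_zero]; exact h r)
  have hmil : m = i ∨ m = l := by
    by_contra h
    push Not at h
    exact hm (hsu m h.1 h.2)
  refine P.outer_of_axis hle hv hsv ?_ ?_ huA hm
  · rcases hmil with rfl | rfl
    · exact Ne.symm hni
    · exact Ne.symm hnl
  · rcases hmil with rfl | rfl
    · exact Ne.symm hoi
    · exact Ne.symm hol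

/-- Every singular vector supported in two blocks has all other blocks as axes. -/
theorem PDec.all_outer (hR : P.Root M) {v : ι → F} (hv : q v = 0) {n o : Fin t}
    (hsv : ∀ r, r ≠ n → r ≠ o → P.cmp r v = 0) : Outer D M v hv n o := by
  classical
  obtain ⟨u, i, l, m, hmi, hml, hu0, hsu, hu, z, hz, hzm⟩ := hR
  have ho := P.outer_of_axis hle hu hsu hmi hml hz hzm
  by_cases hd : n ≠ i ∧ n ≠ l ∧ o ≠ i ∧ o ≠ l
  · exact P.outer_flip hle hu hu0 hsu ho hv hsv hd.1 hd.2.1 hd.2.2.1 hd.2.2.2
  have h7 := P.five_le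
  have hc : ({i, l, n, o} : Finset (Fin t)).card ≤ 3 := by
    rcases (show n = i ∨ n = l ∨ o = i ∨ o = l by tauto) with h | h | h | h
    · exact (Finset.card_le_card (show ({i, l, n, o} : Finset (Fin t)) ⊆ {i, l, o} by intro x; simp [h] <;> tauto)).trans Finset.card_le_three
    · exact (Finset.card_le_card (show ({i, l, n, o} : Finset (Fin t)) ⊆ {i, l, o} by intro x; simp [h] <;> tauto)).trans Finset.card_le_three
    · exact (Finset.card_le_card (show ({i, l, n, o} : Finset (Fin t)) ⊆ {i, l, n} by intro x; simp [h] <;> tauto)).trans Finset.card_le_three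
    · exact (Finset.card_le_card (show ({i, l, n, o} : Finset (Fin t)) ⊆ {i, l, n} by intro x; simp [h] <;> tauto)).trans Finset.card_le_three
  obtain ⟨a, ha⟩ := P.exists_ne {i, l, n, o} (by omega)
  obtain ⟨b, hb⟩ := P.exists_ne {a, i, l, n, o} (by
    have := Finset.card_insert_le a ({i, l, n, o} : Finset (Fin t))
    omega)
  simp only [Finset.mem_insert, Finset.mem_singleton, not_or] at ha hb
  obtain ⟨w, hw, hw0, hsw⟩ := P.pair_vec a b (Ne.symm hb.1)
  have h1 := P.outer_flip hle hu hu0 hsu ho hw hsw ha.1 ha.2.1 hb.2.1 hb.2.2.1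
  exact P.outer_flip hle hw hw0 hsw h1 hv hsv (Ne.symm ha.2.2.1) (Ne.symm hb.2.2.2.1) (Ne.symm ha.2.2.2)
    (Ne.symm hb.2.2.2.2)

/-- Orthogonal singular vectors with small support are axes of each other. -/
theorem PDec.pair_axes (hR : P.Root M) {v a : ι → F} (hv : q v = 0) (ha : q a = 0) {n o r r' : Fin t}
    (hsv : ∀ e, e ≠ n → e ≠ o → P.cmp e v = 0) (hsa : ∀ e, e ≠ r → e ≠ r' → P.cmp e a = 0)
    (hva : polar q v a = 0) : a ∈ axes M hv := by
  classical
  obtain ⟨e, he⟩ := P.exists_ne {n, o, r, r'} (by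
    have := Finset.card_le_four (a := n) (b := o) (c := r) (d := r'); have := P.five_le; omega)
  simp only [Finset.mem_insert, Finset.mem_singleton, not_or] at he
  obtain ⟨b, hb, hqb⟩ := P.toBase.exists_value e (one_ne_zero (α := F))
  obtain ⟨b', hb', hbb, -⟩ := P.exists_dual hb (fun h => by
    rw [h, QuadraticMap.map_zero] at hqb; exact zero_ne_one hqb)
  have hbA := P.all_outer hle hR hv hsv e he.1 he.2.1
  have hab := P.all_outer hle hR ha hsa e he.2.2.1 he.2.2.2 b' hb'
  have hX : app (eich q a b') v = v := by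
    rw [app_eich ha hab.1, hva, P.polar_out (hsv e he.1 he.2.1) hb']; simp
  have h := axes_move hab.2 hv hv hX (hbA b hb)
  rw [app_eich ha hab.1, hbb, polar_comm (f := ⇑q) b a, P.polar_out (hsa e he.2.2.1 he.2.2.2) hb] at h
  have h2 := (axes M hv).sub_mem (hbA b hb) h
  convert h2 using 1
  module

theorem PDec.inner_axes (hR : P.Root M) {v : ι → F} (hv : q v = 0) {n o : Fin t}
    (hsv : ∀ e, e ≠ n → e ≠ o → P.cmp e v = 0) {y : ι → F} (hy : y ∈ D n) (hvy : polar q v y = 0) :
    y ∈ axes M hv := by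
  classical
  obtain ⟨r, hr⟩ := P.exists_ne {n, o} (by
    have := Finset.card_le_two (a := n) (b := o); have := P.five_le; omega)
  simp only [Finset.mem_insert, Finset.mem_singleton, not_or] at hr
  by_cases hqy : q y = 0
  · exact P.pair_axes hle hR hv hqy hsv (fun e he _ => P.toBase.cmp_ne he hy) (r := n) (r' := r) hvy
  obtain ⟨z, hz, hqz⟩ := P.toBase.exists_value r (neg_ne_zero.2 hqy)
  have hout := P.all_outer hle hR hv hsv r hr.1 hr.2 z hz
  have h := P.pair_axes hle hR hv (a := y + z) (r := n) (r' := r) (by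
      rw [QuadraticMap.map_add ⇑q, P.orth n r (Ne.symm hr.1) y hy z hz, hqz]; ring) hsv
    (fun e he he' => by rw [map_add, P.toBase.cmp_ne he hy, P.toBase.cmp_ne he' hz, add_zero])
    (by rw [polar_add_right, hvy, hout.1, add_zero])
  simpa using (axes M hv).sub_mem h hout

/-- Centres in two blocks are full. -/
theorem PDec.full_pair (hR : P.Root M) {n o : Fin t} (hno : n ≠ o) {p p' : ι → F} (hp : p ∈ D n) (hp' : p' ∈ D o)
    (hqp : q p ≠ 0) (hqp' : q p' = -q p)
    (hiso : (2 : F) = 0 → ∃ e : D n ≃ₗ[F] D o, (∀ x : D n, q (e x : ι → F) = q (x : ι → F)) ∧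
      ((e ⟨p, hp⟩ : D o) : ι → F) = p') :
    Full M (p + p') := by
  have hv : q (p + p') = 0 := by rw [QuadraticMap.map_add ⇑q, P.orth n o hno p hp p' hp', hqp']; ring
  refine ⟨hv, fun Y hY => ?_⟩
  set v := p + p' with hvd
  have hsv : ∀ e, e ≠ n → e ≠ o → P.cmp e v = 0 := fun e he he' => by
    rw [hvd, map_add, P.toBase.cmp_ne he hp, P.toBase.cmp_ne he' hp', add_zero]
  have hsv' : ∀ e, e ≠ o → e ≠ n → P.cmp e v = 0 := fun e he he' => hsv e he' he
  suffices Y ∈ axes M hv from this.2
  set yn := P.cmp n Y with hyn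
  set yo := P.cmp o Y with hyo
  have hvn : ∀ x ∈ D n, polar q v x = polar q p x := fun x hx => by
    rw [hvd, polar_add_left, P.orth o n (Ne.symm hno) p' hp' x hx, add_zero]
  have hvo : ∀ x ∈ D o, polar q v x = polar q p' x := fun x hx => by
    rw [hvd, polar_add_left, P.orth n o hno p hp x hx, zero_add]
  have hsum : polar q p yn + polar q p' yo = 0 := by
    rw [hvd, polar_add_left, P.polar_cmp' Y hp, P.polar_cmp' Y hp'] at hY
    exact hY
  have hin : yn + yo ∈ axes M hv := by
    have hynD : yn ∈ D n := Decomp.comp_mem P.decomp n Y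
    have hyoD : yo ∈ D o := Decomp.comp_mem P.decomp o Y
    by_cases h2 : (2 : F) = 0
    · obtain ⟨e, he, hep⟩ := hiso h2
      obtain ⟨w, hw, hpw, -⟩ := P.exists_dual hp (fun h => hqp (by rw [h, QuadraticMap.map_zero]))
      set w' : ι → F := (e ⟨w, hw⟩ : ι → F) with hw'
      have hw'D : w' ∈ D o := Subtype.coe_prop _
      have hpw' : polar q p' w' = 1 := by
        have h1 := he (⟨p, hp⟩ + ⟨w, hw⟩)
        rw [map_add, Submodule.coe_add, Submodule.coe_add, hep, ← hw', QuadraticMap.map_add ⇑q,
          QuadraticMap.map_add ⇑q] at h1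
        have h3 := he ⟨p, hp⟩
        have h4 := he ⟨w, hw⟩
        rw [hep] at h3
        rw [← hw'] at h4
        dsimp only at h1 h3 h4
        rw [hpw, h3, h4] at h1
        linear_combination h1
      set β := polar q p yn
      have hqw' : q w' = q w := he ⟨w, hw⟩
      have ha : β • (w + w') ∈ axes M hv := by
        refine P.pair_axes hle hR hv ?_ hsv (r := n) (r' := o) (fun e he he' => by
          rw [map_smul, map_add, P.toBase.cmp_ne he hw, P.toBase.cmp_ne he' hw'D, add_zero, smul_zero]) ?_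
        · rw [QuadraticMap.map_smul, QuadraticMap.map_add ⇑q, P.orth n o hno w hw w' hw'D, hqw', smul_eq_mul]
          linear_combination β * β * q w * h2
        · rw [polar_smul_right, polar_add_right, hvn w hw, hvo w' hw'D, hpw, hpw', one_add_one_eq_two, h2,
            smul_zero]
      have h1 := P.inner_axes hle hR hv hsv (y := yn - β • w) ((D n).sub_mem hynD ((D n).smul_mem _ hw)) (by
        rw [hvn _ ((D n).sub_mem hynD ((D n).smul_mem _ hw)), polar_sub_right, polar_smul_right, hpw, smul_eq_mul,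
          mul_one, sub_self])
      have h3 := P.inner_axes hle hR hv hsv' (y := yo - β • w') ((D o).sub_mem hyoD ((D o).smul_mem _ hw'D)) (by
        rw [hvo _ ((D o).sub_mem hyoD ((D o).smul_mem _ hw'D)), polar_sub_right, polar_smul_right, hpw', smul_eq_mul,
          mul_one]
        linear_combination hsum - β * h2)
      convert (axes M hv).add_mem ha ((axes M hv).add_mem h1 h3) using 1
      module
    · set α := polar q p yn / (2 * q p)
      have h2p : 2 * q p ≠ 0 := mul_ne_zero h2 hqp
      have hα : polar q p yn = α * (2 * q p) := (div_mul_cancel₀ _ h2p).symm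
      have h1 := P.inner_axes hle hR hv hsv (y := yn - α • p) ((D n).sub_mem hynD ((D n).smul_mem _ hp)) (by
        rw [hvn _ ((D n).sub_mem hynD ((D n).smul_mem _ hp)), polar_sub_right, polar_smul_right, polar_self',
          smul_eq_mul, hα, sub_self])
      have h3 := P.inner_axes hle hR hv hsv' (y := yo - α • p') ((D o).sub_mem hyoD ((D o).smul_mem _ hp')) (by
        rw [hvo _ ((D o).sub_mem hyoD ((D o).smul_mem _ hp')), polar_sub_right, polar_smul_right, polar_self',
          smul_eq_mul, hqp']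
        linear_combination hsum - hα)
      have hvA : α • v ∈ axes M hv := axes_smul_self hv α
      convert (axes M hv).add_mem hvA ((axes M hv).add_mem h1 h3) using 1
      rw [hvd]
      module
  rw [← Decomp.sum_comp P.decomp Y, ← Finset.sum_add_sum_compl ({n, o} : Finset (Fin t)), Finset.sum_pair hno]
  refine (axes M hv).add_mem hin (AddSubgroup.sum_mem _ fun r hr => ?_)
  simp only [Finset.mem_compl, Finset.mem_insert, Finset.mem_singleton, not_or] at hr
  exact P.all_outer hle hR hv hsv r hr.1 hr.2 _ (Decomp.comp_mem P.decomp r Y)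

/-- A root element gives `Ω`. -/
theorem PDec.commutator_le_of_root (hR : P.Root M) : commutator (O q) ≤ M := by
  classical
  have h7 := P.five_le
  let n : Fin t := ⟨0, by omega⟩
  let o : Fin t := ⟨1, by omega⟩
  let r : Fin t := ⟨2, by omega⟩
  have hno : n ≠ o := by simp [n, o, Fin.ext_iff]
  have hor : o ≠ r := by simp [o, r, Fin.ext_iff]
  have hnr : n ≠ r := by simp [n, r, Fin.ext_iff]
  by_cases h2 : (2 : F) = 0
  · obtain ⟨p, hp, hqp⟩ := P.toBase.exists_value n (one_ne_zero (α := F))
    obtain ⟨e, he⟩ := P.isom n o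
    obtain ⟨e', he'⟩ := P.isom o r
    set p' : ι → F := (e ⟨p, hp⟩ : ι → F) with hp'd
    have hp'D : p' ∈ D o := Subtype.coe_prop _
    have hqp' : q p' = q p := he ⟨p, hp⟩
    have hneg : ∀ c : F, -c = c := fun c => by linear_combination -c * h2
    obtain ⟨w, hw, hqw, hwp⟩ := P.aniso_pairing hp'D (fun h => by
      rw [h, QuadraticMap.map_zero, hqp] at hqp'; exact zero_ne_one hqp')
    set w' : ι → F := (e' ⟨w, hw⟩ : ι → F) with hw'd
    have hw'D : w' ∈ D r := Subtype.coe_prop _
    have f1 := P.full_pair hle hR hno hp hp'D (by rw [hqp]; exact one_ne_zero) (by rw [hneg, hqp'])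
      (fun _ => ⟨e, he, rfl⟩)
    have f2 := P.full_pair hle hR hor hw hw'D hqw (by rw [hneg]; exact he' ⟨w, hw⟩) (fun _ => ⟨e', he', rfl⟩)
    refine commutator_le_of_pair P.nondeg P.toBase.seven f1 f2 ?_
    rw [polar_add_left, polar_add_right, polar_add_right, P.orth o n (Ne.symm hno) w hw p hp,
      P.orth r n (Ne.symm hnr) w' hw'D p hp, P.orth r o (Ne.symm hor) w' hw'D p' hp'D]
    simpa using hwp
  · obtain ⟨p, hp, hqp⟩ := P.toBase.exists_value n (one_ne_zero (α := F))
    obtain ⟨p', hp', hqp'⟩ := P.toBase.exists_value o (neg_ne_zero.2 (one_ne_zero (α := F)))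
    obtain ⟨p'', hp'', hqp''⟩ := P.toBase.exists_value r (one_ne_zero (α := F))
    have f1 := P.full_pair hle hR hno hp hp' (by rw [hqp]; exact one_ne_zero) (by rw [hqp, hqp'])
      (fun h => absurd h h2)
    have f2 := P.full_pair hle hR hor hp' hp'' (by rw [hqp']; exact neg_ne_zero.2 one_ne_zero)
      (by rw [hqp', hqp'', neg_neg]) (fun h => absurd h h2)
    refine commutator_le_of_pair P.nondeg P.toBase.seven f1 f2 ?_
    rw [polar_add_left, polar_add_right, polar_add_right, P.orth o n (Ne.symm hno) p' hp' p hp,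
      P.orth r n (Ne.symm hnr) p'' hp'' p hp, P.orth r o (Ne.symm hor) p'' hp'' p' hp', polar_self', hqp']
    simpa using h2

omit hle in
/-- Root elements across three blocks leave the stabilizer. -/
theorem PDec.proper : Hgrp q D < commutator (O q) := by
  refine lt_of_le_of_ne inf_le_right fun he => ?_
  have h7 := P.five_le
  let n : Fin t := ⟨0, by omega⟩
  let o : Fin t := ⟨1, by omega⟩
  let r : Fin t := ⟨2, by omega⟩
  have hno : n ≠ o := by simp [n, o, Fin.ext_iff]
  have hor : o ≠ r := by simp [o, r, Fin.ext_iff]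
  have hnr : n ≠ r := by simp [n, r, Fin.ext_iff]
  obtain ⟨p, hp, hqp⟩ := P.toBase.exists_value n (one_ne_zero (α := F))
  obtain ⟨p', hp', hqp'⟩ := P.toBase.exists_value o (neg_ne_zero.2 (one_ne_zero (α := F)))
  obtain ⟨b, hb, hqb⟩ := P.toBase.exists_value r (one_ne_zero (α := F))
  have hp0 : p ≠ 0 := fun h => by rw [h, QuadraticMap.map_zero] at hqp; exact zero_ne_one hqp
  obtain ⟨y, hy, hpy, hyp⟩ := P.exists_dual hp hp0
  have hqu : q (p + p') = 0 := by rw [QuadraticMap.map_add ⇑q, P.orth n o hno p hp p' hp', hqp, hqp']; ring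
  have hub : polar q (p + p') b = 0 := by
    rw [polar_add_left, P.orth n r hnr p hp b hb, P.orth o r hor p' hp' b hb, add_zero]
  obtain ⟨j, hj⟩ := P.toBase.mem_D_of_mem_H (he.ge (eich_mem P.nondeg P.toBase.seven hqu hub)) n
  have h := hj y hy
  rw [app_eich hqu hub, polar_add_right, polar_comm (f := ⇑q) y p, hpy, P.orth n o hno y hy p' hp',
    P.orth n r hnr y hy b hb, hqb, add_zero, one_smul] at h
  by_cases hjr : j = r
  · subst hjr
    have h1 := P.toBase.cmp_ne hnr h
    rw [map_add, map_add, map_smul, map_add, P.toBase.cmp_self hy, P.toBase.cmp_ne hnr hb,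
      P.toBase.cmp_self hp, P.toBase.cmp_ne hno hp', add_zero, add_zero] at h1
    refine hyp (Submodule.mem_span_singleton.2 ⟨1, ?_⟩)
    rw [one_smul, eq_comm, ← sub_eq_zero, ← h1]
    module
  · have h1 := P.toBase.cmp_ne (Ne.symm hjr) h
    rw [map_add, map_add, map_smul, map_add, P.toBase.cmp_ne (Ne.symm hnr) hy, P.toBase.cmp_self hb,
      P.toBase.cmp_ne (Ne.symm hnr) hp, P.toBase.cmp_ne (Ne.symm hor) hp', add_zero, smul_zero, add_zero,
      zero_add] at h1
    rw [h1, QuadraticMap.map_zero] at hqb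
    exact zero_ne_one hqb

omit hle in
/-- The stabilizer is maximal. -/
theorem PDec.maximal : Cfsg.Geo.IsMaximalIn (commutator (O q)) (Hgrp q D) := by
  refine ⟨P.proper, fun M hle hM => ?_⟩
  by_cases h : M ≤ Hgrp q D
  · exact Or.inl (le_antisymm h hle)
  refine Or.inr (le_antisymm hM ?_)
  obtain ⟨g, hgM, hg⟩ := SetLike.not_le_iff_exists.1 h
  obtain ⟨C, hC, x, hx, hout⟩ := P.exists_cls hle hM hgM hg
  exact P.commutator_le_of_root hle (P.root hle hC hx hout)

end CfsgLib.GeomClasses.OrthDecomp
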