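import Cfsg.Agent.Lib.GeomClasses.OrthDecompMax
import Cfsg.Agent.Lib.GeomClasses.OrthDecompEven
import Cfsg.Agent.Lib.GeomClasses.OrthPlaneMax

/-!
Maximality of stabilizers of orthogonal decompositions, all block dimensions from two on.
-/

set_option autoImplicit false
set_option linter.unusedSectionVars false

namespace CfsgLib.GeomClasses.OrthDecomp

open Matrix QuadraticMap CfsgLib.Orth CfsgLib.GeomClasses.OrthPair CfsgLib.Maximal.TensorTools

variable {ι : Type} [Fintype ι] [DecidableEq ι] {F : Type*} [Field F] [Fintype F]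
  {t k : ℕ} {D : Fin t → Submodule F (ι → F)} {Q : (ι → F) → F}

theorem base_of (hQ : Cfsg.Geo.IsNondegenerateQuadraticForm Q) (h7 : 7 ≤ Fintype.card ι)
    (hD : Cfsg.Geo.IsOrthogonalMDecomposition Q k D) (hk : 2 ≤ k) : Base (quadOf hQ) D k where
  nondeg := OrthTools.quadOf_nondegenerate hQ
  seven := h7
  decomp := hD.decomp.decomp
  orth i j h x hx y hy := hD.decomp.orthogonal i j h x hx y hy
  block i x hx hx0 := (hD.decomp.nondegenerate i x hx hx0).2
  isom := hD.isometric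
  two_le := hk

theorem plus_of_singular (hQ : Cfsg.Geo.IsNondegenerateQuadraticForm Q) {W : Submodule F (ι → F)}
    (hW : Module.finrank F W = 2) {u : ι → F} (hu : u ∈ W) (hu0 : u ≠ 0) (hqu : Q u = 0) :
    Cfsg.Geo.IsPlusTypeOn Q W := by
  refine ⟨Submodule.span F {u}, (Submodule.span_singleton_le_iff_mem _ _).2 hu, fun z hz => ?_, ?_⟩
  · obtain ⟨s, rfl⟩ := Submodule.mem_span_singleton.1 hz
    have h : quadOf hQ (s • u) = 0 := by
      rw [QuadraticMap.map_smul, show quadOf hQ u = 0 from hqu, smul_zero]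
    exact h
  · rw [finrank_span_singleton hu0, hW]

theorem not_card_six : Fintype.card F ≠ 6 := by
  intro h
  have h1 := FiniteField.isPrimePow_card F
  rw [h] at h1
  obtain ⟨p, n, hp, hn, hc⟩ := (isPrimePow_nat_iff _).1 h1
  have h2 : p = 2 := ((Nat.prime_dvd_prime_iff_eq Nat.prime_two hp).1
    (Nat.prime_two.dvd_of_dvd_pow (by rw [hc]; norm_num))).symm
  have h3 : p = 3 := ((Nat.prime_dvd_prime_iff_eq Nat.prime_three hp).1
    (Nat.prime_three.dvd_of_dvd_pow (by rw [hc]; norm_num))).symm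
  omega

/-- Maximality inside the matrix group, for blocks of dimension at least two; five planes or four solids suffice. -/
theorem maximal_omegaGL_small (hQ : Cfsg.Geo.IsNondegenerateQuadraticForm Q) (h7n : 7 ≤ Fintype.card ι)
    (hD : Cfsg.Geo.IsOrthogonalMDecomposition Q k D) (hk : 2 ≤ k) (h5t : k = 2 → 5 ≤ t) (h4t : k = 3 → 4 ≤ t) (hko : (2 : F) = 0 → k ≠ 3)
    (h33 : ¬ (k = 3 ∧ Fintype.card F = 3))
    (h23 : ¬ (k = 2 ∧ Fintype.card F = 3))
    (h2s : k = 2 → (∀ i, Cfsg.Geo.IsPlusTypeOn Q (D i)) →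
      ¬ (Fintype.card F = 2 ∨ Fintype.card F = 4 ∨ Fintype.card F = 5))
    (h42 : k = 4 → Fintype.card F = 2 → ¬ ∀ i, Cfsg.Geo.IsPlusTypeOn Q (D i)) :
    Cfsg.Geo.IsMaximalIn (Cfsg.Geo.omegaGL Q) (Cfsg.Geo.decompositionStabilizer D ⊓ Cfsg.Geo.omegaGL Q) := by
  classical
  have B := base_of hQ h7n hD hk
  refine OrthPair.maximal_transport hQ ?_
  have hplus : ∀ i j, Cfsg.Geo.IsPlusTypeOn Q (D i) → Cfsg.Geo.IsPlusTypeOn Q (D j) := by
    rintro i j ⟨U, hUD, hU, hr⟩
    obtain ⟨e, he⟩ := hD.isometric i j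
    refine ⟨(Submodule.comap (D i).subtype U).map ((D j).subtype.comp e.toLinearMap), ?_, ?_, ?_⟩
    · rintro _ ⟨x, -, rfl⟩
      exact (e x).2
    · rintro _ ⟨x, hx, rfl⟩
      exact (he x).trans (hU _ hx)
    · have hinj : Function.Injective ((D j).subtype.comp e.toLinearMap) := fun a b hab =>
        e.injective (Subtype.ext hab)
      rw [← (Submodule.equivMapOfInjective _ hinj _).finrank_eq,
        (Submodule.comapSubtypeEquivOfLe hUD).finrank_eq, hr, hD.decomp.decomp.finrank_eq,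
        hD.decomp.decomp.finrank_eq]
  rcases Nat.lt_or_ge k 3 with hlt | h3
  · obtain rfl : k = 2 := by omega
    refine (PDec.mk B ?_ (h5t rfl)).maximal
    have h7 := Fintype.one_lt_card (α := F)
    by_cases hsing : ∃ i, ∃ u ∈ D i, u ≠ 0 ∧ Q u = 0
    · obtain ⟨i, u, hu, hu0, hqu⟩ := hsing
      refine Or.inr ⟨fun j => ?_, ?_⟩
      · obtain ⟨e, he⟩ := hD.isometric i j
        exact ⟨(e ⟨u, hu⟩ : ι → F), Subtype.coe_prop _, fun h => hu0 (congrArg Subtype.val (e.injective
          (Subtype.ext (h.trans (by simp)) : e ⟨u, hu⟩ = e 0))), (he _).trans hqu⟩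
      · have := h2s rfl fun j => hplus i j
          (plus_of_singular hQ (hD.decomp.decomp.finrank_eq i) hu hu0 hqu)
        have := not_card_six (F := F)
        have : Fintype.card F ≠ 3 := fun h => h23 ⟨rfl, h⟩
        omega
    · push Not at hsing
      exact Or.inl ⟨fun i x hx hqx => by_contra fun h => hsing i x hx h hqx, fun h => h23 ⟨rfl, h⟩⟩
  by_cases h2 : (2 : F) = 0
  · have h4 : 4 ≤ k := by have := hko h2; omega
    refine B.maximal_even h2 h4 ?_
    by_cases hk5 : 5 ≤ k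
    · exact Or.inl hk5
    by_cases hF : 3 ≤ Fintype.card F
    · exact Or.inr (Or.inl hF)
    refine Or.inr (Or.inr fun i hi => ?_)
    have h7 := Fintype.one_lt_card (α := F)
    exact h42 (by omega) (by omega) fun j => hplus i j hi
  · exact (dec_of hQ h2 h7n hD h3 (fun h => h33 ⟨h.2, h.1⟩)).maximal

/-- Maximality inside the matrix group, for blocks of dimension at least two. -/
theorem maximal_omegaGL_all (hQ : Cfsg.Geo.IsNondegenerateQuadraticForm Q) (h13 : 13 ≤ Fintype.card ι)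
    (hD : Cfsg.Geo.IsOrthogonalMDecomposition Q k D) (hk : 2 ≤ k) (hko : (2 : F) = 0 → k ≠ 3)
    (h33 : ¬ (k = 3 ∧ Fintype.card F = 3))
    (h23 : ¬ (k = 2 ∧ Fintype.card F = 3))
    (h2s : k = 2 → (∀ i, Cfsg.Geo.IsPlusTypeOn Q (D i)) →
      ¬ (Fintype.card F = 2 ∨ Fintype.card F = 4 ∨ Fintype.card F = 5))
    (h42 : k = 4 → Fintype.card F = 2 → ¬ ∀ i, Cfsg.Geo.IsPlusTypeOn Q (D i)) :
    Cfsg.Geo.IsMaximalIn (Cfsg.Geo.omegaGL Q) (Cfsg.Geo.decompositionStabilizer D ⊓ Cfsg.Geo.omegaGL Q) := by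
  have hc := base_card hD
  exact maximal_omegaGL_small hQ (by omega) hD hk (fun h => by subst h; omega) (fun h => by subst h; omega) hko h33
    h23 h2s h42

end CfsgLib.GeomClasses.OrthDecomp
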