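import Cfsg.Agent.Lib.GeomClasses.OrthRatAxes
import Cfsg.Agent.Lib.GeomClasses.Decomp

/-!
Orthogonal decompositions into isometric non-degenerate blocks: shared tools in any characteristic.
-/

set_option autoImplicit false
set_option linter.unusedSectionVars false

namespace CfsgLib.GeomClasses.OrthDecomp

open Matrix QuadraticMap CfsgLib.Orth CfsgLib.GeomClasses.OrthEich CfsgLib.GeomClasses.OrthPair
  CfsgLib.GeomClasses.OrthRat CfsgLib.Maximal.TensorTools

variable {ι : Type} [Fintype ι] [DecidableEq ι] {F : Type*} [Field F] [Fintype F]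
  {q : QuadraticForm F (ι → F)}

/-- An orthogonal decomposition into isometric non-degenerate blocks. -/
structure Base (q : QuadraticForm F (ι → F)) {t : ℕ} (D : Fin t → Submodule F (ι → F)) (k : ℕ) : Prop where
  nondeg : q.polarBilin.Nondegenerate
  seven : 7 ≤ Fintype.card ι
  decomp : Cfsg.Geo.IsMDecomposition k D
  orth : ∀ i j, i ≠ j → ∀ x ∈ D i, ∀ y ∈ D j, polar q x y = 0
  block : ∀ i, ∀ x ∈ D i, x ≠ 0 → ∃ y ∈ D i, polar q x y ≠ 0
  isom : ∀ i j, ∃ e : D i ≃ₗ[F] D j, ∀ x : D i, q (e x : ι → F) = q (x : ι → F)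
  two_le : 2 ≤ k

section Space

variable (hq : q.polarBilin.Nondegenerate)
include hq

theorem exists_aniso {X : Submodule F (ι → F)} (hX : ∀ x ∈ X, x ≠ 0 → ∃ y ∈ X, polar q x y ≠ 0)
    (hd : 1 ≤ Module.finrank F X) : ∃ a ∈ X, q a ≠ 0 := by
  by_contra hc
  push Not at hc
  obtain ⟨x, hx, hx0⟩ := Submodule.exists_mem_ne_zero_of_ne_bot (p := X) fun h => by
    rw [h, finrank_bot] at hd; omega
  obtain ⟨y, hy, hxy⟩ := hX x hx hx0
  exact hxy (OrthClasses.polar_of_singular hc hx hy)

variable (h2 : (2 : F) ≠ 0)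
include h2

theorem perp_nondeg {X : Submodule F (ι → F)} (hX : ∀ x ∈ X, x ≠ 0 → ∃ y ∈ X, polar q x y ≠ 0) {a : ι → F}
    (ha : a ∈ X) (hqa : q a ≠ 0) :
    (∀ x ∈ X ⊓ OrthTools.orth q (Submodule.span F {a}), x ≠ 0 →
      ∃ y ∈ X ⊓ OrthTools.orth q (Submodule.span F {a}), polar q x y ≠ 0) ∧
      Module.finrank F X ≤ Module.finrank F ↥(X ⊓ OrthTools.orth q (Submodule.span F {a})) + 1 := by
  refine ⟨fun x hx hx0 => ?_, OrthTools.finrank_inf_orth hq X a⟩
  obtain ⟨hxX, hax⟩ := OrthTools.mem_inf_orth hx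
  obtain ⟨y, hy, hxy⟩ := hX x hxX hx0
  refine ⟨y - (polar q a y / (2 * q a)) • a, ⟨X.sub_mem hy (X.smul_mem _ ha), OrthTools.mem_orth.2 fun z hz => ?_⟩, ?_⟩
  · obtain ⟨s, rfl⟩ := Submodule.mem_span_singleton.1 hz
    rw [polar_smul_left, polar_sub_right, polar_smul_right, polar_self', smul_eq_mul, smul_eq_mul,
      div_mul_cancel₀ _ (mul_ne_zero h2 hqa), sub_self, mul_zero]
  · rwa [polar_sub_right, polar_smul_right, polar_comm (f := ⇑q) x a, hax, smul_zero, sub_zero]

/-- A non-degenerate subspace of dimension at least two takes every value. -/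
theorem value {X : Submodule F (ι → F)} (hX : ∀ x ∈ X, x ≠ 0 → ∃ y ∈ X, polar q x y ≠ 0)
    (hd : 2 ≤ Module.finrank F X) (c : F) : ∃ x ∈ X, q x = c := by
  obtain ⟨a, ha, hqa⟩ := exists_aniso hq hX (by omega)
  obtain ⟨hY, hYd⟩ := perp_nondeg hq h2 hX ha hqa
  obtain ⟨b, hb, hqb⟩ := exists_aniso hq hY (by omega)
  obtain ⟨hbX, hab⟩ := OrthTools.mem_inf_orth hb
  obtain ⟨x, y, hxy⟩ := exists_binary h2 hqa hqb c
  refine ⟨x • a + y • b, X.add_mem (X.smul_mem _ ha) (X.smul_mem _ hbX), ?_⟩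
  rw [QuadraticMap.map_add ⇑q, QuadraticMap.map_smul, QuadraticMap.map_smul, polar_smul_left, polar_smul_right, hab]
  simp only [smul_eq_mul, mul_zero, add_zero]
  linear_combination hxy

/-- An anisotropic vector orthogonal to a singular one. -/
theorem aniso_perp {X : Submodule F (ι → F)} (hX : ∀ x ∈ X, x ≠ 0 → ∃ y ∈ X, polar q x y ≠ 0)
    (hd : 3 ≤ Module.finrank F X) {p : ι → F} (hp : p ∈ X) (hp0 : p ≠ 0) (hqp : q p = 0) :
    ∃ b ∈ X, polar q p b = 0 ∧ q b ≠ 0 := by
  obtain ⟨r, hr, hqr, hpr⟩ := OrthTools.exists_partner hX hp hp0 hqp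
  obtain ⟨Y, hYX, hYd, hY, -, hYn⟩ := OrthClasses.remove_pair hq hX hp hr hqp hqr hpr
  obtain ⟨b, hb, hqb⟩ := exists_aniso hq hYn (by omega)
  exact ⟨b, hYX hb, (hY b hb).1, hqb⟩

end Space

theorem exists_avoid (hF : 5 ≤ Fintype.card F) (a b c : F) : ∃ s : F, s ≠ 0 ∧ s ≠ a ∧ s ≠ b ∧ s ≠ c := by
  classical
  by_contra h
  push Not at h
  have hsub : (Finset.univ : Finset F) ⊆ {0, a, b, c} := fun s _ => by
    simp only [Finset.mem_insert, Finset.mem_singleton]
    by_contra h'
    push Not at h'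
    exact h'.2.2.2 (h s h'.1 h'.2.1 h'.2.2.1)
  have h1 := Finset.card_le_card hsub
  rw [Finset.card_univ] at h1
  have h3 : Finset.card ({0, a, b, c} : Finset F) ≤ 4 := Finset.card_le_four
  omega

variable {t : ℕ} {D : Fin t → Submodule F (ι → F)} {k : ℕ} (P : Base q D k)
include P

/-- The component in a block. -/
noncomputable abbrev Base.cmp (i : Fin t) : (ι → F) →ₗ[F] (ι → F) := Decomp.comp P.decomp i

theorem Base.polar_cmp {i : Fin t} (x : ι → F) {y : ι → F} (hy : y ∈ D i) :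
    polar q x y = polar q (P.cmp i x) y :=
  Decomp.form_comp_left P.decomp (OrthSimilarity.sesq q) (fun a b hab u hu v hv => P.orth a b hab u hu v hv) x hy

theorem Base.polar_cmp' {i : Fin t} (x : ι → F) {y : ι → F} (hy : y ∈ D i) :
    polar q y x = polar q y (P.cmp i x) := by
  rw [polar_comm, P.polar_cmp x hy, polar_comm]

theorem Base.polar_sum (x y : ι → F) : polar q x y = ∑ i, polar q (P.cmp i x) (P.cmp i y) :=
  Decomp.form_eq_sum P.decomp (OrthSimilarity.sesq q) (fun a b hab u hu v hv => P.orth a b hab u hu v hv) x y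

theorem Base.q_sum (x : ι → F) : q x = ∑ i, q (P.cmp i x) := by
  classical
  have h : ∀ s : Finset (Fin t), q (∑ i ∈ s, P.cmp i x) = ∑ i ∈ s, q (P.cmp i x) := by
    intro s
    induction s using Finset.induction_on with
    | empty => simp
    | insert a s ha ih =>
      rw [Finset.sum_insert ha, Finset.sum_insert ha, QuadraticMap.map_add ⇑q, ih,
        (OrthSimilarity.sesq q).sum_right, Finset.sum_eq_zero (fun b hb =>
          P.orth a b (fun h => ha (h ▸ hb)) _ (Decomp.comp_mem P.decomp a x) _ (Decomp.comp_mem P.decomp b x)),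
        add_zero]
  rw [← h, Decomp.sum_comp]

theorem Base.card_eq : Fintype.card ι = t * k := by
  have e := (LinearEquiv.ofBijective (DirectSum.coeLinearMap D) (Decomp.isInternal P.decomp)).finrank_eq
  rw [Module.finrank_directSum, Module.finrank_fintype_fun_eq_card] at e
  simpa [P.decomp.finrank_eq] using e.symm

theorem Base.cmp_ne {i l : Fin t} (h : l ≠ i) {x : ι → F} (hx : x ∈ D i) : P.cmp l x = 0 :=
  Decomp.comp_of_mem_ne P.decomp (Ne.symm h) hx

theorem Base.cmp_self {i : Fin t} {x : ι → F} (hx : x ∈ D i) : P.cmp i x = x :=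
  Decomp.comp_of_mem P.decomp hx

theorem Base.rank (i : Fin t) : Module.finrank F (D i) = k := P.decomp.finrank_eq i

theorem Base.exists_value (i : Fin t) {c : F} (hc : c ≠ 0) : ∃ z ∈ D i, q z = c := by
  classical
  have hd : 2 ≤ Module.finrank F (D i) := by rw [P.rank]; exact P.two_le
  by_cases h2 : (2 : F) = 0
  · haveI := CfsgLib.OrthOmega.charP_two_of_two_eq_zero h2
    obtain ⟨a, ha, hqa⟩ := exists_aniso P.nondeg (P.block i) (by omega)
    obtain ⟨s, hs⟩ := FiniteField.isSquare_of_char_two (ringChar.eq F 2) (c / q a)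
    exact ⟨s • a, (D i).smul_mem _ ha, by rw [QuadraticMap.map_smul, ← hs, smul_eq_mul, div_mul_cancel₀ _ hqa]⟩
  · exact value P.nondeg h2 (P.block i) hd c

/-- The group `Ω` intersected with the stabilizer. -/
def Hgrp (q : QuadraticForm F (ι → F)) (D : Fin t → Submodule F (ι → F)) : Subgroup (O q) :=
  (Cfsg.Geo.decompositionStabilizer D).comap (O q).subtype ⊓ commutator (O q)

theorem Base.mem_H {g : O q} (hg : g ∈ commutator (O q)) (h : ∀ a, ∃ b, ∀ x ∈ D a, app g x ∈ D b) :
    g ∈ Hgrp q D :=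
  ⟨Decomp.mem_stabilizer_of_image P.decomp h, hg⟩

theorem Base.refl_block {i : Fin t} {z : ι → F} (hz : z ∈ D i) :
    (∀ a, ∀ x ∈ D a, app (refl q z) x ∈ D a) ∧ ∀ a, a ≠ i → ∀ x ∈ D a, app (refl q z) x = x := by
  have h : ∀ a, a ≠ i → ∀ x ∈ D a, app (refl q z) x = x := fun a ha x hx =>
    app_refl_of_ortho (P.orth a i ha x hx z hz)
  refine ⟨fun a x hx => ?_, h⟩
  by_cases ha : a = i
  · subst ha
    rw [app_refl]
    exact (D a).sub_mem hx ((D a).smul_mem _ hz)
  · rwa [h a ha x hx]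

theorem Base.pair_block {i j : Fin t} {x y : ι → F} (hx : x ∈ D i) (hy : y ∈ D j) (hqx : q x ≠ 0) (hxy : q x = q y) :
    refl q x * refl q y ∈ Hgrp q D :=
  P.mem_H (pair_mem P.nondeg P.seven hqx hxy) fun a => ⟨a, fun z hz => by
    rw [app_mul]; exact (P.refl_block hx).1 a _ ((P.refl_block hy).1 a z hz)⟩

theorem Base.eich_block {i : Fin t} {u a : ι → F} (hu : u ∈ D i) (ha : a ∈ D i) (hqu : q u = 0)
    (hua : polar q u a = 0) : eich q u a ∈ Hgrp q D :=
  P.mem_H (eich_mem P.nondeg P.seven hqu hua) fun b => ⟨b, fun x hx => by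
    rw [app_eich hqu hua]
    by_cases hb : b = i
    · subst hb
      exact (D b).add_mem ((D b).add_mem hx ((D b).smul_mem _ ha)) ((D b).smul_mem _ hu)
    · rw [P.orth b i hb x hx u hu, P.orth b i hb x hx a ha]
      simpa using hx⟩

/-- An element of the stabilizer interchanging two blocks, correcting in a third. -/
theorem Base.exists_move (l m r : Fin t) :
    ∃ w ∈ Hgrp q D, (∀ a, ∀ x ∈ D a, app w x ∈ D (Equiv.swap l m a)) ∧
      ∀ a, a ≠ l → a ≠ m → a ≠ r → ∀ x ∈ D a, app w x = x := by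
  classical
  set σ := Equiv.swap l m with hσ
  obtain ⟨e, he⟩ := P.isom l m
  let L : Fin t → (ι → F) →ₗ[F] (ι → F) := fun a =>
    if a = l ∧ l ≠ m then (D m).subtype ∘ₗ e.toLinearMap ∘ₗ
      LinearMap.codRestrict (D l) (P.cmp l) (fun x => Decomp.comp_mem P.decomp l x)
    else if a = m ∧ l ≠ m then (D l).subtype ∘ₗ e.symm.toLinearMap ∘ₗ
      LinearMap.codRestrict (D m) (P.cmp m) (fun x => Decomp.comp_mem P.decomp m x)
    else P.cmp a
  have hL : ∀ a x, L a x ∈ D (σ a) := by
    intro a x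
    simp only [L]
    split_ifs with h1 h3
    · rw [h1.1, hσ, Equiv.swap_apply_left]; exact Subtype.coe_prop _
    · rw [h3.1, hσ, Equiv.swap_apply_right]; exact Subtype.coe_prop _
    · have : σ a = a := by
        by_cases hlm : l = m
        · rw [hσ, hlm, Equiv.swap_self]; rfl
        · exact Equiv.swap_apply_of_ne_of_ne (fun h => h1 ⟨h, hlm⟩) fun h => h3 ⟨h, hlm⟩
      rw [this]; exact Decomp.comp_mem P.decomp a x
  have hLcomp : ∀ a x, L a x = L a (P.cmp a x) := by
    intro a x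
    have hid : P.cmp a (P.cmp a x) = P.cmp a x := Decomp.comp_of_mem P.decomp (Decomp.comp_mem P.decomp a x)
    simp only [L]
    split_ifs with h1 h3
    · obtain ⟨rfl, -⟩ := h1
      simp only [LinearMap.comp_apply]
      congr 2
      exact Subtype.ext hid.symm
    · obtain ⟨rfl, -⟩ := h3
      simp only [LinearMap.comp_apply]
      congr 2
      exact Subtype.ext hid.symm
    · exact hid.symm
  have hLL : ∀ a x, L (σ a) (L a x) = P.cmp a x := by
    intro a x
    by_cases hlm : l = m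
    · have e1 : σ a = a := by rw [hσ, hlm, Equiv.swap_self]; rfl
      rw [e1]
      simp only [L, hlm, ne_eq, not_true_eq_false, and_false, if_false]
      exact Decomp.comp_of_mem P.decomp (Decomp.comp_mem P.decomp a x)
    have bl : ∀ z, L l z = (e ⟨P.cmp l z, Decomp.comp_mem P.decomp l z⟩ : ι → F) := fun z => by
      simp only [L]
      rw [if_pos (by simp [hlm])]
      rfl
    have bm : ∀ z, L m z = (e.symm ⟨P.cmp m z, Decomp.comp_mem P.decomp m z⟩ : ι → F) := fun z => by
      simp only [L]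
      rw [if_neg (fun h => hlm h.1.symm), if_pos (by simp [hlm])]
      rfl
    by_cases h1 : a = l
    · subst h1
      rw [hσ, Equiv.swap_apply_left, bl, bm]
      have : ∀ y : D a, (⟨P.cmp m (e y : ι → F), Decomp.comp_mem P.decomp m _⟩ : D m) = e y := fun y =>
        Subtype.ext (Decomp.comp_of_mem P.decomp (e y).2)
      rw [this, LinearEquiv.symm_apply_apply]
    by_cases h3 : a = m
    · subst h3
      rw [hσ, Equiv.swap_apply_right, bm, bl]
      have : ∀ y : D a, (⟨P.cmp l (e.symm y : ι → F), Decomp.comp_mem P.decomp l _⟩ : D l) = e.symm y := fun y =>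
        Subtype.ext (Decomp.comp_of_mem P.decomp (e.symm y).2)
      rw [this, LinearEquiv.apply_symm_apply]
    · rw [hσ, Equiv.swap_apply_of_ne_of_ne h1 h3]
      simp only [L, h1, h3, false_and, if_false]
      exact Decomp.comp_of_mem P.decomp (Decomp.comp_mem P.decomp a x)
  let T : (ι → F) →ₗ[F] (ι → F) := ∑ a, L a
  have hT : ∀ x, T x = ∑ a, L a x := fun x => by simp [T]
  have hcomp : ∀ x a, P.cmp (σ a) (T x) = L a x := by
    intro x a
    rw [hT, map_sum, Finset.sum_eq_single a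
      (fun b _ hb => Decomp.comp_of_mem_ne P.decomp (σ.injective.ne hb) (hL b x)) (by simp)]
    exact Decomp.comp_of_mem P.decomp (hL a x)
  have hTT : T.comp T = LinearMap.id := by
    refine LinearMap.ext fun x => Decomp.eq_of_comp P.decomp fun a => ?_
    have h1 : σ (σ a) = a := by rw [hσ]; exact Equiv.swap_apply_self l m a
    calc P.cmp a (T (T x)) = P.cmp (σ (σ a)) (T (T x)) := by rw [h1]
      _ = L (σ a) (T x) := hcomp _ _
      _ = L (σ a) (L a x) := by rw [hLcomp, hcomp]
      _ = P.cmp a x := hLL a x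
  have hself : ∀ a x, q (L a x) = q (P.cmp a x) := by
    intro a x
    have he' : ∀ y : D m, q (e.symm y : ι → F) = q (y : ι → F) := fun y => by
      have := he (e.symm y)
      rw [LinearEquiv.apply_symm_apply] at this
      exact this.symm
    simp only [L]
    split_ifs with h1 h3
    · obtain ⟨rfl, -⟩ := h1
      exact he _
    · obtain ⟨rfl, -⟩ := h3
      exact he' _
    · rfl
  have hQ : ∀ x, q (T x) = q x := by
    intro x
    rw [P.q_sum, P.q_sum x, ← Equiv.sum_comp σ]
    exact Finset.sum_congr rfl fun a _ => by rw [hcomp, hself]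
  set g : O q := mkO T T hTT hTT hQ with hg
  have hgapp : ∀ a, ∀ x ∈ D a, app g x = L a x := by
    intro a x hx
    rw [hg, app_mkO, hT, Finset.sum_eq_single a (fun b _ hb => by
      rw [hLcomp, show P.cmp b x = 0 from Decomp.comp_of_mem_ne P.decomp (Ne.symm hb) hx, map_zero]) (by simp)]
  -- correction inside the block r
  have hρ : ∀ h : O q, ∃ ρ : O q, h * ρ ∈ commutator (O q) ∧ (∀ a, a ≠ r → ∀ x ∈ D a, app ρ x = x) ∧
      ∀ x ∈ D r, app ρ x ∈ D r := by
    intro h
    have hh : h ∈ reflClosure q := by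
      rw [reflClosure_eq_top P.nondeg (Or.inr (by have := P.seven; omega))]; trivial
    have step : ∀ z (y ρ : O q), y * ρ ∈ commutator (O q) → (∀ a, a ≠ r → ∀ x ∈ D a, app ρ x = x) →
        (∀ x ∈ D r, app ρ x ∈ D r) → ∃ ρ' : O q, refl q z * y * ρ' ∈ commutator (O q) ∧
          (∀ a, a ≠ r → ∀ x ∈ D a, app ρ' x = x) ∧ ∀ x ∈ D r, app ρ' x ∈ D r := by
      intro z y ρ hy h1 h3
      by_cases hz : q z = 0
      · exact ⟨ρ, by rwa [refl_eq_one hz, one_mul], h1, h3⟩
      obtain ⟨z₀, hz₀, hqz₀⟩ := P.exists_value r hz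
      refine ⟨ρ * refl q z₀, ?_, fun a ha x hx => by
        rw [app_mul, (P.refl_block hz₀).2 a ha x hx, h1 a ha x hx],
        fun x hx => by rw [app_mul]; exact h3 _ ((P.refl_block hz₀).1 r x hx)⟩
      have e1 : refl q z * y * (ρ * refl q z₀) =
          refl q z * (y * ρ) * (refl q z)⁻¹ * (refl q z * refl q z₀) := by group
      rw [e1]
      exact mul_mem ((show (commutator (O q)).Normal from inferInstance).conj_mem _ hy _)
        (pair_mem P.nondeg P.seven hz hqz₀.symm)
    induction hh using Subgroup.closure_induction_left with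
    | one => exact ⟨1, by simp, fun a _ x _ => app_one x, fun x hx => by rwa [app_one]⟩
    | mul_left x hx y _ ih =>
      obtain ⟨z, rfl⟩ := hx
      obtain ⟨ρ, h1, h3, h4⟩ := ih
      exact step z y ρ h1 h3 h4
    | inv_mul_cancel x hx y _ ih =>
      obtain ⟨z, rfl⟩ := hx
      obtain ⟨ρ, h1, h3, h4⟩ := ih
      rw [refl_inv]
      exact step z y ρ h1 h3 h4
  obtain ⟨ρ, hC, hfix, hkeep⟩ := hρ g
  have hmove : ∀ a, ∀ x ∈ D a, app (g * ρ) x ∈ D (σ a) := by
    intro a x hx
    rw [app_mul]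
    by_cases ha : a = r
    · subst ha
      rw [hgapp a _ (hkeep x hx)]; exact hL a _
    · rw [hfix a ha x hx, hgapp a x hx]; exact hL a x
  refine ⟨g * ρ, P.mem_H hC fun a => ⟨σ a, hmove a⟩, hmove, fun a hal ham har x hx => ?_⟩
  rw [app_mul, hfix a har x hx, hgapp a x hx]
  simp only [L, hal, ham, false_and, if_false]
  exact Decomp.comp_of_mem P.decomp hx

/-! ### Axes -/

/-- A root element leaving the blocks. -/
def Goal (D : Fin t → Submodule F (ι → F)) (M : Subgroup (O q)) : Prop :=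
  ∃ i, ∃ u ∈ D i, ∃ w, u ≠ 0 ∧ q u = 0 ∧ w ∉ D i ∧ w ∈ {X | polar q u X = 0 ∧ eich q u X ∈ M}

omit P in
theorem axes_smul_self {M : Subgroup (O q)} {u : ι → F} (hu : q u = 0) (s : F) : s • u ∈ axes M hu :=
  ⟨by rw [polar_smul_right, polar_self', hu]; simp, by rw [eich_smul_self hu]; exact M.one_mem⟩

omit P in
theorem axes_conj {M : Subgroup (O q)} {g : O q} (hg : g ∈ M) {u : ι → F} (hu : q u = 0) {X : ι → F}
    (hX : X ∈ axes M hu) : app g X ∈ axes M (show q (app g u) = 0 by rw [Q_app, hu]) := by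
  refine ⟨by rw [polar_app, hX.1], ?_⟩
  rw [← eich_conj hu hX.1]
  exact M.mul_mem (M.mul_mem hg hX.2) (M.inv_mem hg)

omit P in
/-- Transport of an axis along an element of `M`. -/
theorem axes_move {M : Subgroup (O q)} {g : O q} (hg : g ∈ M) {u u' : ι → F} (hu : q u = 0) (hu' : q u' = 0)
    (he : app g u = u') {X : ι → F} (hX : X ∈ axes M hu) : app g X ∈ axes M hu' := by
  subst he
  exact axes_conj hg hu hX


variable {M : Subgroup (O q)} (hle : Hgrp q D ≤ M)
include hle

theorem Base.goal_of_singular {i : Fin t} {v p : ι → F} (hv : q v = 0) (hvi : v ∉ D i) (hp : p ∈ D i)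
    (hp0 : p ≠ 0) (hqp : q p = 0) (hpA : p ∈ axes M hv) : Goal D M := by
  refine ⟨i, p, hp, -v, hp0, hqp, fun h => hvi (by simpa using (D i).neg_mem h), ?_, ?_⟩
  · rw [polar_neg_right, polar_comm, hpA.1, neg_zero]
  · rw [← eich_swap hv hqp hpA.1]; exact hpA.2

/-- The displacement of an axis under a root element of a block fixing the centre. -/
theorem Base.diff_mem {i : Fin t} {u X p b : ι → F} (hu : q u = 0) (hX : X ∈ axes M hu) (hp : p ∈ D i)
    (hb : b ∈ D i) (hqp : q p = 0) (hpb : polar q p b = 0) (hup : polar q u p = 0) (hub : polar q u b = 0) :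
    polar q X p • b + (-polar q X b - q b * polar q X p) • p ∈ axes M hu := by
  obtain ⟨huX, hXM⟩ := hX
  have hh := hle (P.eich_block hp hb hqp hpb)
  have hfix : app (eich q p b) u = u := by rw [app_eich hqp hpb, hup, hub]; simp
  have h1 := M.mul_mem (M.mul_mem hh hXM) (M.inv_mem hh)
  rw [eich_conj hu huX, hfix] at h1
  have h2 : app (eich q p b) X ∈ axes M hu := ⟨by rw [← hfix, polar_app, huX], h1⟩
  have h3 := (axes M hu).sub_mem h2 (show X ∈ axes M hu from ⟨huX, hXM⟩)
  rwa [app_eich hqp hpb, add_assoc, add_sub_cancel_left] at h3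

end CfsgLib.GeomClasses.OrthDecomp
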