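import Cfsg.Agent.Lib.GeomClasses.OrthDecompBase

/-!
The vectors whose reflection differs from a block reflection by an element of the group.
-/

set_option autoImplicit false
set_option linter.unusedSectionVars false

namespace CfsgLib.GeomClasses.OrthDecomp

open Matrix QuadraticMap CfsgLib.Orth CfsgLib.GeomClasses.OrthEich CfsgLib.GeomClasses.OrthPair
  CfsgLib.GeomClasses.OrthRat CfsgLib.Maximal.TensorTools

variable {ι : Type} [Fintype ι] [DecidableEq ι] {F : Type*} [Field F] [Fintype F]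
  {q : QuadraticForm F (ι → F)} {t : ℕ} {D : Fin t → Submodule F (ι → F)} {k : ℕ}

/-- The vectors of value `C` whose reflection is congruent modulo `M` to the block reflections of value `C`. -/
def Cls (D : Fin t → Submodule F (ι → F)) (M : Subgroup (O q)) (C : F) : Set (ι → F) :=
  {z | q z = C ∧ ∀ i, ∀ a ∈ D i, q a = C → refl q z * refl q a ∈ M}

variable (P : Base q D k)
include P

theorem Base.two_blocks : ∃ i l : Fin t, l ≠ i := by
  have h2 := P.decomp.two_le
  exact ⟨⟨0, by omega⟩, ⟨1, by omega⟩, by simp⟩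

theorem Base.mem_D_of_mem_H {g : O q} (hg : g ∈ Hgrp q D) (i : Fin t) :
    ∃ j, ∀ x ∈ D i, app g x ∈ D j := by
  obtain ⟨σ, hσ⟩ := hg.1
  refine ⟨σ i, fun x hx => ?_⟩
  rw [← hσ i]
  exact ⟨x, hx, by rw [Matrix.toLin'_apply]; rfl⟩

variable {M : Subgroup (O q)} (hle : Hgrp q D ≤ M) {C : F} (hC : C ≠ 0)
include hle hC

theorem Base.cls_of_one {z a : ι → F} {i : Fin t} (hz : q z = C) (ha : a ∈ D i) (hqa : q a = C)
    (h : refl q z * refl q a ∈ M) : z ∈ Cls D M C := by
  refine ⟨hz, fun l b hb hqb => ?_⟩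
  have h1 := M.mul_mem h (hle (P.pair_block ha hb (hqa ▸ hC) (hqa.trans hqb.symm)))
  rwa [mul_assoc, ← mul_assoc (refl q a), refl_mul_self, one_mul] at h1

theorem Base.block_mem_cls {i : Fin t} {a : ι → F} (ha : a ∈ D i) (hqa : q a = C) : a ∈ Cls D M C :=
  P.cls_of_one hle hC hqa ha hqa (by rw [refl_mul_self]; exact M.one_mem)

theorem Base.cls_pair {x y : ι → F} (hx : x ∈ Cls D M C) (hy : y ∈ Cls D M C) : refl q x * refl q y ∈ M := by
  obtain ⟨i, -, -⟩ := P.two_blocks
  obtain ⟨a, ha, hqa⟩ := P.exists_value i hC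
  have h1 := M.mul_mem (hx.2 i a ha hqa) (M.inv_mem (hy.2 i a ha hqa))
  rwa [_root_.mul_inv_rev, refl_inv, refl_inv, mul_assoc, ← mul_assoc (refl q a), refl_mul_self, one_mul] at h1

/-- Reflecting one member in another gives a member. -/
theorem Base.cls_refl {x y : ι → F} (hx : x ∈ Cls D M C) (hy : y ∈ Cls D M C) :
    app (refl q y) x ∈ Cls D M C := by
  obtain ⟨i, -, -⟩ := P.two_blocks
  obtain ⟨a, ha, hqa⟩ := P.exists_value i hC
  have hq : q (app (refl q y) x) = C := by rw [Q_app, hx.1]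
  refine P.cls_of_one hle hC hq ha hqa ?_
  have hrew : refl q (app (refl q y) x) = refl q y * refl q x * refl q y := by
    rw [← refl_conj, refl_inv]
  have h1 := M.mul_mem (M.mul_mem (P.cls_pair hle hC hy hx) (hy.2 i a ha hqa)) M.one_mem
  rwa [mul_one, ← mul_assoc, ← hrew] at h1

/-- An element of `M` mapping a block vector to a block vector preserves membership. -/
theorem Base.cls_app {g : O q} (hg : g ∈ M) {i j : Fin t} {c z : ι → F} (hc : c ∈ D i) (hqc : q c = C)
    (hgc : app g c ∈ D j) (hz : z ∈ Cls D M C) : app g z ∈ Cls D M C := by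
  refine P.cls_of_one hle hC (by rw [Q_app, hz.1]) hgc (by rw [Q_app, hqc]) ?_
  have h1 := M.mul_mem (M.mul_mem hg (hz.2 i c hc hqc)) (M.inv_mem hg)
  rw [← refl_conj, ← refl_conj]
  convert h1 using 1
  group

theorem Base.cls_app_H {g : O q} (hg : g ∈ Hgrp q D) {z : ι → F} (hz : z ∈ Cls D M C) :
    app g z ∈ Cls D M C := by
  obtain ⟨i, -, -⟩ := P.two_blocks
  obtain ⟨a, ha, hqa⟩ := P.exists_value i hC
  obtain ⟨j, hj⟩ := P.mem_D_of_mem_H hg i
  exact P.cls_app hle hC (hle hg) ha hqa (hj a ha) hz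

/-- Two members differing by a singular vector give a root element. -/
theorem Base.cls_root {x y : ι → F} (hx : x ∈ Cls D M C) (hy : y ∈ Cls D M C) (hu : q (y - x) = 0) :
    polar q (y - x) x = 0 ∧ eich q (C⁻¹ • (y - x)) x ∈ M := by
  have hxy : polar q y x = 2 * C := by
    have h : q y - polar q y x + q x = 0 := by
      rw [← hu, sub_eq_add_neg y x, QuadraticMap.map_add ⇑q, QuadraticMap.map_neg, polar_neg_right]; ring
    rw [hx.1, hy.1] at h
    linear_combination -h
  have h1 : polar q (y - x) x = 0 := by rw [polar_sub_left, hxy, polar_self', hx.1]; ring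
  refine ⟨h1, ?_⟩
  have hqu : q (C⁻¹ • (y - x)) = 0 := by rw [QuadraticMap.map_smul, hu, smul_zero]
  have hux : polar q (C⁻¹ • (y - x)) x = 0 := by rw [polar_smul_left, h1, smul_zero]
  rw [eich_eq_refl_mul hqu hux (by rw [hx.1]; exact hC), hx.1, smul_smul, mul_inv_cancel₀ hC, one_smul,
    add_sub_cancel]
  exact P.cls_pair hle hC hx hy

end CfsgLib.GeomClasses.OrthDecomp
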