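import Cfsg.Agent.Lib.GeomClasses.OrthDecomp

/-!
A scalable axis at a centre with several components gives a root element leaving the blocks.
-/

set_option autoImplicit false
set_option linter.unusedSectionVars false

namespace CfsgLib.GeomClasses.OrthDecomp

open Matrix QuadraticMap CfsgLib.Orth CfsgLib.GeomClasses.OrthEich CfsgLib.GeomClasses.OrthPair
  CfsgLib.GeomClasses.OrthRat CfsgLib.Maximal.TensorTools

variable {ι : Type} [Fintype ι] [DecidableEq ι] {F : Type*} [Field F] [Fintype F]
  {q : QuadraticForm F (ι → F)}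

variable {t : ℕ} {D : Fin t → Submodule F (ι → F)} {k : ℕ} (P : Dec q D k)
include P

/-- An element of a block changing the component of a vector, with prescribed pairing. -/
theorem Dec.exists_turn {l : Fin t} {v : ι → F} (hl : q (P.cmp l v) ≠ 0) (hv : q v = 0) {β : F} (hβ : β ≠ 0) :
    ∃ h ∈ Hgrp q D, polar q (app h v) v = β ∧ (∀ x, P.cmp l x = 0 → app h x = x) ∧
      ∀ a, a ≠ l → P.cmp a (app h v) = P.cmp a v := by
  set p := P.cmp l v with hp
  have hpD : p ∈ D l := Decomp.comp_mem P.decomp l v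
  set V := q p with hV
  have hk : 3 ≤ Module.finrank F (D l) := by rw [P.rank]; exact P.three
  obtain ⟨hY, hYd⟩ := perp_nondeg P.nondeg P.two (P.block l) hpD hl
  set r : F := 1 + β / (2 * V) with hr
  obtain ⟨σ, hσ, hqσ⟩ := value P.nondeg P.two hY (by omega) (V * (1 - r ^ 2))
  obtain ⟨hσD, hpσ⟩ := OrthTools.mem_inf_orth hσ
  set z := r • p + σ with hz
  have hzD : z ∈ D l := (D l).add_mem ((D l).smul_mem _ hpD) hσD
  have hqz : q z = V := by
    rw [hz, QuadraticMap.map_add ⇑q, QuadraticMap.map_smul, polar_smul_left, hpσ, hqσ, ← hV]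
    simp only [smul_eq_mul]
    ring
  have h2V : 2 * V ≠ 0 := mul_ne_zero P.two hl
  have hpz : polar q p z = 2 * V + β := by
    rw [hz, polar_add_right, polar_smul_right, hpσ, polar_self', ← hV, hr, smul_eq_mul, add_zero, add_mul, one_mul,
      div_mul_cancel₀ _ h2V]
  set x := p - z with hx
  have hxD : x ∈ D l := (D l).sub_mem hpD hzD
  have hqx : q x = -β := by
    rw [hx, sub_eq_add_neg, QuadraticMap.map_add ⇑q, QuadraticMap.map_neg, polar_neg_right, hpz, hqz, ← hV]
    ring
  obtain ⟨hW, hWd⟩ := perp_nondeg P.nondeg P.two (P.block l) hzD (by rw [hqz]; exact hl)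
  obtain ⟨y, hy, hqy⟩ := value P.nondeg P.two hW (by omega) (-β)
  obtain ⟨hyD, hzy⟩ := OrthTools.mem_inf_orth hy
  have hβ' : -β ≠ 0 := neg_ne_zero.2 hβ
  have hmain : app (refl q y * refl q x) v = v - x := by
    have h1 : polar q v x = -β := by
      rw [P.polar_cmp v hxD, ← hp, hx, polar_sub_right, polar_self', hpz, ← hV]; ring
    rw [app_mul, app_refl x v, h1, hqx, inv_mul_cancel₀ hβ', one_smul]
    refine app_refl_of_ortho ?_
    rw [polar_sub_left, P.polar_cmp v hyD, ← hp, ← polar_sub_left, hx, sub_sub_cancel, hzy]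
  refine ⟨refl q y * refl q x, P.pair_block hyD hxD (by rwa [hqy]) (by rw [hqx, hqy]), ?_, fun w hw => ?_,
    fun a ha => ?_⟩
  · rw [hmain, polar_sub_left, polar_self', hv, polar_comm (f := ⇑q) x v, P.polar_cmp v hxD, ← hp, hx,
      polar_sub_right, polar_self', hpz, ← hV]
    ring
  · have hort : ∀ z ∈ D l, polar q w z = 0 := fun z hz => by rw [P.polar_cmp w hz, hw, polar_zero_left]
    rw [app_mul, app_refl_of_ortho (hort x hxD), app_refl_of_ortho (hort y hyD)]
  · rw [hmain, map_sub, P.cmp_ne ha hxD, sub_zero]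

variable {M : Subgroup (O q)} (hle : Hgrp q D ≤ M)
include hle

omit hle in
/-- Moving the centre and conjugating by a root element. -/
theorem Dec.double_move {v c : ι → F} (hv : q v = 0) (hc : c ∈ axes M hv) {h : O q} (hh : h ∈ M)
    (hfix : app h c = c) {v' : ι → F}
    (he : v' = app h v + polar q (app h v) v • c + (-(q c * polar q (app h v) v)) • v) :
    ∃ hv' : q v' = 0, (v ≠ 0 → v' ≠ 0) ∧
      ∀ s : F, s • c ∈ axes M hv → s • (c - (2 * q c) • v) ∈ axes M hv' := by
  have hvc : polar q v c = 0 := hc.1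
  have h1 : polar q (app h v) c = 0 := by
    conv_lhs => arg 3; rw [← hfix]
    rw [polar_app, hvc]
  have e1 : app (eich q v c) (app h v) = v' := by
    rw [app_eich hv hvc, h1, he, neg_zero, zero_sub]
  have e2 : app (eich q v c) c = c - (2 * q c) • v := by
    rw [app_eich hv hvc, polar_comm (f := ⇑q) c v, hvc, polar_self', zero_smul, mul_zero, add_zero]
    module
  have hv' : q v' = 0 := by rw [← e1, Q_app, Q_app, hv]
  refine ⟨hv', fun h0 h' => h0 ?_, fun s hs => ?_⟩
  · rw [h', ← map_zero (app (eich q v c))] at e1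
    have := app_injective _ e1
    rw [← map_zero (app h)] at this
    exact app_injective _ this
  · have h2 := axes_move hh hv (show q (app h v) = 0 by rw [Q_app, hv]) rfl hs
    rw [map_smul, hfix] at h2
    have h3 := axes_move hc.2 _ hv' e1 h2
    rwa [map_smul, e2] at h3

/-- A singular component and an independent component of the axis. -/
theorem Dec.case_singular {i : Fin t} {v c : ι → F} (hv : q v = 0) (hvD : v ∉ D i) (hvi : q (P.cmp i v) = 0)
    (hvi0 : P.cmp i v ≠ 0) (hc : c ∈ axes M hv) (hci : P.cmp i c ∉ Submodule.span F {P.cmp i v}) :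
    Goal D M := by
  set p := P.cmp i v with hp
  have hpD : p ∈ D i := Decomp.comp_mem P.decomp i v
  have hvp : ∀ b ∈ D i, polar q v b = polar q p b := fun b hb => P.polar_cmp v hb
  have hvp0 : polar q v p = 0 := by rw [hvp p hpD, polar_self', hvi, mul_zero]
  refine P.goal_of_singular hle hv hvD hpD hvi0 hvi ?_
  by_cases h1 : polar q c p = 0
  · obtain ⟨a, ha0, ha1⟩ := exists_polar_eq_zero_one P.nondeg hci
    have hbD : P.cmp i a ∈ D i := Decomp.comp_mem P.decomp i a
    have hpb : polar q p (P.cmp i a) = 0 := by rw [← P.polar_cmp' a hpD, ha0]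
    have hcb : polar q c (P.cmp i a) = 1 := by
      rw [P.polar_cmp c hbD, ← P.polar_cmp' a (Decomp.comp_mem P.decomp i c), ha1]
    have h := P.diff_mem hle hv hc hpD hbD hvi hpb hvp0 (by rw [hvp _ hbD, hpb])
    rw [h1, hcb] at h
    simpa using (axes M hv).neg_mem h
  · obtain ⟨b, hb, hpb, hqb⟩ := aniso_perp P.nondeg P.two (P.block i) (by rw [P.rank]; exact P.three) hpD hvi0 hvi
    have h := P.line_mem hle hv hc hpD hb hvi hpb hvp0 (by rw [hvp b hb, hpb]) hqb (polar q c p)⁻¹
    rwa [inv_mul_cancel₀ h1, one_smul] at h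

omit hle in
theorem Dec.exists_pairing_perp {i : Fin t} {v c : ι → F} (hvi : q (P.cmp i v) ≠ 0)
    (hci : P.cmp i c ∉ Submodule.span F {P.cmp i v}) :
    ∃ y ∈ D i ⊓ OrthTools.orth q (Submodule.span F {P.cmp i v}), polar q c y ≠ 0 := by
  set p := P.cmp i v with hp
  have hpD : p ∈ D i := Decomp.comp_mem P.decomp i v
  obtain ⟨hY, -⟩ := perp_nondeg P.nondeg P.two (P.block i) hpD hvi
  set μ := polar q p (P.cmp i c) / (2 * q p) with hμ
  set π := P.cmp i c - μ • p with hπ
  have hπY : π ∈ D i ⊓ OrthTools.orth q (Submodule.span F {p}) := by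
    refine ⟨(D i).sub_mem (Decomp.comp_mem P.decomp i c) ((D i).smul_mem _ hpD), OrthTools.mem_orth.2 fun z hz => ?_⟩
    obtain ⟨s, rfl⟩ := Submodule.mem_span_singleton.1 hz
    rw [polar_smul_left, hπ, polar_sub_right, polar_smul_right, polar_self', smul_eq_mul, hμ,
      smul_eq_mul, div_mul_cancel₀ _ (mul_ne_zero P.two hvi), sub_self, mul_zero]
  have hπ0 : π ≠ 0 := fun h => hci (by
    rw [hπ, sub_eq_zero] at h
    exact h ▸ Submodule.smul_mem _ _ (Submodule.mem_span_singleton_self _))
  obtain ⟨y, hy, hπy⟩ := hY π hπY hπ0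
  obtain ⟨hyD, hpy⟩ := OrthTools.mem_inf_orth hy
  refine ⟨y, hy, ?_⟩
  rwa [hπ, polar_sub_left, polar_smul_left, hpy, smul_zero, sub_zero, ← P.polar_cmp c hyD] at hπy

/-- An anisotropic component with an independent component of the axis, for blocks of dimension at least four. -/
theorem Dec.case_four (hk : 4 ≤ k) {i : Fin t} {v c : ι → F} (hv : q v = 0) (hvD : v ∉ D i)
    (hvi : q (P.cmp i v) ≠ 0) (hc : c ∈ axes M hv) (hci : P.cmp i c ∉ Submodule.span F {P.cmp i v}) :
    Goal D M := by
  set p := P.cmp i v with hp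
  have hpD : p ∈ D i := Decomp.comp_mem P.decomp i v
  obtain ⟨hY, hYd⟩ := perp_nondeg P.nondeg P.two (P.block i) hpD hvi
  rw [P.rank] at hYd
  obtain ⟨y, hy, hcy⟩ := P.exists_pairing_perp hvi hci
  obtain ⟨w, hw, hqw, hcw⟩ := exists_singular_pairing P.nondeg hY (by omega) hy hcy
  have hw0 : w ≠ 0 := fun h => hcw (by rw [h, polar_zero_right])
  obtain ⟨b, hb, hwb, hqb⟩ := aniso_perp P.nondeg P.two hY (by omega) hw hw0 hqw
  obtain ⟨hwD, hpw⟩ := OrthTools.mem_inf_orth hw
  obtain ⟨hbD, hpb⟩ := OrthTools.mem_inf_orth hb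
  have h := P.line_mem hle hv hc hwD hbD hqw hwb (by rw [P.polar_cmp v hwD, hpw]) (by rw [P.polar_cmp v hbD, hpb])
    hqb (polar q c w)⁻¹
  rw [inv_mul_cancel₀ hcw, one_smul] at h
  exact P.goal_of_singular hle hv hvD hwD hw0 hqw h

/-- An anisotropic component with an independent component gives a line of axes in the block. -/
theorem Dec.exists_delta (hF : 5 ≤ Fintype.card F) {i : Fin t} {v c : ι → F} (hv : q v = 0) (hvD : v ∉ D i)
    (hvi : q (P.cmp i v) ≠ 0) (hc : ∀ s : F, s • c ∈ axes M hv)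
    (hci : P.cmp i c ∉ Submodule.span F {P.cmp i v}) :
    Goal D M ∨ ∃ d ∈ D i, q d ≠ 0 ∧ polar q v d = 0 ∧ ∀ s : F, s • d ∈ axes M hv := by
  set p := P.cmp i v with hp
  have hpD : p ∈ D i := Decomp.comp_mem P.decomp i v
  obtain ⟨hY, hYd⟩ := perp_nondeg P.nondeg P.two (P.block i) hpD hvi
  rw [P.rank] at hYd
  have h3 := P.three
  obtain ⟨x, hx, hqx, hcx⟩ : ∃ x ∈ D i ⊓ OrthTools.orth q (Submodule.span F {p}), q x ≠ 0 ∧ polar q c x ≠ 0 := by
    obtain ⟨y, hy, hcy⟩ := P.exists_pairing_perp hvi hci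
    by_cases hqy : q y = 0
    · obtain ⟨r, hr, hqr, hyr⟩ := OrthTools.exists_partner hY hy
        (fun h => hcy (by rw [h, polar_zero_right])) hqy
      obtain ⟨s, hs0, hs, -, -⟩ := exists_avoid hF (-(polar q c r / polar q c y)) 0 0
      refine ⟨r + s • y, Submodule.add_mem _ hr (Submodule.smul_mem _ _ hy), ?_, ?_⟩
      · rw [QuadraticMap.map_add ⇑q, QuadraticMap.map_smul, hqr, hqy, polar_smul_right, polar_comm (f := ⇑q) r y,
          hyr]
        simpa using hs0
      · rw [polar_add_right, polar_smul_right, smul_eq_mul]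
        intro h0
        exact hs (by field_simp; linear_combination h0)
    · exact ⟨y, hy, hqy, hcy⟩
  obtain ⟨hW, hWd⟩ := perp_nondeg P.nondeg P.two hY hx hqx
  obtain ⟨z, hz, hqz⟩ := exists_aniso P.nondeg hW (by omega)
  obtain ⟨hzY, hxz⟩ := OrthTools.mem_inf_orth hz
  set A := q x with hA
  set Z := q z with hZ
  obtain ⟨s, hs0, hs⟩ : ∃ s : F, s ≠ 0 ∧ Z * s ^ 2 + A ≠ 0 := by
    by_cases hr : ∃ r : F, Z * r ^ 2 + A = 0
    · obtain ⟨r, hr⟩ := hr
      obtain ⟨s, hs0, h1, h2, -⟩ := exists_avoid hF r (-r) 0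
      refine ⟨s, hs0, fun h => ?_⟩
      have : (s - r) * (s + r) = 0 := mul_left_cancel₀ hqz (by linear_combination h - hr)
      rcases mul_eq_zero.1 this with h' | h'
      · exact h1 (sub_eq_zero.1 h')
      · exact h2 (eq_neg_of_add_eq_zero_left h')
    · push Not at hr
      exact ⟨1, one_ne_zero, hr 1⟩
  set a := (Z * s ^ 2 - A) / (Z * s ^ 2 + A) with ha
  set b := 2 * A * s / (Z * s ^ 2 + A) with hb
  have hb0 : b ≠ 0 := div_ne_zero (mul_ne_zero (mul_ne_zero P.two hqx) hs0) hs
  set y := a • x + b • z with hy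
  have hyY : y ∈ D i ⊓ OrthTools.orth q (Submodule.span F {p}) :=
    Submodule.add_mem _ (Submodule.smul_mem _ _ hx) (Submodule.smul_mem _ _ hzY)
  have hqy : q y = A := by
    rw [hy, QuadraticMap.map_add ⇑q, QuadraticMap.map_smul, QuadraticMap.map_smul, polar_smul_left,
      polar_smul_right, hxz, ← hA, ← hZ, smul_eq_mul, smul_eq_mul, smul_zero, smul_zero, add_zero, ha, hb]
    field_simp
    ring
  obtain ⟨hxD, hpx⟩ := OrthTools.mem_inf_orth hx
  obtain ⟨hyD, hpy⟩ := OrthTools.mem_inf_orth hyY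
  obtain ⟨hzD, hpz⟩ := OrthTools.mem_inf_orth hzY
  have hvx : polar q v x = 0 := by rw [P.polar_cmp v hxD, hpx]
  have hvy : polar q v y = 0 := by rw [P.polar_cmp v hyD, hpy]
  set h := refl q x * refl q y with hh
  have hhM : h ∈ M := hle (P.pair_block hxD hyD hqx hqy.symm)
  have hfix : app h v = v := by rw [hh, app_mul, app_refl_of_ortho hvy, app_refl_of_ortho hvx]
  set e := A⁻¹ * polar q c y with he
  set f := A⁻¹ * polar q (c - e • y) x with hf
  have hd : app h c - c = -(e • y) - f • x := by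
    rw [hh, app_mul, app_refl y c, hqy, ← he, app_refl x (c - e • y), ← hA, ← hf]
    abel
  set d := -(e • y) - f • x with hd'
  have hdA : ∀ r : F, r • d ∈ axes M hv := fun r => by
    have := (axes M hv).sub_mem (axes_move hhM hv hv hfix (hc r)) (hc r)
    rwa [map_smul, ← smul_sub, hd] at this
  have hdD : d ∈ D i := (D i).sub_mem ((D i).neg_mem ((D i).smul_mem _ hyD)) ((D i).smul_mem _ hxD)
  have hd0 : d ≠ 0 := by
    intro h0
    have h1 : polar q d z = 0 := by rw [h0, polar_zero_left]
    rw [hd', polar_sub_left, polar_neg_left, polar_smul_left, polar_smul_left, hy, polar_add_left, polar_smul_left,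
      polar_smul_left, hxz, polar_self', ← hZ] at h1
    simp only [smul_eq_mul, mul_zero, zero_add, sub_zero, neg_eq_zero, mul_eq_zero] at h1
    have he0 : e = 0 := by
      rcases h1 with h1 | h1 | h1 | h1
      · exact h1
      · exact absurd h1 hb0
      · exact absurd h1 P.two
      · exact absurd h1 hqz
    have hf0 : f = A⁻¹ * polar q c x := by rw [hf, he0, zero_smul, sub_zero]
    have : f • x = 0 := by simpa [hd', he0] using h0
    rcases smul_eq_zero.1 this with h' | h'
    · rw [hf0] at h'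
      exact hcx ((mul_eq_zero.1 h').resolve_left (inv_ne_zero hqx))
    · exact hqx (by rw [hA, h', QuadraticMap.map_zero])
  by_cases hqd : q d = 0
  · exact Or.inl (P.goal_of_singular hle hv hvD hdD hd0 hqd (by simpa using hdA 1))
  · refine Or.inr ⟨d, hdD, hqd, ?_, hdA⟩
    rw [hd', polar_sub_right, polar_neg_right, polar_smul_right, polar_smul_right, hvx, hvy]
    simp

/-- A line of axes in a block, and a third component of the centre. -/
theorem Dec.delta_wide {i l m : Fin t} (hli : l ≠ i) (hmi : m ≠ i) (hml : m ≠ l) {v d : ι → F} (hv : q v = 0)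
    (hv0 : v ≠ 0) (hvl : q (P.cmp l v) ≠ 0) (hvm : P.cmp m v ≠ 0) (hd : d ∈ D i) (hqd : q d ≠ 0)
    (hdA : d ∈ axes M hv) : Goal D M := by
  obtain ⟨h, hh, hβ, hfix, hsame⟩ := P.exists_turn hvl hv (inv_ne_zero hqd)
  obtain ⟨hv', h0, hw⟩ := P.double_move hv hdA (hle hh) (hfix d (P.cmp_ne hli hd)) rfl
  refine P.case_zero hle (i := m) hv' (h0 hv0) ?_ (by simpa using hw 1 (by simpa using hdA)) ?_
  · rw [hβ, mul_inv_cancel₀ hqd, map_add, map_add, map_smul, map_smul, hsame m hml, P.cmp_ne hmi hd]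
    simp
  · rw [map_sub, map_smul, P.cmp_ne hmi hd, zero_sub, ne_eq, neg_eq_zero]
    exact smul_ne_zero (mul_ne_zero P.two hqd) hvm

/-- All components of the axis are multiples of those of the centre. -/
theorem Dec.case_prop {v c : ι → F} (hv : q v = 0) (hv0 : v ≠ 0) (hvD : ∀ i, v ∉ D i)
    (hc : ∀ s : F, s • c ∈ axes M hv) (hcv : c ∉ Submodule.span F {v})
    (hprop : ∀ i, P.cmp i c ∈ Submodule.span F {P.cmp i v}) : Goal D M := by
  classical
  choose γ hγ using fun i => Submodule.mem_span_singleton.1 (hprop i)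
  obtain ⟨i, hvi, hQi⟩ : ∃ i, P.cmp i v ≠ 0 ∧ (q c ≠ 0 → q (P.cmp i v) ≠ 0) := by
    by_cases hQ : q c = 0
    · obtain ⟨i, hi⟩ : ∃ i, P.cmp i v ≠ 0 := by
        by_contra h
        push Not at h
        exact hv0 (Decomp.eq_of_comp P.decomp fun i => by rw [h i, map_zero])
      exact ⟨i, hi, fun h => absurd hQ h⟩
    · by_contra h
      push Not at h
      apply hQ
      rw [P.q_sum]
      refine Finset.sum_eq_zero fun i _ => ?_
      rw [← hγ i, QuadraticMap.map_smul]
      by_cases hi : P.cmp i v = 0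
      · rw [hi, QuadraticMap.map_zero, smul_zero]
      · rw [(h i hi).2, smul_zero]
  set c' := c - γ i • v with hc'
  have hcA : ∀ s : F, s • c' ∈ axes M hv := fun s => by
    rw [hc', smul_sub, smul_smul]
    exact (axes M hv).sub_mem (hc s) (axes_smul_self hv _)
  have hci : P.cmp i c' = 0 := by rw [hc', map_sub, map_smul, hγ, sub_self]
  have hvc : polar q v c = 0 := by simpa using (hc 1).1
  have hQ : q c' = q c := by
    rw [hc', sub_eq_add_neg, QuadraticMap.map_add ⇑q, QuadraticMap.map_neg, QuadraticMap.map_smul, hv,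
      polar_neg_right, polar_smul_right, polar_comm, hvc]
    simp
  obtain ⟨l, hl⟩ : ∃ l, P.cmp l c' ≠ 0 := by
    by_contra h
    push Not at h
    refine hcv (Submodule.mem_span_singleton.2 ⟨γ i, ?_⟩)
    have : c' = 0 := Decomp.eq_of_comp P.decomp fun l => by rw [h l, map_zero]
    exact (sub_eq_zero.1 this).symm
  have hli : l ≠ i := fun h => hl (h ▸ hci)
  set g := γ l - γ i with hgd
  have hlc : P.cmp l c' = g • P.cmp l v := by rw [hc', map_sub, map_smul, ← hγ l, hgd, sub_smul]
  have hg : g ≠ 0 := fun h => hl (by rw [hlc, h, zero_smul])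
  have hvl : P.cmp l v ≠ 0 := fun h => hl (by rw [hlc, h, smul_zero])
  have hpD : P.cmp i v ∈ D i := Decomp.comp_mem P.decomp i v
  have hort : ∀ z ∈ D i, polar q c' z = 0 := fun z hz => by rw [P.polar_cmp c' hz, hci, polar_zero_left]
  have hd : 3 ≤ Module.finrank F (D i) := by rw [P.rank]; exact P.three
  by_cases hQ0 : q c = 0
  · obtain ⟨y, hy, hvy⟩ := P.block i _ hpD hvi
    obtain ⟨p, hp, hqp, hvp⟩ := exists_singular_pairing P.nondeg (P.block i) hd hy hvy
    have hp0 : p ≠ 0 := fun h => hvp (by rw [h, polar_zero_right])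
    obtain ⟨b, hb, hpb, hqb⟩ := aniso_perp P.nondeg P.two (P.block i) hd hp hp0 hqp
    rw [← P.polar_cmp v hp] at hvp
    set β := -(q b * polar q v p ^ 2) with hβ
    have hβ0 : β ≠ 0 := neg_ne_zero.2 (mul_ne_zero hqb (pow_ne_zero _ hvp))
    have hhv := app_eich hqp hpb v
    have hβe : polar q (app (eich q p b) v) v = β := by
      rw [hhv, hβ, polar_add_left, polar_add_left, polar_smul_left, polar_smul_left, polar_self', hv,
        polar_comm (f := ⇑q) b v, polar_comm (f := ⇑q) p v]
      simp only [smul_eq_mul]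
      ring
    set τ := -(β * g)⁻¹ with hτ
    have hfix : app (eich q p b) (τ • c') = τ • c' := by
      rw [map_smul, app_eich hqp hpb, hort p hp, hort b hb]; simp
    obtain ⟨hv', h0, hw⟩ := P.double_move hv (hcA τ) (hle (P.eich_block hp hb hqp hpb)) hfix rfl
    have hQτ : q (τ • c') = 0 := by rw [QuadraticMap.map_smul, hQ, hQ0, smul_zero]
    refine P.case_zero hle (i := l) hv' (h0 hv0) ?_ (by simpa using hw 1 (by simpa using hcA τ)) ?_
    · rw [hβe, hQτ, zero_mul, neg_zero, zero_smul, add_zero, hhv]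
      simp only [map_add, map_smul, P.cmp_ne hli hp, P.cmp_ne hli hb, smul_zero, add_zero, hlc, smul_smul]
      rw [show β * τ * g = -1 by rw [hτ]; field_simp, neg_smul, one_smul, add_neg_cancel]
    · rw [hQτ, mul_zero, zero_smul, sub_zero, map_smul]
      exact smul_ne_zero (neg_ne_zero.2 (inv_ne_zero (mul_ne_zero hβ0 hg))) hl
  · have hVi := hQi hQ0
    have hQ' : q c' ≠ 0 := by rwa [hQ]
    by_cases hk : 4 ≤ k
    · obtain ⟨hY, hYd⟩ := perp_nondeg P.nondeg P.two (P.block i) hpD hVi
      rw [P.rank] at hYd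
      obtain ⟨p, hpY, hp0, hqp⟩ := OrthTools.exists_singular P.nondeg _ (show 3 ≤ Module.finrank F
        ↥(D i ⊓ OrthTools.orth q (Submodule.span F {P.cmp i v})) by omega)
      obtain ⟨hp, hvp⟩ := OrthTools.mem_inf_orth hpY
      set b := (-(2 * q (P.cmp i v))⁻¹) • P.cmp i v with hbd
      have hb : b ∈ D i := (D i).smul_mem _ hpD
      have hpb : polar q p b = 0 := by rw [hbd, polar_smul_right, polar_comm, hvp, smul_zero]
      have hvb : polar q v b = -1 := by
        rw [P.polar_cmp v hb, hbd, polar_smul_right, polar_self', smul_eq_mul, neg_mul,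
          inv_mul_cancel₀ (mul_ne_zero P.two hVi)]
      have hvp' : polar q v p = 0 := by rw [P.polar_cmp v hp, hvp]
      have hhv : app (eich q p b) v = v + p := by rw [app_eich hqp hpb, hvp', hvb]; module
      have hfix : app (eich q p b) c' = c' := by rw [app_eich hqp hpb, hort p hp, hort b hb]; simp
      have hvp2 : q (v + p) = 0 := by rw [← hhv, Q_app, hv]
      have h1 := axes_move (hle (P.eich_block hp hb hqp hpb)) hv hvp2 hhv (hcA 1)
      rw [map_smul, hfix, one_smul] at h1
      have h2 : polar q v c' = 0 := by simpa using (hcA 1).1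
      have h3 : c' ∈ axes M hv := by simpa using hcA 1
      have hpc : polar q p c' = 0 := by rw [polar_comm, hort p hp]
      have hpw : polar q p (c' - q c' • v) = 0 := by
        rw [polar_sub_right, polar_smul_right, hpc, polar_comm (f := ⇑q) p v, hvp', smul_zero, sub_zero]
      have hqw : q (c' - q c' • v) = q c' := by
        rw [sub_eq_add_neg, QuadraticMap.map_add ⇑q, QuadraticMap.map_neg, QuadraticMap.map_smul, hv,
          polar_neg_right, polar_smul_right, polar_comm (f := ⇑q) c' v, h2]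
        simp
      have hid : eich q (v + p) c' = eich q p (c' - q c' • v) * eich q v c' := by
        refine ext_app fun x => ?_
        rw [app_mul, app_eich hvp2 h1.1, app_eich hv h2, app_eich hqp hpw, hqw]
        simp only [polar_add_left, polar_add_right, polar_sub_right, polar_smul_left, polar_smul_right, polar_self',
          hv, hvp', h2, hpc, polar_comm (f := ⇑q) p v, polar_comm (f := ⇑q) c' v, polar_comm (f := ⇑q) c' p,
          smul_eq_mul]
        module
      refine ⟨i, p, hp, c' - q c' • v, hp0, hqp, fun hin => ?_, hpw, ?_⟩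
      · have h5 : c' - q c' • v = -(q c' • P.cmp i v) := by
          rw [← P.cmp_self hin, map_sub, map_smul, hci, zero_sub]
        have h6 : c' = q c' • v - q c' • P.cmp i v := (eq_add_of_sub_eq h5).trans (by abel)
        rw [h6, polar_sub_right, polar_smul_right, polar_smul_right, polar_self', hv, P.polar_cmp v hpD,
          polar_self'] at h2
        simp [hQ', P.two, hVi] at h2
      · have h7 := M.mul_mem h1.2 (M.inv_mem h3.2)
        rwa [hid, mul_inv_cancel_right] at h7
    · have hF : 5 ≤ Fintype.card F := P.big.resolve_left hk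
      obtain ⟨τ, hτ0, hτ1, hτ2, -⟩ := exists_avoid hF (g / q c') (g / (2 * q c')) 0
      have hd1 : τ * q c' - g ≠ 0 := fun h => hτ1 (by field_simp; linear_combination h)
      set β := (τ * (τ * q c' - g))⁻¹ with hβ
      obtain ⟨h, hh, hβe, hfix, hsame⟩ := P.exists_turn hVi hv (inv_ne_zero (mul_ne_zero hτ0 hd1))
      obtain ⟨hv', h0, hw⟩ := P.double_move hv (hcA τ) (hle hh)
        (hfix _ (by rw [map_smul, hci, smul_zero])) rfl
      have hne := P.two
      refine P.case_zero hle (i := l) hv' (h0 hv0) ?_ (by simpa using hw 1 (by simpa using hcA τ)) ?_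
      · simp only [hβe, QuadraticMap.map_smul, map_add, map_smul, hsame l hli, hlc, smul_smul, smul_eq_mul]
        rw [add_assoc, ← add_smul, show (τ * (τ * q c' - g))⁻¹ * τ * g +
          -(τ * τ * q c' * (τ * (τ * q c' - g))⁻¹) = -1 by field_simp; ring, neg_smul, one_smul, add_neg_cancel]
      · simp only [QuadraticMap.map_smul, map_sub, map_smul, hlc, smul_smul, smul_eq_mul, ← sub_smul]
        refine smul_ne_zero (fun h => hτ2 ?_) hvl
        have : τ * (g - 2 * τ * q c') = 0 := by linear_combination h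
        have := (mul_eq_zero.1 this).resolve_left hτ0
        field_simp
        linear_combination -this

/-- The case split. -/
theorem Dec.goal_aux {v c : ι → F} (hv : q v = 0) (hv0 : v ≠ 0) (hvD : ∀ i, v ∉ D i)
    (hc : ∀ s : F, s • c ∈ axes M hv) (hcv : c ∉ Submodule.span F {v})
    (H : ∀ i l, l ≠ i → q (P.cmp i v) ≠ 0 → q (P.cmp l v) ≠ 0 → ∀ d ∈ D i, q d ≠ 0 → polar q v d = 0 →
      (∀ s : F, s • d ∈ axes M hv) → Goal D M) : Goal D M := by
  classical
  by_cases hprop : ∀ i, P.cmp i c ∈ Submodule.span F {P.cmp i v}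
  · exact P.case_prop hle hv hv0 hvD hc hcv hprop
  push Not at hprop
  obtain ⟨i, hi⟩ := hprop
  have hc1 : c ∈ axes M hv := by simpa using hc 1
  by_cases hvi : P.cmp i v = 0
  · exact P.case_zero hle hv hv0 hvi hc1 fun h => hi (h ▸ Submodule.zero_mem _)
  by_cases hVi : q (P.cmp i v) = 0
  · exact P.case_singular hle hv (hvD i) hVi hvi hc1 hi
  by_cases hk : 4 ≤ k
  · exact P.case_four hle hk hv (hvD i) hVi hc1 hi
  rcases P.exists_delta hle (P.big.resolve_left hk) hv (hvD i) hVi hc hi with h | ⟨d, hd, hqd, hvd, hdA⟩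
  · exact h
  obtain ⟨l, hl, hVl⟩ : ∃ l, l ≠ i ∧ q (P.cmp l v) ≠ 0 := by
    by_contra h
    push Not at h
    rw [P.q_sum, Finset.sum_eq_single i (fun l _ hl => h l hl) (by simp)] at hv
    exact hVi hv
  exact H i l hl hVi hVl d hd hqd hvd hdA

/-- At least three components. -/
theorem Dec.goal_wide {a b e : Fin t} (hab : a ≠ b) (hae : a ≠ e) (hbe : b ≠ e) {v c : ι → F} (hv : q v = 0)
    (ha : P.cmp a v ≠ 0) (hb : P.cmp b v ≠ 0) (he : P.cmp e v ≠ 0)
    (hc : ∀ s : F, s • c ∈ axes M hv) (hcv : c ∉ Submodule.span F {v}) : Goal D M := by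
  have hv0 : v ≠ 0 := fun h => ha (by rw [h, map_zero])
  have hvD : ∀ i, v ∉ D i := by
    intro i hin
    by_cases h : a = i
    · exact hb (P.cmp_ne (fun h' => hab (h.trans h'.symm)) hin)
    · exact ha (P.cmp_ne h hin)
  refine P.goal_aux hle hv hv0 hvD hc hcv fun i l hli _ hVl d hd hqd _ hdA => ?_
  obtain ⟨m, hmi, hml, hm⟩ : ∃ m, m ≠ i ∧ m ≠ l ∧ P.cmp m v ≠ 0 := by
    by_contra h
    push Not at h
    have h1 : ∀ x, P.cmp x v ≠ 0 → x = i ∨ x = l := fun x hx => by
      by_contra h'
      push Not at h'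
      exact hx (h x h'.1 h'.2)
    rcases h1 a ha with rfl | rfl <;> rcases h1 b hb with rfl | rfl <;> rcases h1 e he with rfl | rfl <;>
      simp at hab hae hbe
  exact P.delta_wide hle hli hmi hml hv hv0 hVl hm hd hqd (by simpa using hdA 1)

/-- A scalable axis at a centre outside the blocks gives a root element leaving the blocks. -/
theorem Dec.goal_of_axis {v c : ι → F} (hv : q v = 0) (hv0 : v ≠ 0) (hvD : ∀ i, v ∉ D i)
    (hc : ∀ s : F, s • c ∈ axes M hv) (hcv : c ∉ Submodule.span F {v}) : Goal D M := by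
  refine P.goal_aux hle hv hv0 hvD hc hcv fun i l hli hVi hVl d hd hqd hvd hdA => ?_
  have hvl : P.cmp l v ≠ 0 := fun h => hVl (by rw [h, QuadraticMap.map_zero])
  have hvi : P.cmp i v ≠ 0 := fun h => hVi (by rw [h, QuadraticMap.map_zero])
  by_cases hm : ∃ m, m ≠ i ∧ m ≠ l ∧ P.cmp m v ≠ 0
  · obtain ⟨m, hmi, hml, hm⟩ := hm
    exact P.delta_wide hle hli hmi hml hv hv0 hVl hm hd hqd (by simpa using hdA 1)
  push Not at hm
  by_cases hk : 4 ≤ k
  · obtain ⟨hY, hYd⟩ := perp_nondeg P.nondeg P.two (P.block i) (Decomp.comp_mem P.decomp i v) hVi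
    refine P.case_four hle hk hv (hvD i) hVi (show d ∈ axes M hv by simpa using hdA 1) fun hin => ?_
    rw [P.cmp_self hd] at hin
    obtain ⟨s, hs⟩ := Submodule.mem_span_singleton.1 hin
    rw [← hs, polar_smul_right, P.polar_cmp v (Decomp.comp_mem P.decomp i v), polar_self', smul_eq_mul] at hvd
    simp only [mul_eq_zero, P.two, hVi, or_self, or_false] at hvd
    rw [← hs, hvd, zero_smul, QuadraticMap.map_zero] at hqd
    exact hqd rfl
  obtain ⟨m, hmi, hml⟩ : ∃ m, m ≠ i ∧ m ≠ l := by
    by_contra h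
    push Not at h
    have h1 := Finset.card_le_card (show (Finset.univ : Finset (Fin t)) ⊆ {i, l} from fun x _ => by
      by_cases hx : x = i
      · simp [hx]
      · simp [h x hx])
    have h2 := Finset.card_le_two (a := i) (b := l)
    simp only [Finset.card_univ, Fintype.card_fin] at h1
    have h5 := P.toBase.card_eq
    have := P.seven
    have := P.three
    have h6 : t * k ≤ 2 * 3 := Nat.mul_le_mul (by omega) (by omega)
    omega
  obtain ⟨w, hw, hwmap, hwfix⟩ := P.exists_move l m l
  have hdfix : app w d = d := hwfix i (Ne.symm hli) (Ne.symm hmi) (Ne.symm hli) d hd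
  set vi := P.cmp i v with hvid
  set vl := P.cmp l v with hvld
  have hviD : vi ∈ D i := Decomp.comp_mem P.decomp i v
  have hsum : v = vi + vl := by
    refine Decomp.eq_of_comp P.decomp fun x => ?_
    rw [map_add]
    by_cases hx : x = i
    · subst hx
      rw [P.cmp_self hviD, P.cmp_ne (Ne.symm hli) (Decomp.comp_mem P.decomp l v), add_zero]
    by_cases hx' : x = l
    · subst hx'
      rw [P.cmp_ne hx hviD, P.cmp_self (Decomp.comp_mem P.decomp x v), zero_add]
    · rw [P.cmp_ne hx hviD, P.cmp_ne hx' (Decomp.comp_mem P.decomp l v), hm x hx hx', add_zero]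
  have hwl : app w vl ∈ D m := by
    have := hwmap l vl (Decomp.comp_mem P.decomp l v)
    rwa [Equiv.swap_apply_left] at this
  have hwv : app w v = vi + app w vl := by
    rw [hsum, map_add, hwfix i (Ne.symm hli) (Ne.symm hmi) (Ne.symm hli) vi hviD]
  have hwl0 : app w vl ≠ 0 := fun h => hvl (app_injective w (by rw [h, map_zero]))
  have hvm : P.cmp m v = 0 := hm m hmi hml
  have hβ : polar q (app w v) v = 2 * q vi := by
    rw [hwv, polar_add_left, P.polar_cmp' v hwl, hvm, polar_zero_right, add_zero, P.polar_cmp' v hviD, polar_self']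
  obtain ⟨hv', -, hW⟩ := P.double_move hv (show d ∈ axes M hv by simpa using hdA 1) (hle hw) hdfix rfl
  have h2 : 2 * q vi ≠ 0 := mul_ne_zero P.two hVi
  have hvid' : polar q vi d = 0 := by rw [← P.polar_cmp v hd, hvd]
  refine P.goal_wide hle (Ne.symm hli) (Ne.symm hmi) (Ne.symm hml) hv' ?_ ?_ ?_ (fun s => hW s (hdA s)) ?_
  · rw [hβ, hwv]
    simp only [map_add, map_smul, P.cmp_self hviD, P.cmp_ne (Ne.symm hmi) hwl, P.cmp_self hd, add_zero,
      ← hvid]
    intro h0
    have h1 := congrArg (fun x => polar q x d) h0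
    simp only [polar_add_left, polar_smul_left, hvid', polar_self', polar_zero_left, smul_eq_mul] at h1
    simp [h2, hqd, P.two] at h1
  · rw [hβ, hwv]
    simp only [map_add, map_smul, P.cmp_ne hli hviD, P.cmp_ne (Ne.symm hml) hwl, P.cmp_ne hli hd,
      smul_zero, add_zero, zero_add, ← hvld]
    exact smul_ne_zero (neg_ne_zero.2 (mul_ne_zero hqd h2)) hvl
  · rw [hβ, hwv]
    simp only [map_add, map_smul, P.cmp_ne hmi hviD, P.cmp_self hwl, P.cmp_ne hmi hd, hvm, smul_zero,
      add_zero, zero_add]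
    exact hwl0
  · intro hin
    obtain ⟨s, hs⟩ := Submodule.mem_span_singleton.1 hin
    have hm' := congrArg (P.cmp m) hs
    rw [hβ, hwv] at hm'
    simp only [map_add, map_sub, map_smul, P.cmp_ne hmi hviD, P.cmp_self hwl, P.cmp_ne hmi hd, hvm,
      smul_zero, add_zero, zero_add, sub_zero, smul_eq_zero, hwl0, or_false] at hm'
    rw [hm', zero_smul] at hs
    have h1 := congrArg (fun x => polar q x d) hs
    simp only [polar_sub_left, polar_smul_left, hvd, polar_self', polar_zero_left, smul_zero, sub_zero] at h1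
    simp [hqd, P.two] at h1

end CfsgLib.GeomClasses.OrthDecomp
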