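import Cfsg.Agent.Lib.GeomClasses.OrthDecompLocal
import Cfsg.Agent.Lib.GeomClasses.OrthDecompRoot

/-!
Stabilizers of orthogonal decompositions into blocks of dimension at least three are maximal in `Ω`.
-/

set_option autoImplicit false
set_option linter.unusedSectionVars false

namespace CfsgLib.GeomClasses.OrthDecomp

open Matrix QuadraticMap CfsgLib.Orth CfsgLib.GeomClasses.OrthEich CfsgLib.GeomClasses.OrthPair
  CfsgLib.GeomClasses.OrthRat CfsgLib.Maximal.TensorTools

variable {ι : Type} [Fintype ι] [DecidableEq ι] {F : Type*} [Field F] [Fintype F]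
  {q : QuadraticForm F (ι → F)} {t : ℕ} {D : Fin t → Submodule F (ι → F)} {k : ℕ} (P : Dec q D k)
include P

/-- An element not stabilizing the decomposition moves a singular vector of a block out of the blocks. -/
theorem Dec.exists_split {g : O q} (hg : (g : GL ι F) ∉ Cfsg.Geo.decompositionStabilizer D) :
    ∃ j, ∃ u ∈ D j, u ≠ 0 ∧ q u = 0 ∧ ∀ i, app g u ∉ D i := by
  classical
  by_contra hcon
  push Not at hcon
  apply hg
  refine Decomp.mem_stabilizer_of_image P.decomp fun j => ?_
  suffices H : ∃ a, ∀ x ∈ D j, app g x ∈ D a from H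
  obtain ⟨u, hu, hu0, hqu⟩ := P.toBase.block_nonzero P.three j
  obtain ⟨x, hx, hqx, hux⟩ := OrthTools.exists_partner (P.block j) hu hu0 hqu
  obtain ⟨a, ha⟩ := hcon j u hu hu0 hqu
  have hx0 : x ≠ 0 := fun h => by rw [h, polar_zero_right] at hux; exact zero_ne_one hux
  obtain ⟨b, hb⟩ := hcon j x hx hx0 hqx
  have hgu0 : app g u ≠ 0 := fun h => hu0 (app_injective g (by rw [h, map_zero]))
  have hgx0 : app g x ≠ 0 := fun h => hx0 (app_injective g (by rw [h, map_zero]))
  have hxu : polar q x u = 1 := by rw [polar_comm, hux]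
  obtain ⟨Y, hYX, hYd, hY, -, hYn⟩ := OrthClasses.remove_pair P.nondeg (P.block j) hu hx hqu hqx hux
  obtain ⟨c, hc, hqc⟩ := exists_aniso P.nondeg hYn (by rw [P.rank] at hYd; have := P.three; omega)
  have hcu : polar q u c = 0 := (hY c hc).1
  have hcx : polar q x c = 0 := (hY c hc).2
  have hzs : ∀ y ∈ D j, polar q u y = 0 → polar q x y = 0 →
      q (u + y + (-q y) • x) = 0 ∧ u + y + (-q y) • x ∈ D j ∧ u + y + (-q y) • x ≠ 0 := by
    intro y hy huy hxy
    refine ⟨?_, (D j).add_mem ((D j).add_mem hu hy) ((D j).smul_mem _ hx), fun h => ?_⟩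
    · simp only [QuadraticMap.map_add ⇑q, QuadraticMap.map_smul, polar_add_left, polar_smul_right, hqu, hqx, huy,
        hux, polar_comm (f := ⇑q) y x, hxy, smul_eq_mul]
      ring
    · have := congrArg (fun z => polar q z x) h
      simp only [polar_add_left, polar_smul_left, hux, polar_comm (f := ⇑q) y x, hxy, polar_self', hqx,
        polar_zero_left, smul_eq_mul] at this
      simp at this
  have hab : a = b := by
    by_contra hab
    obtain ⟨h1, h2, h3⟩ := hzs c (hYX hc) hcu hcx
    obtain ⟨h1', h2', h3'⟩ := hzs (-c) (Submodule.neg_mem _ (hYX hc)) (by rw [polar_neg_right, hcu, neg_zero])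
      (by rw [polar_neg_right, hcx, neg_zero])
    set z₁ := u + c + (-q c) • x with hz₁
    set z₂ := u + -c + (-q (-c)) • x with hz₂
    obtain ⟨c₁, hc₁⟩ := hcon j z₁ h2 h3 h1
    obtain ⟨c₂, hc₂⟩ := hcon j z₂ h2' h3' h1'
    have hsum : app g z₁ + app g z₂ = (2 : F) • app g u + (-(2 * q c)) • app g x := by
      rw [← map_add, ← map_smul, ← map_smul, ← map_add, hz₁, hz₂, QuadraticMap.map_neg]
      congr 1
      module
    have hA : P.cmp a (app g z₁) + P.cmp a (app g z₂) = (2 : F) • app g u := by
      rw [← map_add, hsum, map_add, map_smul, map_smul, P.cmp_self ha, P.cmp_ne hab hb, smul_zero, add_zero]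
    have hB : P.cmp b (app g z₁) + P.cmp b (app g z₂) = (-(2 * q c)) • app g x := by
      rw [← map_add, hsum, map_add, map_smul, map_smul, P.cmp_self hb, P.cmp_ne (Ne.symm hab) ha, smul_zero,
        zero_add]
    have hA0 : (2 : F) • app g u ≠ 0 := smul_ne_zero P.two hgu0
    have hB0 : (-(2 * q c)) • app g x ≠ 0 := smul_ne_zero (neg_ne_zero.2 (mul_ne_zero P.two hqc)) hgx0
    have hne : ∀ z, polar q z c ≠ 0 → app g z ≠ (2 : F) • app g u := fun z hz h => by
      rw [← map_smul] at h
      rw [app_injective g h, polar_smul_left, hcu, smul_zero] at hz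
      exact hz rfl
    have hz1c : polar q z₁ c ≠ 0 := by
      rw [hz₁, polar_add_left, polar_add_left, polar_smul_left, hcu, hcx, polar_self', smul_zero, add_zero, zero_add]
      exact mul_ne_zero P.two hqc
    have hz2c : polar q z₂ c ≠ 0 := by
      rw [hz₂, polar_add_left, polar_add_left, polar_smul_left, hcu, hcx, polar_neg_left, polar_self', smul_zero,
        add_zero, zero_add]
      exact neg_ne_zero.2 (mul_ne_zero P.two hqc)
    by_cases e1 : c₁ = a
    · subst e1
      have hb2 : c₂ = b := by
        by_contra h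
        rw [P.cmp_ne (Ne.symm hab) hc₁, P.cmp_ne (Ne.symm h) hc₂, add_zero] at hB
        exact hB0 hB.symm
      subst hb2
      rw [P.cmp_self hc₁, P.cmp_ne hab hc₂, add_zero] at hA
      exact hne _ hz1c hA
    · have e2 : c₂ = a := by
        by_contra h
        rw [P.cmp_ne (Ne.symm e1) hc₁, P.cmp_ne (Ne.symm h) hc₂, add_zero] at hA
        exact hA0 hA.symm
      subst e2
      rw [P.cmp_ne (Ne.symm e1) hc₁, P.cmp_self hc₂, zero_add] at hA
      exact hne _ hz2c hA
  subst hab
  have hperp : ∀ y ∈ D j, polar q u y = 0 → polar q x y = 0 → app g y ∈ D a := by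
    intro y hy huy hxy
    obtain ⟨h1, h2, h3⟩ := hzs y hy huy hxy
    obtain ⟨e, he⟩ := hcon j _ h2 h3 h1
    suffices e = a by
      subst this
      have := (D e).sub_mem ((D e).sub_mem he ha) ((D e).smul_mem (-q y) hb)
      rw [← map_smul, ← map_sub, ← map_sub] at this
      convert this using 2
      abel
    by_contra hea
    -- both `y` and `-y` would have their images outside the block
    obtain ⟨h1', h2', h3'⟩ := hzs (-y) (Submodule.neg_mem _ hy) (by rw [polar_neg_right, huy, neg_zero])
      (by rw [polar_neg_right, hxy, neg_zero])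
    obtain ⟨e', he'⟩ := hcon j _ h2' h3' h1'
    have hsum : app g (u + y + (-q y) • x) + app g (u + -y + (-q (-y)) • x) =
        (2 : F) • app g u + (-(2 * q y)) • app g x := by
      rw [← map_add, ← map_smul, ← map_smul, ← map_add, QuadraticMap.map_neg]
      congr 1
      module
    have hS := congrArg (P.cmp e) hsum
    rw [map_add (P.cmp e), map_add (P.cmp e), map_smul (P.cmp e), map_smul (P.cmp e), P.cmp_self he, P.cmp_ne hea ha,
      P.cmp_ne hea hb, smul_zero, smul_zero, add_zero] at hS
    by_cases hee : e' = e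
    · subst hee
      have hS' : (2 : F) • app g u + (-(2 * q y)) • app g x ∈ D e' := hsum ▸ (D e').add_mem he he'
      have hSa : (2 : F) • app g u + (-(2 * q y)) • app g x ∈ D a :=
        (D a).add_mem ((D a).smul_mem _ ha) ((D a).smul_mem _ hb)
      have h0 : (2 : F) • app g u + (-(2 * q y)) • app g x = 0 := by
        rw [← P.cmp_self hS', P.cmp_ne hea hSa]
      rw [← map_smul, ← map_smul, ← map_add, ← map_zero (app g)] at h0
      have := congrArg (fun z => polar q z x) (app_injective g h0)
      simp only [polar_add_left, polar_smul_left, hux, polar_self', hqx, polar_zero_left, smul_eq_mul] at this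
      simp [P.two] at this
    · rw [P.cmp_ne (Ne.symm hee) he', add_zero, ← map_zero (app g)] at hS
      exact h3 (app_injective g hS)
  refine ⟨a, fun z hz => ?_⟩
  set y := z - polar q x z • u - polar q u z • x with hy
  have h1 : app g y ∈ D a := by
    refine hperp y ((D j).sub_mem ((D j).sub_mem hz ((D j).smul_mem _ hu)) ((D j).smul_mem _ hx)) ?_ ?_
    · rw [hy, polar_sub_right, polar_sub_right, polar_smul_right, polar_smul_right, polar_self', hqu, hux]; simp
    · rw [hy, polar_sub_right, polar_sub_right, polar_smul_right, polar_smul_right, polar_self', hqx, hxu]; simp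
  rw [show z = y + polar q x z • u + polar q u z • x by rw [hy]; abel, map_add, map_add, map_smul, map_smul]
  exact (D a).add_mem ((D a).add_mem h1 ((D a).smul_mem _ ha)) ((D a).smul_mem _ hb)

variable {M : Subgroup (O q)} (hle : Hgrp q D ≤ M)
include hle

theorem Dec.lines : Lines D M := fun i u X p hu hX hp hp0 hqp hperp hXp c => by
  obtain ⟨b, hb, hpb, hqb⟩ := aniso_perp P.nondeg P.two (P.block i) (by rw [P.rank]; exact P.three) hp hp0 hqp
  have h := P.line_mem hle hu hX hp hb hqp hpb (hperp p hp) (hperp b hb) hqb (c * (polar q X p)⁻¹)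
  rwa [mul_assoc, inv_mul_cancel₀ hXp, mul_one] at h

omit hle in
/-- The stabilizer is maximal. -/
theorem Dec.maximal : Cfsg.Geo.IsMaximalIn (commutator (O q)) (Hgrp q D) := by
  refine ⟨P.toBase.proper P.three, fun M hle hM => ?_⟩
  by_cases h : M ≤ Hgrp q D
  · exact Or.inl (le_antisymm h hle)
  refine Or.inr (le_antisymm hM ?_)
  obtain ⟨g, hgM, hg⟩ := SetLike.not_le_iff_exists.1 h
  obtain ⟨j, u, hu, hu0, hqu, hout⟩ := P.exists_split (g := g) fun hs => hg ⟨hs, hM hgM⟩
  obtain ⟨hX, hXd⟩ : (D j ⊓ OrthTools.orth q (Submodule.span F {u})) ≤ D j ∧ Module.finrank F (D j) ≤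
      Module.finrank F ↥(D j ⊓ OrthTools.orth q (Submodule.span F {u})) + 1 :=
    ⟨inf_le_left, OrthTools.finrank_inf_orth P.nondeg _ u⟩
  obtain ⟨a, ha, hau⟩ : ∃ a ∈ D j ⊓ OrthTools.orth q (Submodule.span F {u}), a ∉ Submodule.span F {u} := by
    by_contra hc
    push Not at hc
    have := Submodule.finrank_mono (show _ ≤ Submodule.span F {u} from hc)
    rw [finrank_span_singleton hu0, P.rank] at *
    have := P.three
    omega
  obtain ⟨haD, hua⟩ := OrthTools.mem_inf_orth ha
  have hv : q (app g u) = 0 := by rw [Q_app, hqu]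
  have hv0 : app g u ≠ 0 := fun h => hu0 (app_injective g (by rw [h, map_zero]))
  have hcs : ∀ s : F, s • app g a ∈ axes M hv := fun s => by
    have hs : polar q u (s • a) = 0 := by rw [polar_smul_right, hua, smul_zero]
    have := axes_move hgM hqu hv rfl (show s • a ∈ axes M hqu from
      ⟨hs, hle (P.eich_block hu ((D j).smul_mem s haD) hqu hs)⟩)
    rwa [map_smul] at this
  have hG : Goal D M := P.goal_of_axis hle hv hv0 hout hcs fun hin => by
    obtain ⟨s, hs⟩ := Submodule.mem_span_singleton.1 hin
    rw [← map_smul] at hs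
    exact hau (Submodule.mem_span_singleton.2 ⟨s, app_injective g hs⟩)
  exact P.toBase.commutator_le_of_goal P.three hle (P.lines hle) hG

omit P hle in
theorem base_card {Q : (ι → F) → F} (hD : Cfsg.Geo.IsOrthogonalMDecomposition Q k D) :
    t * k = Fintype.card ι := by
  have e := (LinearEquiv.ofBijective (DirectSum.coeLinearMap D)
    (Decomp.isInternal hD.decomp.decomp)).finrank_eq
  rw [Module.finrank_directSum, Module.finrank_fintype_fun_eq_card] at e
  simpa [hD.decomp.decomp.finrank_eq] using e

omit P hle in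
/-- The decomposition data of an orthogonal decomposition. -/
theorem dec_of {Q : (ι → F) → F} (hQ : Cfsg.Geo.IsNondegenerateQuadraticForm Q) (h2 : (2 : F) ≠ 0)
    (h7 : 7 ≤ Fintype.card ι) (hD : Cfsg.Geo.IsOrthogonalMDecomposition Q k D) (h3 : 3 ≤ k)
    (hex : ¬ (Fintype.card F = 3 ∧ k = 3)) : Dec (quadOf hQ) D k where
  nondeg := OrthTools.quadOf_nondegenerate hQ
  two_le := by omega
  two := h2
  seven := h7
  decomp := hD.decomp.decomp
  orth i j h x hx y hy := hD.decomp.orthogonal i j h x hx y hy
  block i x hx hx0 := (hD.decomp.nondegenerate i x hx hx0).2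
  isom := hD.isometric
  three := h3
  big := by
    by_contra h
    push Not at h
    have hk : k = 3 := by omega
    have hodd : Fintype.card F % 2 = 1 := FiniteField.odd_card_of_char_ne_two fun hc => h2 (by
      have : CharP F 2 := hc ▸ ringChar.charP F
      exact CharTwo.two_eq_zero)
    have h1 : 1 < Fintype.card F := Fintype.one_lt_card
    exact hex ⟨by omega, hk⟩

omit P hle in
/-- Maximality inside the matrix group. -/
theorem maximal_omegaGL {Q : (ι → F) → F} (hQ : Cfsg.Geo.IsNondegenerateQuadraticForm Q) (h2 : (2 : F) ≠ 0)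
    (h7 : 7 ≤ Fintype.card ι) (hD : Cfsg.Geo.IsOrthogonalMDecomposition Q k D) (h3 : 3 ≤ k)
    (hex : ¬ (Fintype.card F = 3 ∧ k = 3)) :
    Cfsg.Geo.IsMaximalIn (Cfsg.Geo.omegaGL Q) (Cfsg.Geo.decompositionStabilizer D ⊓ Cfsg.Geo.omegaGL Q) :=
  OrthPair.maximal_transport hQ (dec_of hQ h2 h7 hD h3 hex).maximal

end CfsgLib.GeomClasses.OrthDecomp
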