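import Cfsg.Agent.Lib.GeomClasses.OrthSubspace
import Cfsg.Agent.Lib.GeomClasses.Forms

/-!
In odd characteristic the orthogonal similitudes of determinant one form a maximal subgroup of the special
linear group of degree at least six: an overgroup contains a transvection, and one transvection with the
Eichler elements gives all.
-/

set_option autoImplicit false
set_option linter.unusedSectionVars false

namespace CfsgLib.GeomClasses.OrthSimilarity

open Matrix QuadraticMap CfsgLib.Maximal.TensorTools CfsgLib.Orth CfsgLib.GeomClasses.OrthEich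

variable {ι : Type} [Fintype ι] [DecidableEq ι] {F : Type*} [Field F] [Fintype F]
  {q : QuadraticForm F (ι → F)}

theorem sesq (q : QuadraticForm F (ι → F)) : IsSesq (RingHom.id F) (polar q) where
  add_left x y v := polar_add_left q x y v
  smul_left c x v := by rw [polar_smul_left, smul_eq_mul]
  add_right v x y := polar_add_right q v x y
  smul_right c v x := by rw [polar_smul_right, smul_eq_mul, RingHom.id_apply]

/-- The functional `x ↦ polar q x p` as a vector. -/
noncomputable def dual (q : QuadraticForm F (ι → F)) : (ι → F) →ₗ[F] (ι → F) where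
  toFun := fVec (polar q)
  map_add' := (sesq q).fVec_add
  map_smul' := fun c v => (sesq q).fVec_smul c v

theorem dual_dot (p x : ι → F) : dual q p ⬝ᵥ x = polar q x p := (sesq q).fVec_dot p x

theorem dual_vecMul {e : O q} (p : ι → F) :
    dual q p ᵥ* (((e : GL ι F)⁻¹ : GL ι F) : Matrix ι ι F) = dual q (app e p) := by
  refine dot_right_cancel fun x => ?_
  rw [← dotProduct_mulVec, dual_dot, dual_dot]
  show polar q (app e⁻¹ x) p = _
  rw [← polar_app e, app_app_inv]

variable (hq : q.polarBilin.Nondegenerate) (hn : 6 ≤ Fintype.card ι)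
include hq hn

theorem dual_injective : Function.Injective (dual q) := by
  refine (injective_iff_map_eq_zero _).2 fun p hp => ?_
  by_contra h0
  obtain ⟨y, hy⟩ := exists_polar_eq_one hq h0
  have := dual_dot (q := q) p y
  rw [hp, zero_dotProduct, polar_comm, hy] at this
  exact zero_ne_one this

theorem dual_surjective : Function.Surjective (dual q) :=
  LinearMap.surjective_of_injective (dual_injective hq hn)

/-- Outside a subspace there is an orthogonal vector pairing non-trivially. -/
theorem exists_pairing {W : Submodule F (ι → F)} {v : ι → F} (hv : v ∉ W) :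
    ∃ y, y ∈ OrthTools.orth q W ∧ polar q y v ≠ 0 := by
  by_contra hc
  push Not at hc
  apply hv
  rw [← LinearMap.BilinForm.orthogonal_orthogonal hq (polarBilin_isRefl hq) W]
  exact LinearMap.BilinForm.mem_orthogonal_iff.2 fun y hy => hc y hy

/-- An anisotropic vector orthogonal to two given ones. -/
theorem exists_aniso (a b : ι → F) : ∃ c, q c ≠ 0 ∧ polar q a c = 0 ∧ polar q b c = 0 := by
  by_contra hc
  push Not at hc
  have h1 := two_finrank_le hq (W := OrthTools.orth q (Submodule.span F ({a, b} : Set (ι → F))))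
    fun x hx => by
      by_contra h0
      exact hc x h0 (mem_orth_pair.1 hx).1 (mem_orth_pair.1 hx).2
  have h2 := OrthTools.finrank_orth hq (Submodule.span F ({a, b} : Set (ι → F)))
  have h3 := finrank_pair_le (F := F) a b
  omega

/-- A singular vector pairing non-trivially with two non-zero singular vectors. -/
theorem exists_linking {u z : ι → F} (hu : q u = 0) (hu0 : u ≠ 0) (hz : q z = 0) (hz0 : z ≠ 0) :
    ∃ y, q y = 0 ∧ polar q y u ≠ 0 ∧ polar q y z ≠ 0 := by
  have hX : ∀ x ∈ (⊤ : Submodule F (ι → F)), x ≠ 0 → ∃ y ∈ (⊤ : Submodule F (ι → F)), polar q x y ≠ 0 :=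
    fun x _ hx => by
      obtain ⟨a, ha⟩ := exists_polar_eq_one hq hx
      exact ⟨a, trivial, by rw [ha]; exact one_ne_zero⟩
  have huu : polar q u u = 0 := by rw [polar_self', hu, mul_zero]
  by_cases he : polar q u z = 0
  · obtain ⟨t, -, ht, hut⟩ := OrthTools.exists_partner hX trivial hu0 hu
    obtain ⟨s, -, hs, hzs⟩ := OrthTools.exists_partner hX trivial hz0 hz
    by_cases h1 : polar q t z = 0
    · by_cases h2 : polar q s u = 0
      · refine ⟨t + s + (-polar q t s) • u, ?_, ?_, ?_⟩
        · simp only [QuadraticMap.map_add ⇑q, QuadraticMap.map_smul, polar_add_left, polar_smul_right, ht, hs, hu,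
            polar_comm (f := ⇑q) t u, hut, h2, smul_eq_mul]
          ring
        · simp [polar_add_left, polar_smul_left, polar_comm (f := ⇑q) t u, hut, h2, huu]
        · simp [polar_add_left, polar_smul_left, h1, polar_comm (f := ⇑q) s z, hzs, he]
      · exact ⟨s, hs, h2, by rw [polar_comm, hzs]; exact one_ne_zero⟩
    · exact ⟨t, ht, by rw [polar_comm, hut]; exact one_ne_zero, h1⟩
  · obtain ⟨w, hw, huw, hzw⟩ := exists_aniso hq hn u z
    set e := polar q u z with hedef
    set lam := -q w / e
    refine ⟨u + lam • z + w, ?_, ?_, ?_⟩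
    · simp only [QuadraticMap.map_add ⇑q, QuadraticMap.map_smul, polar_add_left, polar_smul_left, polar_smul_right,
        hu, hz, huw, hzw, smul_eq_mul, ← hedef, lam]
      field_simp
      ring
    · simp [polar_add_left, polar_smul_left, huu, polar_comm (f := ⇑q) z u, ← hedef, polar_comm (f := ⇑q) w u,
        huw, lam, hw, he]
    · simp [polar_add_left, polar_smul_left, ← hedef, polar_self', hz, polar_comm (f := ⇑q) w z, hzw, he]

/-- A singular vector orthogonal to a small subspace but not to a vector outside it. -/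
theorem exists_singular_sep {S : Submodule F (ι → F)} (hS : 2 * Module.finrank F S + 3 ≤ Fintype.card ι) {v : ι → F} (hv : v ∉ S) :
    ∃ a ∈ OrthTools.orth q S, q a = 0 ∧ polar q a v ≠ 0 := by
  obtain ⟨y, hy, hyv⟩ := exists_pairing hq hn hv
  obtain ⟨C, hC⟩ := Submodule.exists_isCompl S
  have h1 := OrthTools.finrank_orth hq S
  have h4 := Submodule.finrank_add_eq_of_isCompl hC
  have h5 := Submodule.finrank_sup_add_finrank_inf_eq (OrthTools.orth q S) C
  have h6 := Submodule.finrank_le (OrthTools.orth q S ⊔ C)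
  rw [Module.finrank_fintype_fun_eq_card] at h4 h6
  obtain ⟨u, ⟨huX, huC⟩, hu0, hu⟩ := OrthTools.exists_singular hq (OrthTools.orth q S ⊓ C) (by omega)
  by_cases huv : polar q u v = 0
  swap
  · exact ⟨u, huX, hu, huv⟩
  have huS : u ∉ S := fun h => hu0 (Submodule.disjoint_def.1 hC.disjoint u h huC)
  obtain ⟨y', hy', hy'u⟩ := exists_pairing hq hn huS
  obtain ⟨z, hz, hzu, hzv⟩ : ∃ z ∈ OrthTools.orth q S, polar q z u ≠ 0 ∧ polar q z v ≠ 0 := by
    by_cases h : polar q y u = 0
    swap
    · exact ⟨y, hy, h, hyv⟩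
    by_cases h' : polar q y' v = 0
    swap
    · exact ⟨y', hy', hy'u, h'⟩
    exact ⟨y + y', Submodule.add_mem _ hy hy', by rw [polar_add_left, h, zero_add]; exact hy'u,
      by rw [polar_add_left, h', add_zero]; exact hyv⟩
  refine ⟨z + (-q z / polar q z u) • u, Submodule.add_mem _ hz (Submodule.smul_mem _ _ huX), ?_, ?_⟩
  · rw [QuadraticMap.map_add ⇑q, QuadraticMap.map_smul, hu, polar_smul_right]
    simp [div_mul_cancel₀ _ hzu]
  · rwa [polar_add_left, polar_smul_left, huv, smul_zero, add_zero]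

theorem exists_outside {S T : Submodule F (ι → F)} (hT : Module.finrank F S + Module.finrank F T < Fintype.card ι) :
    ∃ b ∈ OrthTools.orth q S, b ∉ T := by
  refine SetLike.not_le_iff_exists.1 fun hle => ?_
  have h1 := Submodule.finrank_mono hle
  rw [OrthTools.finrank_orth hq] at h1
  omega

theorem finrank_one_le (p : ι → F) : Module.finrank F (Submodule.span F {p}) ≤ 2 :=
  ((finrank_span_le_card ({p} : Set (ι → F))).trans (by simp)).trans (by norm_num : 1 ≤ 2)

theorem finrank_two_le (a b : ι → F) : Module.finrank F (Submodule.span F ({a, b} : Set (ι → F))) ≤ 2 :=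
  finrank_pair_le a b

variable (h2 : (2 : F) ≠ 0) {M : Subgroup (GL ι F)}
  (hM : ∀ u a, q u = 0 → polar q u a = 0 → ((eich q u a : O q) : GL ι F) ∈ M)
include h2 hM

/-- Conjugating by an Eichler element fixing the axis. -/
theorem move {p v u a : ι → F} (hu : q u = 0) (hua : polar q u a = 0) (hpu : polar q p u = 0)
    (hpa : polar q p a = 0) (hv : polar q v p = 0) (h : tv v (dual q p) ∈ M) :
    tv (polar q v u • a + (-polar q v a - q a * polar q v u) • u) (dual q p) ∈ M := by
  have he := hM u a hu hua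
  have h1 := M.mul_mem (M.mul_mem he h) (M.inv_mem he)
  have hfix : app (eich q u a) p = p := by rw [app_eich hu hua, hpu, hpa]; simp
  rw [conj_tv _ (by rw [dual_dot, hv]), dual_vecMul, hfix] at h1
  have hd : polar q (app (eich q u a) v) p = 0 := by
    conv_lhs => rw [← hfix]
    rw [polar_app, hv]
  have h3 := M.mul_mem (M.inv_mem h) h1
  rw [tv_inv (by rw [dual_dot, hv]), show (((eich q u a : O q) : GL ι F) : Matrix ι ι F) *ᵥ v = app (eich q u a) v from rfl,
    tv_mul_tv_left (by rw [dual_dot, polar_neg_left, hv, neg_zero]) (by rw [dual_dot, hd]), app_eich hu hua] at h3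
  rwa [add_assoc, neg_add_cancel_left] at h3

/-- The centres on an axis fill a hyperplane of it. -/
theorem hyper {p δ a : ι → F} (hδp : polar q δ p = 0) (hap : polar q a p = 0) (ha : q a = 0)
    (hδa : polar q δ a ≠ 0) (h : tv δ (dual q p) ∈ M) :
    ∀ z, polar q z p = 0 → polar q z a = 0 → tv z (dual q p) ∈ M := by
  set a₁ := (polar q δ a)⁻¹ • a with ha₁
  have hqa : q a₁ = 0 := by rw [ha₁, QuadraticMap.map_smul, ha, smul_zero]
  have hap₁ : polar q p a₁ = 0 := by rw [ha₁, polar_smul_right, polar_comm (f := ⇑q) p a, hap, smul_zero]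
  have hδa₁ : polar q δ a₁ = 1 := by rw [ha₁, polar_smul_right, smul_eq_mul, inv_mul_cancel₀ hδa]
  have hd : ∀ {x y : ι → F}, polar q x p = 0 → polar q y p = 0 → tv x (dual q p) ∈ M → tv y (dual q p) ∈ M →
      tv (x + y) (dual q p) ∈ M := fun hx hy h h' => by
    rw [← tv_mul_tv_left (by rw [dual_dot, hx]) (by rw [dual_dot, hy])]; exact M.mul_mem h h'
  have hD : ∀ b, polar q b p = 0 → polar q b a = 0 →
      tv (b + (-polar q δ b - q b) • a₁) (dual q p) ∈ M := fun b hbp hba => by
    have := move hq hn h2 hM (u := a₁) (a := b) hqa (by rw [ha₁, polar_smul_left, polar_comm (f := ⇑q) a b, hba, smul_zero])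
      hap₁ (by rw [polar_comm, hbp]) hδp h
    rwa [hδa₁, one_smul, mul_one] at this
  have hA : ∀ b, polar q b p = 0 → polar q b a = 0 → tv ((-2 * q b) • a₁) (dual q p) ∈ M := fun b hbp hba => by
    have := hd (x := b + (-polar q δ b - q b) • a₁) (y := -b + (-polar q δ (-b) - q (-b)) • a₁) ?_ ?_ (hD b hbp hba)
      (hD (-b) (by rw [polar_neg_left, hbp, neg_zero]) (by rw [polar_neg_left, hba, neg_zero]))
    · convert this using 2
      rw [polar_neg_right, QuadraticMap.map_neg]
      module
    · rw [polar_add_left, polar_smul_left, polar_comm (f := ⇑q) a₁ p, hap₁, hbp, smul_zero, add_zero]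
    · rw [polar_add_left, polar_smul_left, polar_comm (f := ⇑q) a₁ p, hap₁, polar_neg_left, hbp, smul_zero,
        neg_zero, add_zero]
  obtain ⟨v, hv, hpv, hav⟩ := exists_aniso hq hn p a
  have hline : ∀ c : F, tv (c • a₁) (dual q p) ∈ M := fun c => by
    obtain ⟨s, t, hst⟩ := CfsgLib.Orth.exists_binary h2 hv hv (c / -2)
    have hs : ∀ r : F, tv ((-2 * q (r • v)) • a₁) (dual q p) ∈ M := fun r =>
      hA (r • v) (by rw [polar_comm, polar_smul_right, hpv, smul_zero])
        (by rw [polar_comm, polar_smul_right, hav, smul_zero])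
    have hp0 : ∀ r : F, polar q (r • a₁) p = 0 := fun r => by
      rw [polar_smul_left, polar_comm (f := ⇑q) a₁ p, hap₁, smul_zero]
    have := hd (hp0 _) (hp0 _) (hs s) (hs t)
    have e : -2 * q (s • v) + -2 * q (t • v) = c := by
      rw [QuadraticMap.map_smul, QuadraticMap.map_smul, smul_eq_mul, smul_eq_mul]
      calc _ = -2 * (q v * s ^ 2 + q v * t ^ 2) := by ring
        _ = c := by rw [hst, mul_div_cancel₀ _ (neg_ne_zero.2 h2)]
    rwa [← add_smul, e] at this
  intro z hzp hza
  have := hd (x := z + (-polar q δ z - q z) • a₁) (y := -(-polar q δ z - q z) • a₁) ?_ ?_ (hD z hzp hza) (hline _)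
  · rwa [add_assoc, ← add_smul, add_neg_cancel, zero_smul, add_zero] at this
  · rw [polar_add_left, polar_smul_left, polar_comm (f := ⇑q) a₁ p, hap₁, hzp, smul_zero, add_zero]
  · rw [polar_smul_left, polar_comm (f := ⇑q) a₁ p, hap₁, smul_zero]

/-- One transvection off the line of its axis gives the whole axis. -/
theorem full {p δ : ι → F} (hδp : polar q δ p = 0) (hδn : δ ∉ Submodule.span F {p})
    (h : tv δ (dual q p) ∈ M) : dual q p ∈ fullAxes M := by
  obtain ⟨a, ha, hqa, haδ⟩ := exists_singular_sep hq hn (S := Submodule.span F {p}) (by have := finrank_span_le_card (R := F) ({p} : Set (ι → F)); simp at this; omega) hδn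
  have hap : polar q a p = 0 := by
    rw [polar_comm]; exact OrthTools.mem_orth.1 ha p (Submodule.mem_span_singleton_self p)
  have hH := hyper hq hn h2 hM hδp hap hqa (by rwa [polar_comm]) h
  obtain ⟨v, hv, hvn⟩ := exists_outside hq hn (S := Submodule.span F ({p, a} : Set (ι → F)))
    (T := Submodule.span F {p}) (by have := finrank_two_le hq hn p a; have := finrank_one_le hq hn p; omega)
  rw [mem_orth_pair] at hv
  obtain ⟨a', ha', hqa', ha'v⟩ := exists_singular_sep hq hn (S := Submodule.span F {p}) (by have := finrank_span_le_card (R := F) ({p} : Set (ι → F)); simp at this; omega) hvn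
  have hap' : polar q a' p = 0 := by
    rw [polar_comm]; exact OrthTools.mem_orth.1 ha' p (Submodule.mem_span_singleton_self p)
  have hvp : polar q v p = 0 := by rw [polar_comm, hv.1]
  have hva : polar q v a = 0 := by rw [polar_comm, hv.2]
  have hva' : polar q v a' ≠ 0 := by rwa [polar_comm]
  have hH' := hyper hq hn h2 hM hvp hap' hqa' hva' (hH v hvp hva)
  refine mem_fullAxes.2 fun z hz => ?_
  rw [dual_dot] at hz
  set k := polar q z a' / polar q v a' with hk
  have h1 : polar q (z - k • v) p = 0 := by rw [polar_sub_left, polar_smul_left, hz, hvp, smul_zero, sub_zero]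
  have h3 := hH' (z - k • v) h1 (by
    rw [polar_sub_left, polar_smul_left, smul_eq_mul, hk, div_mul_cancel₀ _ hva', sub_self])
  have h4 := hH (k • v) (by rw [polar_smul_left, hvp, smul_zero]) (by rw [polar_smul_left, hva, smul_zero])
  have := M.mul_mem h3 h4
  rwa [tv_mul_tv_left (by rw [dual_dot, h1]) (by rw [dual_dot, polar_smul_left, hvp, smul_zero]),
    sub_add_cancel] at this

omit hM

/-- An element which is no similitude moves some totally singular line off its dual. -/
theorem exists_line {g : GL ι F} (hg : g ∉ Cfsg.Geo.quadSimilarityGroup (q : (ι → F) → F))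
    (L : (ι → F) →ₗ[F] (ι → F))
    (hL : ∀ x u, polar q x (L u) = polar q (((g⁻¹ : GL ι F) : Matrix ι ι F) *ᵥ x) u) :
    ∃ u w, q u = 0 ∧ q w = 0 ∧ polar q u w = 0 ∧ w ≠ 0 ∧
      (g : Matrix ι ι F) *ᵥ u ∉ Submodule.span F ({(g : Matrix ι ι F) *ᵥ w, L u, L w} : Set (ι → F)) := by
  by_contra hno
  push Not at hno
  apply hg
  let K : (ι → F) →ₗ[F] (ι → F) := Matrix.toLin' ((g⁻¹ : GL ι F) : Matrix ι ι F) ∘ₗ L
  have hK : Function.Injective K := by
    refine (injective_iff_map_eq_zero _).2 fun u hu => ?_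
    by_contra h0
    obtain ⟨y, hy⟩ := exists_polar_eq_one hq h0
    have hLu : L u = 0 := gl_mulVec_injective g⁻¹ (by simpa [K, Matrix.toLin'_apply] using hu)
    have := hL ((g : Matrix ι ι F) *ᵥ y) u
    rw [hLu, polar_zero_right, gl_inv_mulVec_mulVec, polar_comm, hy] at this
    exact zero_ne_one this
  have hin : ∀ u w, q u = 0 → q w = 0 → polar q u w = 0 → w ≠ 0 → u ∈ Submodule.span F ({w, K u, K w} : Set (ι → F)) := by
    intro u w hu hw huw hw0
    obtain ⟨r, s, t, e⟩ : ∃ r s t : F, r • ((g : Matrix ι ι F) *ᵥ w) + s • L u + t • L w = (g : Matrix ι ι F) *ᵥ u := by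
      obtain ⟨r, z, hz, e⟩ := Submodule.mem_span_insert.1 (hno u w hu hw huw hw0)
      obtain ⟨s, t, rfl⟩ := Submodule.mem_span_pair.1 hz
      exact ⟨r, s, t, by rw [e, add_assoc]⟩
    have e' := congrArg (fun x => ((g⁻¹ : GL ι F) : Matrix ι ι F) *ᵥ x) e
    simp only [mulVec_add, mulVec_smul, gl_inv_mulVec_mulVec] at e'
    suffices h : r • w + s • K u + t • K w ∈ Submodule.span F ({w, K u, K w} : Set (ι → F)) from
      Eq.subst (motive := (· ∈ Submodule.span F ({w, K u, K w} : Set (ι → F)))) e' h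
    refine Submodule.add_mem _ (Submodule.add_mem _ (Submodule.smul_mem _ _ (Submodule.subset_span (by simp)))
      (Submodule.smul_mem _ _ (Submodule.subset_span ?_))) (Submodule.smul_mem _ _ (Submodule.subset_span ?_))
    · exact Set.mem_insert_of_mem _ (Set.mem_insert _ _)
    · exact Set.mem_insert_of_mem _ (Set.mem_insert_of_mem _ rfl)
  -- the map preserves every totally singular line
  have hlines : ∀ a b, q a = 0 → q b = 0 → polar q a b = 0 → b ∉ Submodule.span F {a} → a ≠ 0 →
      K a ∈ Submodule.span F ({a, b} : Set (ι → F)) := by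
    intro a b ha hb hab hba ha0
    set P := Submodule.span F ({a, b} : Set (ι → F)) with hP
    have hdP : Module.finrank F P = 2 := by
      refine le_antisymm (finrank_pair_le a b) ?_
      have h1 : Submodule.span F {a} < P := lt_of_le_of_ne (Submodule.span_mono (by simp)) fun he => hba (by
        rw [he]; exact Submodule.subset_span (by simp))
      have h3 := Submodule.finrank_lt_finrank_of_lt h1
      rw [finrank_span_singleton ha0] at h3
      omega
    have hsing : ∀ x ∈ P, q x = 0 ∧ ∀ y ∈ P, polar q x y = 0 := by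
      intro x hx
      obtain ⟨r, s, rfl⟩ := Submodule.mem_span_pair.1 hx
      refine ⟨by simp [QuadraticMap.map_add ⇑q, QuadraticMap.map_smul, polar_smul_left, polar_smul_right, ha, hb, hab],
        fun y hy => ?_⟩
      obtain ⟨r', s', rfl⟩ := Submodule.mem_span_pair.1 hy
      simp [polar_add_left, polar_smul_left, polar_add_right, polar_smul_right, polar_self', ha, hb, hab,
        polar_comm (f := ⇑q) b a]
    have hdK : Module.finrank F (P.map K) = 2 := by
      rw [← (Submodule.equivMapOfInjective K hK P).finrank_eq, hdP]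
    suffices hPK : P ≤ P.map K by
      have e := Submodule.eq_of_le_of_finrank_eq hPK (by rw [hdK, hdP])
      rw [e]
      exact ⟨a, Submodule.subset_span (by simp), rfl⟩
    intro x hx
    by_contra hxK
    obtain ⟨w, hw, hw0, hwK⟩ : ∃ w ∈ P, w ≠ 0 ∧ (P ⊓ P.map K ≤ Submodule.span F {w}) := by
      by_cases hbot : P ⊓ P.map K = ⊥
      · exact ⟨a, Submodule.subset_span (by simp), ha0, by rw [hbot]; exact bot_le⟩
      obtain ⟨w, hw, hw0⟩ := Submodule.exists_mem_ne_zero_of_ne_bot hbot
      refine ⟨w, hw.1, hw0, le_of_eq (Submodule.eq_of_le_of_finrank_le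
        ((Submodule.span_singleton_le_iff_mem _ _).2 hw) ?_).symm⟩
      rw [finrank_span_singleton hw0]
      have h1 : P ⊓ P.map K < P := lt_of_le_of_ne inf_le_left fun he => hxK (by
        rw [← he] at hx; exact hx.2)
      have := Submodule.finrank_lt_finrank_of_lt h1
      omega
    obtain ⟨u, hu, hun⟩ := SetLike.not_le_iff_exists.1 (show ¬ P ≤ Submodule.span F {w} from fun hle => by
      have := Submodule.finrank_mono hle
      rw [finrank_span_singleton hw0, hdP] at this
      omega)
    obtain ⟨r, z, hz, e⟩ := Submodule.mem_span_insert.1 (hin u w (hsing u hu).1 (hsing w hw).1 ((hsing u hu).2 w hw) hw0)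
    have hz' : z ∈ P.map K := by
      obtain ⟨s, t, rfl⟩ := Submodule.mem_span_pair.1 hz
      exact Submodule.add_mem _ (Submodule.smul_mem _ _ ⟨u, hu, rfl⟩) (Submodule.smul_mem _ _ ⟨w, hw, rfl⟩)
    have hzP : z ∈ P := by
      have := P.sub_mem hu (P.smul_mem r hw)
      rwa [e, add_sub_cancel_left] at this
    apply hun
    rw [e]
    exact Submodule.add_mem _ (Submodule.smul_mem _ _ (Submodule.mem_span_singleton_self w)) (hwK ⟨hzP, hz'⟩)
  -- hence every singular point
  have hpoint : ∀ e, q e = 0 → e ≠ 0 → ∃ c : F, ∀ y,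
      polar q y e = c * polar q ((g : Matrix ι ι F) *ᵥ y) ((g : Matrix ι ι F) *ᵥ e) := by
    intro e he he0
    have hsing : ∀ T : Submodule F (ι → F), Module.finrank F T ≤ 2 →
        ∃ f, q f = 0 ∧ polar q e f = 0 ∧ f ∉ T := by
      intro T hT
      obtain ⟨C, hC⟩ := Submodule.exists_isCompl T
      have h1 := OrthTools.finrank_orth hq (Submodule.span F {e})
      rw [finrank_span_singleton he0] at h1
      have h4 := Submodule.finrank_add_eq_of_isCompl hC
      have h5 := Submodule.finrank_sup_add_finrank_inf_eq (OrthTools.orth q (Submodule.span F {e})) C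
      have h6 := Submodule.finrank_le (OrthTools.orth q (Submodule.span F {e}) ⊔ C)
      rw [Module.finrank_fintype_fun_eq_card] at h4 h6
      obtain ⟨f, ⟨hfe, hfC⟩, hf0, hf⟩ :=
        OrthTools.exists_singular hq (OrthTools.orth q (Submodule.span F {e}) ⊓ C) (by omega)
      exact ⟨f, hf, OrthTools.mem_orth.1 hfe e (Submodule.mem_span_singleton_self e),
        fun h => hf0 (Submodule.disjoint_def.1 hC.disjoint f h hfC)⟩
    obtain ⟨f, hf, hef, hfn⟩ := hsing (Submodule.span F {e}) (by rw [finrank_span_singleton he0]; omega)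
    obtain ⟨f', hf', hef', hfn'⟩ := hsing (Submodule.span F ({e, f} : Set (ι → F))) (finrank_pair_le e f)
    obtain ⟨r, s, hrs⟩ := Submodule.mem_span_pair.1 (hlines e f he hf hef hfn he0)
    obtain ⟨r', s', hrs'⟩ := Submodule.mem_span_pair.1 (hlines e f' he hf' hef'
      (fun h => hfn' (Submodule.span_mono (by simp) h)) he0)
    have hs' : s' = 0 := by
      by_contra h0
      refine hfn' (Submodule.mem_span_pair.2 ⟨s'⁻¹ * (r - r'), s'⁻¹ * s, ?_⟩)
      have e1 : s' • f' = (r - r') • e + s • f := by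
        rw [← hrs] at hrs'
        rw [sub_smul, eq_sub_of_add_eq' hrs']
        abel
      rw [mul_smul, mul_smul, ← smul_add, ← e1, inv_smul_smul₀ h0]
    rw [hs', zero_smul, add_zero] at hrs'
    refine ⟨r', fun y => ?_⟩
    have hLe : L e = r' • ((g : Matrix ι ι F) *ᵥ e) := by
      have h1 : (g : Matrix ι ι F) *ᵥ K e = L e := by simp [K, Matrix.toLin'_apply]
      rw [← h1, ← hrs', mulVec_smul]
    have := hL ((g : Matrix ι ι F) *ᵥ y) e
    rwa [hLe, polar_smul_right, smul_eq_mul, gl_inv_mulVec_mulVec, eq_comm] at this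
  choose c hc using hpoint
  have hne : ∀ e (he : q e = 0) (he0 : e ≠ 0), c e he he0 ≠ 0 := by
    intro e he he0 h0
    obtain ⟨y, hy⟩ := exists_polar_eq_one hq he0
    have := hc e he he0 y
    rw [h0, zero_mul, polar_comm, hy] at this
    exact one_ne_zero this
  have hpair : ∀ e f (he : q e = 0) (he0 : e ≠ 0) (hf : q f = 0) (hf0 : f ≠ 0), polar q e f ≠ 0 →
      c e he he0 = c f hf hf0 := by
    intro e f he he0 hf hf0 hef
    have h1 := hc e he he0 f
    have h3 := hc f hf hf0 e
    rw [polar_comm (f := ⇑q) f e, polar_comm (f := ⇑q) ((g : Matrix ι ι F) *ᵥ f)] at h1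
    refine mul_right_cancel₀ (fun h0 => hef ?_) (h1.symm.trans h3)
    rw [h1, h0, mul_zero]
  obtain ⟨e₀, -, he₀0, he₀⟩ := OrthTools.exists_singular hq (⊤ : Submodule F (ι → F))
    (by rw [finrank_top, Module.finrank_fintype_fun_eq_card]; omega)
  set c₀ := c e₀ he₀ he₀0
  have hc₀ : ∀ z y, polar q y z = c₀ * polar q ((g : Matrix ι ι F) *ᵥ y) ((g : Matrix ι ι F) *ᵥ z) := by
    intro z y
    have hs : ∀ e, q e = 0 → polar q y e = c₀ * polar q ((g : Matrix ι ι F) *ᵥ y) ((g : Matrix ι ι F) *ᵥ e) := by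
      intro e he
      by_cases he0 : e = 0
      · simp [he0]
      obtain ⟨d, hd, hde₀, hde⟩ := exists_linking hq hn he₀ he₀0 he he0
      have hd0 : d ≠ 0 := fun h => hde (by rw [h, polar_zero_left])
      rw [show c₀ = c e he he0 from (hpair d e₀ hd hd0 he₀ he₀0 hde₀).symm.trans (hpair d e hd hd0 he he0 hde)]
      exact hc e he he0 y
    by_cases hz : z = 0
    · simp [hz]
    obtain ⟨u, -, hu, huz⟩ := exists_singular_sep hq hn (S := ⊥) (by simp; omega) (v := z) (by simpa using hz)
    set t := -q z / polar q z u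
    have hzu : q (z + t • u) = 0 := by
      rw [QuadraticMap.map_add ⇑q, QuadraticMap.map_smul, hu, polar_smul_right]
      simp [t, div_mul_cancel₀ _ (show polar q z u ≠ 0 by rwa [polar_comm])]
    have e1 := hs _ hzu
    rw [mulVec_add, mulVec_smul, polar_add_right, polar_add_right, polar_smul_right, polar_smul_right, hs u hu] at e1
    simp only [smul_eq_mul] at e1
    linear_combination e1
  refine ⟨(Units.mk0 c₀ (hne _ he₀ he₀0))⁻¹, fun v => ?_⟩
  have h1 := hc₀ v v
  rw [polar_self', polar_self'] at h1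
  rw [Units.val_inv_eq_inv_val, Units.val_mk0]
  rw [eq_inv_mul_iff_mul_eq₀ (hne _ he₀ he₀0)]
  exact mul_left_cancel₀ h2 (by linear_combination -h1)

include hM

variable (hR : ∀ c d, q c ≠ 0 → q d ≠ 0 → ((refl q c * refl q d : O q) : GL ι F) ∈ M)
include hR

/-- An element of the overgroup fixing a small subspace and moving a vector outside it off a line of it. -/
theorem exists_move {S : Submodule F (ι → F)} (hS : Module.finrank F S + 3 ≤ Fintype.card ι) {v p : ι → F}
    (hv : v ∉ S) (hp : p ∈ S) :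
    ∃ e : O q, (e : GL ι F) ∈ M ∧ (∀ x ∈ S, app e x = x) ∧ app e v - v ∉ Submodule.span F {p} := by
  set X := OrthTools.orth q S with hX
  have hdX : 3 ≤ Module.finrank F X := by
    rw [hX, OrthTools.finrank_orth hq]; omega
  have horth : ∀ x ∈ S, ∀ y ∈ X, polar q x y = 0 := fun x hx y hy => OrthTools.mem_orth.1 hy x hx
  obtain ⟨z, hz, hzv⟩ := exists_pairing hq hn hv
  by_cases hA : ∃ c ∈ X, ∃ d ∈ X, q c ≠ 0 ∧ q d ≠ 0 ∧ polar q c d = 0 ∧ polar q c v ≠ 0
  · obtain ⟨c, hc, d, hd, hqc, hqd, hcd, hcv⟩ := hA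
    refine ⟨refl q c * refl q d, hR c d hqc hqd, fun x hx => ?_, fun hin => ?_⟩
    · rw [app_mul, app_refl_of_ortho (horth x hx d hd), app_refl_of_ortho (horth x hx c hc)]
    · obtain ⟨k, hk⟩ := Submodule.mem_span_singleton.1 hin
      have h := congrArg (fun y => polar q c y) hk
      simp only [app_mul, app_refl, polar_sub_left, polar_sub_right, polar_smul_left, polar_smul_right,
        smul_eq_mul, polar_comm (f := ⇑q) d c, hcd, mul_zero, sub_zero, polar_self', polar_comm (f := ⇑q) c p,
        horth p hp c hc, polar_comm (f := ⇑q) v c] at h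
      field_simp at h
      exact hcv (mul_left_cancel₀ h2 (by linear_combination h))
  push Not at hA
  obtain ⟨R, hRX, hdR, hRs, hRo⟩ : ∃ R : Submodule F (ι → F), R ≤ X ∧ 2 ≤ Module.finrank F R ∧
      (∀ r ∈ R, q r = 0) ∧ ∀ r ∈ R, ∀ x ∈ X, polar q r x = 0 := by
    by_cases hall : ∀ x ∈ X, q x = 0
    · refine ⟨X, le_rfl, by omega, hall, fun r hr x hx => ?_⟩
      have h := hall _ (X.add_mem hr hx)
      rwa [QuadraticMap.map_add ⇑q, hall r hr, hall x hx, zero_add, zero_add] at h
    push Not at hall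
    obtain ⟨c, hc, hqc, hcv⟩ : ∃ c ∈ X, q c ≠ 0 ∧ polar q c v ≠ 0 := by
      obtain ⟨c₀, hc₀, hqc₀⟩ := hall
      by_cases h : polar q c₀ v = 0
      swap
      · exact ⟨c₀, hc₀, hqc₀, h⟩
      by_cases hqz : q z = 0
      swap
      · exact ⟨z, hz, hqz, hzv⟩
      by_cases hp : q (z + c₀) = 0
      swap
      · exact ⟨z + c₀, X.add_mem hz hc₀, hp, by rwa [polar_add_left, h, add_zero]⟩
      refine ⟨z + -c₀, X.add_mem hz (X.neg_mem hc₀), fun hm => ?_,
        by rwa [polar_add_left, polar_neg_left, h, neg_zero, add_zero]⟩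
      rw [QuadraticMap.map_add ⇑q, hqz, zero_add] at hp hm
      rw [QuadraticMap.map_neg, polar_neg_right] at hm
      exact mul_ne_zero h2 hqc₀ (by linear_combination hp + hm)
    have hsing : ∀ r ∈ X ⊓ OrthTools.orth q (Submodule.span F {c}), q r = 0 := fun r hr => by
      by_contra h
      exact hcv (hA c hc r hr.1 hqc h (OrthTools.mem_inf_orth hr).2)
    refine ⟨_, inf_le_left, by have := OrthTools.finrank_inf_orth hq X c; omega, hsing, fun r hr x hx => ?_⟩
    set k := polar q c x / (2 * q c) with hk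
    have hx' : x - k • c ∈ X ⊓ OrthTools.orth q (Submodule.span F {c}) := by
      refine ⟨X.sub_mem hx (X.smul_mem _ hc), OrthTools.mem_orth.2 fun y hy => ?_⟩
      obtain ⟨t, rfl⟩ := Submodule.mem_span_singleton.1 hy
      rw [polar_smul_left, polar_sub_right, polar_smul_right, polar_self', smul_eq_mul, smul_eq_mul, hk,
        div_mul_cancel₀ _ (mul_ne_zero h2 hqc), sub_self, mul_zero]
    have h := hsing _ (Submodule.add_mem _ hr hx')
    rw [QuadraticMap.map_add ⇑q, hsing r hr, hsing _ hx', zero_add, zero_add, polar_sub_right, polar_smul_right,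
      polar_comm (f := ⇑q) r c, (OrthTools.mem_inf_orth hr).2, smul_zero, sub_zero] at h
    exact h
  have hfix : ∀ a ∈ X, ∀ b ∈ X, q a = 0 → polar q a b = 0 → ∀ x ∈ S, app (eich q a b) x = x :=
    fun a ha b hb hqa hab x hx => by
      rw [app_eich hqa hab, horth x hx a ha, horth x hx b hb]
      simp
  by_cases hRv : ∃ a ∈ R, polar q a v ≠ 0
  · obtain ⟨a, ha, hav⟩ := hRv
    obtain ⟨b, hb, hbn⟩ : ∃ b ∈ X, b ∉ Submodule.span F ({a, p} : Set (ι → F)) :=
      SetLike.not_le_iff_exists.1 fun hle => by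
        have := Submodule.finrank_mono hle
        have := finrank_pair_le (F := F) a p
        omega
    have hab := hRo a ha b hb
    refine ⟨eich q a b, hM a b (hRs a ha) hab, hfix a (hRX ha) b hb (hRs a ha) hab, fun hin => hbn ?_⟩
    obtain ⟨k, hk⟩ := Submodule.mem_span_singleton.1 hin
    rw [app_eich (hRs a ha) hab] at hk
    set l := -polar q v b - q b * polar q v a
    have hk0 : polar q v a ≠ 0 := by rwa [polar_comm]
    refine Submodule.mem_span_pair.2 ⟨-(polar q v a)⁻¹ * l, (polar q v a)⁻¹ * k, ?_⟩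
    have e1 : polar q v a • b = k • p - l • a := by rw [hk]; abel
    rw [← inv_smul_smul₀ hk0 b, e1]
    module
  · push Not at hRv
    obtain ⟨a, ha, han⟩ : ∃ a ∈ R, a ∉ Submodule.span F {p} :=
      SetLike.not_le_iff_exists.1 fun hle => by
        have := Submodule.finrank_mono hle
        have : Module.finrank F (Submodule.span F ({p} : Set (ι → F))) ≤ 1 :=
          (finrank_span_le_card ({p} : Set (ι → F))).trans (by simp)
        omega
    have haz := hRo a ha z hz
    refine ⟨eich q a z, hM a z (hRs a ha) haz, hfix a (hRX ha) z hz (hRs a ha) haz, fun hin => han ?_⟩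
    rw [app_eich (hRs a ha) haz, polar_comm (f := ⇑q) v a, hRv a ha, zero_smul, add_zero, add_sub_cancel_left,
      mul_zero, sub_zero, polar_comm] at hin
    exact (Submodule.smul_mem_iff _ (neg_ne_zero.2 hzv)).1 hin

/-- An overgroup containing an element which is no similitude contains a transvection. -/
theorem exists_tv {g : GL ι F} (hgM : g ∈ M) (hg : g ∉ Cfsg.Geo.quadSimilarityGroup (q : (ι → F) → F)) :
    ∃ δ p, polar q δ p = 0 ∧ δ ∉ Submodule.span F {p} ∧ p ≠ 0 ∧ tv δ (dual q p) ∈ M := by
  let Φ := LinearEquiv.ofBijective (dual q) ⟨dual_injective hq hn, dual_surjective hq hn⟩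
  let L : (ι → F) →ₗ[F] (ι → F) :=
    Φ.symm.toLinearMap ∘ₗ Matrix.vecMulLinear ((g⁻¹ : GL ι F) : Matrix ι ι F) ∘ₗ dual q
  have hL : ∀ x u, polar q x (L u) = polar q (((g⁻¹ : GL ι F) : Matrix ι ι F) *ᵥ x) u := by
    intro x u
    have h1 : dual q (L u) = dual q u ᵥ* ((g⁻¹ : GL ι F) : Matrix ι ι F) := Φ.apply_symm_apply _
    rw [← dual_dot, h1, ← dotProduct_mulVec, dual_dot]
  obtain ⟨u, w, hu, hw, huw, hw₀, hout⟩ := exists_line hq hn h2 hg L hL
  set u' := (g : Matrix ι ι F) *ᵥ u with hu'
  set w' := (g : Matrix ι ι F) *ᵥ w with hw'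
  set S := Submodule.span F ({w', L u, L w} : Set (ι → F)) with hS
  have hdS : Module.finrank F S ≤ 3 := by
    classical
    have := finrank_span_finset_le_card (R := F) ({w', L u, L w} : Finset (ι → F))
    rw [Finset.coe_insert, Finset.coe_pair] at this
    exact this.trans Finset.card_le_three
  obtain ⟨e, he, hfix, hmove⟩ := exists_move hq hn h2 hM hR (S := S) (p := L w) (by omega) hout
    (Submodule.subset_span (by simp))
  have hfixw : app e w' = w' := hfix _ (Submodule.subset_span (by simp))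
  have hpU : ∀ y, polar q (app e y) (L u) = polar q y (L u) := fun y => by
    conv_lhs => rw [← hfix (L u) (Submodule.subset_span (by simp))]
    rw [polar_app]
  have hpW : ∀ y, polar q (app e y) (L w) = polar q y (L w) := fun y => by
    conv_lhs => rw [← hfix (L w) (Submodule.subset_span (by simp))]
    rw [polar_app]
  set δ := -(app e u' - u') with hδ
  have hδW : polar q δ (L w) = 0 := by rw [hδ, polar_neg_left, polar_sub_left, hpW, sub_self, neg_zero]
  set T := g * ((eich q u w : O q) : GL ι F) * g⁻¹ with hT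
  have hTM : T ∈ M := M.mul_mem (M.mul_mem hgM (hM u w hu huw)) (M.inv_mem hgM)
  have hTx : ∀ x, (T : Matrix ι ι F) *ᵥ x = x + polar q x (L u) • w' - polar q x (L w) • u' := by
    intro x
    rw [hT, gl_mul_mulVec, gl_mul_mulVec,
      show (((eich q u w : O q) : GL ι F) : Matrix ι ι F) *ᵥ (((g⁻¹ : GL ι F) : Matrix ι ι F) *ᵥ x) =
        app (eich q u w) (((g⁻¹ : GL ι F) : Matrix ι ι F) *ᵥ x) from rfl, app_eich hu huw, hw, zero_mul, sub_zero,
      mulVec_add, mulVec_add, mulVec_smul, mulVec_smul, gl_mulVec_inv_mulVec, hL, hL]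
    module
  clear_value T
  refine ⟨δ, L w, hδW, fun hin => ?_, fun h0 => ?_, ?_⟩
  · apply hmove
    simpa [hδ] using Submodule.neg_mem _ hin
  · have h1 : ∀ y, polar q y w = 0 := fun y => by
      have := hL ((g : Matrix ι ι F) *ᵥ y) w
      rwa [h0, polar_zero_right, gl_inv_mulVec_mulVec, eq_comm] at this
    have hw0 : w ≠ 0 := fun hw0 => hw₀ hw0
    obtain ⟨y, hy⟩ := exists_polar_eq_one hq hw0
    rw [polar_comm] at hy
    exact one_ne_zero (hy.symm.trans (h1 y))
  have h1 := M.mul_mem (M.mul_mem (M.mul_mem he hTM) (M.inv_mem he)) (M.inv_mem hTM)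
  convert h1 using 1
  rw [eq_mul_inv_iff_mul_eq, eq_mul_inv_iff_mul_eq]
  refine gl_ext fun y => ?_
  have hTW : polar q ((T : Matrix ι ι F) *ᵥ app e y) (L w) = polar q y (L w) := by
    rw [hTx, polar_sub_left, polar_add_left, polar_smul_left, polar_smul_left, hpW, hpU, hL w', hL u', hw', hu',
      gl_inv_mulVec_mulVec, gl_inv_mulVec_mulVec, polar_self', hw, huw]
    simp
  rw [gl_mul_mulVec, gl_mul_mulVec, gl_mul_mulVec, tv_mulVec (by rw [dual_dot, hδW]), dual_dot]
  show (T : Matrix ι ι F) *ᵥ app e y +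
      polar q ((T : Matrix ι ι F) *ᵥ app e y) (L w) • δ = app e ((T : Matrix ι ι F) *ᵥ y)
  rw [hTW, hTx, hTx, hpU, hpW, map_sub, map_add, map_smul, map_smul, hfixw, hδ]
  module

/-- An overgroup with an element which is no similitude contains the special linear group. -/
theorem specialLinear_le {g : GL ι F} (hgM : g ∈ M)
    (hg : g ∉ Cfsg.Geo.quadSimilarityGroup (q : (ι → F) → F)) : Cfsg.Geo.specialLinear ι F ≤ M := by
  obtain ⟨δ, p, hδp, hδn, hp0, hδM⟩ := exists_tv hq hn h2 hM hR hgM hg
  have hp := full hq hn h2 hM hδp hδn hδM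
  set S := (fullAxes M).comap (dual q) with hS
  obtain ⟨y, hy⟩ := exists_polar_eq_one hq hp0
  have hX : ∀ x ∈ (⊤ : Submodule F (ι → F)), x ≠ 0 → ∃ y ∈ (⊤ : Submodule F (ι → F)), polar q x y ≠ 0 :=
    fun x _ hx => by
      obtain ⟨a, ha⟩ := exists_polar_eq_one hq hx
      exact ⟨a, trivial, by rw [ha]; exact one_ne_zero⟩
  have htop : (⊤ : Submodule F (ι → F)) ≤ S := absorb hq hX
    (by rw [finrank_top, Module.finrank_fintype_fun_eq_card]; omega)
    (fun w _ a _ hw hwa s hs => by
      have := fullAxes_invariant (hM w a hw hwa) (show dual q s ∈ fullAxes M from hs)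
      rwa [dual_vecMul] at this)
    (show p ∈ S from hp) (y := y) trivial (by rw [hy]; exact one_ne_zero)
  refine specialLinear_le_of_fullAxes_eq_top (eq_top_iff.2 fun φ _ => ?_)
  obtain ⟨z, rfl⟩ := dual_surjective hq hn φ
  exact htop trivial

omit hM hR

theorem mem_group {e : O q} (he : detHom q e = 1) :
    (e : GL ι F) ∈ Cfsg.Geo.quadSimilarityGroup (q : (ι → F) → F) ⊓ Cfsg.Geo.specialLinear ι F := by
  refine ⟨⟨1, fun v => ?_⟩, MonoidHom.mem_ker.2 he⟩
  rw [Units.val_one, one_mul]; exact Q_app _ v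

theorem refl_pair_mem_group {c d : ι → F} (hc : q c ≠ 0) (hd : q d ≠ 0) :
    ((refl q c * refl q d : O q) : GL ι F) ∈
      Cfsg.Geo.quadSimilarityGroup (q : (ι → F) → F) ⊓ Cfsg.Geo.specialLinear ι F :=
  mem_group hq hn h2 (by rw [map_mul, detHom_refl hc, detHom_refl hd, neg_one_mul, neg_neg])

theorem eich_mem_group {u a : ι → F} (hu : q u = 0) (hua : polar q u a = 0) :
    ((eich q u a : O q) : GL ι F) ∈
      Cfsg.Geo.quadSimilarityGroup (q : (ι → F) → F) ⊓ Cfsg.Geo.specialLinear ι F := by
  refine mem_group hq hn h2 ?_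
  have hne : ∀ a, polar q u a = 0 → q a ≠ 0 → detHom q (eich q u a) = 1 := fun a ha h0 => by
    have h1 : q (a + q a • u) ≠ 0 := by
      rw [QuadraticMap.map_add ⇑q, QuadraticMap.map_smul, polar_smul_right, hu, polar_comm (f := ⇑q) a u, ha]
      simpa using h0
    rw [eich_eq_refl_mul hu ha h0, map_mul, detHom_refl h0, detHom_refl h1, neg_one_mul, neg_neg]
  by_cases h0 : q a = 0
  · obtain ⟨c, hc, huc, hac⟩ := exists_aniso hq hn u a
    have h1 : polar q u (a + c) = 0 := by rw [polar_add_right, hua, huc, add_zero]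
    have h3 : q (a + c) ≠ 0 := by rwa [QuadraticMap.map_add ⇑q, h0, hac, add_zero, zero_add]
    rw [show a = a + c + -c by abel, ← eich_add hu h1 (by rw [polar_neg_right, huc, neg_zero]), map_mul,
      hne _ h1 h3, hne _ (by rw [polar_neg_right, huc, neg_zero]) (by rwa [QuadraticMap.map_neg]), one_mul]
  · exact hne a hua h0

/-- The similitudes of determinant one form a maximal subgroup of the special linear group. -/
theorem maximal : Cfsg.Geo.IsMaximalIn (Cfsg.Geo.specialLinear ι F)
    (Cfsg.Geo.quadSimilarityGroup (q : (ι → F) → F) ⊓ Cfsg.Geo.specialLinear ι F) := by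
  refine ⟨lt_of_le_of_ne inf_le_right fun he => ?_, fun M hle hMS => ?_⟩
  · obtain ⟨p, -, hp0, hp⟩ := OrthTools.exists_singular hq (⊤ : Submodule F (ι → F))
      (by rw [finrank_top, Module.finrank_fintype_fun_eq_card]; omega)
    have hpp : polar q p p = 0 := by rw [polar_self', hp, mul_zero]
    have hmem : tv p (dual q p) ∈ Cfsg.Geo.specialLinear ι F := tv_mem_specialLinear _ _
    rw [← he] at hmem
    obtain ⟨c, hc⟩ := hmem.1
    obtain ⟨x, hx, hpx, -⟩ := exists_aniso hq hn p p
    have e1 := hc x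
    rw [tv_mulVec (by rw [dual_dot, hpp]), dual_dot, polar_comm, hpx, zero_smul, add_zero] at e1
    have hc1 : (c : F) = 1 := (mul_eq_right₀ hx).1 e1.symm
    obtain ⟨y, hy⟩ := exists_polar_eq_one hq hp0
    rw [polar_comm] at hy
    have e2 := hc y
    rw [tv_mulVec (by rw [dual_dot, hpp]), dual_dot, hy, one_smul, hc1, one_mul, QuadraticMap.map_add ⇑q, hp,
      hy, add_zero, add_eq_left] at e2
    exact one_ne_zero e2
  by_cases hall : M ≤ Cfsg.Geo.quadSimilarityGroup (q : (ι → F) → F)
  · exact Or.inl (le_antisymm (le_inf hall hMS) hle)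
  right
  obtain ⟨g, hgM, hg⟩ := SetLike.not_le_iff_exists.1 hall
  exact le_antisymm hMS
    (specialLinear_le hq hn h2 (M := M) (hM := fun u a hu hua => hle (eich_mem_group hq hn h2 hu hua))
      (hR := fun c d hc hd => hle (refl_pair_mem_group hq hn h2 hc hd)) hgM hg)

end CfsgLib.GeomClasses.OrthSimilarity
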