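import Cfsg.Agent.Lib.GeomClasses.OrthClasses
import Cfsg.Agent.Lib.GeomClasses.Decomp
import Cfsg.Agent.Lib.Maximal.TensorThree

/-!
Orthogonal decompositions over small fields: the vectors of a fixed value in the members give overgroups of the
stabiliser of the decomposition.
-/

set_option autoImplicit false
set_option linter.unusedSectionVars false

namespace CfsgLib.GeomClasses.OrthFrames

open Matrix QuadraticMap CfsgLib.Maximal.TensorTools

variable {ι : Type} [Fintype ι] [DecidableEq ι] {F : Type*} [Field F] [Fintype F]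
variable {Q : (ι → F) → F} {t k : ℕ} {D : Fin t → Submodule F (ι → F)}

/-- The vectors of value `δ` in the members. -/
def shell (Q : (ι → F) → F) (D : Fin t → Submodule F (ι → F)) (δ : F) : Set (ι → F) :=
  {y | ∃ i, y ∈ D i ∧ Q y = δ}

theorem mem_stabilizing_of_maps {S : Set (ι → F)} {g : GL ι F}
    (h : ∀ y ∈ S, (g : Matrix ι ι F) *ᵥ y ∈ S) : g ∈ Cfsg.stabilizing (Cfsg.glToMat ι F) S := by
  classical
  intro y
  refine ⟨h y, fun hy => ?_⟩
  let f : S → S := fun z => ⟨(g : Matrix ι ι F) *ᵥ z.1, h z.1 z.2⟩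
  have hf : Function.Bijective f := (Finite.injective_iff_bijective).1 fun a b hab =>
    Subtype.ext (gl_mulVec_injective g (congrArg Subtype.val hab))
  obtain ⟨z, hz⟩ := hf.2 ⟨(g : Matrix ι ι F) *ᵥ y, hy⟩
  have : z.1 = y := gl_mulVec_injective g (congrArg Subtype.val hz)
  exact this ▸ z.2

theorem shell_invariant (hQ : Cfsg.Geo.IsNondegenerateQuadraticForm Q) (δ : F) {g : GL ι F}
    (hg : g ∈ Cfsg.Geo.decompositionStabilizer D ⊓ Cfsg.Geo.omegaGL Q) {y : ι → F} (hy : y ∈ shell Q D δ) :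
    (g : Matrix ι ι F) *ᵥ y ∈ shell Q D δ := by
  obtain ⟨⟨σ, hσ⟩, hΩ⟩ := hg
  obtain ⟨i, hi, hyδ⟩ := hy
  exact ⟨σ i, (hσ i) ▸ ⟨y, hi, by rw [Matrix.toLin'_apply]⟩,
    (CfsgLib.Orth.Q_app (Q := quadOf hQ) ⟨g, isometry_of_omega hΩ⟩ y).trans hyδ⟩

theorem orth_blocks (hD : Cfsg.Geo.IsOrthogonalMDecomposition Q k D) {i j : Fin t} (h : i ≠ j) {x y : ι → F}
    (hx : x ∈ D i) (hy : y ∈ D j) : polar Q x y = 0 :=
  hD.decomp.orthogonal i j h x hx y hy

theorem eq_of_mem (hD : Cfsg.Geo.IsOrthogonalMDecomposition Q k D) {i j : Fin t} {x : ι → F} (hi : x ∈ D i)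
    (hj : x ∈ D j) (hx : x ≠ 0) : i = j := by
  by_contra h
  exact hx ((Decomp.comp_of_mem hD.decomp.decomp hi).symm.trans
    (Decomp.comp_of_mem_ne hD.decomp.decomp (Ne.symm h) hj))

theorem card_le (hD : Cfsg.Geo.IsOrthogonalMDecomposition Q k D) : Fintype.card ι ≤ t * k := by
  have hs : ∀ s : Finset (Fin t), Module.finrank F ↥(s.sup D) ≤ s.card * k := by
    intro s
    induction s using Finset.induction_on with
    | empty => simp
    | insert a s ha ih =>
      rw [Finset.sup_insert, Finset.card_insert_of_notMem ha]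
      have h1 := Submodule.finrank_add_le_finrank_add_finrank (D a) (s.sup D)
      rw [hD.decomp.decomp.finrank_eq] at h1
      rw [Nat.succ_mul]
      omega
  have h1 := hs Finset.univ
  rwa [Finset.sup_univ_eq_iSup, hD.decomp.decomp.iSup_eq_top, finrank_top, Module.finrank_fintype_fun_eq_card,
    Finset.card_univ, Fintype.card_fin] at h1

theorem nondeg_block (hD : Cfsg.Geo.IsOrthogonalMDecomposition Q k D) (i : Fin t) :
    ∀ x ∈ D i, x ≠ 0 → ∃ y ∈ D i, polar Q x y ≠ 0 :=
  fun x hx hx0 => (hD.decomp.nondegenerate i x hx hx0).2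

/-- Moving a vector and a property of one member to all members. -/
theorem exists_family (hD : Cfsg.Geo.IsOrthogonalMDecomposition Q k D) (i₀ : Fin t) {δ : F} {u : ι → F}
    (hu : u ∈ D i₀) (huδ : Q u = δ) (i : Fin t) : ∃ v ∈ D i, Q v = δ := by
  obtain ⟨e, he⟩ := hD.isometric i₀ i
  exact ⟨e ⟨u, hu⟩, (e ⟨u, hu⟩).2, (he ⟨u, hu⟩).trans huδ⟩

/-- Vectors of value `δ` in one member are orthogonal or proportional. -/
def Rigid (Q : (ι → F) → F) (W : Submodule F (ι → F)) (δ : F) : Prop :=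
  ∀ y ∈ W, ∀ y' ∈ W, Q y = δ → Q y' = δ → polar Q y y' ≠ 0 → y' ∈ Submodule.span F {y}

theorem rigid_transport (hD : Cfsg.Geo.IsOrthogonalMDecomposition Q k D) (i₀ : Fin t) {δ : F}
    (h : Rigid Q (D i₀) δ) (i : Fin t) : Rigid Q (D i) δ := by
  obtain ⟨e, he⟩ := hD.isometric i i₀
  intro y hy y' hy' h1 h2 h3
  have hp : polar Q (e ⟨y, hy⟩ : ι → F) (e ⟨y', hy'⟩ : ι → F) = polar Q y y' := by
    have h' := he (⟨y, hy⟩ + ⟨y', hy'⟩)
    rw [map_add, Submodule.coe_add, Submodule.coe_add] at h'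
    simp only [QuadraticMap.polar, h', he ⟨y, hy⟩, he ⟨y', hy'⟩]
  obtain ⟨c, hc⟩ := Submodule.mem_span_singleton.1 (h _ (e ⟨y, hy⟩).2 _ (e ⟨y', hy'⟩).2
    ((he ⟨y, hy⟩).trans h1) ((he ⟨y', hy'⟩).trans h2) (by rw [hp]; exact h3))
  refine Submodule.mem_span_singleton.2 ⟨c, ?_⟩
  have : c • (⟨y, hy⟩ : D i) = ⟨y', hy'⟩ := e.injective (Subtype.ext (by rw [map_smul]; exact hc))
  exact congrArg Subtype.val this

open CfsgLib.Orth in
theorem pair_mem_omega (hQ : Cfsg.Geo.IsNondegenerateQuadraticForm Q) (h2 : (2 : F) ≠ 0) {a b : ι → F}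
    (ha : Q a ≠ 0) (hab : Q a = Q b) :
    ((refl (quadOf hQ) a * refl (quadOf hQ) b : O (quadOf hQ)) : GL ι F) ∈ Cfsg.Geo.omegaGL Q := by
  classical
  obtain ⟨g, hg⟩ := conj_of_eq_value (Q := quadOf hQ) h2 (u := a) (v := b) ha hab
  refine ⟨refl (quadOf hQ) a * refl (quadOf hQ) b, ?_, rfl⟩
  obtain ⟨x, y, hxy⟩ := pair_mem_commutator hg
  rw [← hxy]
  exact Subgroup.commutator_mem_commutator (Subgroup.mem_top x) (Subgroup.mem_top y)

/-- The overgroup in odd characteristic. -/
theorem case_odd (hQ : Cfsg.Geo.IsNondegenerateQuadraticForm Q) (h2 : (2 : F) ≠ 0)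
    (hD : Cfsg.Geo.IsOrthogonalMDecomposition Q k D) (ht : 5 ≤ t) (hk : 2 ≤ k) {δ : F} (hδ : δ ≠ 0)
    (i₀ : Fin t) {u₀ : ι → F} (hu₀ : u₀ ∈ D i₀) (huδ₀ : Q u₀ = δ) (hrig : Rigid Q (D i₀) δ) :
    ∃ K : Subgroup (GL ι F),
      Cfsg.Geo.decompositionStabilizer D ⊓ Cfsg.Geo.omegaGL Q < K ∧ K < Cfsg.Geo.omegaGL Q := by
  classical
  let q := quadOf hQ
  have hq : q.polarBilin.Nondegenerate := OrthTools.quadOf_nondegenerate hQ
  have hfam := exists_family hD i₀ hu₀ huδ₀
  choose u hu huδ using hfam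
  have hpp : ∀ i j, i ≠ j → polar q (u i) (u j) = 0 := fun i j h => orth_blocks hD h (hu i) (hu j)
  have hqu : ∀ i, q (u i) = δ := huδ
  have hself : ∀ i, polar q (u i) (u i) = 2 * δ := fun i => by rw [CfsgLib.Orth.polar_self', hqu]
  have hne : ∀ i, u i ≠ 0 := fun i h => hδ (by rw [← hqu i, h, QuadraticMap.map_zero])
  let a : Fin 5 → Fin t := fun x => ⟨x, by omega⟩
  have ha : ∀ x y, x ≠ y → a x ≠ a y := fun x y h hh => h (by simpa [a, Fin.ext_iff] using hh)
  have hd : ∀ i j, i ≠ j → q (u i - u j) = 2 * δ := fun i j h => by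
    rw [sub_eq_add_neg, QuadraticMap.map_add ⇑q, QuadraticMap.map_neg, polar_neg_right, hpp i j h, hqu, hqu]
    ring
  have hd0 : 2 * δ ≠ 0 := mul_ne_zero h2 hδ
  have hswap : ∀ i j, i ≠ j → CfsgLib.Orth.app (CfsgLib.Orth.refl q (u i - u j)) (u i) = u j := fun i j h => by
    rw [CfsgLib.Orth.app_refl, hd i j h, polar_sub_right, hself, hpp i j h, sub_zero, inv_mul_cancel₀ hd0,
      one_smul, sub_sub_cancel]
  have hfix : ∀ i j z, polar q z (u i) = 0 → polar q z (u j) = 0 →
      CfsgLib.Orth.app (CfsgLib.Orth.refl q (u i - u j)) z = z := fun i j z h1 h1' =>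
    CfsgLib.Orth.app_refl_of_ortho (by rw [polar_sub_right, h1, h1', sub_zero])
  have hside : ∀ i j, i ≠ j → ∀ y ∈ D i, Q y = δ →
      CfsgLib.Orth.app (CfsgLib.Orth.refl q (u i - u j)) y ∈ shell Q D δ := by
    intro i j h y hy hyδ
    have h0 : polar q y (u j) = 0 := orth_blocks hD h hy (hu j)
    by_cases h1 : polar q y (u i) = 0
    · rw [hfix i j y h1 h0]
      exact ⟨i, hy, hyδ⟩
    · obtain ⟨c, hc⟩ := Submodule.mem_span_singleton.1 (rigid_transport hD i₀ hrig i (u i) (hu i) y hy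
        (huδ i) hyδ (by rw [polar_comm]; exact h1))
      rw [← hc, map_smul, hswap i j h]
      refine ⟨j, (D j).smul_mem _ (hu j), ?_⟩
      have e1 : q (c • u i) = δ := by rw [hc]; exact hyδ
      show q (c • u j) = δ
      rw [QuadraticMap.map_smul, hqu] at e1 ⊢
      exact e1
  have hmaps : ∀ i j, i ≠ j → ∀ y ∈ shell Q D δ,
      CfsgLib.Orth.app (CfsgLib.Orth.refl q (u i - u j)) y ∈ shell Q D δ := by
    rintro i j h y ⟨l, hl, hlδ⟩
    rcases eq_or_ne l i with rfl | hli
    · exact hside l j h y hl hlδ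
    rcases eq_or_ne l j with rfl | hlj
    · rw [← CfsgLib.Orth.refl_neg, neg_sub]
      exact hside l i h.symm y hl hlδ
    rw [hfix i j y (orth_blocks hD hli hl (hu i)) (orth_blocks hD hlj hl (hu j))]
    exact ⟨l, hl, hlδ⟩
  refine ⟨Cfsg.stabilizing (Cfsg.glToMat ι F) (shell Q D δ) ⊓ Cfsg.Geo.omegaGL Q,
    lt_of_le_of_ne (fun g hg => ⟨mem_stabilizing_of_maps fun y hy => shell_invariant hQ δ hg hy, hg.2⟩)
      fun heq => ?_, lt_of_le_of_ne inf_le_right fun heq => ?_⟩
  · -- two exchanges of frame vectors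
    set r := CfsgLib.Orth.refl q (u (a 0) - u (a 1))
    set s := CfsgLib.Orth.refl q (u (a 2) - u (a 3))
    have hΩ : ((r * s : CfsgLib.Orth.O q) : GL ι F) ∈ Cfsg.Geo.omegaGL Q := by
      refine pair_mem_omega hQ h2 ?_ ?_
      · show q _ ≠ 0
        rw [hd _ _ (ha 0 1 (by decide))]; exact hd0
      · show q _ = q _
        rw [hd _ _ (ha 0 1 (by decide)), hd _ _ (ha 2 3 (by decide))]
    have hS : ((r * s : CfsgLib.Orth.O q) : GL ι F) ∈ Cfsg.stabilizing (Cfsg.glToMat ι F) (shell Q D δ) :=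
      mem_stabilizing_of_maps fun y hy => by
        show CfsgLib.Orth.app (r * s) y ∈ _
        rw [CfsgLib.Orth.app_mul]
        exact hmaps _ _ (ha 0 1 (by decide)) _ (hmaps _ _ (ha 2 3 (by decide)) y hy)
    obtain ⟨σ, hσ⟩ := (heq.ge ⟨hS, hΩ⟩).1
    obtain ⟨z, hz, hz0⟩ := Submodule.exists_mem_ne_zero_of_ne_bot
      (p := D (a 0) ⊓ OrthTools.orth q (Submodule.span F {u (a 0)})) fun hb => by
        have h1 := OrthTools.finrank_inf_orth hq (D (a 0)) (u (a 0))
        rw [hb, finrank_bot, hD.decomp.decomp.finrank_eq] at h1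
        omega
    obtain ⟨hzD, hzu⟩ := OrthTools.mem_inf_orth hz
    have o : ∀ x : Fin 5, x ≠ 0 → polar q z (u (a x)) = 0 := fun x hx =>
      orth_blocks hD (ha 0 x hx.symm) hzD (hu _)
    have hgu : CfsgLib.Orth.app (r * s) (u (a 0)) = u (a 1) := by
      rw [CfsgLib.Orth.app_mul, hfix _ _ _ (hpp _ _ (ha 0 2 (by decide))) (hpp _ _ (ha 0 3 (by decide))),
        hswap _ _ (ha 0 1 (by decide))]
    have hgz : CfsgLib.Orth.app (r * s) z = z := by
      rw [CfsgLib.Orth.app_mul, hfix _ _ _ (o 2 (by decide)) (o 3 (by decide)),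
        hfix _ _ _ (by rw [polar_comm]; exact hzu) (o 1 (by decide))]
    have m1 : u (a 1) ∈ D (σ (a 0)) := by
      rw [← hσ (a 0), ← hgu]
      exact ⟨u (a 0), hu _, by rw [Matrix.toLin'_apply]; rfl⟩
    have m2 : z ∈ D (σ (a 0)) := by
      rw [← hσ (a 0), ← hgz]
      exact ⟨z, hzD, by rw [Matrix.toLin'_apply]; rfl⟩
    exact ha 0 1 (by decide) ((eq_of_mem hD hzD m2 hz0).trans (eq_of_mem hD m1 (hu _) (hne _)))
  · -- two reflections in sums of four frame vectors
    set v := u (a 0) + u (a 1) + u (a 2) + u (a 3) with hv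
    set w := u (a 1) + u (a 2) + u (a 3) + u (a 4) with hw
    have o : ∀ x y : Fin 5, x ≠ y → polar q (u (a x)) (u (a y)) = 0 := fun x y h => hpp _ _ (ha x y h)
    have hqv : q v = 4 * δ := by
      simp only [hv, QuadraticMap.map_add ⇑q, polar_add_left, hqu, o 0 1 (by decide), o 0 2 (by decide),
        o 0 3 (by decide), o 1 2 (by decide), o 1 3 (by decide), o 2 3 (by decide)]
      ring
    have hqw : q w = 4 * δ := by
      simp only [hw, QuadraticMap.map_add ⇑q, polar_add_left, hqu, o 1 2 (by decide), o 1 3 (by decide),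
        o 1 4 (by decide), o 2 3 (by decide), o 2 4 (by decide), o 3 4 (by decide)]
      ring
    have h4 : 4 * δ ≠ 0 := mul_ne_zero (by rw [show (4 : F) = 2 * 2 by norm_num]; exact mul_ne_zero h2 h2) hδ
    have hΩ := pair_mem_omega hQ h2 (a := v) (b := w) (by show q v ≠ 0; rw [hqv]; exact h4)
      (by show q v = q w; rw [hqv, hqw])
    obtain ⟨l, hl, -⟩ := ((heq.ge hΩ).1 (u (a 0))).1 ⟨a 0, hu _, huδ _⟩
    change CfsgLib.Orth.app (CfsgLib.Orth.refl q v * CfsgLib.Orth.refl q w) (u (a 0)) ∈ D l at hl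
    have h0w : polar q (u (a 0)) w = 0 := by
      simp only [hw, polar_add_right, o 0 1 (by decide), o 0 2 (by decide), o 0 3 (by decide), o 0 4 (by decide),
        add_zero]
    have h0v : polar q (u (a 0)) v = 2 * δ := by
      simp only [hv, polar_add_right, hself, o 0 1 (by decide), o 0 2 (by decide), o 0 3 (by decide), add_zero]
    rw [CfsgLib.Orth.app_mul, CfsgLib.Orth.app_refl_of_ortho h0w, CfsgLib.Orth.app_refl, h0v, hqv] at hl
    have key : ∀ x : Fin 5, x = 1 ∨ x = 2 → l = a x := by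
      intro x hx
      by_contra h
      have hz := orth_blocks hD h hl (hu (a x))
      change polar q (u (a 0) - ((4 * δ)⁻¹ * (2 * δ)) • v) (u (a x)) = 0 at hz
      have hvx : polar q v (u (a x)) = 2 * δ := by
        rcases hx with rfl | rfl
        · simp only [hv, polar_add_left, hself, o 0 1 (by decide), o 2 1 (by decide), o 3 1 (by decide),
            add_zero, zero_add]
        · simp only [hv, polar_add_left, hself, o 0 2 (by decide), o 1 2 (by decide), o 3 2 (by decide),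
            add_zero, zero_add]
      rw [polar_sub_left, polar_smul_left, hvx, o 0 x (by rcases hx with rfl | rfl <;> decide), zero_sub,
        neg_eq_zero, smul_eq_mul, mul_eq_zero, mul_eq_zero] at hz
      rcases hz with (hz | hz) | hz
      · exact inv_ne_zero h4 hz
      · exact hd0 hz
      · exact hd0 hz
    exact ha 1 2 (by decide) ((key 1 (Or.inl rfl)).symm.trans (key 2 (Or.inr rfl)))

/-- Over three elements a plane is rigid for each non-zero value. -/
theorem rigid_plane_three (hQ : Cfsg.Geo.IsNondegenerateQuadraticForm Q) (h3 : Fintype.card F = 3)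
    {W : Submodule F (ι → F)} (hW : ∀ x ∈ W, x ≠ 0 → ∃ y ∈ W, polar Q x y ≠ 0)
    (hd : Module.finrank F W = 2) {δ : F} (hδ : δ ≠ 0) : Rigid Q W δ := by
  let q := quadOf hQ
  intro y hy y' hy' h1 h2 h3'
  by_contra hns
  have hy0 : y ≠ 0 := fun h => hδ (by rw [← h1, h]; exact QuadraticMap.map_zero q)
  have h30 := CfsgLib.Maximal.TensorThree.three_eq_zero h3
  set f := polar q y y' with hf
  set s := δ * f⁻¹ with hs
  have hsf : s * f = δ := by rw [hs, mul_assoc, inv_mul_cancel₀ (show f ≠ 0 from h3'), mul_one]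
  have hs1 : s * s = 1 := by
    have := FiniteField.pow_card_sub_one_eq_one s (mul_ne_zero hδ (inv_ne_zero h3'))
    rw [h3] at this
    linear_combination this
  set w := y + s • y' with hw
  have hwy : polar q w y = 0 := by
    rw [hw, polar_add_left, polar_smul_left, CfsgLib.Orth.polar_self', show q y = δ from h1,
      polar_comm (f := ⇑q) y' y, ← hf, smul_eq_mul, hsf]
    linear_combination δ * h30
  have hwy' : polar q w y' = 0 := by
    rw [hw, polar_add_left, polar_smul_left, CfsgLib.Orth.polar_self', show q y' = δ from h2, ← hf, smul_eq_mul]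
    linear_combination (-f) * hs1 + (s * δ) * h30 + s * hsf
  have hli : LinearIndependent F ![y, y'] :=
    (LinearIndependent.pair_iff' hy0).2 fun c hc => hns (Submodule.mem_span_singleton.2 ⟨c, hc⟩)
  have hspan : Submodule.span F (Set.range ![y, y']) = W := by
    refine Submodule.eq_of_le_of_finrank_eq (Submodule.span_le.2 ?_) ?_
    · rintro _ ⟨i, rfl⟩
      fin_cases i
      · exact hy
      · exact hy'
    · rw [finrank_span_eq_card hli, hd, Fintype.card_fin]
  have hw0 : w ≠ 0 := fun h => hns (Submodule.mem_span_singleton.2 ⟨-s, by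
    have h' : s • y' = -y := by rw [eq_neg_iff_add_eq_zero, add_comm]; exact h
    rw [neg_smul, ← smul_neg, ← h', smul_smul, hs1, one_smul]⟩)
  obtain ⟨z, hz, hwz⟩ := hW w (W.add_mem hy (W.smul_mem _ hy')) hw0
  rw [← hspan, Submodule.mem_span_range_iff_exists_fun] at hz
  obtain ⟨c, rfl⟩ := hz
  refine hwz ?_
  show polar q w _ = 0
  simp [Fin.sum_univ_two, polar_add_right, polar_smul_right, hwy, hwy']

/-- Over three elements a three-dimensional member has a value with a rigid frame. -/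
theorem rigid_three (hQ : Cfsg.Geo.IsNondegenerateQuadraticForm Q) (h3 : Fintype.card F = 3)
    {W : Submodule F (ι → F)} (hW : ∀ x ∈ W, x ≠ 0 → ∃ y ∈ W, polar Q x y ≠ 0)
    (hd : Module.finrank F W = 3) : ∃ δ : F, δ ≠ 0 ∧ (∃ u ∈ W, Q u = δ) ∧ Rigid Q W δ := by
  let q := quadOf hQ
  have h2 := CfsgLib.Maximal.TensorThree.two_ne h3
  let e : (Fin 3 → F) ≃ₗ[F] W := (Module.finBasisOfFinrankEq F W hd).equivFun.symm
  let f : (Fin 3 → F) → (Fin 3 → F) → F := fun x y => polar q (e x : ι → F) (e y : ι → F)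
  have hf : Cfsg.Geo.IsSymmetricForm f :=
    { bilinear :=
        { add_left := fun x y v => by simp [f, map_add, polar_add_left]
          smul_left := fun c x v => by simp [f, map_smul, polar_smul_left]
          add_right := fun v x y => by simp [f, map_add, polar_add_right]
          smul_right := fun c v x => by simp [f, map_smul, polar_smul_right] }
      symm := fun x y => polar_comm _ _ _
      nondegenerate := fun v hv => by
        obtain ⟨z, hz, hvz⟩ := hW (e v : ι → F) (e v).2 fun h => hv (e.injective (Subtype.ext (by simpa using h)))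
        have hz' : ((e (e.symm ⟨z, hz⟩) : W) : ι → F) = z := by rw [LinearEquiv.apply_symm_apply]
        exact ⟨⟨e.symm ⟨z, hz⟩, by show polar q _ _ ≠ 0; rw [hz', polar_comm]; exact hvz⟩,
          ⟨e.symm ⟨z, hz⟩, by show polar q _ _ ≠ 0; rw [hz']; exact hvz⟩⟩ }
  obtain ⟨v, hv, hvd⟩ := CfsgLib.Maximal.TensorThree.exists_three_frame h3 hf
  have hval : ∀ x, f x x = 2 * Q (e x : ι → F) := fun x => CfsgLib.Orth.polar_self' (Q := q) _
  set δ := Q (e (v 0) : ι → F)
  have hδ : δ ≠ 0 := fun h => hv.ne_zero 0 (by rw [hval]; exact mul_eq_zero_of_right _ h)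
  refine ⟨δ, hδ, ⟨_, (e (v 0)).2, rfl⟩, fun y hy y' hy' hyδ hy'δ hne => ?_⟩
  have hline : ∀ z (hz : z ∈ W), Q z = δ → ∃ i, ∃ c : F, c ≠ 0 ∧ e.symm ⟨z, hz⟩ = c • v i := by
    intro z hz hzδ
    refine CfsgLib.Maximal.TensorThree.mem_line h3 hf.bilinear hv hvd ?_
    rw [hval, hval, LinearEquiv.apply_symm_apply, hzδ]
  obtain ⟨i, c, hc, hi⟩ := hline y hy hyδ
  obtain ⟨j, c', hc', hj⟩ := hline y' hy' hy'δ
  rcases eq_or_ne i j with rfl | hij
  · refine Submodule.mem_span_singleton.2 ⟨c' / c, ?_⟩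
    have : (c' / c) • (⟨y, hy⟩ : W) = ⟨y', hy'⟩ := e.symm.injective (by
      rw [map_smul, hi, hj, smul_smul, div_mul_cancel₀ _ hc])
    exact congrArg Subtype.val this
  · refine absurd ?_ hne
    have : f (e.symm ⟨y, hy⟩) (e.symm ⟨y', hy'⟩) = 0 := by
      rw [hi, hj, hf.bilinear.smul_left, hf.bilinear.smul_right, hv.ortho i j hij, mul_zero, mul_zero]
    simp only [f, LinearEquiv.apply_symm_apply] at this
    exact this

end CfsgLib.GeomClasses.OrthFrames
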