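import Cfsg.Agent.Lib.GeomClasses.OrthRatAxes

/-!
Orthogonal subfield groups are maximal in `Ω`, in any characteristic.
-/

set_option autoImplicit false
set_option linter.unusedSectionVars false

namespace CfsgLib.GeomClasses.OrthRat

open Matrix QuadraticMap CfsgLib.Orth CfsgLib.GeomClasses.OrthEich CfsgLib.GeomClasses.OrthPair
  CfsgLib.GeomClasses.OrthSLTwo

variable {ι : Type} [Fintype ι] [DecidableEq ι] {F : Type*} [Field F] [Fintype F]
  {q : QuadraticForm F (ι → F)} {F₀ : Subfield F} [Fintype F₀] {M : Subgroup (O q)}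

section
variable (S : Rat q F₀)
include S

theorem Rat.up_notMem_pair {a b c : ι → F₀} (h : c ∉ Submodule.span F₀ ({a, b} : Set (ι → F₀))) :
    up c ∉ Submodule.span F ({up a, up b} : Set (ι → F)) := by
  intro hin
  obtain ⟨y, hy, hyc⟩ := OrthSubspace.exists_orth_pairing S.quad_nondegenerate S.seven h
  obtain ⟨hay, hby⟩ := mem_orth_pair.1 hy
  obtain ⟨r, s, e⟩ := Submodule.mem_span_pair.1 hin
  apply hyc
  refine S.orth_zero' ?_
  rw [← e, polar_add_right, polar_smul_right, polar_smul_right, polar_comm (f := ⇑q) (up y) (up a),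
    polar_comm (f := ⇑q) (up y) (up b), S.orth_zero hay, S.orth_zero hby, smul_zero, smul_zero, add_zero]

theorem Rat.up_notMem {a c : ι → F₀} (h : c ∉ Submodule.span F₀ ({a} : Set (ι → F₀))) :
    up c ∉ Submodule.span F ({up a} : Set (ι → F)) := fun hin =>
  S.up_notMem_pair (a := a) (b := a) (by simpa using h) (by simpa using hin)

/-- A rational singular vector orthogonal to a small subspace and outside a larger one. -/
theorem Rat.sing_outside {T U : Submodule F₀ (ι → F₀)} (hTU : T ≤ U) (hT : Module.finrank F₀ T ≤ 2)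
    (hU : Module.finrank F₀ U ≤ 2) : ∃ b ∈ OrthTools.orth S.quad T, S.quad b = 0 ∧ b ∉ U := by
  obtain ⟨y, hy, hyU⟩ := S.outside hT hU
  obtain ⟨a, b, ha, hb, hqa, hqb, e⟩ := S.split hT hy (Or.inl fun h => hyU (hTU h))
  by_contra hc
  push Not at hc
  exact hyU (e ▸ U.sub_mem (hc a ha hqa) (hc b hb hqb))

/-- A matrix mapping rational vectors to multiples of rational vectors by one factor. -/
theorem Rat.mem_ratScalar {g : GL ι F} {c : F} (hc : c ≠ 0)
    (h : ∀ a : ι → F₀, ∃ b : ι → F₀, (g : Matrix ι ι F) *ᵥ up a = c • up b) : g ∈ SympRoot.ratScalar F₀ ι := by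
  have hcol : ∀ i j, c⁻¹ * (g : Matrix ι ι F) i j ∈ F₀ := by
    intro i j
    obtain ⟨b, hb⟩ := h (Pi.single j 1)
    have := congrFun hb i
    rw [up_single, mulVec_single_one, Matrix.col_apply, Pi.smul_apply, smul_eq_mul] at this
    rw [this, ← mul_assoc, inv_mul_cancel₀ hc, one_mul]
    exact (b i).2
  let W : Matrix ι ι F₀ := fun i j => ⟨_, hcol i j⟩
  have hW : W.map (F₀.subtype : F₀ →+* F) = c⁻¹ • (g : Matrix ι ι F) := rfl
  have hdet : W.det ≠ 0 := by
    intro h0
    have h1 : (c⁻¹ • (g : Matrix ι ι F)).det = 0 := by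
      rw [← hW, ← RingHom.mapMatrix_apply, ← RingHom.map_det, h0, map_zero]
    rw [det_smul] at h1
    exact mul_ne_zero (pow_ne_zero _ (inv_ne_zero hc))
      ((Matrix.isUnit_iff_isUnit_det _).1 g.isUnit).ne_zero h1
  let z : GL ι F :=
    Units.map (Matrix.scalar ι : F →+* Matrix ι ι F).toMonoidHom (Units.mk0 c⁻¹ (inv_ne_zero hc))
  have hz : z ∈ Cfsg.Geo.scalars ι F := ⟨_, rfl⟩
  have hgz : g = Matrix.GeneralLinearGroup.map (F₀.subtype : F₀ →+* F)
      (Matrix.GeneralLinearGroup.mkOfDetNeZero W hdet) * z⁻¹ := by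
    rw [eq_mul_inv_iff_mul_eq]
    apply Units.ext
    ext i j
    simp [z, W, Matrix.mul_diagonal, mul_comm]
    rfl
  rw [hgz]
  exact Subgroup.mul_mem_sup ⟨_, rfl⟩ ((Cfsg.Geo.scalars ι F).inv_mem hz)

end

variable (V : Over q F₀ M)
include V

/-- An axis at a rational centre is rational modulo the centre. -/
theorem Over.axis_rat (hno : NoNew F₀ M) {a : ι → F₀} (ha : q (up a) = 0) (ha0 : a ≠ 0) {X : ι → F}
    (hX : X ∈ axes M ha) : ∃ (x₀ : ι → F₀) (d : F), X = up x₀ + d • up a ∧ polar q (up a) (up x₀) = 0 := by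
  have S := V.toRat
  obtain ⟨w, -, hw⟩ := S.partner (T := ⊥) (v := a) (by simpa using ha0)
  have hwa : polar q (up w) (up a) = 1 := by rw [← S.polar_coe, hw]; rfl
  set d := polar q (up w) X
  obtain ⟨x₀, hx₀⟩ := S.exists_rat (x := X - d • up a) fun z => by
    set z' := z - polar S.quad z a • w with hz'
    have e : polar q (up a) (up z') = 0 := S.orth_zero (by
      rw [hz', polar_comm, polar_sub_left, polar_smul_left, hw, smul_eq_mul, mul_one, sub_self])
    have h := hno a ha ha0 X hX.1 hX.2 z' e
    rw [polar_comm, hz', up_sub, up_smul, polar_sub_left, polar_smul_left, S.polar_coe] at h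
    rw [polar_sub_right, polar_smul_right]
    convert h using 1
    simp only [smul_eq_mul, d]
    ring
  refine ⟨x₀, d, by rw [hx₀, sub_add_cancel], ?_⟩
  rw [hx₀, polar_sub_right, polar_smul_right, hX.1, polar_self', ha]
  simp

/-- Over a prime field of two elements a root element on the opposite line pairs rationally. -/
theorem Over.point_rat (hno : NoNew F₀ M) (h1 : ∀ t ∈ F₀, t = 0 ∨ 1 + t = 0) {a b : ι → F₀} {v x : ι → F}
    (R : Frame q (up a) (up b) v x) {c : F} (hc : c ≠ 0) (hT : eich q x (c • v) ∈ M) {y : ι → F₀}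
    (hay : polar q (up a) (up y) = 0) : polar q (up y) x ∈ F₀ := by
  have S := V.toRat
  by_contra hbad
  obtain ⟨-, -, -, h4, -, h6, h7, -, -, h10⟩ := R.table
  have h2 : (1 : F) + 1 = 0 := (h1 1 F₀.one_mem).resolve_left one_ne_zero
  have ha0 : a ≠ 0 := fun h0 => by
    have := R.uv
    rw [h0, up_zero, polar_zero_left] at this
    exact zero_ne_one this
  let G : Subgroup (Matrix.SpecialLinearGroup (Fin 2) F) :=
    { carrier := {A | ∃ g ∈ M,
        app g (up a) = (A : Matrix (Fin 2) (Fin 2) F) 0 0 • up a + (A : Matrix (Fin 2) (Fin 2) F) 1 0 • x ∧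
        app g x = (A : Matrix (Fin 2) (Fin 2) F) 0 1 • up a + (A : Matrix (Fin 2) (Fin 2) F) 1 1 • x}
      one_mem' := ⟨1, M.one_mem, by simp [app_one], by simp [app_one]⟩
      mul_mem' := by
        rintro A B ⟨g, hg, eg, eg'⟩ ⟨h, hh, eh, eh'⟩
        refine ⟨g * h, M.mul_mem hg hh, ?_, ?_⟩
        · rw [app_mul, eh, map_add, map_smul, map_smul, eg, eg', Matrix.SpecialLinearGroup.coe_mul]
          simp only [Matrix.mul_apply, Fin.sum_univ_two]
          module
        · rw [app_mul, eh', map_add, map_smul, map_smul, eg, eg', Matrix.SpecialLinearGroup.coe_mul]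
          simp only [Matrix.mul_apply, Fin.sum_univ_two]
          module
      inv_mem' := by
        rintro A ⟨g, hg, eg, eg'⟩
        refine ⟨g⁻¹, M.inv_mem hg, app_injective g ?_, app_injective g ?_⟩ <;>
        · rw [app_app_inv, map_add, map_smul, map_smul, eg, eg', Matrix.SpecialLinearGroup.coe_inv,
            Matrix.adjugate_fin_two]
          have hd := A.det_coe
          rw [Matrix.det_fin_two] at hd
          simp only [Matrix.of_apply, Matrix.cons_val', Matrix.cons_val_zero, Matrix.cons_val_one,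
            Matrix.cons_val_fin_one]
          match_scalars <;> first | ring1 | linear_combination -hd | linear_combination hd }
  have hupper : ∀ z : ι → F₀, polar q (up a) (up z) = 0 → upper (-polar q (up z) x) ∈ G := fun z hz =>
    ⟨_, V.mem a z R.qu hz, by rw [app_eich R.qu hz, polar_self', R.qu, hz]; simp [upper_coe],
      by rw [app_eich R.qu hz, h7, polar_comm (f := ⇑q) x (up z)]; simp [upper_coe]; module⟩
  have hxv : polar q x (c • v) = 0 := by rw [polar_smul_right, h6, smul_zero]
  have hlower : lower (-c) ∈ G := by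
    refine ⟨_, hT, ?_, ?_⟩
    · rw [app_eich R.qx hxv, R.ux, QuadraticMap.map_smul, R.qv, polar_smul_right, R.uv]
      simp [lower_coe]
    · rw [app_eich R.qx hxv, h4, QuadraticMap.map_smul, R.qv, hxv]
      simp [lower_coe]
  have htri : ∀ A ∈ G, (A : Matrix (Fin 2) (Fin 2) F) 1 0 = 0 → (A : Matrix (Fin 2) (Fin 2) F) 0 0 = 1 := by
    rintro A ⟨g, hg, eg, -⟩ h10'
    rw [h10', zero_smul, add_zero] at eg
    set k := (A : Matrix (Fin 2) (Fin 2) F) 0 0 with hk
    have hk0 : k ≠ 0 := fun h0 => by
      have := A.det_coe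
      rw [Matrix.det_fin_two, ← hk, h0, h10'] at this
      simp at this
    have hga : ∀ z : ι → F₀, polar q (up a) (up z) = 0 → k • app g (up z) ∈ axes M R.qu := by
      intro z hz
      have e0 : polar q (up a) (app g (up z)) = 0 := by
        have := polar_app g (up a) (up z)
        rw [eg, hz, polar_smul_left, smul_eq_mul] at this
        exact (mul_eq_zero.1 this).resolve_left hk0
      have h := M.mul_mem (M.mul_mem hg (V.mem a z R.qu hz)) (M.inv_mem hg)
      rw [eich_conj R.qu hz, eg, eich_smul_left R.qu e0] at h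
      exact ⟨by rw [polar_smul_right, e0, smul_zero], h⟩
    obtain ⟨z, hz, hzn⟩ := S.outside (S.one_le' a) (S.one_le' a)
    obtain ⟨z', hz', hzz⟩ := S.partner hzn
    have e1 := OrthTools.mem_orth.1 hz a (Submodule.mem_span_singleton_self a)
    have e2 := OrthTools.mem_orth.1 hz' a (Submodule.mem_span_singleton_self a)
    obtain ⟨p₀, d, hp, hap⟩ := V.axis_rat hno R.qu ha0 (hga z' (S.orth_zero e2))
    obtain ⟨p₁, d', hp', hap'⟩ := V.axis_rat hno R.qu ha0 (hga z (S.orth_zero e1))
    have e : k * k = polar q (up p₀) (up p₁) := by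
      have := congrArg₂ (fun s t => polar q s t) hp hp'
      simp only [polar_smul_left, polar_smul_right, polar_app, polar_add_left, polar_add_right, smul_eq_mul,
        hap', polar_comm (f := ⇑q) (up p₀) (up a), hap, polar_self', R.qu, ← S.polar_coe z' z, hzz,
        OneMemClass.coe_one, mul_one, mul_zero, add_zero] at this
      exact this
    have hkF : k * k ∈ F₀ := e ▸ S.polar_mem p₀ p₁
    rcases h1 _ hkF with h0 | h0
    · exact absurd h0 (mul_ne_zero hk0 hk0)
    · have hsq : (k - 1) * (k - 1) = 0 := by linear_combination h0 - k * h2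
      exact sub_eq_zero.1 (mul_self_eq_zero.1 hsq)
  have hb : polar q (up a) (up b) = 0 := R.uw
  have hs := hupper b hb
  rw [R.wx] at hs
  have h := upper_only (neg_ne_zero.2 one_ne_zero) (t := -polar q (up y) x)
    (neg_ne_zero.2 fun h0 => hbad (h0 ▸ F₀.zero_mem))
    (fun h0 => hbad (by
      rw [show polar q (up y) x = -1 by linear_combination -h0]
      exact F₀.neg_mem F₀.one_mem)) hs (hupper y hay) htri _ hlower
  exact hc (neg_eq_zero.1 (by simpa [lower_coe] using h))

/-- A line element of `M` pairs rationally with the rational vectors orthogonal to an opposite rational line. -/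
theorem Over.pairing_rat (hno : NoNew F₀ M) {a b : ι → F₀} {v x : ι → F}
    (R : Frame q (up a) (up b) v x) {c : F} (hc : c ≠ 0) (hT : eich q x (c • v) ∈ M) {y : ι → F₀}
    (hay : polar q (up a) (up y) = 0) (hby : polar q (up b) (up y) = 0) :
    polar q (up y) v ∈ F₀ ∧ polar q (up y) x ∈ F₀ := by
  by_cases hsmall : ∀ t ∈ F₀, t = 0 ∨ 1 + t = 0
  · have hT' : eich q v ((-c) • x) ∈ M := by
      obtain ⟨-, -, -, -, -, h6, -⟩ := R.table
      have h := hT
      rw [eich_swap R.qx (by rw [QuadraticMap.map_smul, R.qv, smul_zero]) (by rw [polar_smul_right, h6, smul_zero]),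
        eich_smul_left R.qv (by rw [polar_neg_right, R.vx, neg_zero]), smul_neg, ← neg_smul] at h
      exact h
    exact ⟨V.point_rat hno hsmall R.swap (neg_ne_zero.2 hc) hT' hby, V.point_rat hno hsmall R hc hT hay⟩
  push Not at hsmall
  obtain ⟨t₀, ht₀, ht₀0, ht₀1⟩ := hsmall
  by_contra hbad
  have S := V.toRat
  have hup : ∀ t ∈ F₀, upper t ∈ M.comap R.hom := fun t ht => by
    rw [Subgroup.mem_comap, R.hom_upper]
    have := V.mem a ((⟨t, ht⟩ : F₀) • b) R.qu (by rw [up_smul, polar_smul_right, R.uw, smul_zero])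
    rwa [up_smul] at this
  suffices htri : ∀ A ∈ M.comap R.hom, (A : Matrix (Fin 2) (Fin 2) F) 1 0 = 0 →
      (A : Matrix (Fin 2) (Fin 2) F) 0 0 = 1 by
    have hl := upper_only one_ne_zero ht₀0 ht₀1 (hup 1 F₀.one_mem) (hup t₀ ht₀) htri (lower c)
      (by rw [Subgroup.mem_comap, R.hom_lower]; exact hT)
    exact hc (by simpa [lower_coe] using hl)
  intro A hA h10
  rw [Subgroup.mem_comap] at hA
  obtain ⟨h1, h2, -, -, h5, -, -, -, -, -⟩ := R.table
  have hya : polar q (up y) (up a) = 0 := by rw [polar_comm, hay]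
  have hyb : polar q (up y) (up b) = 0 := by rw [polar_comm, hby]
  set k := (A : Matrix (Fin 2) (Fin 2) F) 0 0 with hk
  have hga : app (R.hom A) (up a) = k • up a := by
    rw [R.app_hom, fLin_apply, R.uv, R.ux, h1, R.uw, h10, ← hk]
    module
  have hgb : app (R.hom A) (up b) = k • up b := by
    rw [R.app_hom, fLin_apply, R.wx, R.wv, h2, h5, h10, ← hk]
    module
  have hgy : app (R.hom A) (up y) =
      up y + (polar q (up y) v * (k - 1)) • up a + (polar q (up y) x * (k - 1)) • up b := by
    rw [R.app_hom, fLin_apply, hya, hyb, h10, ← hk]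
    module
  set Y := app (R.hom A) (up y)
  have hmove : ∀ d : ι → F₀, q (up d) = 0 → polar q (up d) (up y) = 0 → app (R.hom A) (up d) = k • up d →
      polar q (up d) Y = 0 → eich q (up d) (k • Y) ∈ M := by
    intro d hd hdy hgd hdY
    have h := M.mul_mem (M.mul_mem hA (V.mem d y hd hdy)) (M.inv_mem hA)
    rwa [eich_conj hd hdy, hgd, eich_smul_left hd hdY] at h
  have haY : polar q (up a) Y = 0 := by
    rw [hgy, polar_add_right, polar_add_right, polar_smul_right, polar_smul_right, hay, h1, R.uw]
    simp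
  have hbY : polar q (up b) Y = 0 := by
    rw [hgy, polar_add_right, polar_add_right, polar_smul_right, polar_smul_right, hby, h5, h2]
    simp
  have ea := hmove a R.qu hay hga haY
  have eb := hmove b R.qw hby hgb hbY
  have ha0 : a ≠ 0 := fun h0 => by
    have := R.uv
    rw [h0, up_zero, polar_zero_left] at this
    exact zero_ne_one this
  have hb0 : b ≠ 0 := fun h0 => by
    have := R.wx
    rw [h0, up_zero, polar_zero_left] at this
    exact zero_ne_one this
  have hba : b ∉ Submodule.span F₀ {a} := fun hin => by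
    obtain ⟨r, hr⟩ := Submodule.mem_span_singleton.1 hin
    have := R.wx
    rw [← hr, up_smul, polar_smul_left, R.ux, smul_zero] at this
    exact zero_ne_one this
  have hab : a ∉ Submodule.span F₀ {b} := fun hin => by
    obtain ⟨r, hr⟩ := Submodule.mem_span_singleton.1 hin
    have := R.uv
    rw [← hr, up_smul, polar_smul_left, R.wv, smul_zero] at this
    exact zero_ne_one this
  have hpa : ∀ z : ι → F₀, polar q (up a) (up z) = 0 →
      k * (polar q (up y) (up z) + polar q (up y) x * (k - 1) * polar q (up b) (up z)) ∈ F₀ := by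
    intro z hz
    have := hno a R.qu ha0 _ (by rw [polar_smul_right, haY, smul_zero]) ea z hz
    rwa [polar_smul_left, hgy, polar_add_left, polar_add_left, polar_smul_left, polar_smul_left, hz, smul_zero,
      add_zero, smul_eq_mul, smul_eq_mul] at this
  have hpb : ∀ z : ι → F₀, polar q (up b) (up z) = 0 →
      k * (polar q (up y) (up z) + polar q (up y) v * (k - 1) * polar q (up a) (up z)) ∈ F₀ := by
    intro z hz
    have := hno b R.qw hb0 _ (by rw [polar_smul_right, hbY, smul_zero]) eb z hz
    rwa [polar_smul_left, hgy, polar_add_left, polar_add_left, polar_smul_left, polar_smul_left, hz, smul_zero,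
      add_zero, smul_eq_mul, smul_eq_mul] at this
  have hy : y ∉ Submodule.span F₀ ({a, b} : Set (ι → F₀)) := fun hin => hbad (by
    obtain ⟨r, s, rfl⟩ := Submodule.mem_span_pair.1 hin
    simp only [up_add, up_smul, polar_add_left, polar_smul_left, R.uv, R.wv, R.ux, R.wx]
    simp)
  have hkF : k ∈ F₀ := by
    obtain ⟨z, hz, hzy⟩ := S.partner hy
    obtain ⟨haz, hbz⟩ := mem_orth_pair.1 hz
    have := hpa z (S.orth_zero haz)
    rwa [S.orth_zero hbz, mul_zero, add_zero, polar_comm (f := ⇑q) (up y), ← S.polar_coe, hzy, OneMemClass.coe_one,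
      mul_one] at this
  have hk0 : k ≠ 0 := fun h0 => by
    have := A.det_coe
    rw [Matrix.det_fin_two, ← hk, h0, h10] at this
    simp at this
  have hk1 : k = 1 := by
    by_contra h
    have hk1' : k * (k - 1) ∈ F₀ := F₀.mul_mem hkF (F₀.sub_mem hkF F₀.one_mem)
    have hne : k * (k - 1) ≠ 0 := mul_ne_zero hk0 (sub_ne_zero.2 h)
    refine hbad ⟨?_, ?_⟩
    · obtain ⟨z, hz, hza⟩ := S.partner hab
      have hbz := S.orth_zero (OrthTools.mem_orth.1 hz b (Submodule.mem_span_singleton_self b))
      have e := hpb z hbz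
      rw [polar_comm (f := ⇑q) (up a) (up z), ← S.polar_coe z a, hza, OneMemClass.coe_one, mul_one, mul_add] at e
      have := F₀.div_mem (F₀.sub_mem e (F₀.mul_mem hkF (S.polar_mem y z))) hk1'
      rwa [add_sub_cancel_left, mul_comm (polar q (up y) v), ← mul_assoc, mul_div_cancel_left₀ _ hne] at this
    · obtain ⟨z, hz, hzb⟩ := S.partner hba
      have haz := S.orth_zero (OrthTools.mem_orth.1 hz a (Submodule.mem_span_singleton_self a))
      have e := hpa z haz
      rw [polar_comm (f := ⇑q) (up b) (up z), ← S.polar_coe z b, hzb, OneMemClass.coe_one, mul_one, mul_add] at e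
      have := F₀.div_mem (F₀.sub_mem e (F₀.mul_mem hkF (S.polar_mem y z))) hk1'
      rwa [add_sub_cancel_left, mul_comm (polar q (up y) x), ← mul_assoc, mul_div_cancel_left₀ _ hne] at this
  exact hk1

/-- The pairing with a dual vector of the rational line is rational, too. -/
theorem Over.dual_rat (hno : NoNew F₀ M) {a b : ι → F₀} {v x : ι → F}
    (R : Frame q (up a) (up b) v x) {c : F} (hc : c ≠ 0) (hT : eich q x (c • v) ∈ M) {v₁ : ι → F₀}
    (h₁a : polar q (up v₁) (up a) = 1) (h₁b : polar q (up v₁) (up b) = 0) :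
    polar q (up v₁) v ∈ F₀ ∧ polar q (up v₁) x ∈ F₀ := by
  have S := V.toRat
  have hP : ∀ z ∈ OrthTools.orth S.quad (Submodule.span F₀ ({a, b} : Set (ι → F₀))),
      polar q (up z) v ∈ F₀ ∧ polar q (up z) x ∈ F₀ := fun z hz =>
    V.pairing_rat hno R hc hT (S.orth_zero (mem_orth_pair.1 hz).1) (S.orth_zero (mem_orth_pair.1 hz).2)
  obtain ⟨h1, h2, h3, h4, h5, -, h7, h8, h9, h10⟩ := R.table
  have hproj : ∀ z ∈ OrthTools.orth S.quad (Submodule.span F₀ ({a, b} : Set (ι → F₀))), ∃ α β : F₀,
      polar q (up a) (up (z - α • a - β • b)) = 0 ∧ polar q (up b) (up (z - α • a - β • b)) = 0 ∧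
        polar q (up (z - α • a - β • b)) v = 0 ∧ polar q (up (z - α • a - β • b)) x = 0 := by
    intro z hz
    have haz := S.orth_zero (mem_orth_pair.1 hz).1
    have hbz := S.orth_zero (mem_orth_pair.1 hz).2
    refine ⟨⟨_, (hP z hz).1⟩, ⟨_, (hP z hz).2⟩, ?_, ?_, ?_, ?_⟩ <;>
      simp [up_sub, up_smul, polar_sub_left, polar_sub_right, polar_smul_left, polar_smul_right, haz, hbz, h1, h2,
        h5, R.uw, R.uv, R.ux, R.wv, R.wx]
  obtain ⟨z₀, hz₀, hqz₀, hz₀n⟩ := S.sing_outside (le_refl _) (S.two_le' a b) (S.two_le' a b)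
  obtain ⟨α, β, w0a, w0b, w0v, w0x⟩ := hproj z₀ hz₀
  set w₀ := z₀ - α • a - β • b with hw₀
  obtain ⟨za, zb⟩ := mem_orth_pair.1 hz₀
  have hqw₀ : S.quad w₀ = 0 := by
    have e1 : S.quad a = 0 := S.quad_eq_zero R.qu
    have e2 : S.quad b = 0 := S.quad_eq_zero R.qw
    have e3 : polar S.quad a b = 0 := S.orth_zero' R.uw
    rw [hw₀]
    simp [sub_eq_add_neg, QuadraticMap.map_add ⇑S.quad, QuadraticMap.map_neg, QuadraticMap.map_smul, hqz₀, e1, e2,
      e3, polar_comm (f := ⇑S.quad) z₀ a, polar_comm (f := ⇑S.quad) z₀ b, za, zb, polar_add_left,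
      polar_smul_left, polar_smul_right, polar_neg_left, polar_neg_right]
  have hw₀n : w₀ ∉ Submodule.span F₀ ({a, b} : Set (ι → F₀)) := fun hin => hz₀n (by
    have := Submodule.add_mem _ hin (Submodule.mem_span_pair.2 ⟨α, β, rfl⟩)
    rwa [hw₀, sub_sub, sub_add_cancel] at this)
  obtain ⟨z₁, hz₁, hz₁w⟩ := S.partner hw₀n
  obtain ⟨α', β', w1a, w1b, w1v, w1x⟩ := hproj z₁ hz₁
  set w₁ := z₁ - α' • a - β' • b with hw₁
  have hw10 : polar q (up w₁) (up w₀) = 1 := by
    rw [hw₁, up_sub, up_sub, up_smul, up_smul, polar_sub_left, polar_sub_left, polar_smul_left, polar_smul_left,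
      w0a, w0b, ← S.polar_coe, hz₁w]
    simp
  clear_value w₁ w₀
  have R' : Frame q (up (a + w₀)) (up b) v x :=
    { qu := by rw [up_add, QuadraticMap.map_add ⇑q, R.qu, S.singular hqw₀, w0a]; simp
      qw := R.qw
      qv := R.qv
      qx := R.qx
      uw := by rw [up_add, polar_add_left, R.uw, polar_comm, w0b, add_zero]
      vx := R.vx
      ux := by rw [up_add, polar_add_left, R.ux, w0x, add_zero]
      wv := R.wv
      uv := by rw [up_add, polar_add_left, R.uv, w0v, add_zero]
      wx := R.wx }
  set r := polar S.quad v₁ w₀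
  have hr : polar q (up v₁) (up w₀) = (r : F) := (S.polar_coe v₁ w₀).symm
  set y := (1 + r) • w₁ - v₁ with hy
  have h9 := V.pairing_rat hno R' hc hT (y := y) (by
      rw [up_add, hy, up_sub, up_smul, polar_add_left, polar_sub_right, polar_sub_right, polar_smul_right,
        polar_smul_right, w1a, polar_comm (f := ⇑q) (up a) (up v₁), h₁a, polar_comm (f := ⇑q) (up w₀) (up w₁), hw10,
        polar_comm (f := ⇑q) (up w₀) (up v₁), hr]
      simp)
    (by rw [hy, up_sub, up_smul, polar_sub_right, polar_smul_right, w1b, polar_comm, h₁b]; simp)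
  rw [hy, up_sub, up_smul, polar_sub_left, polar_sub_left, polar_smul_left, polar_smul_left, w1v, w1x, smul_zero,
    zero_sub, zero_sub] at h9
  exact ⟨neg_mem_iff.1 h9.1, neg_mem_iff.1 h9.2⟩

/-- A line element of `M` is rational. -/
theorem Over.line_rat (hno : NoNew F₀ M) {A B : ι → F} (hA : q A = 0) (hB : q B = 0) (hAB : polar q A B = 0)
    (hT : eich q A B ∈ M) :
    ∃ s t : ι → F₀, q (up s) = 0 ∧ polar q (up s) (up t) = 0 ∧ eich q A B = eich q (up s) (up t) := by
  have S := V.toRat
  by_cases hBA : B ∈ Submodule.span F {A}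
  · obtain ⟨k, rfl⟩ := Submodule.mem_span_singleton.1 hBA
    refine ⟨0, 0, by rw [up_zero, QuadraticMap.map_zero], by rw [up_zero, polar_zero_left], ?_⟩
    rw [up_zero, eich_zero_left, eich_smul_self hA]
  by_cases hA0 : A = 0
  · refine ⟨0, 0, by rw [up_zero, QuadraticMap.map_zero], by rw [up_zero, polar_zero_left], ?_⟩
    rw [hA0, up_zero, eich_zero_left, eich_zero_left]
  obtain ⟨y, hy⟩ : ∃ y : ι → F₀, polar q (up y) A ≠ 0 := by
    by_contra h
    push Not at h
    exact hA0 (S.eq_zero_of_rat h)
  have hy0 : y ≠ 0 := fun h => hy (by rw [h, up_zero, polar_zero_left])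
  obtain ⟨p₁, p₂, -, -, hq₁, hq₂, hp⟩ := S.split (T := ⊥) (by simp) (y := y)
    (OrthTools.mem_orth.2 fun z hz => by rw [(Submodule.mem_bot F₀).1 hz, polar_zero_left])
    (Or.inl (by simpa using hy0))
  obtain ⟨p, hqp, hpA⟩ : ∃ p, S.quad p = 0 ∧ polar q (up p) A ≠ 0 := by
    by_contra hc'
    push Not at hc'
    exact hy (by rw [hp, up_sub, polar_sub_left, hc' _ hq₁, hc' _ hq₂, sub_zero])
  have hp0 : p ≠ 0 := fun h => hpA (by rw [h, up_zero, polar_zero_left])
  set Z := polar q (up p) A • B - polar q (up p) B • A with hZ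
  have hpZ : polar q (up p) Z = 0 := by
    rw [hZ, polar_sub_right, polar_smul_right, polar_smul_right]; simp [mul_comm]
  have hAZ : polar q A Z = 0 := by
    rw [hZ, polar_sub_right, polar_smul_right, polar_smul_right, hAB, polar_self', hA]; simp
  obtain ⟨y', hy'⟩ : ∃ y' ∈ OrthTools.orth S.quad (Submodule.span F₀ {p}), polar q (up y') Z ≠ 0 := by
    by_contra hc'
    push Not at hc'
    obtain ⟨z₁, -, hz₁⟩ := S.partner (T := ⊥) (v := p) (by simpa using hp0)
    have hz : ∀ z : ι → F₀, polar q (up z) (Z - polar q (up z₁) Z • up p) = 0 := by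
      intro z
      have h := hc' (z - polar S.quad z p • z₁) (OrthTools.mem_orth.2 fun w hw => by
        obtain ⟨k, rfl⟩ := Submodule.mem_span_singleton.1 hw
        rw [polar_smul_left, polar_comm, polar_sub_left, polar_smul_left, hz₁]; simp)
      rw [up_sub, up_smul, S.polar_coe, polar_sub_left, polar_smul_left, smul_eq_mul] at h
      rw [polar_sub_right, polar_smul_right, smul_eq_mul]
      linear_combination h
    have hZ' := sub_eq_zero.1 (S.eq_zero_of_rat hz)
    rw [hZ', polar_smul_right, polar_comm (f := ⇑q) A] at hAZ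
    have h0 : polar q (up z₁) Z = 0 := by
      rcases smul_eq_zero.1 hAZ with h | h
      · exact h
      · exact absurd h hpA
    rw [h0, zero_smul, hZ, sub_eq_zero] at hZ'
    exact hBA (Submodule.mem_span_singleton.2 ⟨(polar q (up p) A)⁻¹ * polar q (up p) B, by
      rw [mul_smul, ← hZ', inv_smul_smul₀ hpA]⟩)
  obtain ⟨r₁, r₂, hr₁, hr₂, hqr₁, hqr₂, hr⟩ := S.split (S.one_le' p) hy'.1 (by
    by_cases hin : y' ∈ Submodule.span F₀ {p}
    · obtain ⟨k, rfl⟩ := Submodule.mem_span_singleton.1 hin
      exact absurd (by rw [up_smul, polar_smul_left, hpZ, smul_zero]) hy'.2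
    · exact Or.inl hin)
  obtain ⟨r, hrp, hqr, hrZ⟩ : ∃ r, r ∈ OrthTools.orth S.quad (Submodule.span F₀ {p}) ∧ S.quad r = 0 ∧
      polar q (up r) Z ≠ 0 := by
    by_contra hc'
    push Not at hc'
    exact hy'.2 (by rw [hr, up_sub, polar_sub_left, hc' _ hr₁ hqr₁, hc' _ hr₂ hqr₂, sub_zero])
  have hpr : polar q (up p) (up r) = 0 :=
    S.orth_zero (OrthTools.mem_orth.1 hrp p (Submodule.mem_span_singleton_self p))
  set D := polar q (up r) Z with hD
  have hDe : D = polar q (up p) A * polar q (up r) B - polar q (up p) B * polar q (up r) A := by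
    rw [hD, hZ, polar_sub_right, polar_smul_right, polar_smul_right, smul_eq_mul, smul_eq_mul]
  set v := D⁻¹ • (polar q (up r) B • A - polar q (up r) A • B) with hv
  set x := D⁻¹ • (polar q (up p) A • B - polar q (up p) B • A) with hx
  have hBB : polar q B B = 0 := by rw [polar_self', hB, mul_zero]
  have hAA : polar q A A = 0 := by rw [polar_self', hA, mul_zero]
  have hBA' : polar q B A = 0 := by rw [polar_comm, hAB]
  have R : Frame q (up p) (up r) v x :=
    { qu := S.singular hqp
      qw := S.singular hqr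
      qv := by
        simp [hv, sub_eq_add_neg, QuadraticMap.map_smul, QuadraticMap.map_add ⇑q, QuadraticMap.map_neg, hA, hB,
          polar_smul_left, polar_smul_right, polar_neg_right, hAB]
      qx := by
        simp [hx, sub_eq_add_neg, QuadraticMap.map_smul, QuadraticMap.map_add ⇑q, QuadraticMap.map_neg, hA, hB,
          polar_smul_left, polar_smul_right, polar_neg_right, hBA']
      uw := hpr
      vx := by
        simp [hv, hx, polar_smul_left, polar_smul_right, polar_sub_left, polar_sub_right, hAA, hBB, hAB, hBA']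
      ux := by
        simp [hx, polar_smul_right, polar_sub_right]; exact Or.inr (by ring)
      wv := by
        simp [hv, polar_smul_right, polar_sub_right]; exact Or.inr (by ring)
      uv := by
        rw [hv, polar_smul_right, polar_sub_right, polar_smul_right, polar_smul_right]
        simp only [smul_eq_mul]
        rw [mul_comm (polar q (up r) B), mul_comm (polar q (up r) A), ← hDe]
        exact inv_mul_cancel₀ hrZ
      wx := by
        rw [hx, polar_smul_right, polar_sub_right, polar_smul_right, polar_smul_right]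
        simp only [smul_eq_mul]
        rw [← hDe]
        exact inv_mul_cancel₀ hrZ }
  obtain ⟨-, -, -, -, -, h6, -, -, -, -⟩ := R.table
  have heq : eich q x ((-D) • v) = eich q A B := by
    refine ext_app fun z => ?_
    rw [app_eich R.qx (by rw [polar_smul_right, h6, smul_zero]), app_eich hA hAB, QuadraticMap.map_smul, R.qv, hB,
      polar_smul_right, hv, hx]
    simp only [polar_smul_right, polar_sub_right, smul_eq_mul]
    match_scalars <;> field_simp [show D ≠ 0 from hrZ] <;> rw [hDe] <;> ring
  have hTv : eich q x ((-D) • v) ∈ M := by rw [heq]; exact hT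
  have hD0 : -D ≠ 0 := neg_ne_zero.2 hrZ
  have hTx : eich q v ((-(-D)) • x) ∈ M := by
    rw [eich_swap R.qx (by rw [QuadraticMap.map_smul, R.qv, smul_zero]) (by rw [polar_smul_right, h6, smul_zero]),
      eich_smul_left R.qv (by rw [polar_neg_right, R.vx, neg_zero]), smul_neg, ← neg_smul] at hTv
    exact hTv
  have hnotr : p ∉ Submodule.span F₀ {r} := fun hin => by
    obtain ⟨k, rfl⟩ := Submodule.mem_span_singleton.1 hin
    have := R.uv
    rw [up_smul, polar_smul_left, R.wv, smul_zero] at this
    exact zero_ne_one this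
  have hnotp : r ∉ Submodule.span F₀ {p} := fun hin => by
    obtain ⟨k, rfl⟩ := Submodule.mem_span_singleton.1 hin
    have := R.wx
    rw [up_smul, polar_smul_left, R.ux, smul_zero] at this
    exact zero_ne_one this
  obtain ⟨v₁, hv₁, hv₁p⟩ := S.partner hnotr
  obtain ⟨x₁, hx₁, hx₁r⟩ := S.partner hnotp
  have h1r : polar S.quad v₁ r = 0 := by
    rw [polar_comm]; exact OrthTools.mem_orth.1 hv₁ r (Submodule.mem_span_singleton_self r)
  have h1p : polar S.quad x₁ p = 0 := by
    rw [polar_comm]; exact OrthTools.mem_orth.1 hx₁ p (Submodule.mem_span_singleton_self p)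
  have d1 := V.dual_rat hno R hD0 hTv (v₁ := v₁) (by rw [← S.polar_coe, hv₁p]; rfl) (S.orth_zero h1r)
  have d2 := V.dual_rat hno R.swap (neg_ne_zero.2 hD0) hTx (v₁ := x₁) (by rw [← S.polar_coe, hx₁r]; rfl)
    (S.orth_zero h1p)
  have hall : ∀ z : ι → F₀, polar q (up z) v ∈ F₀ ∧ polar q (up z) x ∈ F₀ := by
    intro z
    set α := polar S.quad z p
    set β := polar S.quad z r
    set z' := z - α • v₁ - β • x₁ with hz'
    have e1 : polar S.quad p z' = 0 := by
      rw [hz', polar_comm, polar_sub_left, polar_sub_left, polar_smul_left, polar_smul_left, hv₁p, h1p]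
      simp [α]
    have e2 : polar S.quad r z' = 0 := by
      rw [hz', polar_comm, polar_sub_left, polar_sub_left, polar_smul_left, polar_smul_left, hx₁r, h1r]
      simp [β]
    have h := V.pairing_rat hno R hD0 hTv (S.orth_zero e1) (S.orth_zero e2)
    have hz : up z = up z' + (α : F) • up v₁ + (β : F) • up x₁ := by
      rw [hz', up_sub, up_sub, up_smul, up_smul]; abel
    rw [hz, polar_add_left, polar_add_left, polar_smul_left, polar_smul_left, polar_add_left, polar_add_left,
      polar_smul_left, polar_smul_left]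
    exact ⟨F₀.add_mem (F₀.add_mem h.1 (F₀.mul_mem α.2 d1.1)) (F₀.mul_mem β.2 d2.2),
      F₀.add_mem (F₀.add_mem h.2 (F₀.mul_mem α.2 d1.2)) (F₀.mul_mem β.2 d2.1)⟩
  obtain ⟨v₀, hv₀⟩ := S.exists_rat fun z => (hall z).1
  obtain ⟨x₀, hx₀⟩ := S.exists_rat fun z => (hall z).2
  have hx₀0 : x₀ ≠ 0 := fun h0 => by
    have := R.wx
    rw [← hx₀, h0, up_zero, polar_zero_right] at this
    exact zero_ne_one this
  have hxv : polar q x ((-D) • v) = 0 := by rw [polar_smul_right, h6, smul_zero]
  have hcF : -D ∈ F₀ := by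
    have := hno x₀ (by rw [hx₀]; exact R.qx) hx₀0 ((-D) • v) (by rw [hx₀]; exact hxv)
      (by rw [hx₀]; exact hTv) p (by rw [hx₀, polar_comm, R.ux])
    rwa [polar_smul_left, polar_comm (f := ⇑q) v, R.uv, smul_eq_mul, mul_one] at this
  exact ⟨x₀, (⟨-D, hcF⟩ : F₀) • v₀, by rw [hx₀]; exact R.qx, by rw [up_smul, hx₀, hv₀]; exact hxv,
    by rw [up_smul, hx₀, hv₀]; exact heq.symm⟩

/-- Without new axes every element of `M` is rational up to a scalar. -/
theorem Over.rat_of_noNew (hno : NoNew F₀ M) {g : O q} (hg : g ∈ M) : (g : GL ι F) ∈ SympRoot.ratScalar F₀ ι := by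
  have S := V.toRat
  have hplane : ∀ a b : ι → F₀, S.quad a = 0 → S.quad b = 0 → polar S.quad a b = 0 → a ≠ 0 →
      b ∉ Submodule.span F₀ {a} → ∃ s t : ι → F₀,
        app g (up a) ∈ Submodule.span F ({up s, up t} : Set (ι → F)) ∧
          app g (up b) ∈ Submodule.span F ({up s, up t} : Set (ι → F)) := by
    intro a b ha hb hab ha0 hba
    have e := eich_conj (S.singular ha) (S.orth_zero hab) g
    have hm := M.mul_mem (M.mul_mem hg (V.mem a b (S.singular ha) (S.orth_zero hab))) (M.inv_mem hg)
    rw [e] at hm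
    have hA : q (app g (up a)) = 0 := by rw [Q_app, S.singular ha]
    have hB : q (app g (up b)) = 0 := by rw [Q_app, S.singular hb]
    have hAB : polar q (app g (up a)) (app g (up b)) = 0 := by rw [polar_app, S.orth_zero hab]
    obtain ⟨s, t, hs, hst, he⟩ := V.line_rat hno hA hB hAB hm
    have hn1 : app g (up b) ∉ Submodule.span F {app g (up a)} := fun hin => by
      obtain ⟨k, hk⟩ := Submodule.mem_span_singleton.1 hin
      rw [← map_smul] at hk
      exact S.up_notMem hba (Submodule.mem_span_singleton.2 ⟨k, app_injective g hk⟩)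
    have hn2 : app g (up a) ∉ Submodule.span F {app g (up b)} := fun hin => by
      obtain ⟨k, hk⟩ := Submodule.mem_span_singleton.1 hin
      have hk0 : k ≠ 0 := fun h0 => by
        rw [h0, zero_smul] at hk
        refine ha0 (up_injective ((app_injective g ?_).trans up_zero.symm))
        rw [← hk, map_zero]
      exact hn1 (Submodule.mem_span_singleton.2 ⟨k⁻¹, by rw [← hk, inv_smul_smul₀ hk0]⟩)
    have hdisp : ∀ z, polar q z (app g (up a)) • app g (up b) - polar q z (app g (up b)) • app g (up a) ∈
        Submodule.span F ({up s, up t} : Set (ι → F)) := by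
      intro z
      have h := congrArg (fun k : O q => app k z) he
      simp only [app_eich hA hAB, app_eich hs hst, hB, zero_mul, sub_zero, neg_smul, ← sub_eq_add_neg,
        add_sub_assoc, add_assoc, add_right_inj] at h
      rw [h]
      exact Submodule.add_mem _ (Submodule.smul_mem _ _ (Submodule.subset_span (by simp)))
        (Submodule.smul_mem _ _ (Submodule.subset_span (by simp)))
    refine ⟨s, t, ?_, ?_⟩
    · obtain ⟨z, hz1, hz2⟩ := exists_polar_eq_zero_one S.nondeg hn1
      have := hdisp z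
      rw [polar_comm (f := ⇑q) z, hz1, polar_comm (f := ⇑q) z, hz2] at this
      simpa using this
    · obtain ⟨z, hz1, hz2⟩ := exists_polar_eq_zero_one S.nondeg hn2
      have := hdisp z
      rw [polar_comm (f := ⇑q) z, hz2, polar_comm (f := ⇑q) z, hz1] at this
      simpa using this
  have hpoint : ∀ a : ι → F₀, S.quad a = 0 → a ≠ 0 →
      ∃ k : F, ∃ s : ι → F₀, app g (up a) = k • up s := by
    intro a ha ha0
    obtain ⟨b, hb, hqb, hbn⟩ := S.sing_outside (le_refl _) (S.one_le' a) (S.one_le' a)
    obtain ⟨b', hb', hqb', hbn'⟩ := S.sing_outside (U := Submodule.span F₀ ({a, b} : Set (ι → F₀)))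
      (Submodule.span_mono (by simp)) (S.one_le' a) (S.two_le' a b)
    have hab := OrthTools.mem_orth.1 hb a (Submodule.mem_span_singleton_self a)
    have hab' := OrthTools.mem_orth.1 hb' a (Submodule.mem_span_singleton_self a)
    obtain ⟨s, t, h1, h2⟩ := hplane a b ha hqb hab ha0 hbn
    obtain ⟨s', t', h1', h2'⟩ := hplane a b' ha hqb' hab' ha0 fun h => hbn' (Submodule.span_mono (by simp) h)
    obtain ⟨α, β, hαβ⟩ := Submodule.mem_span_pair.1 h1
    obtain ⟨α', β', hαβ'⟩ := Submodule.mem_span_pair.1 h1'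
    by_cases hβ : β = 0
    · exact ⟨α, s, by rw [← hαβ, hβ, zero_smul, add_zero]⟩
    by_cases hrat : α / β ∈ F₀
    · refine ⟨β, (⟨_, hrat⟩ : F₀) • s + t, ?_⟩
      rw [up_add, up_smul, smul_add, smul_smul, mul_div_cancel₀ _ hβ, hαβ]
    exfalso
    have hst : s ∈ Submodule.span F₀ ({s', t'} : Set (ι → F₀)) ∧ t ∈ Submodule.span F₀ ({s', t'} : Set (ι → F₀)) := by
      have hz : ∀ z : ι → F₀, polar S.quad s' z = 0 → polar S.quad t' z = 0 →
          polar S.quad z s = 0 ∧ polar S.quad z t = 0 := by
        intro z hs' ht'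
        have e1 : α * polar q (up z) (up s) + β * polar q (up z) (up t) = 0 := by
          have := congrArg (fun w => polar q (up z) w) (hαβ.trans hαβ'.symm)
          simpa [polar_add_right, polar_smul_right, polar_comm (f := ⇑q) (up z) (up s'),
            polar_comm (f := ⇑q) (up z) (up t'), S.orth_zero hs', S.orth_zero ht'] using this
        have hs0 : polar q (up z) (up s) = 0 := by
          by_contra h
          refine hrat ?_
          rw [show α / β = -polar q (up z) (up t) / polar q (up z) (up s) by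
            rw [div_eq_div_iff hβ h]; linear_combination e1]
          exact F₀.div_mem (F₀.neg_mem (S.polar_mem z t)) (S.polar_mem z s)
        rw [hs0, mul_zero, zero_add] at e1
        exact ⟨S.orth_zero' hs0, S.orth_zero' ((mul_eq_zero.1 e1).resolve_left hβ)⟩
      constructor
      · by_contra hsn
        obtain ⟨z, hz', hzs⟩ := S.partner hsn
        obtain ⟨e1, e2⟩ := mem_orth_pair.1 hz'
        exact zero_ne_one ((hz z e1 e2).1.symm.trans hzs)
      · by_contra htn
        obtain ⟨z, hz', hzt⟩ := S.partner htn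
        obtain ⟨e1, e2⟩ := mem_orth_pair.1 hz'
        exact zero_ne_one ((hz z e1 e2).2.symm.trans hzt)
    have hsub : Submodule.span F ({up s, up t} : Set (ι → F)) ≤ Submodule.span F ({up s', up t'} : Set (ι → F)) := by
      refine Submodule.span_le.2 ?_
      rintro w (rfl | rfl)
      · obtain ⟨r, r', e⟩ := Submodule.mem_span_pair.1 hst.1
        exact Submodule.mem_span_pair.2 ⟨r, r', by rw [← e, up_add, up_smul, up_smul]⟩
      · obtain ⟨r, r', e⟩ := Submodule.mem_span_pair.1 hst.2
        exact Submodule.mem_span_pair.2 ⟨r, r', by rw [← e, up_add, up_smul, up_smul]⟩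
    set P := Submodule.span F ({up s', up t'} : Set (ι → F)) with hP
    have hla : Submodule.span F ({app g (up a), app g (up b)} : Set (ι → F)) ≤ P :=
      Submodule.span_le.2 (by rintro w (rfl | rfl); exacts [h1', hsub h2])
    have hlt : Submodule.span F ({app g (up a), app g (up b)} : Set (ι → F)) < P := by
      refine lt_of_le_of_ne hla fun he => ?_
      rw [← he] at h2'
      obtain ⟨r, r', e⟩ := Submodule.mem_span_pair.1 h2'
      rw [← map_smul, ← map_smul, ← map_add] at e
      exact S.up_notMem_pair hbn' (Submodule.mem_span_pair.2 ⟨r, r', app_injective g e⟩)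
    have hlt1 : Submodule.span F ({app g (up a)} : Set (ι → F)) <
        Submodule.span F ({app g (up a), app g (up b)} : Set (ι → F)) := by
      refine lt_of_le_of_ne (Submodule.span_mono (by simp)) fun he => ?_
      have hin : app g (up b) ∈ Submodule.span F ({app g (up a)} : Set (ι → F)) := by
        rw [he]; exact Submodule.subset_span (by simp)
      obtain ⟨k, hk⟩ := Submodule.mem_span_singleton.1 hin
      rw [← map_smul] at hk
      exact S.up_notMem hbn (Submodule.mem_span_singleton.2 ⟨k, app_injective g hk⟩)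
    have f1 := Submodule.finrank_lt_finrank_of_lt hlt
    have f2 := Submodule.finrank_lt_finrank_of_lt hlt1
    have f3 := finrank_pair_le (F := F) (up s') (up t')
    rw [← hP] at f3
    have f4 : 1 ≤ Module.finrank F (Submodule.span F ({app g (up a)} : Set (ι → F))) := by
      rw [finrank_span_singleton fun h0 => ha0 (up_injective ((app_injective g (h0.trans (map_zero _).symm)).trans
        up_zero.symm))]
    omega
  choose k s hks using hpoint
  have hk0 : ∀ a (ha : S.quad a = 0) (ha0 : a ≠ 0), k a ha ha0 ≠ 0 := fun a ha ha0 h0 => by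
    have := hks a ha ha0
    rw [h0, zero_smul] at this
    exact ha0 (up_injective ((app_injective g (this.trans (map_zero _).symm)).trans up_zero.symm))
  have hpair : ∀ a c (ha : S.quad a = 0) (ha0 : a ≠ 0) (hc : S.quad c = 0) (hc0 : c ≠ 0), polar S.quad a c ≠ 0 →
      k a ha ha0 * k c hc hc0 ∈ F₀ := by
    intro a c ha ha0 hc hc0 hac
    have e := polar_app g (up a) (up c)
    rw [hks a ha ha0, hks c hc hc0, polar_smul_left, polar_smul_right, smul_eq_mul, smul_eq_mul, ← mul_assoc] at e
    have hne : polar q (up (s a ha ha0)) (up (s c hc hc0)) ≠ 0 := fun h0 => hac (by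
      rw [h0, mul_zero] at e; exact S.orth_zero' e.symm)
    have := F₀.div_mem (S.polar_mem a c) (S.polar_mem (s a ha ha0) (s c hc hc0))
    rwa [← e, mul_div_cancel_right₀ _ hne] at this
  obtain ⟨a₀, -, ha₀0, ha₀⟩ := OrthTools.exists_singular S.quad_nondegenerate (⊤ : Submodule F₀ (ι → F₀))
    (by rw [finrank_top, Module.finrank_fintype_fun_eq_card]; have := S.seven; omega)
  set k₀ := k a₀ ha₀ ha₀0
  refine S.mem_ratScalar (c := k₀) (hk0 _ _ _) fun z => ?_
  have hsing : ∀ a, S.quad a = 0 → ∃ b : ι → F₀, app g (up a) = k₀ • up b := by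
    intro a ha
    by_cases ha0 : a = 0
    · exact ⟨0, by rw [ha0, up_zero, map_zero, smul_zero]⟩
    obtain ⟨d, hd, hda₀, hda⟩ := exists_link S.quad_nondegenerate (by have := S.seven; omega) ha₀ ha₀0 ha ha0
    have hd0 : d ≠ 0 := fun h => hda (by rw [h, polar_zero_left])
    have h := F₀.div_mem (hpair d a hd hd0 ha ha0 hda) (hpair d a₀ hd hd0 ha₀ ha₀0 hda₀)
    rw [mul_div_mul_left _ _ (hk0 d hd hd0)] at h
    exact ⟨(⟨_, h⟩ : F₀) • s a ha ha0, by
      rw [hks a ha ha0, up_smul, smul_smul, mul_div_cancel₀ _ (hk0 _ _ _)]⟩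
  obtain ⟨z₁, z₂, -, -, h1, h2, hz⟩ := S.split (T := ⊥) (by simp) (y := z)
    (OrthTools.mem_orth.2 fun w hw => by rw [(Submodule.mem_bot F₀).1 hw, polar_zero_left])
    (by by_cases hz0 : z = 0
        · exact Or.inr (by rw [hz0, QuadraticMap.map_zero])
        · exact Or.inl (by simpa using hz0))
  obtain ⟨b₁, e1⟩ := hsing z₁ h1
  obtain ⟨b₂, e2⟩ := hsing z₂ h2
  refine ⟨b₁ - b₂, ?_⟩
  rw [← app_apply, hz, up_sub, map_sub, e1, e2, up_sub, smul_sub]

omit V

/-- The orthogonal subfield group is maximal in `Ω`. -/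
theorem maximal (S : Rat q F₀) {r : ℕ} (hr : r.Prime) (hcard : Fintype.card F = Nat.card F₀ ^ r) :
    Cfsg.Geo.IsMaximalIn (commutator (O q))
      ((SympRoot.ratScalar F₀ ι).comap (O q).subtype ⊓ commutator (O q)) := by
  have hn7 : 7 ≤ Fintype.card ι := by have := S.seven; omega
  have hroot : ∀ a b : ι → F₀, q (up a) = 0 → polar q (up a) (up b) = 0 →
      eich q (up a) (up b) ∈ (SympRoot.ratScalar F₀ ι).comap (O q).subtype ⊓ commutator (O q) := by
    intro a b ha hab
    refine ⟨S.mem_ratScalar (c := 1) one_ne_zero fun y => ?_, eich_mem S.nondeg hn7 ha hab⟩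
    obtain ⟨w, hw⟩ := exists_down (F₀ := F₀) (v := app (eich q (up a) (up b)) (up y)) (by
      rw [app_eich ha hab]
      exact ((up_rv y).add ((up_rv b).smul (S.polar_mem y a))).add ((up_rv a).smul
        (F₀.sub_mem (F₀.neg_mem (S.polar_mem y b)) (F₀.mul_mem (S.rat _ (up_rv b)) (S.polar_mem y a)))))
    exact ⟨w, by rw [one_smul, hw]; rfl⟩
  refine ⟨lt_of_le_of_ne inf_le_right fun he => ?_, fun M hle hMC => ?_⟩
  · obtain ⟨l, hl⟩ : ∃ l : F, l ∉ F₀ := by
      by_contra h
      push Not at h
      have h1 : Nat.card F₀ = Nat.card F := Nat.card_congr (Equiv.subtypeUnivEquiv h)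
      rw [h1, ← Nat.card_eq_fintype_card] at hcard
      exact hr.one_lt.ne (Nat.pow_right_injective (Finite.one_lt_card (α := F))
        (show Nat.card F ^ 1 = Nat.card F ^ r by rw [pow_one]; exact hcard))
    obtain ⟨a, -, ha0, ha⟩ := OrthTools.exists_singular S.quad_nondegenerate (⊤ : Submodule F₀ (ι → F₀))
      (by rw [finrank_top, Module.finrank_fintype_fun_eq_card]; have := S.seven; omega)
    obtain ⟨b, hb, hqb, hbn⟩ := S.sing_outside (le_refl _) (S.one_le' a) (S.one_le' a)
    have hab := S.orth_zero (OrthTools.mem_orth.1 hb a (Submodule.mem_span_singleton_self a))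
    have hlb : polar q (up a) (l • up b) = 0 := by rw [polar_smul_right, hab, smul_zero]
    have hmem : eich q (up a) (l • up b) ∈ (SympRoot.ratScalar F₀ ι).comap (O q).subtype ⊓ commutator (O q) := by
      rw [he]; exact eich_mem S.nondeg hn7 (S.singular ha) hlb
    obtain ⟨c, hc, hcg⟩ := SympRoot.exists_rat_scalar hmem.1
    have hrat : ∀ y z : ι → F₀, c * polar q (up y) (app (eich q (up a) (l • up b)) (up z)) ∈ F₀ := by
      intro y z
      obtain ⟨w, hw⟩ := exists_down (F₀ := F₀) (v := c • app (eich q (up a) (l • up b)) (up z)) fun i => by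
        rw [app_apply, Pi.smul_apply, smul_eq_mul, Matrix.mulVec, dotProduct, Finset.mul_sum]
        refine sum_mem fun j _ => ?_
        rw [← mul_assoc]
        exact F₀.mul_mem (hcg i j) (z j).2
      have := S.polar_mem y w
      rwa [hw, polar_smul_right, smul_eq_mul] at this
    obtain ⟨y, -, hy⟩ := S.partner (T := ⊥) (v := a) (by simpa using ha0)
    have e1 := hrat y a
    rw [app_eich (S.singular ha) hlb, polar_self', S.singular ha, polar_smul_right, hab] at e1
    simp only [mul_zero, zero_smul, smul_zero, neg_zero, sub_zero, add_zero] at e1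
    rw [← S.polar_coe, hy, OneMemClass.coe_one, mul_one] at e1
    obtain ⟨z, hz, hzb⟩ := S.partner hbn
    obtain ⟨z', hz', hz'a⟩ := S.partner (v := a) (T := Submodule.span F₀ {b}) fun hin => by
      obtain ⟨k, hk⟩ := Submodule.mem_span_singleton.1 hin
      have hk0 : k ≠ 0 := fun h0 => ha0 (by rw [← hk, h0, zero_smul])
      exact hbn (Submodule.mem_span_singleton.2 ⟨k⁻¹, by rw [← hk, inv_smul_smul₀ hk0]⟩)
    have e2 := hrat z z'
    have f1 : polar q (up z') (up a) = 1 := by rw [← S.polar_coe, hz'a]; rfl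
    have f2 : polar q (up z') (up b) = 0 := by
      rw [polar_comm]; exact S.orth_zero (OrthTools.mem_orth.1 hz' b (Submodule.mem_span_singleton_self b))
    have f3 : polar q (up z) (up a) = 0 := by
      rw [polar_comm]; exact S.orth_zero (OrthTools.mem_orth.1 hz a (Submodule.mem_span_singleton_self a))
    have f4 : polar q (up z) (up b) = 1 := by rw [← S.polar_coe, hzb]; rfl
    rw [app_eich (S.singular ha) hlb, f1, polar_smul_right, f2, QuadraticMap.map_smul, S.singular hqb,
      polar_add_right, polar_add_right, polar_smul_right, polar_smul_right, polar_smul_right, f3, f4] at e2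
    simp only [smul_eq_mul, mul_zero, add_zero, mul_one, one_mul] at e2
    apply hl
    have := F₀.sub_mem (F₀.div_mem e2 e1) (S.polar_mem z z')
    rwa [mul_div_cancel_left₀ _ hc, add_sub_cancel_left] at this
  by_cases hall : M ≤ (SympRoot.ratScalar F₀ ι).comap (O q).subtype
  · exact Or.inl (le_antisymm (le_inf hall hMC) hle)
  right
  refine le_antisymm hMC ?_
  have V : Over q F₀ M := { S with mem := fun a b ha hab => hle (hroot a b ha hab) }
  refine V.commutator_le_of_new hr hcard fun hno => ?_
  exact hall fun g hg => V.rat_of_noNew hno hg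

end CfsgLib.GeomClasses.OrthRat
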