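import Cfsg.Agent.Lib.GeomClasses.OrthPair
import Cfsg.Agent.Lib.GeomClasses.Transport

/-!
Transport of maximality in `Ω` along a change of basis.
-/

set_option autoImplicit false

namespace CfsgLib.GeomClasses.OrthTransport

open Matrix
open scoped MatrixGroups

variable {ι : Type} [Fintype ι] [DecidableEq ι] {F : Type*} [Field F]

theorem omegaGL_eq (Q : (ι → F) → F) :
    Cfsg.Geo.omegaGL Q = ⁅Cfsg.isometryGroup F Q, Cfsg.isometryGroup F Q⁆ := by
  rw [Cfsg.Geo.omegaGL, Cfsg.Omega, commutator_def, Subgroup.map_commutator, ← MonoidHom.range_eq_map,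
    Subgroup.range_subtype]

theorem map_isometryGroup (Q : (ι → F) → F) (P : GL ι F) :
    (Cfsg.isometryGroup F fun x => Q ((P : Matrix ι ι F) *ᵥ x)).map (MulAut.conj P).toMonoidHom =
      Cfsg.isometryGroup F Q := by
  ext g
  constructor
  · rintro ⟨h, hh, rfl⟩ u v
    show Q (((P * h * P⁻¹ : GL ι F) : Matrix ι ι F) *ᵥ u) = Q u
    have := hh (((P⁻¹ : GL ι F) : Matrix ι ι F) *ᵥ u) v
    simp only [Units.coeHom_apply, gl_mulVec_inv_mulVec] at this
    rw [gl_mul_mulVec, gl_mul_mulVec]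
    exact this
  · intro hg
    refine ⟨P⁻¹ * g * P, fun u v => ?_, by simp [mul_assoc]⟩
    show Q ((P : Matrix ι ι F) *ᵥ (((P⁻¹ * g * P : GL ι F) : Matrix ι ι F) *ᵥ u)) = Q ((P : Matrix ι ι F) *ᵥ u)
    have := hg ((P : Matrix ι ι F) *ᵥ u) v
    simp only [Units.coeHom_apply, mulVec_mulVec, ← Units.val_mul] at this ⊢
    rwa [show P * (P⁻¹ * g * P) = g * P by group]

theorem map_omegaGL (Q : (ι → F) → F) (P : GL ι F) :
    (Cfsg.Geo.omegaGL fun x => Q ((P : Matrix ι ι F) *ᵥ x)).map (MulAut.conj P).toMonoidHom =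
      Cfsg.Geo.omegaGL Q := by
  rw [omegaGL_eq, omegaGL_eq, Subgroup.map_commutator, map_isometryGroup]

theorem nondegenerate_comp {Q : (ι → F) → F} (hQ : Cfsg.Geo.IsNondegenerateQuadraticForm Q) (P : GL ι F) :
    Cfsg.Geo.IsNondegenerateQuadraticForm fun x => Q ((P : Matrix ι ι F) *ᵥ x) := by
  have hp : ∀ u v, QuadraticMap.polar (fun x => Q ((P : Matrix ι ι F) *ᵥ x)) u v =
      QuadraticMap.polar Q ((P : Matrix ι ι F) *ᵥ u) ((P : Matrix ι ι F) *ᵥ v) := fun u v => by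
    simp [QuadraticMap.polar, mulVec_add]
  refine ⟨fun c v => by simp only [mulVec_smul]; exact hQ.smul c _, ⟨?_, ?_, ?_, ?_⟩, fun x hx => ?_⟩
  · intro a b c; simp only [hp, mulVec_add]; exact hQ.polar_bilinear.add_left _ _ _
  · intro a b c; simp only [hp, mulVec_smul]; exact hQ.polar_bilinear.smul_left _ _ _
  · intro a b c; simp only [hp, mulVec_add]; exact hQ.polar_bilinear.add_right _ _ _
  · intro a b c; simp only [hp, mulVec_smul]; exact hQ.polar_bilinear.smul_right _ _ _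
  obtain ⟨⟨y, hy⟩, ⟨y', hy'⟩⟩ := hQ.nondegenerate _ (gl_mulVec_ne_zero P hx)
  exact ⟨⟨((P⁻¹ : GL ι F) : Matrix ι ι F) *ᵥ y, by rw [hp, gl_mulVec_inv_mulVec]; exact hy⟩,
    ⟨((P⁻¹ : GL ι F) : Matrix ι ι F) *ᵥ y', by rw [hp, gl_mulVec_inv_mulVec]; exact hy'⟩⟩

/-- A maximal subgroup for the transformed form gives one for the form itself. -/
theorem maximal_map {Q : (ι → F) → F} (P : GL ι F) {S : Subgroup (GL ι F)}
    (h : Cfsg.Geo.IsMaximalIn (Cfsg.Geo.omegaGL fun x => Q ((P : Matrix ι ι F) *ᵥ x))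
      (S ⊓ Cfsg.Geo.omegaGL fun x => Q ((P : Matrix ι ι F) *ᵥ x))) :
    Cfsg.Geo.IsMaximalIn (Cfsg.Geo.omegaGL Q) (S.map (MulAut.conj P).toMonoidHom ⊓ Cfsg.Geo.omegaGL Q) := by
  have h' := isMaximalIn_map (MulAut.conj P) h
  rwa [Subgroup.map_inf _ _ _ (MulAut.conj P).injective, map_omegaGL] at h'

end CfsgLib.GeomClasses.OrthTransport
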