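import Cfsg.Agent.Lib.GeomClasses.OrthSubspaceTools
import Cfsg.Agent.Lib.GeomClasses.OrthRatMax
import Cfsg.Agent.Lib.GeomClasses.OrthTransport
import Cfsg.Agent.Lib.Maximal99.OrthUnipotent

/-!
Maximal subgroups of the odd orthogonal groups from dimension seven on.
-/

set_option autoImplicit false
open Cfsg

namespace CfsgLib.GeomClasses.OrthOdd

open Matrix CfsgLib.GeomClasses

theorem singular {F : Type*} [Field F] [Fintype F] (hodd : Odd (Fintype.card F)) (m : ℕ) (hm : 3 ≤ m) (W : Submodule F (Unit ⊕ (Fin m ⊕ Fin m) → F)) (hW0 : W ≠ ⊥) (hW : Cfsg.Geo.IsTotallySingularQuad (Cfsg.quadFormOdd m F) W) : Cfsg.Geo.IsMaximalIn (Cfsg.Geo.omegaGL (Cfsg.quadFormOdd m F)) (Cfsg.Geo.subspaceStabilizer W ⊓ Cfsg.Geo.omegaGL (Cfsg.quadFormOdd m F)) := by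
  classical
  have h2 : (2 : F) ≠ 0 := by
    intro h2
    haveI := CfsgLib.OrthOmega.charP_two_of_two_eq_zero h2
    exact (Nat.not_even_iff_odd.2 hodd) (by
      obtain ⟨k, -, hk⟩ := FiniteField.card F 2
      rw [hk]
      exact Nat.even_pow.2 ⟨even_two, k.pos.ne'⟩)
  have hQ := CfsgLib.OrthUnipotent.odd_nondeg m h2
  have hq := OrthTools.quadOf_nondegenerate hQ
  refine OrthEich.maximal_transport hQ ?_
  refine OrthSubspace.maximal_singular hq (by simp; omega) hW0 hW fun U _ _ h => ?_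
  simp at h
  omega

theorem nondegenerate {F : Type*} [Field F] [Fintype F] (hodd : Odd (Fintype.card F)) (m : ℕ) (hm : 3 ≤ m) (W : Submodule F (Unit ⊕ (Fin m ⊕ Fin m) → F)) (hW0 : W ≠ ⊥) (hev : Even (Module.finrank F W)) (hW : Cfsg.Geo.IsNondegenerateOn (QuadraticMap.polar (Cfsg.quadFormOdd m F)) W) (hex : ¬ (Fintype.card F = 3 ∧ Module.finrank F W = 2 ∧ Cfsg.Geo.IsPlusTypeOn (Cfsg.quadFormOdd m F) W)) : Cfsg.Geo.IsMaximalIn (Cfsg.Geo.omegaGL (Cfsg.quadFormOdd m F)) (Cfsg.Geo.subspaceStabilizer W ⊓ Cfsg.Geo.omegaGL (Cfsg.quadFormOdd m F)) := by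
  classical
  have h2 : (2 : F) ≠ 0 := by
    intro h2
    haveI := CfsgLib.OrthOmega.charP_two_of_two_eq_zero h2
    exact (Nat.not_even_iff_odd.2 hodd) (by
      obtain ⟨k, -, hk⟩ := FiniteField.card F 2
      rw [hk]
      exact Nat.even_pow.2 ⟨even_two, k.pos.ne'⟩)
  have hQ := CfsgLib.OrthUnipotent.odd_nondeg m h2
  have hq := OrthTools.quadOf_nondegenerate hQ
  refine OrthEich.maximal_transport hQ ?_
  set q := CfsgLib.Maximal.TensorTools.quadOf hQ
  have hW' : ∀ x ∈ W, x ≠ 0 → ∃ y ∈ W, QuadraticMap.polar q x y ≠ 0 := fun x hx hx0 => (hW x hx hx0).2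
  have hι : Fintype.card (Unit ⊕ (Fin m ⊕ Fin m)) = 2 * m + 1 := by simp; omega
  by_cases hle : 2 * Module.finrank F W ≤ 2 * m + 1
  · refine OrthSubspace.maximal_nondegenerate hq (by omega) hW0 hW' (by omega) (fun h => by omega) ?_
      (hU5 := if h5 : Module.finrank F W + 5 ≤ Fintype.card (Unit ⊕ (Fin m ⊕ Fin m)) then Or.inl h5
        else Or.inr ⟨h2, by omega, by omega⟩)
    rintro ⟨h2W, h3, s, hs, hs0, hqs⟩
    refine hex ⟨?_, h2W, Submodule.span F {s}, (Submodule.span_singleton_le_iff_mem _ _).2 hs, ?_, ?_⟩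
    · have := Fintype.one_lt_card (α := F)
      obtain ⟨j, hj⟩ := hodd
      omega
    · intro x hx
      obtain ⟨c, rfl⟩ := Submodule.mem_span_singleton.1 hx
      show q (c • s) = 0
      rw [QuadraticMap.map_smul, hqs, smul_zero]
    · rw [finrank_span_singleton hs0, h2W]
  · have hU := OrthTools.finrank_orth hq W
    have hWle := Submodule.finrank_le W
    rw [Module.finrank_fintype_fun_eq_card] at hWle
    rw [← OrthSubspace.stab_orth hq W]
    refine OrthSubspace.maximal_nondegenerate hq (by omega) (fun h => ?_)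
      (OrthTools.orth_nondegenerate hq hW') (by omega) (fun h => by omega) ?_
      (hU5 := if h5 : Module.finrank F ↥(OrthTools.orth q W) + 5 ≤ Fintype.card (Unit ⊕ (Fin m ⊕ Fin m)) then Or.inl h5
        else Or.inr ⟨h2, by omega, by omega⟩)
    · rw [h, finrank_bot] at hU
      obtain ⟨j, hj⟩ := hev
      omega
    · rintro ⟨h2U, -⟩
      obtain ⟨j, hj⟩ := hev
      omega

theorem subfield {F : Type*} [Field F] [Fintype F] (hodd : Odd (Fintype.card F)) (m : ℕ) (hm : 3 ≤ m) (F₀ : Subfield F) (r : ℕ) (hr : r.Prime) (hcard : Fintype.card F = Nat.card F₀ ^ r) (P : Matrix.GeneralLinearGroup (Unit ⊕ (Fin m ⊕ Fin m)) F) (hP : Cfsg.Geo.IsQuadFormRationalStructure (Cfsg.quadFormOdd m F) F₀ P) : Cfsg.Geo.IsMaximalIn (Cfsg.Geo.omegaGL (Cfsg.quadFormOdd m F)) (Cfsg.Geo.subfieldSubgroup F₀ P ⊓ Cfsg.Geo.omegaGL (Cfsg.quadFormOdd m F)) := by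
  classical
  have h2 : (2 : F) ≠ 0 := by
    refine Ring.two_ne_zero (R := F) fun h => ?_
    have := FiniteField.even_card_of_char_two h
    have := Nat.odd_iff.1 hodd
    omega
  have hQ := CfsgLib.OrthUnipotent.odd_nondeg (F := F) m h2
  have hQ' := CfsgLib.GeomClasses.OrthTransport.nondegenerate_comp hQ P
  have S : CfsgLib.GeomClasses.OrthRat.Rat (CfsgLib.Maximal.TensorTools.quadOf hQ') F₀ :=
    ⟨CfsgLib.GeomClasses.OrthTools.quadOf_nondegenerate hQ', by simp; omega, fun u hu => hP u hu⟩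
  haveI := Fintype.ofFinite F₀
  exact CfsgLib.GeomClasses.OrthTransport.maximal_map P
    (CfsgLib.GeomClasses.OrthPair.maximal_transport hQ' (CfsgLib.GeomClasses.OrthRat.maximal S hr hcard))

end CfsgLib.GeomClasses.OrthOdd
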