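import Cfsg.Agent.Lib.GeomClasses.OrthDecompClass

/-!
Orthogonal decompositions into planes: tools.
-/

set_option autoImplicit false
set_option linter.unusedSectionVars false

namespace CfsgLib.GeomClasses.OrthDecomp

open Matrix QuadraticMap CfsgLib.Orth CfsgLib.GeomClasses.OrthEich CfsgLib.GeomClasses.OrthPair
  CfsgLib.GeomClasses.OrthRat CfsgLib.Maximal.TensorTools

variable {ι : Type} [Fintype ι] [DecidableEq ι] {F : Type*} [Field F] [Fintype F]
  {q : QuadraticForm F (ι → F)} {t : ℕ} {D : Fin t → Submodule F (ι → F)}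

/-- An orthogonal decomposition into isometric planes, with the small fields left out. -/
structure PDec (q : QuadraticForm F (ι → F)) {t : ℕ} (D : Fin t → Submodule F (ι → F)) : Prop
    extends Base q D 2 where
  ok : ((∀ i, ∀ x ∈ D i, q x = 0 → x = 0) ∧ Fintype.card F ≠ 3) ∨
    ((∀ i, ∃ u ∈ D i, u ≠ 0 ∧ q u = 0) ∧ 7 ≤ Fintype.card F)
  five_le : 5 ≤ t

theorem quad_roots_le [DecidableEq F] {α β γ : F} (h : α ≠ 0 ∨ β ≠ 0 ∨ γ ≠ 0) :
    (Finset.univ.filter fun x : F => α * x ^ 2 + β * x + γ = 0).card ≤ 2 := by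
  by_contra hc
  obtain ⟨a, b, c, ha, hb, hc', hab, hac, hbc⟩ := Finset.two_lt_card_iff.1 (not_le.1 hc)
  simp only [Finset.mem_filter, Finset.mem_univ, true_and] at ha hb hc'
  have e1 : α * (a + b) + β = 0 := by
    have : (a - b) * (α * (a + b) + β) = 0 := by linear_combination ha - hb
    exact (mul_eq_zero.1 this).resolve_left (sub_ne_zero.2 hab)
  have e2 : α * (a + c) + β = 0 := by
    have : (a - c) * (α * (a + c) + β) = 0 := by linear_combination ha - hc'
    exact (mul_eq_zero.1 this).resolve_left (sub_ne_zero.2 hac)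
  have hα : α = 0 := by
    have : (b - c) * α = 0 := by linear_combination e1 - e2
    exact (mul_eq_zero.1 this).resolve_left (sub_ne_zero.2 hbc)
  have hβ : β = 0 := by rw [hα, zero_mul, zero_add] at e1; exact e1
  rcases h with h | h | h
  · exact h hα
  · exact h hβ
  · exact h (by rw [hα, hβ] at ha; linear_combination ha)

variable (P : PDec q D)
include P

theorem PDec.four_le (h : (2 : F) ≠ 0) : 5 ≤ Fintype.card F := by
  rcases P.ok with ⟨-, h3⟩ | ⟨-, h3⟩
  · have hodd : Fintype.card F % 2 = 1 := FiniteField.odd_card_of_char_ne_two fun hc => h (by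
      have : CharP F 2 := hc ▸ ringChar.charP F
      exact CharTwo.two_eq_zero)
    have h1 : 1 < Fintype.card F := Fintype.one_lt_card
    omega
  · omega

theorem PDec.exists_ne (S : Finset (Fin t)) (h : S.card < t) : ∃ r, r ∉ S := by
  by_contra hc
  push Not at hc
  have := Finset.card_le_card (show (Finset.univ : Finset (Fin t)) ⊆ S from fun x _ => hc x)
  rw [Finset.card_univ, Fintype.card_fin] at this
  omega

/-- Two independent vectors span their plane. -/
theorem PDec.span_two {i : Fin t} {p w z : ι → F} (hp : p ∈ D i) (hw : w ∈ D i) (hp0 : p ≠ 0)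
    (hwp : w ∉ Submodule.span F {p}) (hz : z ∈ D i) : ∃ α β : F, z = α • p + β • w := by
  have hli : LinearIndependent F ![p, w] := by
    rw [LinearIndependent.pair_iff]
    intro r s h
    by_cases hs : s = 0
    · rw [hs, zero_smul, add_zero, smul_eq_zero] at h
      exact ⟨h.resolve_right hp0, hs⟩
    · refine absurd (Submodule.mem_span_singleton.2 ⟨-(s⁻¹ * r), ?_⟩) hwp
      rw [neg_smul, mul_smul, eq_neg_of_add_eq_zero_left h, smul_neg, inv_smul_smul₀ hs, neg_neg]
  have h6 := finrank_span_eq_card hli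
  rw [Matrix.range_cons_cons_empty, Fintype.card_fin] at h6
  have he : Submodule.span F ({p, w} : Set (ι → F)) = D i := by
    refine Submodule.eq_of_le_of_finrank_eq (Submodule.span_le.2 ?_) (by rw [h6, P.toBase.rank])
    rintro _ (rfl | rfl)
    · exact hp
    · exact hw
  rw [← he] at hz
  obtain ⟨α, β, h⟩ := Submodule.mem_span_pair.1 hz
  exact ⟨α, β, h.symm⟩

/-- A partner outside the line. -/
theorem PDec.exists_dual {i : Fin t} {p : ι → F} (hp : p ∈ D i) (hp0 : p ≠ 0) :
    ∃ w ∈ D i, polar q p w = 1 ∧ w ∉ Submodule.span F {p} := by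
  obtain ⟨y, hy, hpy⟩ := P.block i p hp hp0
  set w := (polar q p y)⁻¹ • y with hw
  have hpw : polar q p w = 1 := by rw [hw, polar_smul_right, smul_eq_mul, inv_mul_cancel₀ hpy]
  by_cases h : w ∈ Submodule.span F {p}
  · obtain ⟨z, hz, hzp⟩ : ∃ z ∈ D i, z ∉ Submodule.span F {p} := by
      by_contra hc
      push Not at hc
      have := Submodule.finrank_mono (show D i ≤ Submodule.span F {p} from hc)
      rw [P.toBase.rank, finrank_span_singleton hp0] at this
      omega
    obtain ⟨s, hs⟩ := Submodule.mem_span_singleton.1 h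
    have hpp : s * polar q p p = 1 := by rw [← hpw, ← hs, polar_smul_right, smul_eq_mul]
    refine ⟨z + ((1 - polar q p z) * s) • p, (D i).add_mem hz ((D i).smul_mem _ hp), ?_, fun hin => hzp ?_⟩
    · rw [polar_add_right, polar_smul_right, smul_eq_mul, mul_assoc, hpp]; ring
    · simpa using (Submodule.span F {p}).sub_mem hin
        (Submodule.smul_mem _ ((1 - polar q p z) * s) (Submodule.mem_span_singleton_self p))
  · exact ⟨w, (D i).smul_mem _ hy, hpw, h⟩

/-- The orthogonal line of an anisotropic vector of a plane. -/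
theorem PDec.perp_line {i : Fin t} {x : ι → F} (hx : x ∈ D i) (hqx : q x ≠ 0) :
    ∃ p ∈ D i, q p ≠ 0 ∧ polar q x p = 0 := by
  by_cases h2 : (2 : F) = 0
  · exact ⟨x, hx, hqx, by rw [polar_self', h2, zero_mul]⟩
  · obtain ⟨hY, hYd⟩ := perp_nondeg P.nondeg h2 (P.block i) hx hqx
    rw [P.toBase.rank] at hYd
    obtain ⟨p, hp, hqp⟩ := exists_aniso P.nondeg hY (by omega)
    obtain ⟨hpD, hxp⟩ := OrthTools.mem_inf_orth hp
    exact ⟨p, hpD, hqp, hxp⟩

/-- A dual vector in a plane is never degenerate against its partner. -/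
theorem PDec.disc_ne {i : Fin t} {p w : ι → F} (hp : p ∈ D i) (hw : w ∈ D i) (hp0 : p ≠ 0)
    (hpw : polar q p w = 1) (hwp : w ∉ Submodule.span F {p}) : 4 * q p * q w ≠ 1 := by
  intro h
  set z := (2 * q p) • w - p with hz
  have hz1 : polar q p z = 0 := by
    rw [hz, polar_sub_right, polar_smul_right, hpw, polar_self', smul_eq_mul, mul_one, sub_self]
  have hz2 : polar q w z = 0 := by
    rw [hz, polar_sub_right, polar_smul_right, polar_self', polar_comm (f := ⇑q) w p, hpw, smul_eq_mul]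
    linear_combination h
  have hzD : z ∈ D i := (D i).sub_mem ((D i).smul_mem _ hw) hp
  have hz0 : z = 0 := by
    by_contra h0
    obtain ⟨y, hy, hzy⟩ := P.block i z hzD h0
    obtain ⟨α, β, rfl⟩ := P.span_two hp hw hp0 hwp hy
    rw [polar_add_right, polar_smul_right, polar_smul_right, polar_comm (f := ⇑q) z p, hz1,
      polar_comm (f := ⇑q) z w, hz2] at hzy
    simp at hzy
  rw [hz, sub_eq_zero] at hz0
  by_cases h0 : 2 * q p = 0
  · rw [h0, zero_smul] at hz0; exact hp0 hz0.symm
  · refine hwp (Submodule.mem_span_singleton.2 ⟨(2 * q p)⁻¹, ?_⟩)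
    conv_lhs => arg 2; rw [← hz0]
    rw [inv_smul_smul₀ h0]

/-- The quotients `B(p,a)² / q a` for vectors of the plane outside the line. -/
theorem PDec.ratio_set {i : Fin t} {p : ι → F} (hp : p ∈ D i) (hqp : q p ≠ 0) :
    ∃ S : Finset F, (∀ c ∈ S, c ≠ 0 ∧ c ≠ 4 * q p ∧
        ∃ a ∈ D i, a ∉ Submodule.span F {p} ∧ q a ≠ 0 ∧ polar q p a ^ 2 = c * q a) ∧
      ((2 : F) = 0 → Fintype.card F ≤ 2 * S.card + 2 ∧
        ((∀ x ∈ D i, q x = 0 → x = 0) → Fintype.card F ≤ 2 * S.card)) ∧
      ((2 : F) ≠ 0 → Fintype.card F ≤ 2 * S.card + 3 ∧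
        ((∀ x ∈ D i, q x = 0 → x = 0) → Fintype.card F ≤ 2 * S.card + 1)) := by
  classical
  have hp0 : p ≠ 0 := fun h => hqp (by rw [h, QuadraticMap.map_zero])
  obtain ⟨w, hw, hpw, hwp⟩ := P.exists_dual hp hp0
  set V := q p with hV
  set W := q w with hW
  have hden : ∀ τ : F, q (τ • p + w) = V * τ ^ 2 + τ + W := fun τ => by
    rw [QuadraticMap.map_add ⇑q, QuadraticMap.map_smul, polar_smul_left, hpw, ← hV, ← hW]
    simp only [smul_eq_mul]
    ring
  have hB : ∀ τ : F, polar q p (τ • p + w) = 2 * V * τ + 1 := fun τ => by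
    rw [polar_add_right, polar_smul_right, polar_self', hpw, ← hV]
    simp only [smul_eq_mul]
    ring
  have hout : ∀ τ : F, τ • p + w ∉ Submodule.span F {p} := fun τ hin => hwp (by
    simpa using (Submodule.span F {p}).sub_mem hin (Submodule.smul_mem _ τ (Submodule.mem_span_singleton_self p)))
  set T := Finset.univ.filter fun τ : F => V * τ ^ 2 + τ + W ≠ 0 with hT
  set T₀ := T.filter fun τ => 2 * V * τ + 1 ≠ 0 with hT₀
  set f : F → F := fun τ => (2 * V * τ + 1) ^ 2 / (V * τ ^ 2 + τ + W) with hf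
  have hmem : ∀ τ ∈ T₀, V * τ ^ 2 + τ + W ≠ 0 ∧ 2 * V * τ + 1 ≠ 0 := fun τ hτ => by
    simpa [hT₀, hT] using hτ
  have hdisc := P.disc_ne hp hw hp0 hpw hwp
  rw [← hV, ← hW] at hdisc
  have h4V : ∀ τ ∈ T₀, f τ ≠ 4 * V := fun τ hτ h => by
    obtain ⟨h1, -⟩ := hmem τ hτ
    rw [hf] at h
    dsimp only at h
    rw [div_eq_iff h1] at h
    exact hdisc (by linear_combination -h)
  have hT0T : T.card ≤ T₀.card + 1 ∧ ((2 : F) = 0 → T.card ≤ T₀.card) := by
    refine ⟨?_, fun h => Finset.card_le_card fun τ hτ => by simp [hT₀, hτ, h]⟩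
    have h1 : (T.filter fun τ => ¬ (2 * V * τ + 1 ≠ 0)).card ≤ 1 := Finset.card_le_one.2 fun a ha b hb => by
      simp only [Finset.mem_filter, not_not] at ha hb
      have h2V : 2 * V ≠ 0 := fun h => by rw [h, zero_mul, zero_add] at ha; exact one_ne_zero ha.2
      exact mul_left_cancel₀ h2V (by linear_combination ha.2 - hb.2)
    have h2 := Finset.card_filter_add_card_filter_not (s := T) (fun τ => 2 * V * τ + 1 ≠ 0)
    rw [← hT₀] at h2
    omega
  have himg : T₀.card ≤ 2 * (T₀.image f).card := by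
    refine Finset.card_le_mul_card_image T₀ 2 fun c hc => ?_
    obtain ⟨τ₀, hτ₀, hfc⟩ := Finset.mem_image.1 hc
    refine le_trans (Finset.card_le_card (t := Finset.univ.filter fun x : F =>
      (4 * V ^ 2 - c * V) * x ^ 2 + (4 * V - c) * x + (1 - c * W) = 0) fun x hx => ?_) (quad_roots_le ?_)
    · simp only [Finset.mem_filter] at hx ⊢
      obtain ⟨h1, -⟩ := hmem x hx.1
      have h := hx.2
      rw [hf] at h
      dsimp only at h
      rw [div_eq_iff h1] at h
      exact ⟨Finset.mem_univ _, by linear_combination h⟩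
    · refine Or.inr (Or.inl fun h0 => h4V τ₀ hτ₀ ?_)
      rw [hfc]
      linear_combination -h0
  have hTall : Fintype.card F ≤ T.card + 2 ∧ ((∀ x ∈ D i, q x = 0 → x = 0) → Fintype.card F ≤ T.card) := by
    refine ⟨?_, fun hm => le_of_eq ?_⟩
    · have h1 := quad_roots_le (F := F) (α := V) (β := 1) (γ := W) (Or.inl hqp)
      have h2 := Finset.card_filter_add_card_filter_not (s := (Finset.univ : Finset F))
        (fun τ => V * τ ^ 2 + τ + W ≠ 0)
      simp only [not_not, Finset.card_univ, one_mul] at h1 h2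
      rw [← hT] at h2
      omega
    · have hall : ∀ τ ∈ (Finset.univ : Finset F), V * τ ^ 2 + τ + W ≠ 0 := fun τ _ h => hout τ (by
        rw [hm _ ((D i).add_mem ((D i).smul_mem _ hp) hw) (by rw [hden, h])]
        exact Submodule.zero_mem _)
      rw [hT, Finset.filter_true_of_mem hall, Finset.card_univ]
  refine ⟨T₀.image f, fun c hc => ?_, fun h => ⟨?_, fun hm => ?_⟩, fun h => ⟨?_, fun hm => ?_⟩⟩
  · obtain ⟨τ, hτ, rfl⟩ := Finset.mem_image.1 hc
    obtain ⟨h1, h3⟩ := hmem τ hτ
    refine ⟨div_ne_zero (pow_ne_zero _ h3) h1, h4V τ hτ, τ • p + w, (D i).add_mem ((D i).smul_mem _ hp) hw,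
      hout τ, by rw [hden]; exact h1, ?_⟩
    rw [hden, hB, hf]
    dsimp only
    rw [div_mul_cancel₀ _ h1]
  · have := hT0T.2 h; omega
  · have := hT0T.2 h; have := hTall.2 hm; omega
  · omega
  · have := hTall.2 hm; omega

/-- An anisotropic vector pairing with a given non-zero vector. -/
theorem PDec.aniso_pairing {i : Fin t} {s : ι → F} (hs : s ∈ D i) (hs0 : s ≠ 0) :
    ∃ a ∈ D i, q a ≠ 0 ∧ polar q a s ≠ 0 := by
  obtain ⟨y, hy, hsy⟩ := P.block i s hs hs0
  rw [polar_comm] at hsy
  by_cases hqy : q y = 0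
  · rcases P.ok with ⟨hm, -⟩ | ⟨-, h7⟩
    · exact absurd (by rw [hm i y hy hqy, polar_zero_left] : polar q y s = 0) hsy
    · obtain ⟨τ, hτ0, h1, h3, -⟩ := exists_avoid (F := F) (by omega) (-polar q y s / q s)
        (-polar q y s / polar q s s) 0
      refine ⟨y + τ • s, (D i).add_mem hy ((D i).smul_mem _ hs), ?_, ?_⟩
      · rw [QuadraticMap.map_add ⇑q, QuadraticMap.map_smul, polar_smul_right, hqy, smul_eq_mul, smul_eq_mul,
          zero_add]
        intro h
        by_cases hqs : q s = 0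
        · rw [hqs, mul_zero, zero_add] at h; exact mul_ne_zero hτ0 hsy h
        · refine h1 ?_
          rw [eq_div_iff hqs]
          exact mul_left_cancel₀ hτ0 (by linear_combination h)
      · rw [polar_add_left, polar_smul_left, smul_eq_mul]
        intro h
        by_cases hss : polar q s s = 0
        · rw [hss, mul_zero, add_zero] at h; exact hsy h
        · exact h3 (by rw [eq_div_iff hss]; linear_combination h)
  · exact ⟨y, hy, hqy, hsy⟩

end CfsgLib.GeomClasses.OrthDecomp
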