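import Mathlib

/-!
Three quadratic polynomials over the field with seven elements whose values add up to the variable:
two non-vanishing values at some point have the same square class. Used for five planes over that field.
-/

set_option autoImplicit false

namespace CfsgLib.GeomClasses.PlaneSeven

/-- The square classes of residues modulo seven. -/
def fsq (v : ℕ) : Bool := v == 1 || v == 2 || v == 4

/-- Two non-zero residues of one square class. -/
def fclash (u v : ℕ) : Bool := u != 0 && v != 0 && (fsq u == fsq v)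

/-- The value of a quadratic polynomial modulo seven. -/
def fev (a b c t : ℕ) : ℕ := (a * t * t + b * t + c) % 7

/-- The value of the third polynomial. -/
def fthird (u v t : ℕ) : ℕ := (t + 14 - (u + v)) % 7

/-- No clash at one point. -/
def fgood (a b c a' b' c' t : ℕ) : Bool :=
  let u := fev a b c t
  let v := fev a' b' c' t
  let w := fthird u v t
  !(fclash u v || fclash u w || fclash v w)

/-- Exactly two zeros. -/
def fzeros (g : ℕ → ℕ) : Bool := ([1, 2, 3, 4, 5, 6].filter fun t => g t == 0).length == 2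

/-- The condition on a pair of polynomials. -/
def fthirdOK (a b c a' b' c' : ℕ) : Bool :=
  [1, 2, 3, 4, 5, 6].all (fgood a b c a' b' c') &&
    fzeros (fun t => fthird (fev a b c t) (fev a' b' c' t) t)

theorem none_seven :
    ((List.range 7).all fun a => (List.range 7).all fun b => (List.range 7).all fun c => !fzeros (fev a b c) ||
      (List.range 7).all fun a' => (List.range 7).all fun b' => (List.range 7).all fun c' =>
        !fzeros (fev a' b' c') || !fthirdOK a b c a' b' c') = true := by
  decide +kernel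

theorem square_of_fsq : ∀ x y : ZMod 7, x ≠ 0 → y ≠ 0 → fsq x.val = fsq y.val → ∃ r, x = r * r * y := by
  decide +kernel

theorem val_quad (a b c t : ZMod 7) : (a * t ^ 2 + b * t + c).val = fev a.val b.val c.val t.val := by
  show _ = (a.val * t.val * t.val + b.val * t.val + c.val) % 7
  rw [← ZMod.val_natCast 7 (a.val * t.val * t.val + b.val * t.val + c.val)]
  push_cast
  rw [ZMod.natCast_rightInverse a, ZMod.natCast_rightInverse b, ZMod.natCast_rightInverse c,
    ZMod.natCast_rightInverse t]
  ring_nf

theorem val_third : ∀ u v t : ZMod 7, (t - (u + v)).val = fthird u.val v.val t.val := by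
  decide +kernel

theorem filter_length (g : ZMod 7 → ZMod 7) (f : ℕ → ℕ) (h : ∀ t, (g t).val = f t.val) :
    ([1, 2, 3, 4, 5, 6].filter fun t => f t == 0).length =
      ((Finset.univ.erase (0 : ZMod 7)).filter fun t => g t = 0).card := by
  have he : (Finset.univ.erase (0 : ZMod 7)).val = (([1, 2, 3, 4, 5, 6] : List (ZMod 7)) : Multiset (ZMod 7)) := by
    decide +kernel
  have hl : ([1, 2, 3, 4, 5, 6] : List ℕ) = ([1, 2, 3, 4, 5, 6] : List (ZMod 7)).map ZMod.val := by
    decide +kernel
  rw [Finset.card_def, Finset.filter_val, he, Multiset.filter_coe, Multiset.coe_card, hl, List.filter_map,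
    List.length_map]
  congr 1
  refine List.filter_congr fun t _ => ?_
  simp only [Function.comp, ← h]
  rw [Bool.eq_iff_iff, beq_iff_eq, decide_eq_true_iff, ZMod.val_eq_zero]

theorem list_val : ∀ n ∈ ([1, 2, 3, 4, 5, 6] : List ℕ), n = (n : ZMod 7).val ∧ (n : ZMod 7) ≠ 0 := by decide +kernel

/-- The residual case over the field with seven elements. -/
theorem no_seven_quads {F : Type*} [Field F] [Fintype F] [DecidableEq F] (hF : Fintype.card F = 7)
    (A B C : Fin 3 → F) (sA : ∑ i, A i = 0) (sB : ∑ i, B i = 1) (sC : ∑ i, C i = 0)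
    (hz : ∀ i, ((Finset.univ.erase (0 : F)).filter fun τ => A i * τ ^ 2 + B i * τ + C i = 0).card = 2)
    (hsq : ∀ τ : F, τ ≠ 0 → ∀ i j, i ≠ j → A i * τ ^ 2 + B i * τ + C i ≠ 0 → A j * τ ^ 2 + B j * τ + C j ≠ 0 →
      ¬ IsSquare ((A i * τ ^ 2 + B i * τ + C i) / (A j * τ ^ 2 + B j * τ + C j))) : False := by
  let e : ZMod 7 ≃+* F := ZMod.ringEquivOfPrime F (by norm_num) hF
  have : Fact (Nat.Prime 7) := ⟨by norm_num⟩
  set a : Fin 3 → ZMod 7 := fun i => e.symm (A i) with ha
  set b : Fin 3 → ZMod 7 := fun i => e.symm (B i) with hb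
  set c : Fin 3 → ZMod 7 := fun i => e.symm (C i) with hc
  set g : Fin 3 → ZMod 7 → ZMod 7 := fun i t => a i * t ^ 2 + b i * t + c i with hg
  have hev : ∀ i t, e (g i t) = A i * e t ^ 2 + B i * e t + C i := fun i t => by
    simp [hg, ha, hb, hc, map_add, map_mul, map_pow]
  have hne : ∀ {i t}, g i t ≠ 0 → A i * e t ^ 2 + B i * e t + C i ≠ 0 := fun {i t} h => by
    rw [← hev, ne_eq, map_eq_zero_iff e e.injective]; exact h
  have hzero : ∀ i, ((Finset.univ.erase (0 : ZMod 7)).filter fun t => g i t = 0).card = 2 := fun i => by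
    rw [← hz i]
    refine Finset.card_equiv e.toEquiv fun t => ?_
    simp [← hev, map_eq_zero_iff e e.injective]
  have h2 : ∀ t, g 2 t = t - (g 0 t + g 1 t) := fun t => by
    apply e.injective
    show e (g 2 t) = e (t - (g 0 t + g 1 t))
    rw [map_sub, map_add e (g 0 t), hev, hev, hev]
    rw [Fin.sum_univ_three] at sA sB sC
    linear_combination (e t ^ 2) * sA + (e t) * sB + sC
  have hgood : ∀ t : ZMod 7, t ≠ 0 → fgood (a 0).val (b 0).val (c 0).val (a 1).val (b 1).val (c 1).val t.val = true := by
    intro t ht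
    have hk : ∀ i j, i ≠ j → fclash (g i t).val (g j t).val = false := by
      intro i j hij
      by_contra h
      simp only [fclash, Bool.not_eq_false, Bool.and_eq_true, bne_iff_ne, ne_eq, ZMod.val_eq_zero, beq_iff_eq] at h
      obtain ⟨r, hr⟩ := square_of_fsq _ _ h.1.1 h.1.2 h.2
      refine hsq (e t) (by rwa [ne_eq, map_eq_zero_iff e e.injective]) i j hij (hne h.1.1) (hne h.1.2) ⟨e r, ?_⟩
      rw [← hev, ← hev, hr, map_mul, map_mul, mul_div_assoc, div_self (by rw [hev]; exact hne h.1.2), mul_one]
    have e0 : (g 0 t).val = fev (a 0).val (b 0).val (c 0).val t.val := val_quad _ _ _ _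
    have e1 : (g 1 t).val = fev (a 1).val (b 1).val (c 1).val t.val := val_quad _ _ _ _
    have e2 : (g 2 t).val = fthird (g 0 t).val (g 1 t).val t.val := by rw [h2, val_third]
    simp only [fgood, ← e0, ← e1, ← e2, hk 0 1 (by decide), hk 0 2 (by decide), hk 1 2 (by decide), Bool.or_false,
      Bool.not_false]
  have hz' : ∀ (i : Fin 3) (f : ℕ → ℕ), (∀ t, (g i t).val = f t.val) → fzeros f = true := fun i f h => by
    rw [fzeros, filter_length (g i) f h, hzero, beq_self_eq_true]
  have z0 := hz' 0 (fev (a 0).val (b 0).val (c 0).val) fun t => val_quad _ _ _ _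
  have z1 := hz' 1 (fev (a 1).val (b 1).val (c 1).val) fun t => val_quad _ _ _ _
  have z2 := hz' 2 (fun t => fthird (fev (a 0).val (b 0).val (c 0).val t) (fev (a 1).val (b 1).val (c 1).val t) t)
    fun t => by rw [h2, val_third, hg]; simp only [val_quad]
  have hmem : ∀ x : ZMod 7, x.val ∈ List.range 7 := fun x => List.mem_range.2 (ZMod.val_lt x)
  have h := none_seven
  simp only [List.all_eq_true, Bool.or_eq_true, Bool.not_eq_true'] at h
  rcases h _ (hmem (a 0)) _ (hmem (b 0)) _ (hmem (c 0)) with h' | h'
  · rw [z0] at h'; exact Bool.noConfusion h'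
  rcases h' _ (hmem (a 1)) _ (hmem (b 1)) _ (hmem (c 1)) with h'' | h''
  · rw [z1] at h''; exact Bool.noConfusion h''
  have hall : [1, 2, 3, 4, 5, 6].all (fgood (a 0).val (b 0).val (c 0).val (a 1).val (b 1).val (c 1).val) = true := by
    rw [List.all_eq_true]
    intro n hn
    have hl := list_val n hn
    rw [hl.1]
    exact hgood _ hl.2
  rw [fthirdOK, hall, z2] at h''
  exact Bool.noConfusion h''

end CfsgLib.GeomClasses.PlaneSeven
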