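import Cfsg.Agent.Lib.GeomClasses.OrthPlane
import Cfsg.Agent.Lib.GeomClasses.OrthPlaneSeven

/-!
Some element outside the stabilizer of a plane decomposition fixes the block of some anisotropic vector.
-/

set_option autoImplicit false
set_option linter.unusedSectionVars false

namespace CfsgLib.GeomClasses.OrthDecomp

open Matrix QuadraticMap CfsgLib.Orth CfsgLib.GeomClasses.OrthEich CfsgLib.GeomClasses.OrthPair
  CfsgLib.GeomClasses.OrthRat CfsgLib.Maximal.TensorTools

variable {ι : Type} [Fintype ι] [DecidableEq ι] {F : Type*} [Field F] [Fintype F]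
  {q : QuadraticForm F (ι → F)} {t : ℕ} {D : Fin t → Submodule F (ι → F)}

/-- Every element outside the stabilizer moves every anisotropic block vector out of the blocks. -/
def AllRigid (D : Fin t → Submodule F (ι → F)) (M : Subgroup (O q)) : Prop :=
  ∀ g ∈ M, g ∉ Hgrp q D → ∀ i, ∀ a ∈ D i, q a ≠ 0 → ∀ l, app g a ∉ D l

theorem exists_square_ratio {a b c : F} (ha : a ≠ 0) (hb : b ≠ 0) (hc : c ≠ 0) :
    IsSquare (a / b) ∨ IsSquare (a / c) ∨ IsSquare (b / c) := by
  classical
  by_contra h
  push Not at h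
  obtain ⟨h1, h2, h3⟩ := h
  rw [← quadraticChar_neg_one_iff_not_isSquare] at h1 h2 h3
  have : quadraticChar F (a / b) * quadraticChar F (b / c) = quadraticChar F (a / c) := by
    rw [← map_mul, div_mul_div_cancel₀ hb]
  rw [h1, h2, h3] at this
  norm_num at this

variable (P : PDec q D)
include P

/-- Two independent vectors of a plane with the same non-zero value and non-zero pairing. -/
theorem PDec.exists_same_value {i : Fin t} {a : ι → F} (ha : a ∈ D i) (hqa : q a ≠ 0) :
    ∃ b ∈ D i, q b = q a ∧ b ∉ Submodule.span F {a} ∧ polar q a b ≠ 0 := by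
  obtain ⟨S, hS, hS2, hS1⟩ := P.ratio_set ha hqa
  obtain ⟨c, hcS, hc⟩ : ∃ c ∈ S, c ≠ 2 * q a := by
    by_cases h2 : (2 : F) = 0
    · have h1 : 1 ≤ S.card := by
        have := hS2 h2
        rcases P.ok with ⟨hm, -⟩ | ⟨-, h7⟩
        · have := this.2 (hm i)
          have h1 : 1 < Fintype.card F := Fintype.one_lt_card
          omega
        · omega
      obtain ⟨c, hc⟩ := Finset.card_pos.1 (by omega : 0 < S.card)
      exact ⟨c, hc, by rw [h2, zero_mul]; exact (hS c hc).1⟩
    · have h1 : 1 < S.card := by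
        have := hS1 h2
        have h5 := P.four_le h2
        rcases P.ok with ⟨hm, -⟩ | ⟨-, h7⟩
        · have := this.2 (hm i); omega
        · omega
      exact Finset.exists_mem_ne h1 _
  obtain ⟨hc0, -, a', ha', hout, hqa', hBc⟩ := hS c hcS
  refine ⟨app (refl q a') a, ?_, Q_app _ _, ?_, ?_⟩
  · exact (P.toBase.refl_block ha').1 i a ha
  · intro hin
    rw [app_refl] at hin
    have h := (Submodule.span F {a}).sub_mem (Submodule.mem_span_singleton_self a) hin
    rw [sub_sub_cancel, Submodule.smul_mem_iff] at h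
    · exact hout h
    · refine mul_ne_zero (inv_ne_zero hqa') fun h0 => hc0 ?_
      rw [h0, zero_pow two_ne_zero] at hBc
      exact (mul_eq_zero.1 hBc.symm).resolve_right hqa'
  · rw [app_refl, polar_sub_right, polar_smul_right, polar_self', smul_eq_mul,
      show (q a')⁻¹ * polar q a a' * polar q a a' = c by rw [mul_assoc, ← pow_two, hBc]; field_simp]
    exact sub_ne_zero.2 (Ne.symm hc)

/-- In a plane with a singular vector the orthogonal line of a vector takes the negatives of its value times squares. -/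
theorem PDec.perp_value (h2 : (2 : F) ≠ 0) {l : Fin t} (hsing : ∃ u ∈ D l, u ≠ 0 ∧ q u = 0) {v p : ι → F}
    (hv : v ∈ D l) (hqv : q v ≠ 0) (hp : p ∈ D l) (hqp : q p ≠ 0) (hvp : polar q v p = 0) :
    IsSquare (-(q p) / q v) := by
  obtain ⟨u, hu, hu0, hqu⟩ := hsing
  have hv0 : v ≠ 0 := fun h => hqv (by rw [h, QuadraticMap.map_zero])
  have hpv : p ∉ Submodule.span F {v} := fun hin => by
    obtain ⟨s, hs⟩ := Submodule.mem_span_singleton.1 hin
    rw [← hs, polar_smul_right, polar_self', smul_eq_mul] at hvp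
    have hs0 := (mul_eq_zero.1 hvp).resolve_right (mul_ne_zero h2 hqv)
    rw [← hs, hs0, zero_smul, QuadraticMap.map_zero] at hqp
    exact hqp rfl
  obtain ⟨α, β, rfl⟩ := P.span_two hv hp hv0 hpv hu
  rw [QuadraticMap.map_add ⇑q, QuadraticMap.map_smul, QuadraticMap.map_smul, polar_smul_left, polar_smul_right,
    hvp] at hqu
  simp only [smul_eq_mul, mul_zero, add_zero] at hqu
  have hβ : β ≠ 0 := fun h => hu0 (by
    rw [h, mul_zero, zero_mul, add_zero] at hqu
    rw [h, zero_smul, add_zero, mul_self_eq_zero.1 ((mul_eq_zero.1 hqu).resolve_right hqv), zero_smul])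
  exact ⟨α / β, by field_simp; linear_combination -hqu⟩

variable {M : Subgroup (O q)} (hle : Hgrp q D ≤ M)
include hle

/-- A root of the argument: the preimages of two block vectors orthogonal to an image share two blocks. -/
theorem PDec.two_supp (hrig : AllRigid D M) {g : O q} (hg : g ∈ M) {i l l' : Fin t} {a b b' : ι → F}
    (ha : a ∈ D i) (hqa : q a ≠ 0) (hb : b ∈ D l) (hb' : b' ∈ D l') (hqb : q b ≠ 0) (heq : q b = q b')
    (hind : b' ∉ Submodule.span F {b}) (hxb : polar q (app g a) b = 0) (hxb' : polar q (app g a) b' = 0) :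
    ∃ p p' : Fin t, ∀ m, m ≠ p → m ≠ p' → P.cmp m (app g⁻¹ b) = 0 ∧ P.cmp m (app g⁻¹ b') = 0 := by
  classical
  set u := app g⁻¹ b with hu
  set u' := app g⁻¹ b' with hu'
  have hqu : q u ≠ 0 := by rwa [hu, Q_app]
  have hqu' : q u' ≠ 0 := by rwa [hu', Q_app, ← heq]
  set K := refl q u * refl q u' with hK
  have hKM : K ∈ M := by
    have h1 := M.mul_mem (M.mul_mem (M.inv_mem hg) (hle (P.toBase.pair_block hb hb' hqb heq))) hg
    rw [hK, hu, hu', ← refl_conj g⁻¹ b, ← refl_conj g⁻¹ b', inv_inv]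
    convert h1 using 1
    group
  have hKa : app K a = a := by
    have h1 : polar q a u = 0 := by rw [← app_inv_app g a, hu, polar_app, hxb]
    have h3 : polar q a u' = 0 := by rw [← app_inv_app g a, hu', polar_app, hxb']
    rw [hK, app_mul, app_refl_of_ortho h3, app_refl_of_ortho h1]
  have hKH : K ∈ Hgrp q D := by
    by_contra h
    exact hrig K hKM h i a ha hqa i (by rwa [hKa])
  set W := Submodule.span F ({u, u'} : Set (ι → F)) with hW
  have huW : u ∈ W := Submodule.subset_span (by simp)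
  have hu'W : u' ∈ W := Submodule.subset_span (by simp)
  have hmov : ∀ w, w - app K w ∈ W := fun w => by
    rw [hK, app_mul, app_refl u (app (refl q u') w), app_refl u' w]
    rw [sub_sub, sub_sub_cancel]
    exact W.add_mem (W.smul_mem _ hu'W) (W.smul_mem _ huW)
  obtain ⟨σ, hσ⟩ := hKH.1
  have hKD : ∀ m, ∀ x ∈ D m, app K x ∈ D (σ m) := fun m x hx => by
    rw [← hσ m]; exact ⟨x, hx, by rw [Matrix.toLin'_apply]; rfl⟩
  have hWd : Module.finrank F W ≤ 2 := finrank_pair_le _ _
  by_cases hfix : ∀ m, σ m = m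
  · -- the blocks moved
    let L := Finset.univ.filter fun m : Fin t => ∃ v ∈ D m, app K v ≠ v
    have hL : L.card ≤ 2 := by
      by_contra hc
      obtain ⟨m₁, m₂, m₃, h1, h2, h3, h12, h13, h23⟩ := Finset.two_lt_card_iff.1 (not_le.1 hc)
      simp only [L, Finset.mem_filter, Finset.mem_univ, true_and] at h1 h2 h3
      have hd : ∀ m, (∃ v ∈ D m, app K v ≠ v) → ∃ d ∈ W, d ∈ D m ∧ d ≠ 0 := by
        rintro m ⟨v, hv, hne⟩
        refine ⟨v - app K v, hmov v, (D m).sub_mem hv ?_, sub_ne_zero.2 (Ne.symm hne)⟩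
        have := hKD m v hv
        rwa [hfix m] at this
      obtain ⟨d₁, w₁, e₁, n₁⟩ := hd m₁ h1
      obtain ⟨d₂, w₂, e₂, n₂⟩ := hd m₂ h2
      obtain ⟨d₃, w₃, e₃, n₃⟩ := hd m₃ h3
      have hli : LinearIndependent F ![d₁, d₂, d₃] := by
        rw [Fintype.linearIndependent_iff]
        intro c hc j
        simp only [Fin.sum_univ_three, Matrix.cons_val_zero, Matrix.cons_val_one, Matrix.cons_val_two,
          Matrix.head_cons, Matrix.tail_cons] at hc
        have g1 := congrArg (P.cmp m₁) hc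
        have g2 := congrArg (P.cmp m₂) hc
        have g3 := congrArg (P.cmp m₃) hc
        simp only [map_add, map_smul, map_zero, P.toBase.cmp_self e₁, P.toBase.cmp_self e₂, P.toBase.cmp_self e₃,
          P.toBase.cmp_ne h12 e₂, P.toBase.cmp_ne h13 e₃, P.toBase.cmp_ne (Ne.symm h12) e₁,
          P.toBase.cmp_ne h23 e₃, P.toBase.cmp_ne (Ne.symm h13) e₁, P.toBase.cmp_ne (Ne.symm h23) e₂, smul_zero,
          add_zero, zero_add, smul_eq_zero, n₁, n₂, n₃, or_false] at g1 g2 g3
        fin_cases j <;> assumption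
      have h6 := finrank_span_eq_card hli
      have h7 : Submodule.span F (Set.range ![d₁, d₂, d₃]) ≤ W := by
        rw [Submodule.span_le]
        rintro _ ⟨j, rfl⟩
        fin_cases j
        · exact w₁
        · exact w₂
        · exact w₃
      have h8 := Submodule.finrank_mono h7
      rw [h6, Fintype.card_fin] at h8
      omega
    obtain ⟨p, p', hpp⟩ : ∃ p p', L ⊆ {p, p'} := by
      rcases Finset.eq_empty_or_nonempty L with h | ⟨p, hp⟩
      · exact ⟨i, i, by rw [h]; exact Finset.empty_subset _⟩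
      rcases Finset.eq_empty_or_nonempty (L.erase p) with h | ⟨p', hp'⟩
      · refine ⟨p, p, fun x hx => ?_⟩
        have : x ∉ L.erase p := by rw [h]; simp
        simp only [Finset.mem_erase, hx, and_true, not_not] at this
        simp [this]
      refine ⟨p, p', fun x hx => ?_⟩
      by_contra hn
      simp only [Finset.mem_insert, Finset.mem_singleton, not_or] at hn
      obtain ⟨hp'p, hp'L⟩ := Finset.mem_erase.1 hp'
      have := Finset.card_le_card (show ({x, p, p'} : Finset (Fin t)) ⊆ L by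
        intro y hy
        simp only [Finset.mem_insert, Finset.mem_singleton] at hy
        rcases hy with rfl | rfl | rfl <;> assumption)
      rw [Finset.card_insert_of_notMem (by simp [hn.1, hn.2]), Finset.card_pair (Ne.symm hp'p)] at this
      omega
    refine ⟨p, p', fun m hm hm' => ?_⟩
    have hK1 : ∀ w, P.cmp m (w - app K w) = 0 := by
      intro w
      have hmL : ∀ v ∈ D m, app K v = v := by
        by_contra hc
        push Not at hc
        have := hpp (show m ∈ L from Finset.mem_filter.2 ⟨Finset.mem_univ _, hc⟩)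
        simp [hm, hm'] at this
      rw [map_sub]
      conv_lhs => arg 2; rw [← Decomp.sum_comp P.decomp w, map_sum, map_sum]
      rw [Finset.sum_eq_single m (fun n _ hn => P.toBase.cmp_ne (Ne.symm hn) (by
        have := hKD n _ (Decomp.comp_mem P.decomp n w); rwa [hfix n] at this)) (by simp),
        hmL _ (Decomp.comp_mem P.decomp m w), P.toBase.cmp_self (Decomp.comp_mem P.decomp m w), sub_self]
    have hind' : u' ∉ Submodule.span F {u} := fun hin => hind (by
      obtain ⟨s, hs⟩ := Submodule.mem_span_singleton.1 hin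
      refine Submodule.mem_span_singleton.2 ⟨s, app_injective g⁻¹ ?_⟩
      rw [map_smul]; exact hs)
    obtain ⟨w₀, h0, h1⟩ := exists_polar_eq_zero_one P.nondeg hind'
    have e1 : w₀ - app K w₀ = (q u')⁻¹ • u' + ((q u)⁻¹ * polar q (w₀ - (q u')⁻¹ • u') u) • u := by
      rw [hK, app_mul, app_refl u' w₀, polar_comm (f := ⇑q) w₀ u', h1, mul_one, app_refl]; abel
    have hind'' : u ∉ Submodule.span F {u'} := fun hin => hind (by
      obtain ⟨s, hs⟩ := Submodule.mem_span_singleton.1 hin
      have hs0 : s ≠ 0 := fun h0 => hqu (by rw [← hs, h0, zero_smul, QuadraticMap.map_zero])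
      refine Submodule.mem_span_singleton.2 ⟨s⁻¹, app_injective g⁻¹ ?_⟩
      rw [map_smul, ← hu, ← hu', ← hs, inv_smul_smul₀ hs0])
    obtain ⟨w₁, g0, g1⟩ := exists_polar_eq_zero_one P.nondeg hind''
    have e2 : w₁ - app K w₁ = (q u)⁻¹ • u := by
      rw [hK, app_mul, app_refl_of_ortho (show polar q w₁ u' = 0 by rw [polar_comm, g0]), app_refl,
        polar_comm (f := ⇑q) w₁ u, g1, mul_one]; abel
    have hu1 := hK1 w₁
    rw [e2, map_smul, smul_eq_zero] at hu1
    have hu1' := hu1.resolve_left (inv_ne_zero hqu)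
    have hu2 := hK1 w₀
    rw [e1, map_add, map_smul, map_smul, hu1', smul_zero, add_zero, smul_eq_zero] at hu2
    exact ⟨hu1', hu2.resolve_left (inv_ne_zero hqu')⟩
  · push Not at hfix
    obtain ⟨m₀, hm₀⟩ := hfix
    refine ⟨m₀, σ m₀, fun m hm hm' => ?_⟩
    let φ : D m₀ →ₗ[F] W := LinearMap.codRestrict W (((LinearMap.id : (ι → F) →ₗ[F] (ι → F)) - app K).comp (D m₀).subtype)
      fun x => hmov x
    have hφ : Function.Injective φ := by
      rw [← LinearMap.ker_eq_bot, Submodule.eq_bot_iff]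
      intro x hx
      have h1 : (x : ι → F) - app K x = 0 := congrArg Subtype.val (LinearMap.mem_ker.1 hx)
      have := congrArg (P.cmp m₀) h1
      rw [map_sub, P.toBase.cmp_self x.2, P.toBase.cmp_ne (Ne.symm hm₀) (hKD m₀ x x.2), sub_zero, map_zero] at this
      exact Subtype.ext this
    have hsurj : Function.Surjective φ := by
      have h1 := LinearMap.finrank_range_of_inj hφ
      rw [P.toBase.rank] at h1
      have h3 : LinearMap.range φ = ⊤ := by
        refine Submodule.eq_top_of_finrank_eq ?_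
        have := Submodule.finrank_le (LinearMap.range φ)
        omega
      exact LinearMap.range_eq_top.1 h3
    have : ∀ z ∈ W, P.cmp m z = 0 := by
      intro z hz
      obtain ⟨x, hx⟩ := hsurj ⟨z, hz⟩
      have hz' : (x : ι → F) - app K x = z := congrArg Subtype.val hx
      rw [← hz', map_sub, P.toBase.cmp_ne hm x.2, P.toBase.cmp_ne hm' (hKD m₀ x x.2), sub_zero]
    exact ⟨this u huW, this u' hu'W⟩

omit hle in
theorem PDec.exists_three (p p' : Fin t) : ∃ r : Fin 3 → Fin t, Function.Injective r ∧ ∀ j, r j ≠ p ∧ r j ≠ p' := by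
  classical
  have h7 := P.five_le
  have h1 : 3 ≤ ((Finset.univ : Finset (Fin t)) \ {p, p'}).card := by
    have := Finset.le_card_sdiff ({p, p'} : Finset (Fin t)) Finset.univ
    have h2 := Finset.card_le_two (a := p) (b := p')
    simp only [Finset.card_univ, Fintype.card_fin] at this
    omega
  obtain ⟨f⟩ : Nonempty (Fin 3 ↪ ↥((Finset.univ : Finset (Fin t)) \ {p, p'})) :=
    Function.Embedding.nonempty_of_card_le (by rw [Fintype.card_coe, Fintype.card_fin]; exact h1)
  refine ⟨fun j => (f j : Fin t), fun a b h => f.injective (Subtype.ext h), fun j => ?_⟩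
  have := Finset.mem_sdiff.1 (f j).2
  simpa using this.2

/-- No image of an anisotropic block vector misses a block. -/
theorem PDec.no_zero (hrig : AllRigid D M) {g : O q} (hg : g ∈ M) (hgH : g ∉ Hgrp q D) {i l : Fin t}
    {a : ι → F} (ha : a ∈ D i) (hqa : q a ≠ 0) : P.cmp l (app g a) ≠ 0 := by
  classical
  intro hl
  obtain ⟨b, hb, hqb⟩ := P.toBase.exists_value l one_ne_zero
  obtain ⟨b', hb', hqb', hind, -⟩ := P.exists_same_value hb (by rw [hqb]; exact one_ne_zero)
  have hperp : ∀ z ∈ D l, polar q (app g a) z = 0 := fun z hz => by rw [P.polar_cmp _ hz, hl, polar_zero_left]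
  obtain ⟨p, p', hpp⟩ := P.two_supp hle hrig hg ha hqa hb hb' (by rw [hqb]; exact one_ne_zero) hqb'.symm hind
    (hperp b hb) (hperp b' hb')
  have hginv : g⁻¹ ∉ Hgrp q D := fun h => hgH (by simpa using (Hgrp q D).inv_mem h)
  -- now three blocks missing the image of `b`, with two vectors of one value in each
  obtain ⟨r, hr, hrp⟩ := P.exists_three p p'
  choose c₀ hc₀ hqc₀ using fun j : Fin 3 => P.toBase.exists_value (r j) (one_ne_zero (α := F))
  choose c₁ hc₁ hqc₁ hind₁ _hc₁₀ using fun j : Fin 3 =>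
    P.exists_same_value (hc₀ j) (by rw [hqc₀ j]; exact one_ne_zero)
  let c : Fin 3 × Fin 2 → ι → F := fun j => ![c₀ j.1, c₁ j.1] j.2
  have hc : ∀ j, c j ∈ D (r j.1) := fun ⟨j, e⟩ => by
    fin_cases e
    · exact hc₀ j
    · exact hc₁ j
  have hqc : ∀ j, q (c j) = 1 := fun ⟨j, e⟩ => by
    fin_cases e
    · exact hqc₀ j
    · exact (hqc₁ j).trans (hqc₀ j)
  have hlc : LinearIndependent F c := by
    rw [Fintype.linearIndependent_iff]
    rintro x hx ⟨j, e⟩
    have h1 := congrArg (P.cmp (r j)) hx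
    rw [map_sum, map_zero, Fintype.sum_prod_type, Finset.sum_eq_single j (fun n _ hn => Finset.sum_eq_zero fun e _ => by
      rw [map_smul, P.toBase.cmp_ne (hr.ne (Ne.symm hn)) (hc (n, e)), smul_zero]) (by simp), Fin.sum_univ_two,
      map_smul, map_smul, P.toBase.cmp_self (hc (j, 0)), P.toBase.cmp_self (hc (j, 1))] at h1
    have hc0 : c₀ j ≠ 0 := fun h => by have := hqc₀ j; rw [h, QuadraticMap.map_zero] at this; exact zero_ne_one this
    have hx1 : x (j, 1) = 0 := by
      by_contra h0
      refine hind₁ j (Submodule.mem_span_singleton.2 ⟨-((x (j, 1))⁻¹ * x (j, 0)), ?_⟩)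
      rw [neg_smul, mul_smul, show x (j, 0) • c₀ j = -(x (j, 1) • c₁ j) from eq_neg_of_add_eq_zero_left h1, smul_neg,
        neg_neg, inv_smul_smul₀ h0]
    rw [hx1, zero_smul, add_zero, smul_eq_zero] at h1
    fin_cases e
    · exact h1.resolve_right hc0
    · exact hx1
  have hcx : ∀ j, polar q (app g⁻¹ b) (c j) = 0 := fun j => by
    rw [P.polar_cmp _ (hc j), (hpp (r j.1) (hrp j.1).1 (hrp j.1).2).1, polar_zero_left]
  have hout : ∀ j m, app g (c j) ∉ D m := fun j m => hrig g hg hgH _ _ (hc j) (by rw [hqc]; exact one_ne_zero) m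
  have hpair : ∀ j₁ j₂, j₁ ≠ j₂ → ∃ s s', ∀ m, m ≠ s → m ≠ s' →
      P.cmp m (app g (c j₁)) = 0 ∧ P.cmp m (app g (c j₂)) = 0 := by
    intro j₁ j₂ hne
    have h := P.two_supp hle hrig (M.inv_mem hg) hb (by rw [hqb]; exact one_ne_zero) (hc j₁) (hc j₂)
      (by rw [hqc]; exact one_ne_zero) ((hqc j₁).trans (hqc j₂).symm) (fun hin => by
        have h' := hlc.notMem_span_image (s := {j₁}) (x := j₂) (by simpa using Ne.symm hne)
        rw [Set.image_singleton] at h'
        exact h' hin) (hcx j₁) (hcx j₂)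
    rwa [inv_inv] at h
  obtain ⟨s, s', hss⟩ := hpair (0, 0) (0, 1) (by decide)
  have hboth : P.cmp s (app g (c (0, 0))) ≠ 0 ∧ P.cmp s' (app g (c (0, 0))) ≠ 0 := by
    refine ⟨fun h => hout (0, 0) s' ?_, fun h => hout (0, 0) s ?_⟩
    · refine Decomp.mem_of_comp_eq_zero P.decomp fun m hm => ?_
      by_cases hms : m = s
      · rw [hms]; exact h
      · exact (hss m hms hm).1
    · refine Decomp.mem_of_comp_eq_zero P.decomp fun m hm => ?_
      by_cases hms : m = s'
      · rw [hms]; exact h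
      · exact (hss m hm hms).1
  have hall : ∀ j m, m ≠ s → m ≠ s' → P.cmp m (app g (c j)) = 0 := by
    intro j m hm hm'
    by_cases hj : j = (0, 0)
    · subst hj; exact (hss m hm hm').1
    obtain ⟨e, e', hee⟩ := hpair (0, 0) j (Ne.symm hj)
    have h1 : s = e ∨ s = e' := by
      by_contra h
      push Not at h
      exact hboth.1 (hee s h.1 h.2).1
    have h3 : s' = e ∨ s' = e' := by
      by_contra h
      push Not at h
      exact hboth.2 (hee s' h.1 h.2).1
    have hne : s ≠ s' := fun h => hout (0, 0) s (by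
      subst h
      exact Decomp.mem_of_comp_eq_zero P.decomp fun m hm => (hss m hm hm).1)
    refine (hee m ?_ ?_).2
    · rcases h1 with h1 | h1 <;> rcases h3 with h3 | h3 <;> subst h1 <;> try subst h3
      all_goals first | exact hm | exact hm' | exact absurd rfl hne
    · rcases h1 with h1 | h1 <;> rcases h3 with h3 | h3 <;> subst h1 <;> try subst h3
      all_goals first | exact hm | exact hm' | exact absurd rfl hne
  have hsub : ∀ j, app g (c j) ∈ D s ⊔ D s' := fun j => by
    rw [← Decomp.sum_comp P.decomp (app g (c j))]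
    refine Submodule.sum_mem _ fun m _ => ?_
    by_cases hm : m = s
    · subst hm; exact Submodule.mem_sup_left (Decomp.comp_mem P.decomp _ _)
    by_cases hm' : m = s'
    · subst hm'; exact Submodule.mem_sup_right (Decomp.comp_mem P.decomp _ _)
    show P.cmp m (app g (c j)) ∈ D s ⊔ D s'
    rw [hall j m hm hm']; exact Submodule.zero_mem _
  have hli : LinearIndependent F fun j => app g (c j) :=
    hlc.map' (app g) (LinearMap.ker_eq_bot.2 (app_injective g))
  have h6 := finrank_span_eq_card hli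
  have h8 := Submodule.finrank_mono (show Submodule.span F (Set.range fun j => app g (c j)) ≤ D s ⊔ D s' by
    rw [Submodule.span_le]; rintro _ ⟨j, rfl⟩; exact hsub j)
  have h9 := Submodule.finrank_add_le_finrank_add_finrank (D s) (D s')
  rw [h6, Fintype.card_prod, Fintype.card_fin, Fintype.card_fin] at h8
  rw [P.toBase.rank, P.toBase.rank] at h9
  omega

/-- No image is orthogonal to vectors of one square class in two blocks. -/
theorem PDec.no_perp_pair (hrig : AllRigid D M) {g : O q} (hg : g ∈ M) (hgH : g ∉ Hgrp q D) {i : Fin t}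
    {a : ι → F} (ha : a ∈ D i) (hqa : q a ≠ 0) :
    ∀ l l' : Fin t, l ≠ l' → ∀ p ∈ D l, ∀ p' ∈ D l', q p ≠ 0 → q p' ≠ 0 → IsSquare (q p / q p') →
      polar q (app g a) p = 0 → polar q (app g a) p' = 0 → False := by
  classical
  intro l l' hll p hp p' hp' hqp hqp' hsq hxp hxp'
  obtain ⟨s, hs⟩ := hsq
  have hs0 : s ≠ 0 := fun h => div_ne_zero hqp hqp' (by rw [hs, h, mul_zero])
  have heq : q p = q (s • p') := by
    rw [QuadraticMap.map_smul, ← hs, smul_eq_mul, div_mul_cancel₀ _ hqp']
  obtain ⟨e, e', hee⟩ := P.two_supp hle hrig hg ha hqa hp ((D l').smul_mem s hp') hqp heq (fun hin => by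
      obtain ⟨r, hr⟩ := Submodule.mem_span_singleton.1 hin
      have := congrArg (P.cmp l') hr
      rw [map_smul, P.toBase.cmp_ne (Ne.symm hll) hp, P.toBase.cmp_self ((D l').smul_mem s hp'), smul_zero] at this
      exact smul_ne_zero hs0 (fun h => hqp' (by rw [h, QuadraticMap.map_zero])) this.symm) hxp
    (by rw [polar_smul_right, hxp', smul_zero])
  obtain ⟨r, hr⟩ := P.exists_ne {e, e'} (by
    have := Finset.card_le_two (a := e) (b := e'); have := P.five_le; omega)
  simp only [Finset.mem_insert, Finset.mem_singleton, not_or] at hr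
  exact P.no_zero hle hrig (M.inv_mem hg) (fun h => hgH (by simpa using (Hgrp q D).inv_mem h)) hp hqp
    (hee r hr.1 hr.2).1

/-- No image has three anisotropic components. -/
theorem PDec.no_three (hrig : AllRigid D M) {g : O q} (hg : g ∈ M) (hgH : g ∉ Hgrp q D) {i l₁ l₂ l₃ : Fin t}
    (h12 : l₁ ≠ l₂) (h13 : l₁ ≠ l₃) (h23 : l₂ ≠ l₃) {a : ι → F} (ha : a ∈ D i) (hqa : q a ≠ 0)
    (h1 : q (P.cmp l₁ (app g a)) ≠ 0) (h2 : q (P.cmp l₂ (app g a)) ≠ 0) (h3 : q (P.cmp l₃ (app g a)) ≠ 0) :
    False := by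
  classical
  have key := P.no_perp_pair hle hrig hg hgH ha hqa
  obtain ⟨p₁, hp₁, hq₁, hx₁⟩ := P.perp_line (Decomp.comp_mem P.decomp l₁ (app g a)) h1
  obtain ⟨p₂, hp₂, hq₂, hx₂⟩ := P.perp_line (Decomp.comp_mem P.decomp l₂ (app g a)) h2
  obtain ⟨p₃, hp₃, hq₃, hx₃⟩ := P.perp_line (Decomp.comp_mem P.decomp l₃ (app g a)) h3
  rw [← P.polar_cmp _ hp₁] at hx₁
  rw [← P.polar_cmp _ hp₂] at hx₂
  rw [← P.polar_cmp _ hp₃] at hx₃
  rcases exists_square_ratio hq₁ hq₂ hq₃ with h | h | h
  · exact key l₁ l₂ h12 p₁ hp₁ p₂ hp₂ hq₁ hq₂ h hx₁ hx₂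
  · exact key l₁ l₃ h13 p₁ hp₁ p₃ hp₃ hq₁ hq₃ h hx₁ hx₃
  · exact key l₂ l₃ h23 p₂ hp₂ p₃ hp₃ hq₂ hq₃ h hx₂ hx₃

/-- No two blocks kill the same singular vector. -/
theorem PDec.no_common_kernel (hrig : AllRigid D M) (hF : 5 ≤ Fintype.card F) {g : O q} (hg : g ∈ M)
    (hgH : g ∉ Hgrp q D) {j m n : Fin t} (hmn : m ≠ n) {e f : ι → F} (he : e ∈ D j) (hf : f ∈ D j)
    (hqe : q e = 0) (hqf : q f = 0) (hef : polar q e f = 1) (hm : P.cmp m (app g e) = 0)
    (hn : P.cmp n (app g e) = 0) : False := by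
  obtain ⟨σ, hσ0, hσ1, hσ2, -⟩ := exists_avoid (F := F) hF 1 (-1) 0
  set x := e + f with hx
  set y := σ • e + σ⁻¹ • f with hy
  have hqx : q x = 1 := by rw [hx, QuadraticMap.map_add ⇑q, hqe, hqf, hef]; simp
  have hqy : q y = 1 := by
    rw [hy, QuadraticMap.map_add ⇑q, QuadraticMap.map_smul, QuadraticMap.map_smul, polar_smul_left,
      polar_smul_right, hqe, hqf, hef]
    simp [hσ0]
  set ρ := refl q x * refl q y with hρ
  have hρM : ρ ∈ M := hle (P.toBase.pair_block ((D j).add_mem he hf)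
    ((D j).add_mem ((D j).smul_mem _ he) ((D j).smul_mem _ hf)) (by rw [hqx]; exact one_ne_zero)
    (hqx.trans hqy.symm))
  set g' := g * ρ * g⁻¹ with hg'
  have hg'M : g' ∈ M := M.mul_mem (M.mul_mem hg hρM) (M.inv_mem hg)
  have hge : app g e ≠ 0 := fun h => by
    have := app_injective g (h.trans (map_zero (app g)).symm)
    rw [this, polar_zero_left] at hef
    exact zero_ne_one hef
  have hgfm : P.cmp m (app g f) ≠ 0 := by
    intro h0
    refine P.no_zero hle hrig hg hgH (l := m) ((D j).add_mem he hf) (show q x ≠ 0 by rw [hqx]; exact one_ne_zero) ?_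
    rw [map_add, map_add, hm, h0, add_zero]
  obtain ⟨a, ha, hqa, has⟩ := P.aniso_pairing (Decomp.comp_mem P.decomp m _) hgfm
  rw [← P.polar_cmp' (app g f) ha] at has
  set w := app g⁻¹ a with hw
  have hwe : polar q w e = 0 := by
    rw [← app_inv_app g e, hw, polar_app, P.polar_cmp' (app g e) ha, hm, polar_zero_right]
  have hwf : polar q w f ≠ 0 := by rwa [← app_inv_app g f, hw, polar_app]
  have hee : polar q e e = 0 := by rw [polar_self', hqe, mul_zero]
  have hff : polar q f f = 0 := by rw [polar_self', hqf, mul_zero]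
  have hfe : polar q f e = 1 := by rw [polar_comm, hef]
  have hρw : app ρ w = w + (polar q w f * (σ⁻¹ * σ⁻¹ - 1)) • e := by
    rw [hρ, app_mul, app_refl y w, hqy, app_refl x _, hqx]
    simp only [hx, hy, inv_one, one_mul, polar_sub_left, polar_smul_left, polar_add_left, polar_add_right,
      polar_smul_right, hwe, hee, hff, hef, hfe, smul_eq_mul, smul_add, smul_smul]
    match_scalars <;> field_simp <;> ring
  set κ := polar q w f * (σ⁻¹ * σ⁻¹ - 1) with hκ
  have hκ0 : κ ≠ 0 := mul_ne_zero hwf fun h => by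
    have h' : (σ⁻¹ - 1) * (σ⁻¹ + 1) = 0 := by linear_combination h
    rcases mul_eq_zero.1 h' with h' | h'
    · exact hσ1 (inv_eq_one.1 (sub_eq_zero.1 h'))
    · exact hσ2 (by rw [← inv_inv σ, eq_neg_of_add_eq_zero_left h', inv_neg, inv_one])
  have hg'a : app g' a = a + κ • app g e := by
    rw [hg', app_mul, app_mul, ← hw, hρw, map_add, map_smul, hw, app_app_inv]
  have hg'H : g' ∉ Hgrp q D := by
    intro hH
    obtain ⟨b, hb⟩ := P.toBase.mem_D_of_mem_H hH m
    have h := hb a ha
    rw [hg'a] at h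
    have hbm : b = m := by
      by_contra hne
      have := P.toBase.cmp_ne (Ne.symm hne) h
      rw [map_add, map_smul, hm, P.toBase.cmp_self ha, smul_zero, add_zero] at this
      exact hqa (by rw [this, QuadraticMap.map_zero])
    subst hbm
    refine hge (Decomp.eq_of_comp P.decomp fun l => ?_)
    rw [map_zero]
    by_cases hl : l = b
    · rw [hl]; exact hm
    have := P.toBase.cmp_ne hl h
    rw [map_add, map_smul, P.toBase.cmp_ne hl ha, zero_add, smul_eq_zero] at this
    exact this.resolve_left hκ0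
  refine P.no_zero hle hrig hg'M hg'H (l := n) ha hqa ?_
  rw [hg'a, map_add, map_smul, hn, P.toBase.cmp_ne (Ne.symm hmn) ha, smul_zero, add_zero]

/-- The rigid situation is impossible. -/
theorem PDec.not_rigid (hrig : AllRigid D M) {g : O q} (hg : g ∈ M) (hgH : g ∉ Hgrp q D) : False := by
  classical
  have h7 := P.five_le
  let j : Fin t := ⟨0, by omega⟩
  let l₁ : Fin t := ⟨1, by omega⟩
  let l₂ : Fin t := ⟨2, by omega⟩
  rcases P.ok with ⟨hm, -⟩ | ⟨hp, hF⟩
  · obtain ⟨a, ha, hqa⟩ := P.toBase.exists_value j one_ne_zero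
    have hqa0 : q a ≠ 0 := by rw [hqa]; exact one_ne_zero
    have h : ∀ l, q (P.cmp l (app g a)) ≠ 0 := fun l h =>
      P.no_zero hle hrig hg hgH ha hqa0 (hm l _ (Decomp.comp_mem P.decomp l _) h)
    exact P.no_three hle hrig hg hgH (i := j) (l₁ := j) (l₂ := l₁) (l₃ := l₂) (by simp [j, l₁, Fin.ext_iff])
      (by simp [j, l₂, Fin.ext_iff]) (by simp [l₁, l₂, Fin.ext_iff]) ha hqa0 (h _) (h _) (h _)
  obtain ⟨e, he, he0, hqe⟩ := hp j
  obtain ⟨f, hf, hqf, hef⟩ := OrthTools.exists_partner (P.block j) he he0 hqe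
  have hfe : polar q f e = 1 := by rw [polar_comm, hef]
  have hval : ∀ α β : F, q (α • e + β • f) = α * β := fun α β => by
    rw [QuadraticMap.map_add ⇑q, QuadraticMap.map_smul, QuadraticMap.map_smul, polar_smul_left, polar_smul_right,
      hqe, hqf, hef]
    simp
  have hfull : ∀ α β : F, α ≠ 0 → β ≠ 0 → ∀ l, α • P.cmp l (app g e) + β • P.cmp l (app g f) ≠ 0 := by
    intro α β hα hβ l h
    refine P.no_zero hle hrig hg hgH (l := l) ((D j).add_mem ((D j).smul_mem α he) ((D j).smul_mem β hf))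
      (by rw [hval]; exact mul_ne_zero hα hβ) ?_
    rw [map_add, map_smul, map_smul, map_add, map_smul, map_smul]
    exact h
  let Ke := Finset.univ.filter fun l : Fin t => P.cmp l (app g e) = 0
  let Kf := Finset.univ.filter fun l : Fin t => P.cmp l (app g f) = 0
  have hKe : Ke.card ≤ 1 := Finset.card_le_one.2 fun m hm n hn => by
    simp only [Ke, Finset.mem_filter, Finset.mem_univ, true_and] at hm hn
    by_contra hne
    exact P.no_common_kernel hle hrig (by omega) hg hgH hne he hf hqe hqf hef hm hn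
  have hKf : Kf.card ≤ 1 := Finset.card_le_one.2 fun m hm n hn => by
    simp only [Kf, Finset.mem_filter, Finset.mem_univ, true_and] at hm hn
    by_contra hne
    exact P.no_common_kernel hle hrig (by omega) hg hgH hne hf he hqf hqe hfe hm hn
  let fq : Fin t → F → F := fun l τ => q (P.cmp l (app g e)) * τ ^ 2 +
    polar q (P.cmp l (app g e)) (P.cmp l (app g f)) * τ + q (P.cmp l (app g f))
  have hfq : ∀ l τ, fq l τ = q (P.cmp l (app g (τ • e + f))) := fun l τ => by
    rw [map_add, map_smul, map_add, map_smul, QuadraticMap.map_add ⇑q, QuadraticMap.map_smul, polar_smul_left]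
    simp only [fq, smul_eq_mul]
    ring
  let L := (Finset.univ : Finset (Fin t)).filter fun l => q (P.cmp l (app g e)) ≠ 0 ∨
    polar q (P.cmp l (app g e)) (P.cmp l (app g f)) ≠ 0 ∨ q (P.cmp l (app g f)) ≠ 0
  have hroots : ∀ l ∈ L, (Finset.univ.filter fun τ : F => fq l τ = 0).card ≤ 2 := fun l hl =>
    quad_roots_le (Finset.mem_filter.1 hl).2
  have hsubL : (Finset.univ : Finset (Fin t)) \ (Ke ∪ Kf) ⊆ L := by
    intro l hl
    simp only [Ke, Kf, Finset.mem_sdiff, Finset.mem_union, Finset.mem_filter, Finset.mem_univ, true_and,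
      not_or] at hl
    refine Finset.mem_filter.2 ⟨Finset.mem_univ _, ?_⟩
    by_contra hc
    push Not at hc
    obtain ⟨hA, hB, hC⟩ := hc
    have hind : P.cmp l (app g f) ∉ Submodule.span F {P.cmp l (app g e)} := fun hin => by
      obtain ⟨s, hs⟩ := Submodule.mem_span_singleton.1 hin
      have hs0 : s ≠ 0 := fun h => hl.2 (by rw [← hs, h, zero_smul])
      exact hfull s (-1) hs0 (neg_ne_zero.2 one_ne_zero) l (by rw [hs, neg_one_smul, add_neg_cancel])
    obtain ⟨w, hw, hqw⟩ := P.toBase.exists_value l one_ne_zero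
    obtain ⟨α, β, rfl⟩ := P.span_two (Decomp.comp_mem P.decomp l (app g e)) (Decomp.comp_mem P.decomp l (app g f))
      hl.1 hind hw
    rw [QuadraticMap.map_add ⇑q, QuadraticMap.map_smul, QuadraticMap.map_smul, polar_smul_left, polar_smul_right,
      hA, hB, hC] at hqw
    simp at hqw
  have hL : 3 ≤ L.card := by
    have h1 := Finset.le_card_sdiff (Ke ∪ Kf) (Finset.univ : Finset (Fin t))
    have h2 := Finset.card_union_le Ke Kf
    have h3 := Finset.card_le_card hsubL
    simp only [Finset.card_univ, Fintype.card_fin] at h1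
    omega
  let Z := (Finset.univ : Finset F).erase 0
  have hZ : Z.card + 1 = Fintype.card F := by
    rw [Finset.card_erase_add_one (Finset.mem_univ _), Finset.card_univ]
  have hge2 : ∀ τ ∈ Z, L.card ≤ (L.filter fun l => fq l τ = 0).card + 2 := by
    intro τ hτ
    have hτ0 : τ ≠ 0 := (Finset.mem_erase.1 hτ).1
    have h1 := Finset.card_filter_add_card_filter_not (s := L) (fun l => fq l τ = 0)
    by_contra hc
    obtain ⟨a, b, c, ha, hb, hc', hab, hac, hbc⟩ := Finset.two_lt_card_iff.1
      (show 2 < (L.filter fun l => ¬ fq l τ = 0).card by omega)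
    simp only [Finset.mem_filter, hfq] at ha hb hc'
    exact P.no_three hle hrig hg hgH hab hac hbc ((D j).add_mem ((D j).smul_mem τ he) hf)
      (by rw [← one_smul F f, hval, mul_one]; exact hτ0) ha.2 hb.2 hc'.2
  have hcount : ∑ τ ∈ Z, (L.filter fun l => fq l τ = 0).card = ∑ l ∈ L, (Z.filter fun τ => fq l τ = 0).card := by
    simp only [Finset.card_filter]
    exact Finset.sum_comm
  have hlow : Z.card * (L.card - 2) ≤ ∑ τ ∈ Z, (L.filter fun l => fq l τ = 0).card := by
    rw [← smul_eq_mul, ← Finset.sum_const]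
    exact Finset.sum_le_sum fun τ hτ => by have := hge2 τ hτ; omega
  have hhigh : ∑ l ∈ L, (Z.filter fun τ => fq l τ = 0).card ≤ L.card * 2 := by
    rw [← smul_eq_mul, ← Finset.sum_const]
    exact Finset.sum_le_sum fun l hl =>
      (Finset.card_le_card (Finset.filter_subset_filter _ (Finset.subset_univ _))).trans (hroots l hl)
  have h6 : 6 * (L.card - 2) ≤ Z.card * (L.card - 2) := Nat.mul_le_mul_right _ (by omega)
  -- only five planes over the field with seven elements are left
  have hL3 : L.card = 3 := by omega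
  rw [hL3] at hlow hhigh
  have hF7 : Fintype.card F = 7 := by omega
  have h2 : (2 : F) ≠ 0 := fun h => by
    haveI := CfsgLib.OrthOmega.charP_two_of_two_eq_zero h
    have := FiniteField.even_card_iff_char_two.1 (ringChar.eq F 2)
    omega
  have heach : ∀ l ∈ L, (Z.filter fun τ => fq l τ = 0).card = 2 := by
    have hle2 : ∀ l ∈ L, (Z.filter fun τ => fq l τ = 0).card ≤ 2 := fun l hl =>
      (Finset.card_le_card (Finset.filter_subset_filter _ (Finset.subset_univ _))).trans (hroots l hl)
    refine (Finset.sum_eq_sum_iff_of_le hle2).1 (le_antisymm (Finset.sum_le_sum hle2) ?_)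
    rw [Finset.sum_const, hL3, smul_eq_mul, ← hcount]
    exact le_trans (by omega) hlow
  obtain ⟨a₁, a₂, a₃, h12, h13, h23, hLe⟩ := Finset.card_eq_three.1 hL3
  let idx : Fin 3 → Fin t := ![a₁, a₂, a₃]
  have hidx : ∀ i, idx i ∈ L := fun i => by fin_cases i <;> simp [idx, hLe]
  have hinj : ∀ i j, i ≠ j → idx i ≠ idx j := fun i j hij => by
    fin_cases i <;> fin_cases j <;>
      simp [idx, h12, h13, h23, Ne.symm h12, Ne.symm h13, Ne.symm h23] at hij ⊢
  have hsum : ∀ G : Fin t → F, (∀ l, l ∉ L → G l = 0) → ∑ i, G (idx i) = ∑ l, G l := fun G hG => by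
    rw [← Finset.sum_subset (Finset.subset_univ L) fun l _ hl => hG l hl, hLe,
      Finset.sum_insert (by simp [h12, h13]), Finset.sum_pair h23, Fin.sum_univ_three]
    simp [idx, add_assoc]
  have hnot : ∀ l, l ∉ L → q (P.cmp l (app g e)) = 0 ∧ polar q (P.cmp l (app g e)) (P.cmp l (app g f)) = 0 ∧
      q (P.cmp l (app g f)) = 0 := fun l hl => by
    simpa [L, not_or] using hl
  refine PlaneSeven.no_seven_quads hF7 (fun i => q (P.cmp (idx i) (app g e)))
    (fun i => polar q (P.cmp (idx i) (app g e)) (P.cmp (idx i) (app g f))) (fun i => q (P.cmp (idx i) (app g f)))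
    ?_ ?_ ?_ (fun i => heach _ (hidx i)) fun τ hτ i k hik hvi hvk hsq => ?_
  · rw [hsum (fun l => q (P.cmp l (app g e))) fun l hl => (hnot l hl).1, ← P.toBase.q_sum, Q_app, hqe]
  · rw [hsum (fun l => polar q (P.cmp l (app g e)) (P.cmp l (app g f))) fun l hl => (hnot l hl).2.1,
      ← P.toBase.polar_sum, polar_app, hef]
  · rw [hsum (fun l => q (P.cmp l (app g f))) fun l hl => (hnot l hl).2.2, ← P.toBase.q_sum, Q_app, hqf]
  · change fq (idx i) τ ≠ 0 at hvi
    change fq (idx k) τ ≠ 0 at hvk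
    change IsSquare (fq (idx i) τ / fq (idx k) τ) at hsq
    rw [hfq] at hvi hvk
    rw [hfq, hfq] at hsq
    obtain ⟨p, hp', hqp, hxp⟩ := P.perp_line (Decomp.comp_mem P.decomp (idx i) _) hvi
    obtain ⟨p', hp'', hqp', hxp'⟩ := P.perp_line (Decomp.comp_mem P.decomp (idx k) _) hvk
    have s1 := P.perp_value h2 (hp _) (Decomp.comp_mem P.decomp (idx i) _) hvi hp' hqp hxp
    have s2 := P.perp_value h2 (hp _) (Decomp.comp_mem P.decomp (idx k) _) hvk hp'' hqp' hxp'
    rw [← P.polar_cmp _ hp'] at hxp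
    rw [← P.polar_cmp _ hp''] at hxp'
    refine P.no_perp_pair hle hrig hg hgH ((D j).add_mem ((D j).smul_mem τ he) hf)
      (by rw [← one_smul F f, hval, mul_one]; exact hτ) (idx i) (idx k) (hinj i k hik) p hp' p' hp'' hqp hqp' ?_
      hxp hxp'
    have hid : ∀ a b c d : F, b ≠ 0 → c ≠ 0 → d ≠ 0 → -a / b / (-c / d) * (b / d) = a / c :=
      fun a b c d hb hc hd => by field_simp
    have h := (s1.div s2).mul hsq
    rwa [hid _ _ _ _ hvi hqp' hvk] at h

/-- Some class has a member with several components. -/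
theorem PDec.exists_cls (hM : M ≤ commutator (O q)) {g : O q} (hg : g ∈ M) (hgH : g ∉ Hgrp q D) :
    ∃ C : F, C ≠ 0 ∧ ∃ x ∈ Cls D M C, ∀ i, x ∉ D i := by
  by_contra hcon
  push Not at hcon
  refine P.not_rigid hle (fun g' hg' hg'H i a ha hqa l hl => ?_) hg hgH
  refine hg'H (P.toBase.mem_H (hM hg') fun m => ?_)
  have hcl : ∀ n, ∀ b ∈ D n, q b = q a → ∃ e, app g' b ∈ D e := fun n b hb hqb =>
    hcon (q a) hqa _ (P.toBase.cls_app hle hqa hg' ha rfl hl (P.toBase.block_mem_cls hle hqa hb hqb))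
  obtain ⟨b, hb, hqb⟩ := P.toBase.exists_value m hqa
  obtain ⟨b', hb', hqb', hind, hbb⟩ := P.exists_same_value hb (by rwa [hqb])
  obtain ⟨e, he⟩ := hcl m b hb hqb
  obtain ⟨e', he'⟩ := hcl m b' hb' (hqb'.trans hqb)
  have hee : e = e' := by
    by_contra hne
    exact hbb (by rw [← polar_app g', P.orth e e' hne _ he _ he'])
  refine ⟨e, fun z hz => ?_⟩
  obtain ⟨α, β, rfl⟩ := P.span_two hb hb' (fun h => hqa (by rw [← hqb, h, QuadraticMap.map_zero])) hind hz
  rw [map_add, map_smul, map_smul]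
  exact (D e).add_mem ((D e).smul_mem _ he) ((D e).smul_mem _ (hee ▸ he'))

end CfsgLib.GeomClasses.OrthDecomp
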