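import Mathlib

/-!
Multiplicative saturation for squares `s` with `1 ± s` a square, when `-1` is not a square.
-/

set_option autoImplicit false
set_option linter.unusedSectionVars false

namespace CfsgLib.GeomClasses.OrthDecomp

variable {F : Type*} [Field F] [Fintype F]

/-- The nonzero squares. -/
noncomputable def sqSet (F : Type*) [Field F] [Fintype F] : Finset F := by
  classical exact Finset.univ.filter fun s => s ≠ 0 ∧ IsSquare s

/-- The nonzero squares `s` with `1 - δ s` a square. -/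
noncomputable def shiftSet (δ : F) : Finset F := by
  classical exact Finset.univ.filter fun s => s ≠ 0 ∧ IsSquare s ∧ IsSquare (1 - δ * s)

theorem mem_sqSet {s : F} : s ∈ sqSet F ↔ s ≠ 0 ∧ IsSquare s := by simp [sqSet]

theorem mem_shiftSet {δ s : F} : s ∈ shiftSet δ ↔ s ≠ 0 ∧ IsSquare s ∧ IsSquare (1 - δ * s) := by
  simp [shiftSet]

variable (h1 : ¬ IsSquare (-1 : F))
include h1

theorem square_iff_neg {x : F} (hx : x ≠ 0) : IsSquare (-x) ↔ ¬ IsSquare x := by
  classical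
  rw [← quadraticChar_one_iff_isSquare (neg_ne_zero.2 hx), ← quadraticChar_neg_one_iff_not_isSquare,
    ← neg_one_mul x, map_mul, quadraticChar_neg_one_iff_not_isSquare.2 h1]
  omega

theorem square_eq_one {x : F} (hx : IsSquare x) (h : x ^ 2 = 1) : x = 1 := by
  rcases sq_eq_one_iff.1 h with h' | h'
  · exact h'
  · exact absurd (h' ▸ hx) h1

theorem square_inj {x y : F} (hx : IsSquare x) (hy : IsSquare y) (hy0 : y ≠ 0) (h : x ^ 2 = y ^ 2) : x = y := by
  have := square_eq_one h1 (hx.div hy) (by rw [div_pow, h, div_self (pow_ne_zero _ hy0)])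
  exact (div_eq_one_iff_eq hy0).1 this

theorem two_card_sqSet : 2 * (sqSet F).card + 1 = Fintype.card F := by
  classical
  have hd : Disjoint (sqSet F) ((sqSet F).image fun s => -s) := by
    rw [Finset.disjoint_left]
    intro x hx hx'
    obtain ⟨s, hs, rfl⟩ := Finset.mem_image.1 hx'
    exact (square_iff_neg h1 (mem_sqSet.1 hs).1).1 (mem_sqSet.1 hx).2 (mem_sqSet.1 hs).2
  have hu : sqSet F ∪ ((sqSet F).image fun s => -s) = Finset.univ.erase 0 := by
    ext x
    simp only [Finset.mem_union, Finset.mem_image, mem_sqSet, Finset.mem_erase, Finset.mem_univ, and_true]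
    constructor
    · rintro (h | ⟨s, hs, rfl⟩)
      · exact h.1
      · exact neg_ne_zero.2 hs.1
    · intro hx
      by_cases hs : IsSquare x
      · exact Or.inl ⟨hx, hs⟩
      · exact Or.inr ⟨-x, ⟨neg_ne_zero.2 hx, (square_iff_neg h1 hx).2 hs⟩, neg_neg x⟩
  have h2 := Finset.card_union_of_disjoint hd
  rw [hu, Finset.card_image_of_injective _ neg_injective] at h2
  have h3 := Finset.card_erase_add_one (Finset.mem_univ (0 : F))
  rw [Finset.card_univ] at h3
  omega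

theorem four_card_plus : 4 * (shiftSet (1 : F)).card = Fintype.card F + 1 := by
  classical
  have hsub : shiftSet (1 : F) ⊆ sqSet F := fun s hs => mem_sqSet.2 ⟨(mem_shiftSet.1 hs).1, (mem_shiftSet.1 hs).2.1⟩
  have h01 : (1 : F) ∈ shiftSet (1 : F) := mem_shiftSet.2 ⟨one_ne_zero, IsSquare.one, by simp⟩
  have hinv : ∀ s : F, s ≠ 0 → s ≠ 1 → IsSquare s → (IsSquare (1 - 1 * s⁻¹) ↔ ¬ IsSquare (1 - 1 * s)) := by
    intro s hs hs1 hsq
    rw [← square_iff_neg h1 (by rw [one_mul]; exact sub_ne_zero.2 (Ne.symm hs1)),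
      show 1 - 1 * s⁻¹ = -(1 - 1 * s) / s by field_simp; ring]
    exact ⟨fun h => by have := h.mul hsq; rwa [div_mul_cancel₀ _ hs] at this, fun h => h.div hsq⟩
  have h2 : ((shiftSet (1 : F)).erase 1).card = (sqSet F \ shiftSet (1 : F)).card := by
    refine Finset.card_bij' (fun s _ => s⁻¹) (fun s _ => s⁻¹) ?_ ?_ (fun s _ => inv_inv s) (fun s _ => inv_inv s)
    · intro s hs
      obtain ⟨hs1, hs⟩ := Finset.mem_erase.1 hs
      obtain ⟨hs0, hsq, hd⟩ := mem_shiftSet.1 hs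
      refine Finset.mem_sdiff.2 ⟨mem_sqSet.2 ⟨inv_ne_zero hs0, hsq.inv⟩, fun h => ?_⟩
      exact (hinv s hs0 hs1 hsq).1 (mem_shiftSet.1 h).2.2 hd
    · intro s hs
      obtain ⟨hs, hn⟩ := Finset.mem_sdiff.1 hs
      obtain ⟨hs0, hsq⟩ := mem_sqSet.1 hs
      have hs1 : s ≠ 1 := fun h => hn (h ▸ h01)
      refine Finset.mem_erase.2 ⟨fun h => hs1 (inv_eq_one.1 h), mem_shiftSet.2 ⟨inv_ne_zero hs0, hsq.inv, ?_⟩⟩
      exact (hinv s hs0 hs1 hsq).2 fun h => hn (mem_shiftSet.2 ⟨hs0, hsq, h⟩)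
  rw [Finset.card_erase_of_mem h01, Finset.card_sdiff_of_subset hsub] at h2
  have := two_card_sqSet h1
  have := Finset.card_le_card hsub
  have := Finset.card_pos.2 ⟨_, h01⟩
  omega

theorem four_card_minus : 4 * (shiftSet (-1 : F)).card + 3 = Fintype.card F := by
  classical
  have hsub : shiftSet (1 : F) ⊆ sqSet F := fun s hs => mem_sqSet.2 ⟨(mem_shiftSet.1 hs).1, (mem_shiftSet.1 hs).2.1⟩
  have h2 : (shiftSet (-1 : F)).card = (sqSet F \ shiftSet (1 : F)).card := by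
    refine Finset.card_bij' (fun s _ => s + 1) (fun s _ => s - 1) ?_ ?_ (fun s _ => add_sub_cancel_right s 1)
      (fun s _ => sub_add_cancel s 1)
    · intro s hs
      obtain ⟨hs0, hsq, hd⟩ := mem_shiftSet.1 hs
      rw [neg_one_mul, sub_neg_eq_add, add_comm] at hd
      have h10 : s + 1 ≠ 0 := fun h => h1 (by rwa [eq_neg_of_add_eq_zero_left h] at hsq)
      refine Finset.mem_sdiff.2 ⟨mem_sqSet.2 ⟨h10, hd⟩, fun h => ?_⟩
      have := (mem_shiftSet.1 h).2.2
      rw [show (1 : F) - 1 * (s + 1) = -s by ring] at this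
      exact (square_iff_neg h1 hs0).1 this hsq
    · intro s hs
      obtain ⟨hs, hn⟩ := Finset.mem_sdiff.1 hs
      obtain ⟨hs0, hsq⟩ := mem_sqSet.1 hs
      have hs1 : s - 1 ≠ 0 := fun h => hn (mem_shiftSet.2 ⟨hs0, hsq, by rw [sub_eq_zero.1 h]; simp⟩)
      refine mem_shiftSet.2 ⟨hs1, ?_, ?_⟩
      · by_contra hc
        refine hn (mem_shiftSet.2 ⟨hs0, hsq, ?_⟩)
        rw [show (1 : F) - 1 * s = -(s - 1) by ring]
        exact (square_iff_neg h1 hs1).2 hc
      · rwa [show (1 : F) - -1 * (s - 1) = s by ring]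
  rw [Finset.card_sdiff_of_subset hsub] at h2
  have := two_card_sqSet h1
  have := four_card_plus h1
  omega

/-- A multiplier fixing a set of nonzero elements. -/
theorem stab_pow {Z : Finset F} (hZ : ∀ z ∈ Z, z ≠ 0) {g : F} (hg : g ≠ 0) (h : ∀ z ∈ Z, g * z ∈ Z) :
    g ^ Z.card = 1 := by
  classical
  have he : Z.image (fun z => g * z) = Z := Finset.eq_of_subset_of_card_le
    (fun x hx => by obtain ⟨z, hz, rfl⟩ := Finset.mem_image.1 hx; exact h z hz)
    (by rw [Finset.card_image_of_injective _ (mul_right_injective₀ hg)])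
  have h2 : ∏ z ∈ Z, g * z = ∏ z ∈ Z, z := by
    conv_rhs => rw [← he, Finset.prod_image fun a _ b _ hab => mul_right_injective₀ hg hab]
  rw [Finset.prod_mul_distrib, Finset.prod_const] at h2
  exact mul_right_cancel₀ (Finset.prod_ne_zero_iff.2 hZ) (by rw [one_mul]; exact h2)

theorem eq_one_of_pow {g : F} (hg : IsSquare g) (hg0 : g ≠ 0) {a : ℕ} (ha : g ^ a = 1)
    (h : Fintype.card F + 1 = 4 * a ∨ Fintype.card F = 4 * a + 3) : g = 1 := by
  refine square_eq_one h1 hg ?_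
  have h2 := FiniteField.pow_card_sub_one_eq_one g hg0
  have h4 : g ^ (4 * a) = 1 := by rw [mul_comm, pow_mul, ha, one_pow]
  rcases h with h | h
  · have : g ^ (Fintype.card F - 1) * g ^ 2 = g ^ (4 * a) := by
      rw [← pow_add]; congr 1; have : 1 < Fintype.card F := Fintype.one_lt_card; omega
    rwa [h2, h4, one_mul] at this
  · have : g ^ (4 * a) * g ^ 2 = g ^ (Fintype.card F - 1) := by rw [← pow_add]; congr 1; omega
    rwa [h2, h4, one_mul] at this

/-- Families of squares closed under the scaling step and satisfying the square condition. -/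
structure Closed {t : ℕ} (δ : F) (B : (Fin t → F) → Prop) : Prop where
  sq : ∀ v, B v → ∀ l, v l ≠ 0 ∧ IsSquare (v l)
  cond : ∀ v, B v → ∀ l, ∀ s ∈ shiftSet δ,
    δ * (1 - 4 * v l * s * (1 - δ * v l)) ≠ 0 ∧ IsSquare (δ * (1 - 4 * v l * s * (1 - δ * v l)))
  step : ∀ v, B v → ∀ n, ∀ s ∈ shiftSet δ, ∃ v', B v' ∧ ∀ l, l ≠ n → v' l = 4 * v n * s * v l

theorem Closed.products {t : ℕ} {δ : F} {B : (Fin t → F) → Prop} (H : Closed δ B) (ht : 4 ≤ t) {v : Fin t → F}
    (hv : B v) : ∃ K K' : F, K ≠ 0 ∧ K' ≠ 0 ∧ IsSquare K ∧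
      ∀ s₁ ∈ shiftSet δ, ∀ s₂ ∈ shiftSet δ, (∃ w, B w ∧ ∃ l, w l = K * (s₁ ^ 2 * s₂)) ∧
        ∀ s₃ ∈ shiftSet δ, ∃ w, B w ∧ ∃ l, w l = K' * ((s₁ ^ 2 * s₂) ^ 2 * s₃) := by
  let n : Fin t := ⟨0, by omega⟩
  let l : Fin t := ⟨1, by omega⟩
  let m : Fin t := ⟨2, by omega⟩
  let r : Fin t := ⟨3, by omega⟩
  have hln : l ≠ n := by simp [l, n, Fin.ext_iff]
  have hmn : m ≠ n := by simp [m, n, Fin.ext_iff]
  have hrn : r ≠ n := by simp [r, n, Fin.ext_iff]
  have hlm : l ≠ m := by simp [l, m, Fin.ext_iff]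
  have hrm : r ≠ m := by simp [r, m, Fin.ext_iff]
  have hlr : l ≠ r := by simp [l, r, Fin.ext_iff]
  set K := 64 * v n ^ 2 * v l * v m with hK
  set K₃ := 64 * v n ^ 2 * v r * v m with hK₃
  have h2 : (2 : F) ≠ 0 := fun h => h1 ⟨1, by linear_combination -h⟩
  have h64 : (64 : F) ≠ 0 := by
    have : (64 : F) = 2 ^ 6 := by norm_num
    rw [this]; exact pow_ne_zero _ h2
  have h4 : (4 : F) ≠ 0 := by
    have : (4 : F) = 2 ^ 2 := by norm_num
    rw [this]; exact pow_ne_zero _ h2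
  have hsq := H.sq v hv
  have hK0 : ∀ e, 64 * v n ^ 2 * v e * v m ≠ 0 := fun e =>
    mul_ne_zero (mul_ne_zero (mul_ne_zero h64 (pow_ne_zero _ (hsq n).1)) (hsq e).1) (hsq m).1
  refine ⟨K, 4 * K * K₃, hK0 l, mul_ne_zero (mul_ne_zero h4 (hK0 l)) (hK0 r), ?_, fun s₁ hs₁ s₂ hs₂ => ?_⟩
  · have e : IsSquare (64 : F) := ⟨8, by norm_num⟩
    exact ((e.mul (IsSquare.sq _)).mul (hsq l).2).mul (hsq m).2
  obtain ⟨v₁, hv₁, e₁⟩ := H.step v hv n s₁ hs₁
  obtain ⟨v₂, hv₂, e₂⟩ := H.step v₁ hv₁ m s₂ hs₂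
  have el : v₂ l = K * (s₁ ^ 2 * s₂) := by rw [e₂ l hlm, e₁ m hmn, e₁ l hln, hK]; ring
  have er : v₂ r = K₃ * (s₁ ^ 2 * s₂) := by rw [e₂ r hrm, e₁ m hmn, e₁ r hrn, hK₃]; ring
  refine ⟨⟨v₂, hv₂, l, el⟩, fun s₃ hs₃ => ?_⟩
  obtain ⟨v₃, hv₃, e₃⟩ := H.step v₂ hv₂ r s₃ hs₃
  exact ⟨v₃, hv₃, l, by rw [e₃ l hlr, el, er]; ring⟩

theorem Closed.false_plus {t : ℕ} {B : (Fin t → F) → Prop} (H : Closed 1 B) (ht : 4 ≤ t) (h7 : 7 ≤ Fintype.card F)
    {v : Fin t → F} (hv : B v) : False := by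
  classical
  obtain ⟨K, K', hK, -, hKs, hprod⟩ := H.products h1 ht hv
  set A := shiftSet (1 : F) with hA
  have hA4 := four_card_plus h1
  rw [← hA] at hA4
  have h01 : (1 : F) ∈ A := mem_shiftSet.2 ⟨one_ne_zero, IsSquare.one, by simp⟩
  obtain ⟨T, hT, hT1⟩ := Finset.exists_mem_ne (show 1 < A.card by omega) 1
  obtain ⟨hT0, hTs, hTd⟩ := mem_shiftSet.1 hT
  -- the value `T` occurs
  obtain ⟨w, hw, l, hl⟩ : ∃ w, B w ∧ ∃ l, w l = T := by
    obtain ⟨z, hz⟩ := Finset.inter_nonempty_of_card_lt_card_add_card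
      (s := sqSet F) (t := A.image fun s => s ^ 2) (u := A.image fun s => T / (K * s))
      (fun x hx => by
        obtain ⟨s, hs, rfl⟩ := Finset.mem_image.1 hx
        exact mem_sqSet.2 ⟨pow_ne_zero _ (mem_shiftSet.1 hs).1, IsSquare.sq s⟩)
      (fun x hx => by
        obtain ⟨s, hs, rfl⟩ := Finset.mem_image.1 hx
        obtain ⟨hs0, hss, -⟩ := mem_shiftSet.1 hs
        exact mem_sqSet.2 ⟨div_ne_zero hT0 (mul_ne_zero hK hs0), hTs.div (hKs.mul hss)⟩)
      (by
        rw [Finset.card_image_of_injOn (f := fun s : F => s ^ 2) fun a ha b hb hab =>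
            square_inj h1 (mem_shiftSet.1 ha).2.1 (mem_shiftSet.1 hb).2.1 (mem_shiftSet.1 hb).1 hab,
          Finset.card_image_of_injOn (f := fun s : F => T / (K * s)) fun a ha b hb hab => ?_]
        · have := two_card_sqSet h1; rw [← hA]; omega
        · have ha0 := (mem_shiftSet.1 ha).1
          have hb0 := (mem_shiftSet.1 hb).1
          simp only [div_eq_div_iff (mul_ne_zero hK ha0) (mul_ne_zero hK hb0)] at hab
          exact mul_left_cancel₀ hK (mul_left_cancel₀ hT0 hab).symm)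
    obtain ⟨hz1, hz2⟩ := Finset.mem_inter.1 hz
    obtain ⟨s₁, hs₁, rfl⟩ := Finset.mem_image.1 hz1
    obtain ⟨s₂, hs₂, he⟩ := Finset.mem_image.1 hz2
    obtain ⟨⟨w, hw, l, hl⟩, -⟩ := hprod s₁ hs₁ s₂ hs₂
    refine ⟨w, hw, l, ?_⟩
    rw [hl, ← he]
    have := (mem_shiftSet.1 hs₂).1
    field_simp
  have hcond := H.cond w hw l
  rw [hl] at hcond
  rw [one_mul] at hTd
  set κ := 4 * T * (1 - T) with hκ
  have h2 : (2 : F) ≠ 0 := fun h => h1 ⟨1, by linear_combination -h⟩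
  have hT10 : 1 - T ≠ 0 := sub_ne_zero.2 (Ne.symm hT1)
  have hκ0 : κ ≠ 0 := mul_ne_zero (mul_ne_zero (by
    have : (4 : F) = 2 ^ 2 := by norm_num
    rw [this]; exact pow_ne_zero _ h2) hT0) hT10
  have hκs : IsSquare κ := ((show IsSquare (4 : F) from ⟨2, by norm_num⟩).mul hTs).mul hTd
  have hκ1 : κ ≠ 1 := fun h => (hcond 1 h01).1 (by rw [hκ] at h; linear_combination -h)
  refine hκ1 (eq_one_of_pow h1 hκs hκ0 (stab_pow h1 (Z := A) (fun z hz => (mem_shiftSet.1 hz).1) hκ0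
    fun s hs => ?_) (Or.inl hA4.symm))
  obtain ⟨hs0, hss, -⟩ := mem_shiftSet.1 hs
  refine mem_shiftSet.2 ⟨mul_ne_zero hκ0 hs0, hκs.mul hss, ?_⟩
  have := (hcond s hs).2
  convert this using 1
  rw [hκ]; ring

theorem Closed.not_mem_minus {t : ℕ} {B : (Fin t → F) → Prop} (H : Closed (-1) B) {v : Fin t → F} (hv : B v)
    (l : Fin t) : v l ∉ shiftSet (-1 : F) := by
  intro hl
  obtain ⟨hv0, hvs, hvd⟩ := mem_shiftSet.1 hl
  rw [neg_one_mul, sub_neg_eq_add] at hvd
  have h2 : (2 : F) ≠ 0 := fun h => h1 ⟨1, by linear_combination -h⟩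
  have h4 : (4 : F) ≠ 0 := by
    have : (4 : F) = 2 ^ 2 := by norm_num
    rw [this]; exact pow_ne_zero _ h2
  have h10 : 1 + v l ≠ 0 := fun h => h1 (by rwa [eq_neg_of_add_eq_zero_right h] at hvs)
  set s := (4 * v l * (1 + v l))⁻¹ with hs
  have hs0 : s ≠ 0 := inv_ne_zero (mul_ne_zero (mul_ne_zero h4 hv0) h10)
  have hss : IsSquare s := (((show IsSquare (4 : F) from ⟨2, by norm_num⟩).mul hvs).mul hvd).inv
  have hsd : IsSquare (1 - -1 * s) := by
    have e : 1 - -1 * s = (2 * v l + 1) ^ 2 * s := by rw [hs]; field_simp; ring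
    rw [e]
    exact (IsSquare.sq _).mul hss
  exact (H.cond v hv l s (mem_shiftSet.2 ⟨hs0, hss, hsd⟩)).1 (by rw [hs]; field_simp; ring)

theorem Closed.false_minus {t : ℕ} {B : (Fin t → F) → Prop} (H : Closed (-1) B) (ht : 4 ≤ t)
    (h7 : 7 < Fintype.card F) {v : Fin t → F} (hv : B v) : False := by
  classical
  obtain ⟨K, K', hK, hK', -, hprod⟩ := H.products h1 ht hv
  set A := shiftSet (-1 : F) with hA
  set R := sqSet F \ A with hR
  have hA4 := four_card_minus h1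
  have hS := two_card_sqSet h1
  rw [← hA] at hA4
  have hsub : A ⊆ sqSet F := fun s hs => mem_sqSet.2 ⟨(mem_shiftSet.1 hs).1, (mem_shiftSet.1 hs).2.1⟩
  have hRc : R.card = A.card + 1 := by rw [hR, Finset.card_sdiff_of_subset hsub]; omega
  have hin : ∀ w, B w → ∀ l, w l ∈ R := fun w hw l =>
    Finset.mem_sdiff.2 ⟨mem_sqSet.2 (H.sq w hw l), H.not_mem_minus h1 hw l⟩
  have h0 : ∀ s ∈ A, s ≠ 0 := fun s hs => (mem_shiftSet.1 hs).1
  set Z := (A ×ˢ A).image fun p => p.1 ^ 2 * p.2 with hZ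
  have hmemZ : ∀ s₁ ∈ A, ∀ s₂ ∈ A, s₁ ^ 2 * s₂ ∈ Z := fun a ha b hb =>
    Finset.mem_image.2 ⟨(a, b), Finset.mem_product.2 ⟨ha, hb⟩, rfl⟩
  have hZ0 : ∀ z ∈ Z, z ≠ 0 ∧ IsSquare z := by
    intro z hz
    obtain ⟨⟨a, b⟩, hp, rfl⟩ := Finset.mem_image.1 hz
    obtain ⟨ha, hb⟩ := Finset.mem_product.1 hp
    exact ⟨mul_ne_zero (pow_ne_zero _ (h0 a ha)) (h0 b hb), (IsSquare.sq a).mul (mem_shiftSet.1 hb).2.1⟩
  have hZle : Z.card ≤ A.card + 1 := by
    rw [← hRc, ← Finset.card_image_of_injective Z (mul_right_injective₀ hK)]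
    refine Finset.card_le_card fun x hx => ?_
    obtain ⟨z, hz, rfl⟩ := Finset.mem_image.1 hx
    obtain ⟨⟨a, b⟩, hp, rfl⟩ := Finset.mem_image.1 hz
    obtain ⟨ha, hb⟩ := Finset.mem_product.1 hp
    obtain ⟨⟨w, hw, l, hl⟩, -⟩ := hprod a ha b hb
    exact hl ▸ hin w hw l
  obtain ⟨a, ha, b, hb, hab⟩ := Finset.one_lt_card.1 (show 1 < A.card by omega)
  have hgs : IsSquare (a / b) := (mem_shiftSet.1 ha).2.1.div (mem_shiftSet.1 hb).2.1
  have hg0 : a / b ≠ 0 := div_ne_zero (h0 a ha) (h0 b hb)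
  by_cases hc : Z.card ≤ A.card
  · have hstab : (a / b) ^ 2 = 1 := by
      refine eq_one_of_pow h1 (IsSquare.sq _) (pow_ne_zero _ hg0) (stab_pow h1 (Z := A) h0 (pow_ne_zero _ hg0)
        fun s hs => ?_) (Or.inr hA4.symm)
      have he : A.image (fun x => b ^ 2 * x) = Z := Finset.eq_of_subset_of_card_le (fun x hx => by
          obtain ⟨y, hy, rfl⟩ := Finset.mem_image.1 hx; exact hmemZ b hb y hy)
        (by rw [Finset.card_image_of_injective _ (mul_right_injective₀ (pow_ne_zero _ (h0 b hb)))]; exact hc)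
      obtain ⟨y, hy, hye⟩ := Finset.mem_image.1 (he.symm ▸ hmemZ a ha s hs)
      have : y = (a / b) ^ 2 * s := by
        rw [div_pow]; field_simp [h0 b hb]; linear_combination hye
      rwa [← this]
    exact hab ((div_eq_one_iff_eq (h0 b hb)).1 (square_eq_one h1 hgs hstab))
  · have hZc : Z.card = A.card + 1 := by omega
    set Z' := Z.image fun z => z ^ 2 with hZ'
    have hZ'c : Z'.card = A.card + 1 := by
      rw [hZ', Finset.card_image_of_injOn (f := fun z : F => z ^ 2) fun x hx y hy hxy =>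
        square_inj h1 (hZ0 x hx).2 (hZ0 y hy).2 (hZ0 y hy).1 hxy, hZc]
    set W := (Z' ×ˢ A).image fun p => K' * (p.1 * p.2) with hW
    have hWsub : W ⊆ R := fun x hx => by
      obtain ⟨⟨z, s⟩, hp, rfl⟩ := Finset.mem_image.1 hx
      obtain ⟨hz, hs⟩ := Finset.mem_product.1 hp
      obtain ⟨z₀, hz₀, rfl⟩ := Finset.mem_image.1 hz
      obtain ⟨⟨c, d⟩, hp', rfl⟩ := Finset.mem_image.1 hz₀
      obtain ⟨hc', hd⟩ := Finset.mem_product.1 hp'
      obtain ⟨w, hw, l, hl⟩ := (hprod c hc' d hd).2 s hs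
      exact hl ▸ hin w hw l
    have he : ∀ s ∈ A, Z'.image (fun z => K' * (z * s)) = W := fun s hs =>
      Finset.eq_of_subset_of_card_le (fun x hx => by
          obtain ⟨z, hz, rfl⟩ := Finset.mem_image.1 hx
          exact Finset.mem_image.2 ⟨(z, s), Finset.mem_product.2 ⟨hz, hs⟩, rfl⟩)
        (by
          rw [Finset.card_image_of_injective _ fun x y hxy =>
            mul_right_cancel₀ (h0 s hs) (mul_left_cancel₀ hK' hxy), hZ'c]
          have := Finset.card_le_card hWsub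
          omega)
    refine hab ((div_eq_one_iff_eq (h0 b hb)).1 (eq_one_of_pow h1 hgs hg0
      (stab_pow h1 (Z := Z') (fun z hz => ?_) hg0 fun z hz => ?_) (Or.inl (by rw [hZ'c]; omega))))
    · obtain ⟨z₀, hz₀, rfl⟩ := Finset.mem_image.1 hz
      exact pow_ne_zero _ (hZ0 z₀ hz₀).1
    · have hm : K' * (z * a) ∈ Z'.image fun z => K' * (z * b) := by
        rw [he b hb, ← he a ha]; exact Finset.mem_image_of_mem _ hz
      obtain ⟨y, hy, hye⟩ := Finset.mem_image.1 hm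
      have : y = a / b * z := by
        have := mul_left_cancel₀ hK' hye
        field_simp [h0 b hb]
        linear_combination this
      rwa [← this]

/-- The exceptional field with seven elements. -/
theorem Closed.seven {t : ℕ} {B : (Fin t → F) → Prop} (H : Closed (-1) B) (ht : 4 ≤ t)
    (hF : Fintype.card F = 7) {v : Fin t → F} (hv : B v) : ∀ l, v l = 2 := by
  classical
  have h7 : (7 : F) = 0 := by
    have := FiniteField.cast_card_eq_zero F
    rw [hF] at this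
    exact_mod_cast this
  have h2 : (2 : F) ≠ 0 := fun h => h1 ⟨1, by linear_combination -h⟩
  have hmem1 : (1 : F) ∈ shiftSet (-1 : F) :=
    mem_shiftSet.2 ⟨one_ne_zero, IsSquare.one, ⟨3, by linear_combination -h7⟩⟩
  have h24 : ∀ w, B w → ∀ l, w l = 2 ∨ w l = 4 := by
    intro w hw l
    obtain ⟨hw0, r, hr⟩ := (H.sq w hw l).1, (H.sq w hw l).2
    have hr0 : r ≠ 0 := fun h => hw0 (by rw [hr, h, mul_zero])
    have h6 := FiniteField.pow_card_sub_one_eq_one r hr0
    rw [hF] at h6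
    have h3 : (w l - 1) * (w l - 2) * (w l - 4) = 0 := by
      rw [hr]; linear_combination h6 + (-r ^ 4 + 2 * r ^ 2 - 1) * h7
    rcases mul_eq_zero.1 h3 with h | h
    · rcases mul_eq_zero.1 h with h | h
      · exact absurd ((sub_eq_zero.1 h) ▸ hmem1) (H.not_mem_minus h1 hw l)
      · exact Or.inl (sub_eq_zero.1 h)
    · exact Or.inr (sub_eq_zero.1 h)
  have hfour : ∀ w, B w → ∀ n l, l ≠ n → w n = 4 → w l = 2 := by
    intro w hw n l hln hn
    rcases h24 w hw l with h | h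
    · exact h
    obtain ⟨w', hw', e⟩ := H.step w hw n 1 hmem1
    refine absurd ?_ (H.not_mem_minus h1 hw' l)
    rw [e l hln, hn, h, show (4 : F) * 4 * 1 * 4 = 1 by linear_combination 9 * h7]
    exact hmem1
  intro n
  rcases h24 v hv n with h | h
  · exact h
  exfalso
  obtain ⟨w', hw', e⟩ := H.step v hv n 1 hmem1
  obtain ⟨l, hl⟩ : ∃ l, l ≠ n := ⟨if n = ⟨0, by omega⟩ then ⟨1, by omega⟩ else ⟨0, by omega⟩, by
    split_ifs with h' <;> simp [Fin.ext_iff] at h' ⊢ <;> omega⟩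
  obtain ⟨l', hl', hll⟩ : ∃ l', l' ≠ n ∧ l' ≠ l := by
    by_contra hc
    push Not at hc
    have := Finset.card_le_card (show (Finset.univ : Finset (Fin t)) ⊆ {n, l} from fun x _ => by
      by_cases hx : x = n
      · simp [hx]
      · simp [hc x hx])
    have h2' := Finset.card_le_two (a := n) (b := l)
    simp only [Finset.card_univ, Fintype.card_fin] at this
    omega
  have h4 : ∀ m, m ≠ n → w' m = 4 := fun m hm => by
    rw [e m hm, h, hfour v hv n m hm h]; linear_combination 4 * h7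
  have := hfour w' hw' l l' hll (h4 l hl)
  rw [h4 l' hl'] at this
  exact h2 (by linear_combination this)

end CfsgLib.GeomClasses.OrthDecomp
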