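import Cfsg.Agent.Lib.GeomClasses.OrthPlaneRigid
import Cfsg.Agent.Lib.GeomClasses.OrthPlaneSat

/-!
A member of a class with several components gives a root element centred in two planes.
-/

set_option autoImplicit false
set_option linter.unusedSectionVars false

namespace CfsgLib.GeomClasses.OrthDecomp

open Matrix QuadraticMap CfsgLib.Orth CfsgLib.GeomClasses.OrthEich CfsgLib.GeomClasses.OrthPair
  CfsgLib.GeomClasses.OrthRat CfsgLib.Maximal.TensorTools

variable {ι : Type} [Fintype ι] [DecidableEq ι] {F : Type*} [Field F] [Fintype F]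
  {q : QuadraticForm F (ι → F)} {t : ℕ} {D : Fin t → Submodule F (ι → F)}

/-- The values `B(p,a)² / q a`. -/
noncomputable def PDec.valSet (_P : PDec q D) (i : Fin t) (p : ι → F) : Finset F := by
  classical exact Finset.univ.filter fun c => c ≠ 0 ∧ ∃ a ∈ D i, q a ≠ 0 ∧ polar q p a ^ 2 = c * q a

variable (P : PDec q D)
include P

/-- A root element with centre in two blocks and an axis reaching a third one. -/
def PDec.Root (M : Subgroup (O q)) : Prop :=
  ∃ u, ∃ i l m : Fin t, m ≠ i ∧ m ≠ l ∧ u ≠ 0 ∧ (∀ n, n ≠ i → n ≠ l → P.cmp n u = 0) ∧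
    ∃ hu : q u = 0, ∃ z ∈ axes M hu, P.cmp m z ≠ 0

/-- The scaling of a singular line of a plane. -/
theorem PDec.torus_move (hF : 5 ≤ Fintype.card F) {j : Fin t} {e f : ι → F} (he : e ∈ D j) (hf : f ∈ D j)
    (hqe : q e = 0) (hqf : q f = 0) (hef : polar q e f = 1) :
    ∃ h ∈ Hgrp q D, ∃ μ : F, μ ≠ 0 ∧ ∀ w, polar q w e = 0 → app h w = w + (polar q w f * μ) • e := by
  obtain ⟨σ, hσ0, hσ1, hσ2, -⟩ := exists_avoid (F := F) hF 1 (-1) 0
  set x := e + f with hx
  set y := σ • e + σ⁻¹ • f with hy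
  have hqx : q x = 1 := by rw [hx, QuadraticMap.map_add ⇑q, hqe, hqf, hef]; simp
  have hqy : q y = 1 := by
    rw [hy, QuadraticMap.map_add ⇑q, QuadraticMap.map_smul, QuadraticMap.map_smul, polar_smul_left,
      polar_smul_right, hqe, hqf, hef]
    simp [hσ0]
  have hee : polar q e e = 0 := by rw [polar_self', hqe, mul_zero]
  have hff : polar q f f = 0 := by rw [polar_self', hqf, mul_zero]
  have hfe : polar q f e = 1 := by rw [polar_comm, hef]
  refine ⟨refl q x * refl q y, P.toBase.pair_block ((D j).add_mem he hf)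
    ((D j).add_mem ((D j).smul_mem _ he) ((D j).smul_mem _ hf)) (by rw [hqx]; exact one_ne_zero)
    (hqx.trans hqy.symm), σ⁻¹ * σ⁻¹ - 1, fun h => ?_, fun w hwe => ?_⟩
  · have h' : (σ⁻¹ - 1) * (σ⁻¹ + 1) = 0 := by linear_combination h
    rcases mul_eq_zero.1 h' with h' | h'
    · exact hσ1 (inv_eq_one.1 (sub_eq_zero.1 h'))
    · exact hσ2 (by rw [← inv_inv σ, eq_neg_of_add_eq_zero_left h', inv_neg, inv_one])
  · rw [app_mul, app_refl y w, hqy, app_refl x _, hqx]
    simp only [hx, hy, inv_one, one_mul, polar_sub_left, polar_smul_left, polar_add_left, polar_add_right,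
      polar_smul_right, hwe, hee, hff, hef, hfe, smul_eq_mul, smul_add, smul_smul]
    match_scalars <;> field_simp <;> ring

theorem PDec.mem_valSet {i : Fin t} {p : ι → F} {c : F} :
    c ∈ P.valSet i p ↔ c ≠ 0 ∧ ∃ a ∈ D i, q a ≠ 0 ∧ polar q p a ^ 2 = c * q a := by simp [PDec.valSet]

theorem PDec.card_valSet {i : Fin t} {p : ι → F} (hp : p ∈ D i) (hqp : q p ≠ 0) :
    ((∀ x ∈ D i, q x = 0 → x = 0) → Fintype.card F ≤ 2 * (P.valSet i p).card) ∧
      ((2 : F) = 0 → Fintype.card F ≤ 2 * (P.valSet i p).card + 2) ∧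
      ((2 : F) ≠ 0 → Fintype.card F ≤ 2 * (P.valSet i p).card + 1) := by
  classical
  obtain ⟨S, hS, hS2, hS1⟩ := P.ratio_set hp hqp
  have hsub : S ⊆ P.valSet i p := fun c hc => by
    obtain ⟨h0, -, a, ha, -, hqa, hB⟩ := hS c hc
    exact P.mem_valSet.2 ⟨h0, a, ha, hqa, hB⟩
  have h1 := Finset.card_le_card hsub
  by_cases h2 : (2 : F) = 0
  · obtain ⟨e1, e2⟩ := hS2 h2
    exact ⟨fun hm => by have := e2 hm; omega, fun _ => by omega, fun h => absurd h2 h⟩
  · obtain ⟨e1, e2⟩ := hS1 h2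
    have h4 : 4 * q p ∈ P.valSet i p := by
      refine P.mem_valSet.2 ⟨mul_ne_zero ?_ hqp, p, hp, hqp, by rw [polar_self']; ring⟩
      have : (4 : F) = 2 ^ 2 := by norm_num
      rw [this]; exact pow_ne_zero _ h2
    have h3 : S.card + 1 ≤ (P.valSet i p).card := by
      have hn : 4 * q p ∉ S := fun h => (hS _ h).2.1 rfl
      rw [← Finset.card_insert_of_notMem hn]
      exact Finset.card_le_card (Finset.insert_subset h4 hsub)
    exact ⟨fun hm => by have := e2 hm; omega, fun h => absurd h h2, fun _ => by omega⟩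

/-- Membership in hyperbolic planes. -/
theorem PDec.valSet_iff {i : Fin t} {p : ι → F} (hp : p ∈ D i) (hqp : q p ≠ 0) (h2 : (2 : F) ≠ 0)
    (hsing : ∃ u ∈ D i, u ≠ 0 ∧ q u = 0) {c : F} (hc : c ≠ 0) :
    c ∈ P.valSet i p ↔ IsSquare (c * (c - 4 * q p)) := by
  obtain ⟨e, he, he0, hqe⟩ := hsing
  obtain ⟨f, hf, hqf, hef⟩ := OrthTools.exists_partner (P.block i) he he0 hqe
  have hfe : f ∉ Submodule.span F {e} := fun hin => by
    obtain ⟨s, hs⟩ := Submodule.mem_span_singleton.1 hin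
    rw [← hs, polar_smul_right, polar_self', hqe] at hef
    simp at hef
  have hval : ∀ α β : F, q (α • e + β • f) = α * β := fun α β => by
    rw [QuadraticMap.map_add ⇑q, QuadraticMap.map_smul, QuadraticMap.map_smul, polar_smul_left, polar_smul_right,
      hqe, hqf, hef]
    simp
  have hB : ∀ α β γ δ : F, polar q (α • e + β • f) (γ • e + δ • f) = α * δ + β * γ := fun α β γ δ => by
    simp only [polar_add_left, polar_add_right, polar_smul_left, polar_smul_right, polar_self', hqe, hqf, hef,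
      polar_comm (f := ⇑q) f e, smul_eq_mul]
    ring
  obtain ⟨ξ, η, rfl⟩ := P.span_two he hf he0 hfe hp
  rw [hval] at hqp
  obtain ⟨hξ, hη⟩ := mul_ne_zero_iff.1 hqp
  rw [P.mem_valSet, hval]
  constructor
  · rintro ⟨-, a, ha, hqa, hBc⟩
    obtain ⟨α, β, rfl⟩ := P.span_two he hf he0 hfe ha
    rw [hB, hval] at hBc
    rw [hval] at hqa
    refine ⟨(ξ * β + η * α) * (ξ * β - η * α) / (α * β), ?_⟩
    have : c = (ξ * β + η * α) ^ 2 / (α * β) := by rw [eq_div_iff hqa, hBc]
    rw [this]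
    obtain ⟨hα, hβ⟩ := mul_ne_zero_iff.1 hqa
    field_simp
    ring
  · rintro ⟨s, hs⟩
    set τ := (c - 2 * (ξ * η) + s) / (2 * η ^ 2) with hτ
    have hquad : (ξ + η * τ) ^ 2 = c * τ := by
      have h1 : 2 * η ^ 2 * τ = c - 2 * (ξ * η) + s := by
        rw [hτ]; exact mul_div_cancel₀ _ (mul_ne_zero h2 (pow_ne_zero _ hη))
      have h4 : 4 * η ^ 2 * ((ξ + η * τ) ^ 2 - c * τ) = 0 := by
        linear_combination (2 * η ^ 2 * τ + 2 * (ξ * η) - c + s) * h1 - hs
      rcases mul_eq_zero.1 h4 with h | h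
      · exfalso
        have : (4 : F) = 2 ^ 2 := by norm_num
        rw [this] at h
        exact mul_ne_zero (pow_ne_zero _ h2) (pow_ne_zero _ hη) h
      · exact sub_eq_zero.1 h
    refine ⟨hc, τ • e + (1 : F) • f, (D i).add_mem ((D i).smul_mem _ he) ((D i).smul_mem _ hf), ?_, ?_⟩
    · rw [hval, mul_one]
      intro h0
      rw [h0, mul_zero, add_zero, mul_zero, sq_eq_zero_iff] at hquad
      exact hξ hquad
    · rw [hB, hval, mul_one, mul_one, ← hquad]

/-- Among three planes two have opposite values. -/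
theorem PDec.opposite {i l m : Fin t} (hil : i ≠ l) (him : i ≠ m) (hlm : l ≠ m) {p : Fin t → ι → F}
    (hp : ∀ n, p n ∈ D n) (hi : q (p i) ≠ 0) (hl : q (p l) ≠ 0) (hm : q (p m) ≠ 0) :
    ∃ a b r : Fin t, a ≠ b ∧ r ≠ a ∧ r ≠ b ∧ ((a = i ∨ a = l ∨ a = m) ∧ (b = i ∨ b = l ∨ b = m) ∧
      (r = i ∨ r = l ∨ r = m)) ∧ ∃ c ∈ P.valSet a (p a), -c ∈ P.valSet b (p b) := by
  classical
  by_contra hcon
  push Not at hcon
  set N : Finset F := Finset.univ.erase 0
  have hN : N.card + 1 = Fintype.card F := by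
    rw [Finset.card_erase_add_one (Finset.mem_univ _), Finset.card_univ]
  have hsub : ∀ n, P.valSet n (p n) ⊆ N ∧ (P.valSet n (p n)).image (fun c => -c) ⊆ N := fun n =>
    ⟨fun c hc => Finset.mem_erase.2 ⟨(P.mem_valSet.1 hc).1, Finset.mem_univ _⟩, fun c hc => by
      obtain ⟨d, hd, rfl⟩ := Finset.mem_image.1 hc
      exact Finset.mem_erase.2 ⟨neg_ne_zero.2 (P.mem_valSet.1 hd).1, Finset.mem_univ _⟩⟩
  have hdis : ∀ a b r, a ≠ b → r ≠ a → r ≠ b → (a = i ∨ a = l ∨ a = m) → (b = i ∨ b = l ∨ b = m) →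
      (r = i ∨ r = l ∨ r = m) → Disjoint ((P.valSet a (p a)).image fun c => -c) (P.valSet b (p b)) := by
    intro a b r h1 h2 h3 ha hb hr
    rw [Finset.disjoint_left]
    intro c hc
    obtain ⟨d, hd, rfl⟩ := Finset.mem_image.1 hc
    exact hcon a b r h1 h2 h3 ⟨ha, hb, hr⟩ d hd
  have dil := hdis i l m hil (Ne.symm him) (Ne.symm hlm) (Or.inl rfl) (Or.inr (Or.inl rfl)) (Or.inr (Or.inr rfl))
  have dim := hdis i m l him (Ne.symm hil) hlm (Or.inl rfl) (Or.inr (Or.inr rfl)) (Or.inr (Or.inl rfl))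
  have dlm := hdis l m i hlm hil him (Or.inr (Or.inl rfl)) (Or.inr (Or.inr rfl)) (Or.inl rfl)
  have hc : ∀ n, ((P.valSet n (p n)).image fun c => -c).card = (P.valSet n (p n)).card := fun n =>
    Finset.card_image_of_injective _ neg_injective
  have s1 := Finset.card_le_card (Finset.union_subset (hsub i).2 (hsub l).1)
  rw [Finset.card_union_of_disjoint dil, hc] at s1
  have ci := P.card_valSet (hp i) hi
  have cl := P.card_valSet (hp l) hl
  have cm := P.card_valSet (hp m) hm
  rcases P.ok with ⟨hminus, -⟩ | ⟨hplus, h7⟩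
  · have := ci.1 (hminus i); have := cl.1 (hminus l); omega
  by_cases h2 : (2 : F) = 0
  · have hneg : ∀ S : Finset F, S.image (fun c => -c) = S := fun S => by
      rw [show (fun c : F => -c) = id from funext fun c => by simp only [id]; linear_combination -c * h2,
        Finset.image_id]
    rw [hneg] at dil dim dlm
    have s3 := Finset.card_le_card (Finset.union_subset (Finset.union_subset (hsub i).1 (hsub l).1) (hsub m).1)
    rw [Finset.card_union_of_disjoint (Finset.disjoint_union_left.2 ⟨dim, dlm⟩),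
      Finset.card_union_of_disjoint dil] at s3
    have := ci.2.1 h2; have := cl.2.1 h2; have := cm.2.1 h2
    omega
  · have := ci.2.2 h2; have := cl.2.2 h2; have := cm.2.2 h2
    have full : ∀ a b, Disjoint ((P.valSet a (p a)).image fun c => -c) (P.valSet b (p b)) →
        Fintype.card F ≤ (P.valSet a (p a)).card + (P.valSet b (p b)).card + 1 →
        ((P.valSet a (p a)).image fun c => -c) ∪ P.valSet b (p b) = N := fun a b hd hle => by
      refine Finset.eq_of_subset_of_card_le (Finset.union_subset (hsub a).2 (hsub b).1) ?_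
      rw [Finset.card_union_of_disjoint hd, hc]
      omega
    have e1 := full i m dim (by omega)
    have e2 := full l m dlm (by omega)
    have heq : P.valSet i (p i) = P.valSet l (p l) := by
      refine Finset.image_injective neg_injective ?_
      calc (P.valSet i (p i)).image (fun c => -c) = N \ P.valSet m (p m) := by
            rw [← e1, Finset.union_sdiff_right, Finset.sdiff_eq_self_of_disjoint dim]
        _ = (P.valSet l (p l)).image (fun c => -c) := by
            rw [← e2, Finset.union_sdiff_right, Finset.sdiff_eq_self_of_disjoint dlm]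
    have e3 := full i l dil (by omega)
    rw [← heq] at dil e3
    -- a value in the set together with its opposite, or outside it with its opposite
    set V := q (p i) with hV
    obtain ⟨w, hw⟩ : ∃ w : F, w ∉ ((Finset.univ.filter fun x : F => 1 * x ^ 2 + 0 * x + 4 * V ^ 2 = 0) ∪
        (Finset.univ.filter fun x : F => 1 * x ^ 2 + 0 * x + -(4 * V ^ 2) = 0) ∪ {0}) := by
      by_contra hall
      push Not at hall
      have h := Finset.card_le_card (show (Finset.univ : Finset F) ⊆ _ from fun x _ => hall x)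
      have a1 := quad_roots_le (F := F) (α := 1) (β := 0) (γ := 4 * V ^ 2) (Or.inl one_ne_zero)
      have a2 := quad_roots_le (F := F) (α := 1) (β := 0) (γ := -(4 * V ^ 2)) (Or.inl one_ne_zero)
      have a3 := Finset.card_union_le
        (Finset.univ.filter fun x : F => 1 * x ^ 2 + 0 * x + 4 * V ^ 2 = 0)
        (Finset.univ.filter fun x : F => 1 * x ^ 2 + 0 * x + -(4 * V ^ 2) = 0)
      have a4 := Finset.card_union_le ((Finset.univ.filter fun x : F => 1 * x ^ 2 + 0 * x + 4 * V ^ 2 = 0) ∪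
        (Finset.univ.filter fun x : F => 1 * x ^ 2 + 0 * x + -(4 * V ^ 2) = 0)) ({0} : Finset F)
      rw [Finset.card_univ] at h
      rw [Finset.card_singleton] at a4
      omega
    simp only [Finset.mem_union, Finset.mem_filter, Finset.mem_univ, true_and, Finset.mem_singleton, not_or,
      one_mul, zero_mul, add_zero] at hw
    obtain ⟨⟨hw1, hw2⟩, hw0⟩ := hw
    set u := (w ^ 2 + 4 * V ^ 2) / w with hu
    have hu0 : u ≠ 0 := div_ne_zero hw1 hw0
    have hprod : IsSquare (u * (u - 4 * V) * (-u * (-u - 4 * V))) := by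
      refine ⟨u * (w ^ 2 - 4 * V ^ 2) / w, ?_⟩
      rw [hu]; field_simp; ring
    have hne : u - 4 * V ≠ 0 ∧ -u - 4 * V ≠ 0 := by
      have f1 : (w - 2 * V) * (w + 2 * V) ≠ 0 := fun h => hw2 (by linear_combination h)
      obtain ⟨g1, g2⟩ := mul_ne_zero_iff.1 f1
      refine ⟨fun h => pow_ne_zero 2 g1 ?_, fun h => pow_ne_zero 2 g2 ?_⟩
      · rw [hu] at h; field_simp at h; linear_combination h
      · rw [hu] at h; field_simp at h; linear_combination -h
    have hiff : u ∈ P.valSet i (p i) ↔ -u ∈ P.valSet i (p i) := by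
      rw [P.valSet_iff (hp i) hi h2 (hplus i) hu0, P.valSet_iff (hp i) hi h2 (hplus i) (neg_ne_zero.2 hu0)]
      constructor
      · intro h
        have := hprod.div h
        rwa [mul_div_cancel_left₀ _ (mul_ne_zero hu0 hne.1)] at this
      · intro h
        have := hprod.div h
        rwa [mul_div_cancel_right₀ _ (mul_ne_zero (neg_ne_zero.2 hu0) hne.2)] at this
    have humem : u ∈ ((P.valSet i (p i)).image fun c => -c) ∪ P.valSet i (p i) := by
      rw [e3]; exact Finset.mem_erase.2 ⟨hu0, Finset.mem_univ _⟩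
    rcases Finset.mem_union.1 humem with h | h
    · obtain ⟨d, hd, hdu⟩ := Finset.mem_image.1 h
      rw [← hdu, neg_neg] at hiff
      exact Finset.disjoint_left.1 dil h (hdu ▸ hiff.2 hd)
    · exact Finset.disjoint_left.1 dil (Finset.mem_image.2 ⟨-u, hiff.1 h, neg_neg u⟩) h

variable {M : Subgroup (O q)} (hle : Hgrp q D ≤ M) {C : F} (hC : C ≠ 0)
include hle hC

/-- A block reflection of the value class preserves membership. -/
theorem PDec.cls_refl_block {x : ι → F} (hx : x ∈ Cls D M C) {i : Fin t} {a : ι → F} (ha : a ∈ D i)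
    (hqa : q a ≠ 0) (hsq : IsSquare (C / q a)) : app (refl q a) x ∈ Cls D M C := by
  obtain ⟨s, hs⟩ := hsq
  have hs0 : s ≠ 0 := fun h => div_ne_zero hC hqa (by rw [hs, h, mul_zero])
  rw [← refl_smul hs0 a]
  exact P.toBase.cls_refl hle hC hx (P.toBase.block_mem_cls hle hC ((D i).smul_mem s ha)
    (by rw [QuadraticMap.map_smul, ← hs, smul_eq_mul, div_mul_cancel₀ _ hqa]))

/-- Two block reflections of one class preserve membership. -/
theorem PDec.cls_refl_pair {x : ι → F} (hx : x ∈ Cls D M C) {i l : Fin t} {a b : ι → F} (ha : a ∈ D i)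
    (hb : b ∈ D l) (hqa : q a ≠ 0) (hqb : q b ≠ 0) (hsq : IsSquare (q a / q b)) :
    app (refl q a) (app (refl q b) x) ∈ Cls D M C := by
  obtain ⟨s, hs⟩ := hsq
  have hs0 : s ≠ 0 := fun h => div_ne_zero hqa hqb (by rw [hs, h, mul_zero])
  rw [← app_mul, ← refl_smul hs0 b]
  exact P.toBase.cls_app_H hle hC (P.toBase.pair_block ha ((D l).smul_mem s hb) hqa
    (by rw [QuadraticMap.map_smul, ← hs, smul_eq_mul, div_mul_cancel₀ _ hqb])) hx

/-- A compensating reflection fixing the vector. -/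
theorem PDec.cls_refl_comp {x : ι → F} (hx : x ∈ Cls D M C) {i r : Fin t} {a d : ι → F} (ha : a ∈ D i)
    (hd : d ∈ D r) (hqa : q a ≠ 0) (hqd : q d ≠ 0) (hsq : IsSquare (q a / q d)) (hxd : polar q x d = 0) :
    app (refl q a) x ∈ Cls D M C := by
  have h := P.cls_refl_pair hle hC hx ha hd hqa hqd hsq
  rwa [app_refl_of_ortho hxd] at h

/-- Compensation is possible. -/
def PDec.Flexible (C : F) (x : ι → F) (r : Fin t) : Prop :=
  P.cmp r x = 0 ∨ ∃ d ∈ D r, q d ≠ 0 ∧ polar q x d = 0 ∧ ¬ IsSquare (C / q d)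

theorem PDec.pair_root {x : ι → F} (hx : x ∈ Cls D M C) {i l m : Fin t} (hil : i ≠ l) (hmi : m ≠ i) (hml : m ≠ l)
    (hm : P.cmp m x ≠ 0) (hflex : IsSquare (-1 : F) ∨ ∃ r, r ≠ i ∧ r ≠ l ∧ P.Flexible C x r) {c : F}
    (hc : c ∈ P.valSet i (P.cmp i x)) (hc' : -c ∈ P.valSet l (P.cmp l x)) : P.Root M := by
  classical
  obtain ⟨hc0, a, ha, hqa, hBa⟩ := P.mem_valSet.1 hc
  obtain ⟨-, b, hb, hqb, hBb⟩ := P.mem_valSet.1 hc'
  rw [← P.polar_cmp x ha] at hBa
  rw [← P.polar_cmp x hb] at hBb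
  have hxa : polar q x a ≠ 0 := fun h => hc0 (by
    rw [h, zero_pow two_ne_zero] at hBa; exact (mul_eq_zero.1 hBa.symm).resolve_right hqa)
  have hab : polar q a b = 0 := P.orth i l hil a ha b hb
  set y := app (refl q a) (app (refl q b) x) with hy
  have hymem : y ∈ Cls D M C := by
    by_cases hsq : IsSquare (q a / q b)
    · exact P.cls_refl_pair hle hC hx ha hb hqa hqb hsq
    have h1 : ¬ IsSquare (-1 : F) := by
      rintro ⟨s, hs⟩
      refine hsq ⟨s * polar q x a / polar q x b, ?_⟩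
      have hxb : polar q x b ≠ 0 := fun h => by
        rw [h, zero_pow two_ne_zero] at hBb
        exact hc0 (neg_eq_zero.1 ((mul_eq_zero.1 hBb.symm).resolve_right hqb))
      rw [div_eq_iff hqb]
      field_simp
      apply mul_left_cancel₀ hc0
      linear_combination -(polar q x b ^ 2) * hBa + polar q x a ^ 2 * hBb + c * polar q x a ^ 2 * q b * hs
    obtain ⟨r, hri, hrl, hr⟩ := hflex.resolve_left h1
    obtain ⟨d, hd, hqd, hxd, hdC⟩ : ∃ d ∈ D r, q d ≠ 0 ∧ polar q x d = 0 ∧ ¬ IsSquare (C / q d) := by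
      rcases hr with hr | hr
      · obtain ⟨d, hd, hqd⟩ := P.toBase.exists_value r (c := -C) (neg_ne_zero.2 hC)
        refine ⟨d, hd, by rw [hqd]; exact neg_ne_zero.2 hC, by rw [P.polar_cmp x hd, hr, polar_zero_left], ?_⟩
        rw [hqd, div_neg, div_self hC]
        exact h1
      · exact hr
    have hbd : polar q (app (refl q b) x) d = 0 := by
      rw [app_refl, polar_sub_left, polar_smul_left, hxd, P.orth l r (Ne.symm hrl) b hb d hd, smul_zero, sub_zero]
    rcases exists_square_ratio hqa hqb hqd with h | h | h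
    · exact absurd h hsq
    · -- `a` with the compensation, `b` alone
      refine P.cls_refl_comp hle hC (P.cls_refl_block hle hC hx hb hqb ?_) ha hd hqa hqd h hbd
      rcases exists_square_ratio hC hqb hqd with h' | h' | h'
      · exact h'
      · exact absurd h' hdC
      · exact absurd (by have := h.div h'; rwa [div_div_div_cancel_right₀ hqd] at this) hsq
    · refine P.cls_refl_block hle hC (P.cls_refl_comp hle hC hx hb hd hqb hqd h hxd) ha hqa ?_
      rcases exists_square_ratio hC hqa hqd with h' | h' | h'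
      · exact h'
      · exact absurd h' hdC
      · exact absurd (by have := h'.div h; rwa [div_div_div_cancel_right₀ hqd] at this) hsq
  have hdiff : y - x = -((q a)⁻¹ * polar q x a) • a + -((q b)⁻¹ * polar q x b) • b := by
    rw [hy, app_refl b x, app_refl a _, polar_sub_left, polar_smul_left, polar_comm (f := ⇑q) b a, hab, smul_zero,
      sub_zero]
    module
  have hqu : q (y - x) = 0 := by
    rw [hdiff, QuadraticMap.map_add ⇑q, QuadraticMap.map_smul, QuadraticMap.map_smul, polar_smul_left,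
      polar_smul_right, hab]
    simp only [smul_eq_mul, mul_zero, add_zero]
    field_simp
    linear_combination q b * hBa + q a * hBb
  obtain ⟨hperp, hM⟩ := P.toBase.cls_root hle hC hx hymem hqu
  have hu0 : C⁻¹ • (y - x) ≠ 0 := fun h => by
    have h' := congrArg (P.cmp i) ((smul_eq_zero.1 h).resolve_left (inv_ne_zero hC))
    rw [hdiff, map_add, map_smul, map_smul, P.toBase.cmp_self ha, P.toBase.cmp_ne hil hb, smul_zero, add_zero,
      map_zero, smul_eq_zero] at h'
    exact hqa (by rw [h'.resolve_left (neg_ne_zero.2 (mul_ne_zero (inv_ne_zero hqa) hxa)), QuadraticMap.map_zero])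
  refine ⟨C⁻¹ • (y - x), i, l, m, hmi, hml, hu0, fun n hni hnl => ?_, ?_, x, ⟨?_, hM⟩, hm⟩
  · rw [map_smul, hdiff, map_add, map_smul, map_smul, P.toBase.cmp_ne hni ha, P.toBase.cmp_ne hnl hb]
    simp
  · rw [QuadraticMap.map_smul, hqu, smul_zero]
  · rw [polar_smul_left, hperp, smul_zero]

theorem PDec.singular_root (hF : 5 ≤ Fintype.card F) {x : ι → F} (hx : x ∈ Cls D M C) {i m : Fin t} (hmi : m ≠ i)
    (hm : P.cmp m x ≠ 0) (hi : P.cmp i x ≠ 0) (hqi : q (P.cmp i x) = 0) : P.Root M := by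
  set e := P.cmp i x with he
  have heD : e ∈ D i := Decomp.comp_mem P.decomp i x
  obtain ⟨f, hf, hqf, hef⟩ := OrthTools.exists_partner (P.block i) heD hi hqi
  obtain ⟨h, hh, μ, hμ, hact⟩ := P.torus_move hF heD hf hqi hqf hef
  have hxe : polar q x e = 0 := by rw [P.polar_cmp x heD, polar_self', hqi, mul_zero]
  have hxf : polar q x f = 1 := by rw [P.polar_cmp x hf, hef]
  have hy := P.toBase.cls_app_H hle hC hh hx
  rw [hact x hxe, hxf, one_mul] at hy
  have hqu : q (x + μ • e - x) = 0 := by rw [add_sub_cancel_left, QuadraticMap.map_smul, hqi, smul_zero]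
  obtain ⟨hperp, hM⟩ := P.toBase.cls_root hle hC hx hy hqu
  rw [add_sub_cancel_left] at hperp hM
  refine ⟨C⁻¹ • μ • e, i, i, m, hmi, hmi, smul_ne_zero (inv_ne_zero hC) (smul_ne_zero hμ hi), fun n hn _ => ?_,
    ?_, x, ⟨?_, hM⟩, hm⟩
  · rw [map_smul, map_smul, P.toBase.cmp_ne hn heD, smul_zero, smul_zero]
  · simp [QuadraticMap.map_smul, hqi]
  · rw [polar_smul_left, hperp, smul_zero]

/-- Three components, and either a compensation or a rigid class pattern. -/
theorem PDec.wide_root_or {x : ι → F} (hx : x ∈ Cls D M C) (hs : ∃ i l m : Fin t, i ≠ l ∧ i ≠ m ∧ l ≠ m ∧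
      P.cmp i x ≠ 0 ∧ P.cmp l x ≠ 0 ∧ P.cmp m x ≠ 0) :
    P.Root M ∨ (¬ IsSquare (-1 : F) ∧ ∀ r, P.cmp r x ≠ 0 ∧ q (P.cmp r x) ≠ 0 ∧
      ∀ d ∈ D r, q d ≠ 0 → polar q x d = 0 → IsSquare (C / q d)) := by
  classical
  by_cases hsing : ∃ r, P.cmp r x ≠ 0 ∧ q (P.cmp r x) = 0
  · obtain ⟨r, hr, hqr⟩ := hsing
    obtain ⟨i, l, m, hil, -, -, hi, hl, -⟩ := hs
    have hF : 5 ≤ Fintype.card F := by
      rcases P.ok with ⟨hm, -⟩ | ⟨-, h7⟩
      · exact absurd (hm r _ (Decomp.comp_mem P.decomp r x) hqr) hr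
      · omega
    by_cases hri : r = i
    · subst hri; exact Or.inl (P.singular_root hle hC hF hx (Ne.symm hil) hl hr hqr)
    · exact Or.inl (P.singular_root hle hC hF hx (Ne.symm hri) hi hr hqr)
  push Not at hsing
  have go : ∀ i l m : Fin t, i ≠ l → i ≠ m → l ≠ m → P.cmp i x ≠ 0 → P.cmp l x ≠ 0 → P.cmp m x ≠ 0 →
      (IsSquare (-1 : F) ∨ ∃ r, r ≠ i ∧ r ≠ l ∧ r ≠ m ∧ P.Flexible C x r) → P.Root M := by
    intro i l m hil him hlm hi hl hm hflex
    obtain ⟨a, b, r, hab, hra, hrb, ⟨ha, hb, hr⟩, c, hc, hc'⟩ := P.opposite hil him hlm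
      (p := fun n => P.cmp n x) (fun n => Decomp.comp_mem P.decomp n x) (hsing i hi) (hsing l hl) (hsing m hm)
    refine P.pair_root hle hC hx hab hra hrb ?_ ?_ hc hc'
    · rcases hr with rfl | rfl | rfl <;> assumption
    · refine hflex.imp id ?_
      rintro ⟨e, h1, h3, h4, he⟩
      refine ⟨e, ?_, ?_, he⟩
      · rcases ha with rfl | rfl | rfl <;> assumption
      · rcases hb with rfl | rfl | rfl <;> assumption
  obtain ⟨i, l, m, hil, him, hlm, hi, hl, hm⟩ := hs
  by_cases h1 : IsSquare (-1 : F)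
  · exact Or.inl (go i l m hil him hlm hi hl hm (Or.inl h1))
  by_cases hz : ∃ r, P.cmp r x = 0
  · obtain ⟨r, hr⟩ := hz
    exact Or.inl (go i l m hil him hlm hi hl hm (Or.inr ⟨r, fun h => hi (h ▸ hr), fun h => hl (h ▸ hr),
      fun h => hm (h ▸ hr), Or.inl hr⟩))
  push Not at hz
  by_cases hflex : ∃ r, P.Flexible C x r
  · obtain ⟨r, hr⟩ := hflex
    have h7 := P.five_le
    obtain ⟨a, ha⟩ := P.exists_ne {r} (by simp; omega)
    obtain ⟨b, hb⟩ := P.exists_ne {r, a} (by
      have := Finset.card_le_two (a := r) (b := a); omega)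
    obtain ⟨c, hc⟩ := P.exists_ne {r, a, b} (by
      have := Finset.card_le_three (a := r) (b := a) (c := b); omega)
    simp only [Finset.mem_singleton] at ha
    simp only [Finset.mem_insert, Finset.mem_singleton, not_or] at hb hc
    exact Or.inl (go a b c (Ne.symm hb.2) (Ne.symm hc.2.1) (Ne.symm hc.2.2) (hz a) (hz b) (hz c)
      (Or.inr ⟨r, Ne.symm ha, Ne.symm hb.1, Ne.symm hc.1, hr⟩))
  refine Or.inr ⟨h1, fun r => ⟨hz r, hsing r (hz r), fun d hd hqd hxd => ?_⟩⟩
  by_contra hns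
  exact hflex ⟨r, Or.inr ⟨d, hd, hqd, hxd, hns⟩⟩

/-- At least three components give a root element. -/
theorem PDec.wide_root {x : ι → F} (hx : x ∈ Cls D M C) (hs : ∃ i l m : Fin t, i ≠ l ∧ i ≠ m ∧ l ≠ m ∧
      P.cmp i x ≠ 0 ∧ P.cmp l x ≠ 0 ∧ P.cmp m x ≠ 0) : P.Root M := by
  classical
  by_contra hno
  obtain ⟨h1, hbad⟩ := (P.wide_root_or hle hC hx hs).resolve_left hno
  have h7 := P.five_le
  have h2 : (2 : F) ≠ 0 := fun h => h1 ⟨1, by linear_combination -h⟩
  have hF := P.four_le h2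
  obtain ⟨δ, hδ, hδsq⟩ : ∃ δ : F, ((δ = 1 ∧ ∀ i, ∀ z ∈ D i, q z = 0 → z = 0) ∨ (δ = -1 ∧ 7 ≤ Fintype.card F)) ∧
      ∀ y, y ∈ Cls D M C → (∀ r, P.cmp r y ≠ 0 ∧ q (P.cmp r y) ≠ 0 ∧
        ∀ d ∈ D r, q d ≠ 0 → polar q y d = 0 → IsSquare (C / q d)) → ∀ r, IsSquare (δ * q (P.cmp r y) / C) := by
    rcases P.ok with ⟨hm, -⟩ | ⟨hp, hq7⟩
    · refine ⟨1, Or.inl ⟨rfl, hm⟩, fun y _ hy r => ?_⟩
      obtain ⟨-, hV, hd⟩ := hy r
      obtain ⟨p, hp, hqp, hyp⟩ := P.perp_line (Decomp.comp_mem P.decomp r y) hV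
      have hsq := hd p hp hqp (by rw [P.polar_cmp y hp, hyp])
      rw [one_mul]
      by_contra hns
      have hneg : IsSquare (-(q (P.cmp r y)) / q p) := by
        rw [show -(q (P.cmp r y)) / q p = -(q (P.cmp r y) / C) * (C / q p) by field_simp]
        exact ((square_iff_neg h1 (div_ne_zero hV hC)).2 hns).mul hsq
      obtain ⟨s, hs⟩ := hneg
      have h0 := hm r (P.cmp r y + s • p) ((D r).add_mem (Decomp.comp_mem P.decomp r y) ((D r).smul_mem _ hp)) (by
        rw [QuadraticMap.map_add ⇑q, QuadraticMap.map_smul, polar_smul_right, hyp, smul_zero, add_zero, ← hs,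
          smul_eq_mul, div_mul_cancel₀ _ hqp, add_neg_cancel])
      have h3 := congrArg (fun z => polar q z (P.cmp r y)) h0
      simp only [polar_add_left, polar_smul_left, polar_comm (f := ⇑q) p (P.cmp r y), hyp, polar_self',
        polar_zero_left, smul_zero, add_zero] at h3
      exact mul_ne_zero h2 hV h3
    · refine ⟨-1, Or.inr ⟨rfl, hq7⟩, fun y _ hy r => ?_⟩
      obtain ⟨-, hV, hd⟩ := hy r
      obtain ⟨p, hp', hqp, hyp⟩ := P.perp_line (Decomp.comp_mem P.decomp r y) hV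
      have hsq := hd p hp' hqp (by rw [P.polar_cmp y hp', hyp])
      rw [neg_one_mul, neg_div, square_iff_neg h1 (div_ne_zero hV hC)]
      intro hVs
      obtain ⟨u, hu, hu0, hqu⟩ := hp r
      have hpy : p ∉ Submodule.span F {P.cmp r y} := fun hin => by
        obtain ⟨s, hs⟩ := Submodule.mem_span_singleton.1 hin
        rw [← hs, polar_smul_right, polar_self', smul_eq_mul] at hyp
        have hs0 := (mul_eq_zero.1 hyp).resolve_right (mul_ne_zero h2 hV)
        rw [← hs, hs0, zero_smul, QuadraticMap.map_zero] at hqp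
        exact hqp rfl
      obtain ⟨α, β, rfl⟩ := P.span_two (Decomp.comp_mem P.decomp r y) hp' (hy r).1 hpy hu
      rw [QuadraticMap.map_add ⇑q, QuadraticMap.map_smul, QuadraticMap.map_smul, polar_smul_left, polar_smul_right,
        hyp] at hqu
      simp only [smul_eq_mul, mul_zero, add_zero] at hqu
      obtain ⟨s, hs⟩ := hVs.mul hsq
      rw [show q (P.cmp r y) / C * (C / q p) = q (P.cmp r y) / q p by field_simp, div_eq_iff hqp] at hs
      have hα : α ≠ 0 := fun h => hu0 (by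
        rw [h, mul_zero, zero_mul, zero_add] at hqu
        rw [h, zero_smul, zero_add, mul_self_eq_zero.1 ((mul_eq_zero.1 hqu).resolve_right hqp), zero_smul])
      refine h1 ⟨β / (α * s), ?_⟩
      have hs0 : s ≠ 0 := fun h => hV (by rw [hs, h]; ring)
      rw [hs] at hqu
      field_simp
      refine mul_right_cancel₀ hqp ?_
      linear_combination -hqu
  have hbadall : ∀ y, y ∈ Cls D M C → (∃ i l m : Fin t, i ≠ l ∧ i ≠ m ∧ l ≠ m ∧
      P.cmp i y ≠ 0 ∧ P.cmp l y ≠ 0 ∧ P.cmp m y ≠ 0) → ∀ r, P.cmp r y ≠ 0 ∧ q (P.cmp r y) ≠ 0 ∧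
        ∀ d ∈ D r, q d ≠ 0 → polar q y d = 0 → IsSquare (C / q d) :=
    fun y hy hys => ((P.wide_root_or hle hC hy hys).resolve_left hno).2
  have hδ1 : δ * δ = 1 := by rcases hδ with ⟨rfl, -⟩ | ⟨rfl, -⟩ <;> ring
  have hδ0 : δ ≠ 0 := left_ne_zero_of_mul_eq_one hδ1
  set B : (Fin t → F) → Prop := fun v => ∃ y ∈ Cls D M C, (∀ r, P.cmp r y ≠ 0 ∧ q (P.cmp r y) ≠ 0 ∧
    ∀ d ∈ D r, q d ≠ 0 → polar q y d = 0 → IsSquare (C / q d)) ∧ v = fun r => δ * q (P.cmp r y) / C with hBdef
  have three : ∀ n : Fin t, ∃ i l m : Fin t, i ≠ l ∧ i ≠ m ∧ l ≠ m ∧ i ≠ n ∧ l ≠ n ∧ m ≠ n := by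
    intro n
    obtain ⟨a, ha⟩ := P.exists_ne {n} (by simp; omega)
    obtain ⟨b, hb⟩ := P.exists_ne {n, a} (by
      have := Finset.card_le_two (a := n) (b := a); omega)
    obtain ⟨c, hc⟩ := P.exists_ne {n, a, b} (by
      have := Finset.card_le_three (a := n) (b := a) (c := b); omega)
    simp only [Finset.mem_singleton] at ha
    simp only [Finset.mem_insert, Finset.mem_singleton, not_or] at hb hc
    exact ⟨a, b, c, Ne.symm hb.2, Ne.symm hc.2.1, Ne.symm hc.2.2, ha, hb.1, hc.1⟩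
  have hmove : ∀ v, B v → ∀ n, ∀ s ∈ shiftSet δ, ∃ v', B v' ∧ (∀ l, l ≠ n → v' l = 4 * v n * s * v l) ∧
      v' n = δ * (1 - 4 * v n * s * (1 - δ * v n)) := by
    rintro _ ⟨y, hy, hyb, rfl⟩ n s hs
    obtain ⟨hs0, hss, hsd⟩ := mem_shiftSet.1 hs
    obtain ⟨σ, rfl⟩ := hss
    obtain ⟨ρ, hρ⟩ := hsd
    obtain ⟨hn0, hV, hd⟩ := hyb n
    obtain ⟨η, hη⟩ := hδsq y hy hyb n
    have hη0 : η ≠ 0 := fun h => div_ne_zero (mul_ne_zero hδ0 hV) hC (by rw [hη, h, mul_zero])
    obtain ⟨p, hp, hqp, hyp⟩ := P.perp_line (Decomp.comp_mem P.decomp n y) hV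
    obtain ⟨ζ, hζ⟩ := hd p hp hqp (by rw [P.polar_cmp y hp, hyp])
    set e₁ := η⁻¹ • P.cmp n y with he₁
    set e₂ := ζ • p with he₂
    have hq1 : q e₁ = δ * C := by
      rw [he₁, QuadraticMap.map_smul, smul_eq_mul]
      rw [div_eq_iff hC] at hη
      field_simp
      linear_combination δ * hη - q (P.cmp n y) * hδ1
    have hq2 : q e₂ = C := by rw [he₂, QuadraticMap.map_smul, ← hζ, smul_eq_mul, div_mul_cancel₀ _ hqp]
    have h12 : polar q e₁ e₂ = 0 := by rw [he₁, he₂, polar_smul_left, polar_smul_right, hyp, smul_zero, smul_zero]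
    set a := σ • e₁ + ρ • e₂ with ha
    have haD : a ∈ D n := (D n).add_mem ((D n).smul_mem _ ((D n).smul_mem _ (Decomp.comp_mem P.decomp n y)))
      ((D n).smul_mem _ ((D n).smul_mem _ hp))
    have hqa : q a = C := by
      rw [ha, QuadraticMap.map_add ⇑q, QuadraticMap.map_smul q σ e₁, QuadraticMap.map_smul q ρ e₂, hq1, hq2,
        polar_smul_left,
        polar_smul_right, h12]
      simp only [smul_eq_mul, mul_zero, add_zero]
      linear_combination -C * hρ
    have hB : polar q a y = 2 * σ * δ * η * C := by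
      rw [polar_comm, P.polar_cmp y haD, ha, he₁, he₂]
      simp only [polar_add_right, polar_smul_right, hyp, polar_self', smul_eq_mul, mul_zero, add_zero]
      rw [div_eq_iff hC] at hη
      field_simp
      linear_combination σ * δ * hη - σ * q (P.cmp n y) * hδ1
    set β := 2 * σ * δ * η with hβ
    have hβ0 : β ≠ 0 := mul_ne_zero (mul_ne_zero (mul_ne_zero h2 (left_ne_zero_of_mul hs0)) hδ0) hη0
    set z := app (refl q y) a with hz
    have hzc : z = a - β • y := by
      rw [hz, app_refl, hy.1, hB, mul_comm (2 * σ * δ * η) C, inv_mul_cancel_left₀ hC]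
    have hzC : z ∈ Cls D M C := P.toBase.cls_refl hle hC (P.toBase.block_mem_cls hle hC haD hqa) hy
    have hcl : ∀ l, l ≠ n → P.cmp l z = -(β • P.cmp l y) := fun l hl => by
      rw [hzc, map_sub, map_smul, P.toBase.cmp_ne hl haD, zero_sub]
    have hz3 : ∃ i l m : Fin t, i ≠ l ∧ i ≠ m ∧ l ≠ m ∧ P.cmp i z ≠ 0 ∧ P.cmp l z ≠ 0 ∧ P.cmp m z ≠ 0 := by
      obtain ⟨i, l, m, h1, h3, h4, h5, h6, h8⟩ := three n
      exact ⟨i, l, m, h1, h3, h4, by rw [hcl i h5]; exact neg_ne_zero.2 (smul_ne_zero hβ0 (hyb i).1),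
        by rw [hcl l h6]; exact neg_ne_zero.2 (smul_ne_zero hβ0 (hyb l).1),
        by rw [hcl m h8]; exact neg_ne_zero.2 (smul_ne_zero hβ0 (hyb m).1)⟩
    refine ⟨_, ⟨z, hzC, hbadall z hzC hz3, rfl⟩, fun l hl => ?_, ?_⟩
    · dsimp only
      rw [hcl l hl, QuadraticMap.map_neg, QuadraticMap.map_smul, smul_eq_mul, hη, hβ]
      field_simp
      linear_combination (4 * σ ^ 2 * q (P.cmp l y)) * hδ1
    · dsimp only
      rw [hzc, map_sub, map_smul, P.toBase.cmp_self haD, sub_eq_add_neg a, QuadraticMap.map_add ⇑q,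
        QuadraticMap.map_neg, QuadraticMap.map_smul, polar_neg_right, polar_smul_right,
        ← P.polar_cmp' y haD, hB, hqa, smul_eq_mul, smul_eq_mul, hη, hβ]
      rw [div_eq_iff hC] at hη
      field_simp
      linear_combination (4 * σ ^ 2 * η ^ 2 * δ) * hη - (4 * σ ^ 2 * η ^ 2 * C) * hδ1
  have hclosed : Closed δ B := by
    refine ⟨?_, fun v hv n s hs => ?_, fun v hv n s hs => ?_⟩
    · rintro _ ⟨y, hy, hyb, rfl⟩ l
      exact ⟨div_ne_zero (mul_ne_zero hδ0 (hyb l).2.1) hC, hδsq y hy hyb l⟩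
    · obtain ⟨_, ⟨z, hz, hzb, rfl⟩, -, e⟩ := hmove v hv n s hs
      rw [← e]
      exact ⟨div_ne_zero (mul_ne_zero hδ0 (hzb n).2.1) hC, hδsq z hz hzb n⟩
    · obtain ⟨v', hv', e, -⟩ := hmove v hv n s hs
      exact ⟨v', hv', e⟩
  have hx0 : B fun r => δ * q (P.cmp r x) / C := ⟨x, hx, hbad, rfl⟩
  rcases hδ with ⟨rfl, -⟩ | ⟨rfl, hq7⟩
  · refine hclosed.false_plus h1 (by omega) ?_ hx0
    by_contra hlt
    have h5 : Fintype.card F = 5 ∨ Fintype.card F = 6 := by omega
    have := four_card_plus h1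
    omega
  rcases Nat.lt_or_ge 7 (Fintype.card F) with h8 | h8
  · exact hclosed.false_minus h1 (by omega) h8 hx0
  have hF7 : Fintype.card F = 7 := by omega
  have h70 : (7 : F) = 0 := by
    have := FiniteField.cast_card_eq_zero F
    rw [hF7] at this
    exact_mod_cast this
  have htwo := hclosed.seven h1 (by omega) hF7 hx0
  -- a vector changed in two blocks
  let i : Fin t := ⟨0, by omega⟩
  let l : Fin t := ⟨1, by omega⟩
  have hil : i ≠ l := by simp [i, l, Fin.ext_iff]
  have hblock : ∀ n, ∃ a ∈ D n, q a = 3 * C ∧ polar q x a ^ 2 = C ^ 2 := by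
    intro n
    obtain ⟨-, hV, hd⟩ := hbad n
    obtain ⟨η, hη⟩ := hδsq x hx hbad n
    have hη0 : η ≠ 0 := fun h => div_ne_zero (mul_ne_zero hδ0 hV) hC (by rw [hη, h, mul_zero])
    obtain ⟨p, hp, hqp, hyp⟩ := P.perp_line (Decomp.comp_mem P.decomp n x) hV
    obtain ⟨ζ, hζ⟩ := hd p hp hqp (by rw [P.polar_cmp x hp, hyp])
    have hη2 : η * η = 2 := by rw [← hη]; exact htwo n
    rw [div_eq_iff hC] at hη
    have hn : η⁻¹ • P.cmp n x + (2 * ζ) • p ∈ D n :=
      (D n).add_mem ((D n).smul_mem _ (Decomp.comp_mem P.decomp n x)) ((D n).smul_mem _ hp)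
    refine ⟨_, hn, ?_, ?_⟩
    · rw [div_eq_iff hqp] at hζ
      rw [QuadraticMap.map_add ⇑q, QuadraticMap.map_smul, QuadraticMap.map_smul, polar_smul_left, polar_smul_right,
        hyp]
      simp only [smul_eq_mul, mul_zero, add_zero]
      field_simp
      linear_combination -hη + (-4 * η ^ 2) * hζ
    · rw [P.polar_cmp x hn]
      simp only [polar_add_right, polar_smul_right, hyp, polar_self', smul_eq_mul, mul_zero, add_zero]
      field_simp
      linear_combination (4 * q (P.cmp n x) - 4 * C * η ^ 2) * (-hη) + C ^ 2 * η ^ 2 * (4 * hη2 + h70)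
  obtain ⟨a, ha, hqa, hBa⟩ := hblock i
  obtain ⟨b, hb, hqb, hBb⟩ := hblock l
  have h30 : (3 : F) ≠ 0 := fun h => one_ne_zero (α := F) (by linear_combination h70 - 2 * h)
  have hqa0 : q a ≠ 0 := by rw [hqa]; exact mul_ne_zero h30 hC
  have hqb0 : q b ≠ 0 := by rw [hqb]; exact mul_ne_zero h30 hC
  set x' := app (refl q a) (app (refl q b) x) with hx'
  have hx'C : x' ∈ Cls D M C := P.cls_refl_pair hle hC hx ha hb hqa0 hqb0 (by
    rw [hqa, hqb, div_self (mul_ne_zero h30 hC)]; exact IsSquare.one)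
  have hab : polar q a b = 0 := P.orth i l hil a ha b hb
  have hxe : x' = x - ((q b)⁻¹ * polar q x b) • b - ((q a)⁻¹ * polar q x a) • a := by
    rw [hx', app_refl b x, app_refl a _, polar_sub_left, polar_smul_left, polar_comm (f := ⇑q) b a, hab, smul_zero,
      sub_zero]
  have hγ : polar q x x' = -C := by
    rw [hxe, polar_sub_right, polar_sub_right, polar_smul_right, polar_smul_right, polar_self', hx.1, hqa, hqb]
    simp only [smul_eq_mul]
    field_simp
    linear_combination -hBa - hBb + C ^ 2 * h70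
  set z := app (refl q x') x with hz
  have hzC : z ∈ Cls D M C := P.toBase.cls_refl hle hC hx hx'C
  have hze : z = x + x' := by
    rw [hz, app_refl, hx'C.1, hγ, mul_neg, inv_mul_cancel₀ hC, neg_one_smul, sub_neg_eq_add]
  have hcl : ∀ n, n ≠ i → n ≠ l → P.cmp n z = (2 : F) • P.cmp n x := fun n hni hnl => by
    rw [hze, hxe, map_add, map_sub, map_sub, map_smul, map_smul, P.toBase.cmp_ne hni ha, P.toBase.cmp_ne hnl hb,
      smul_zero, smul_zero, sub_zero, sub_zero, two_smul]
  let m : Fin t := ⟨2, by omega⟩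
  let n : Fin t := ⟨3, by omega⟩
  let r : Fin t := ⟨4, by omega⟩
  have hz3 : ∃ i l m : Fin t, i ≠ l ∧ i ≠ m ∧ l ≠ m ∧ P.cmp i z ≠ 0 ∧ P.cmp l z ≠ 0 ∧ P.cmp m z ≠ 0 :=
    ⟨m, n, r, by simp [m, n, Fin.ext_iff], by simp [m, r, Fin.ext_iff], by simp [n, r, Fin.ext_iff],
      by rw [hcl m (by simp [m, i, Fin.ext_iff]) (by simp [m, l, Fin.ext_iff])]; exact smul_ne_zero h2 (hbad m).1,
      by rw [hcl n (by simp [n, i, Fin.ext_iff]) (by simp [n, l, Fin.ext_iff])]; exact smul_ne_zero h2 (hbad n).1,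
      by rw [hcl r (by simp [r, i, Fin.ext_iff]) (by simp [r, l, Fin.ext_iff])]; exact smul_ne_zero h2 (hbad r).1⟩
  have hzB : B fun r => -1 * q (P.cmp r z) / C := ⟨z, hzC, hbadall z hzC hz3, rfl⟩
  refine hclosed.not_mem_minus h1 hzB m ?_
  have hval : -1 * q (P.cmp m z) / C = 1 := by
    rw [hcl m (by simp [m, i, Fin.ext_iff]) (by simp [m, l, Fin.ext_iff]), QuadraticMap.map_smul, smul_eq_mul]
    have hm2 := htwo m
    field_simp at hm2 ⊢
    linear_combination 4 * hm2 + C * h70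
  rw [hval]
  exact mem_shiftSet.2 ⟨one_ne_zero, IsSquare.one, ⟨3, by linear_combination -h70⟩⟩

/-- A member with several components gives a root element. -/
theorem PDec.root {x : ι → F} (hx : x ∈ Cls D M C) (hout : ∀ i, x ∉ D i) : P.Root M := by
  classical
  obtain ⟨i, hi⟩ : ∃ i, P.cmp i x ≠ 0 := by
    by_contra h
    push Not at h
    have := hx.1
    rw [P.toBase.q_sum, Finset.sum_eq_zero fun n _ => by rw [h n, QuadraticMap.map_zero]] at this
    exact hC this.symm
  obtain ⟨l, hli, hl⟩ : ∃ l, l ≠ i ∧ P.cmp l x ≠ 0 := by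
    by_contra h
    push Not at h
    exact hout i (Decomp.mem_of_comp_eq_zero P.decomp h)
  by_cases h3 : ∃ m, m ≠ i ∧ m ≠ l ∧ P.cmp m x ≠ 0
  · obtain ⟨m, hmi, hml, hm⟩ := h3
    exact P.wide_root hle hC hx ⟨i, l, m, Ne.symm hli, Ne.symm hmi, Ne.symm hml, hi, hl, hm⟩
  push Not at h3
  -- two components
  by_cases hVl : q (P.cmp l x) = 0
  · have hF : 5 ≤ Fintype.card F := by
      rcases P.ok with ⟨hm, -⟩ | ⟨-, h7⟩
      · exact absurd (hm l _ (Decomp.comp_mem P.decomp l x) hVl) hl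
      · omega
    exact P.singular_root hle hC hF hx (Ne.symm hli) hi hl hVl
  set V := q (P.cmp l x) with hV
  have hsum : q (P.cmp i x) + V = C := by
    rw [← hx.1, P.toBase.q_sum x, Finset.sum_eq_add i l (Ne.symm hli) (fun n _ hn => by
      rw [h3 n hn.1 hn.2, QuadraticMap.map_zero]) (by simp) (by simp)]
  obtain ⟨S, hS, hS2, hS1⟩ := P.ratio_set (Decomp.comp_mem P.decomp l x) hVl
  obtain ⟨c, hc1, hc2, hcase⟩ : ∃ c, c ≠ 2 * V ∧ c ≠ 2 * V - C ∧ (c = 0 ∨ c ∈ S) := by
    by_contra hcon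
    push Not at hcon
    have hsub : insert 0 S ⊆ ({2 * V, 2 * V - C} : Finset F) := fun c hc => by
      simp only [Finset.mem_insert, Finset.mem_singleton] at hc ⊢
      by_contra h
      push Not at h
      have h' := hcon c h.1 h.2
      rcases hc with hc | hc
      · exact h'.1 hc
      · exact h'.2 hc
    have h0 : (0 : F) ∉ S := fun h => (hS 0 h).1 rfl
    have := (Finset.card_le_card hsub).trans Finset.card_le_two
    rw [Finset.card_insert_of_notMem h0] at this
    have h1 : 1 < Fintype.card F := Fintype.one_lt_card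
    have hS' : S.card ≤ 1 := by omega
    by_cases h2 : (2 : F) = 0
    · obtain ⟨e1, e2⟩ := hS2 h2
      rcases P.ok with ⟨hm, -⟩ | ⟨-, h7⟩
      · have h2' := e2 (hm l)
        -- only the field with two elements is left
        have hone : ∀ z : F, z ≠ 0 → z = 1 := by
          intro z hz
          by_contra hz1
          have h3' : Finset.card ({0, 1, z} : Finset F) = 3 := by
            rw [Finset.card_insert_of_notMem (by simp [Ne.symm hz]), Finset.card_pair (Ne.symm hz1)]
          have := Finset.card_le_univ ({0, 1, z} : Finset F)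
          omega
        have hVi : q (P.cmp i x) ≠ 0 := fun h => hi (hm i _ (Decomp.comp_mem P.decomp i x) h)
        rw [hone _ hVi, hone _ hVl, one_add_one_eq_two, h2] at hsum
        exact hC hsum.symm
      · omega
    · obtain ⟨e1, e2⟩ := hS1 h2
      have := P.four_le h2
      rcases P.ok with ⟨hm, -⟩ | ⟨-, h7⟩
      · have := e2 (hm l); omega
      · omega
  have h7 := P.five_le
  obtain ⟨m, hm⟩ := P.exists_ne {i, l} (by have := Finset.card_le_two (a := i) (b := l); omega)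
  obtain ⟨r, hr⟩ := P.exists_ne {i, l, m} (by
    have := Finset.card_le_three (a := i) (b := l) (c := m); omega)
  simp only [Finset.mem_insert, Finset.mem_singleton, not_or] at hm hr
  obtain ⟨hmi, hml⟩ := hm
  obtain ⟨hri, hrl, hrm⟩ := hr
  obtain ⟨w, hw, hwmap, hwfix⟩ := P.toBase.exists_move i m r
  set vi := P.cmp i x with hvi
  set vl := P.cmp l x with hvl
  have hviD : vi ∈ D i := Decomp.comp_mem P.decomp i x
  have hvlD : vl ∈ D l := Decomp.comp_mem P.decomp l x
  have hxs : x = vi + vl := by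
    refine Decomp.eq_of_comp P.decomp fun n => ?_
    show P.cmp n x = P.cmp n (vi + vl)
    rw [map_add]
    by_cases hn : n = i
    · subst hn; rw [P.toBase.cmp_self hviD, P.toBase.cmp_ne (Ne.symm hli) hvlD, add_zero]
    by_cases hn' : n = l
    · subst hn'; rw [P.toBase.cmp_ne hn hviD, P.toBase.cmp_self hvlD, zero_add]
    · rw [P.toBase.cmp_ne hn hviD, P.toBase.cmp_ne hn' hvlD, add_zero, h3 n hn hn']
  have hwvi : app w vi ∈ D m := by
    have := hwmap i vi hviD
    rwa [Equiv.swap_apply_left] at this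
  have hx1 : app w x = app w vi + vl := by
    rw [hxs, map_add, hwfix l hli (Ne.symm hml) (Ne.symm hrl) vl hvlD]
  have hx1C := P.toBase.cls_app_H hle hC hw hx
  rw [hx1] at hx1C
  obtain ⟨y, hyC, hye, hyl⟩ : ∃ vl' ∈ D l, app w vi + vl' ∈ Cls D M C ∧ polar q vl vl' = 2 * V - c ∧
      vl - ((2 * V - c) / C) • vl' ≠ 0 := by
    rcases hcase with rfl | hc
    · refine ⟨vl, hvlD, hx1C, by rw [polar_self', sub_zero], ?_⟩
      rw [← one_smul F vl, smul_smul, mul_one, ← sub_smul]
      refine smul_ne_zero ?_ hl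
      intro h
      apply hc2
      field_simp at h
      linear_combination h
    · obtain ⟨hc0, -, a, ha, hout', hqa, hBc⟩ := hS c hc
      obtain ⟨d, hd, hqd⟩ := P.toBase.exists_value r (c := q a) hqa
      have hfix : polar q (app w vi + vl) d = 0 := by
        rw [polar_add_left, P.orth m r (Ne.symm hrm) _ hwvi d hd, P.orth l r (Ne.symm hrl) _ hvlD d hd, add_zero]
      have hya := P.cls_refl_comp hle hC hx1C ha hd hqa (by rwa [hqd]) (by rw [hqd, div_self hqa]; exact IsSquare.one)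
        hfix
      rw [map_add, app_refl_of_ortho (P.orth m l hml _ hwvi a ha)] at hya
      refine ⟨app (refl q a) vl, (P.toBase.refl_block ha).1 l vl hvlD, hya, ?_, ?_⟩
      · rw [app_refl, polar_sub_right, polar_smul_right, polar_self', smul_eq_mul, mul_assoc, ← pow_two, hBc]
        field_simp
        ring
      · rw [app_refl]
        intro h
        refine hout' ?_
        have hB0 : polar q vl a ≠ 0 := fun h0 => hc0 (by
          rw [h0, zero_pow two_ne_zero] at hBc; exact (mul_eq_zero.1 hBc.symm).resolve_right hqa)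
        set γ := (2 * V - c) / C
        set κ := (q a)⁻¹ * polar q vl a
        have hγ : γ ≠ 0 := div_ne_zero (sub_ne_zero.2 (Ne.symm hc1)) hC
        have hκ : γ * κ ≠ 0 := mul_ne_zero hγ (mul_ne_zero (inv_ne_zero hqa) hB0)
        refine Submodule.mem_span_singleton.2 ⟨(γ * κ)⁻¹ * (γ - 1), ?_⟩
        have h' : (γ - 1) • vl = (γ * κ) • a := by rw [← sub_eq_zero, ← neg_eq_zero, ← h]; module
        rw [mul_smul, h', inv_smul_smul₀ hκ]
  set γ := (2 * V - c) / C with hγd
  have hγ0 : γ ≠ 0 := div_ne_zero (sub_ne_zero.2 (Ne.symm hc1)) hC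
  have hB : polar q x (app w vi + y) = 2 * V - c := by
    rw [hxs, polar_add_left, polar_add_right, polar_add_right, P.orth i m (Ne.symm hmi) _ hviD _ hwvi,
      P.orth i l (Ne.symm hli) _ hviD _ hyC, P.orth l m (Ne.symm hml) _ hvlD _ hwvi, hyl.1]
    ring
  have hz := P.toBase.cls_refl hle hC hx hye
  rw [app_refl, hye.1, hB, ← div_eq_inv_mul, ← hγd] at hz
  refine P.wide_root hle hC hz ⟨i, m, l, Ne.symm hmi, Ne.symm hli, hml, ?_, ?_, ?_⟩
  · rw [map_sub, map_smul, map_add, P.toBase.cmp_ne (Ne.symm hmi) hwvi, P.toBase.cmp_ne (Ne.symm hli) hyC]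
    simpa using hi
  · rw [map_sub, map_smul, map_add, P.toBase.cmp_self hwvi, P.toBase.cmp_ne hml hyC, hxs, map_add,
      P.toBase.cmp_ne hmi hviD, P.toBase.cmp_ne hml hvlD]
    simp only [add_zero, zero_sub, ne_eq, neg_eq_zero]
    exact smul_ne_zero hγ0 fun h => hi (app_injective w (by rw [h, map_zero]))
  · rw [map_sub, map_smul, map_add, P.toBase.cmp_ne (Ne.symm hml) hwvi, P.toBase.cmp_self hyC, zero_add]
    exact hyl.2

end CfsgLib.GeomClasses.OrthDecomp
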