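import Cfsg.Agent.Lib.GeomClasses.SympRing

/-!
A transvection with irrational centre in an overgroup of a symplectic subfield group gives a new root
coefficient.
-/

set_option autoImplicit false
set_option linter.unusedSectionVars false

namespace CfsgLib.GeomClasses.SympRoot

open Matrix

/-- A transfer criterion: a self-normalizing abelian p-subgroup with two special elements is everything. -/
theorem eq_top_of_pair {G : Type*} [Group G] [Finite G] {p : ℕ} [Fact p.Prime] (P : Subgroup G)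
    (hp : IsPGroup p P) (hcomm : ∀ a ∈ P, ∀ b ∈ P, a * b = b * a) (hN : ∀ g ∈ Subgroup.normalizer (P : Set G), g ∈ P)
    (x y : G) (hC2 : ∀ k, k * (x * y) = x * y * k → k ∈ P)
    (hkey : ∀ k k', x * (k * y * k⁻¹) = k' * (x * y) * k'⁻¹ → k ∈ P) : P = ⊤ := by
  obtain ⟨n, hn⟩ := IsPGroup.iff_card.1 hp
  have hle : Subgroup.normalizer (P : Set G) ≤ P := hN
  have hidx : ¬ p ∣ P.index := by
    rintro ⟨e, he⟩
    have h1 : p ^ (n + 1) ∣ Nat.card G := ⟨e, by rw [← P.card_mul_index, hn, he]; ring⟩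
    have h2 := (Sylow.prime_pow_dvd_card_normalizer h1 hn).trans (Subgroup.card_dvd_of_le hle)
    rw [hn] at h2
    exact absurd (Nat.le_of_dvd (pow_pos (Fact.out : p.Prime).pos n) h2)
      (not_le.2 (Nat.pow_lt_pow_right (Fact.out : p.Prime).one_lt n.lt_succ_self))
  have hsy : ((hp.toSylow hidx : Sylow p G) : Subgroup G) = P := IsPGroup.toSylow_coe hp hidx
  have hNC : Subgroup.normalizer ((hp.toSylow hidx : Sylow p G) : Set G) ≤
      Subgroup.centralizer ((hp.toSylow hidx : Sylow p G) : Set G) := by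
    intro g hg h hh
    exact hcomm h hh g (hN g hg)
  set K := (MonoidHom.transferSylow (hp.toSylow hidx) hNC).ker with hK
  have hnorm : K.Normal := MonoidHom.normal_ker _
  have hcompl : K.IsComplement' P := MonoidHom.ker_transferSylow_isComplement' (hp.toSylow hidx) hNC
  have hinter : ∀ k ∈ K, k ∈ P → k = 1 := fun k hk hk' => by
    have := hcompl.disjoint.le_bot (show k ∈ K ⊓ P from ⟨hk, hk'⟩)
    exact Subgroup.mem_bot.1 this
  have hsurj : ∀ y : G, (∀ k, k * y = y * k → k ∈ P) → ∀ k ∈ K, ∃ k' ∈ K, y⁻¹ * k' * y * k'⁻¹ = k := by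
    intro y hy k hk
    let φ : K → K := fun z => ⟨y⁻¹ * z.1 * y * z.1⁻¹,
      K.mul_mem (by simpa using hnorm.conj_mem z.1 z.2 y⁻¹) (K.inv_mem z.2)⟩
    have hinj : Function.Injective φ := by
      intro a b hab
      have h1 : y⁻¹ * a.1 * y * a.1⁻¹ = y⁻¹ * b.1 * y * b.1⁻¹ := congrArg Subtype.val hab
      have h2 : (b.1⁻¹ * a.1) * y = y * (b.1⁻¹ * a.1) := by
        have h3 : a.1 * y * a.1⁻¹ = b.1 * y * b.1⁻¹ := by
          have := congrArg (fun t => y * t) h1
          simpa [mul_assoc] using this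
        have := congrArg (fun t => b.1⁻¹ * t * a.1) h3
        simpa [mul_assoc] using this
      exact Subtype.ext ((inv_mul_eq_one.1 (hinter _ (K.mul_mem (K.inv_mem b.2) a.2) (hy _ h2))).symm)
    obtain ⟨z, hz⟩ := Finite.surjective_of_injective hinj ⟨k, hk⟩
    exact ⟨z.1, z.2, congrArg Subtype.val hz⟩
  have hKbot : ∀ k ∈ K, k = 1 := by
    intro k hk
    obtain ⟨k', -, hk'⟩ := hsurj (x * y) hC2 (y⁻¹ * k * y * k⁻¹)
      (K.mul_mem (by simpa using hnorm.conj_mem k hk y⁻¹) (K.inv_mem hk))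
    refine hinter k hk (hkey k k' ?_)
    have := congrArg (fun t => x * y * t) hk'
    simpa [mul_assoc] using this.symm
  have hKeq : K = ⊥ := (Subgroup.eq_bot_iff_forall K).2 hKbot
  rw [hKeq] at hcompl
  exact Subgroup.isComplement'_bot_left.1 hcompl

/-- The case of one special element and its square. -/
theorem eq_top_of_selfNormalizing {G : Type*} [Group G] [Finite G] {p : ℕ} [Fact p.Prime] (P : Subgroup G)
    (hp : IsPGroup p P) (hcomm : ∀ a ∈ P, ∀ b ∈ P, a * b = b * a) (hN : ∀ g ∈ Subgroup.normalizer (P : Set G), g ∈ P)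
    (x : G) (_hC : ∀ k, k * x = x * k → k ∈ P) (hC2 : ∀ k, k * (x * x) = x * x * k → k ∈ P)
    (hkey : ∀ k k', x * (k * x * k⁻¹) = k' * (x * x) * k'⁻¹ → k ∈ P) : P = ⊤ :=
  eq_top_of_pair P hp hcomm hN x x hC2 hkey

variable {ι : Type} [Fintype ι] [DecidableEq ι] {F : Type*} [Field F] [Fintype F]
  {f : (ι → F) → (ι → F) → F} {F₀ : Subfield F} {M : Subgroup (GL ι F)}

theorem rv_of_values (S : Setting f F₀ M) {x : ι → F} (h : ∀ i, f x (Pi.single i 1) ∈ F₀) : Rv F₀ x := by
  let up : (ι → F₀) → ι → F := fun y i => (y i : F)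
  have hup : ∀ y, Rv F₀ (up y) := fun y i => (y i).2
  let A : (ι → F₀) → (ι → F₀) := fun y i => ⟨f (up y) (Pi.single i 1), S.rat _ _ (hup y) (Rv.single i)⟩
  have hinj : Function.Injective A := by
    intro y y' he
    have := eq_zero_of_single S.symp (x := up y - up y') fun i => by
      rw [Symp.sub_left S.symp, sub_eq_zero]; exact congrArg Subtype.val (congrFun he i)
    funext i
    exact Subtype.ext (congrFun (sub_eq_zero.1 this) i)
  obtain ⟨y, hy⟩ := Finite.surjective_of_injective hinj fun i => ⟨_, h i⟩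
  rw [← sub_eq_zero.1 (eq_zero_of_single S.symp (x := up y - x) fun i => by
    rw [Symp.sub_left S.symp, sub_eq_zero]; exact congrArg Subtype.val (congrFun hy i))]
  exact hup y

/-- Commuting a root element with a rational transvection. -/
theorem root_rational_part (S : Setting f F₀ M) {u w z : ι → F} (huw : f u w = 0) (hz : Rv F₀ z)
    (huz : f u z = 0) {c : F} (h : root f u w c ∈ M) :
    root f u (f w z • z) (f w z * f w z) ∈ M := by
  have hg := S.mem z hz 1 F₀.one_mem
  have h1 := M.mul_mem (M.mul_mem hg h) (M.inv_mem hg)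
  rw [root_conj S.symp (Symp.formTv_isometry S.symp _ _), Symp.formTv_mulVec S.symp, huz, mul_zero, zero_smul,
    add_zero, Symp.formTv_mulVec S.symp, one_mul] at h1
  have h2 := M.mul_mem (M.inv_mem h) h1
  have h3 : f u (w + f w z • z) = 0 := by
    rw [Symp.add_right S.symp, Symp.smul_right S.symp, huw, huz, mul_zero, add_zero]
  rw [root_inv S.symp huw, root_mul S.symp (by rw [Symp.neg_right S.symp, huw, neg_zero]) h3,
    neg_add_cancel_left, neg_add_cancel, zero_add, Symp.neg_right S.symp, Symp.add_left S.symp,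
    Symp.smul_left S.symp, S.symp.alternating, zero_add, S.symp.skew z w, mul_neg, neg_neg] at h2
  exact h2

theorem short_mem (S : Setting f F₀ M) (hL : ∀ c ∈ longSet f F₀ M, c ∈ F₀) {s : F} (hs : s ∈ shortSet f F₀ M) :
    s ∈ F₀ := hL s (short_le_long S hs)

theorem false_of_killed (S : Setting f F₀ M) (hL : ∀ c ∈ longSet f F₀ M, c ∈ F₀) {v : ι → F}
    (hv : ∀ c : F, ∀ a, Rv F₀ a → v ≠ c • a) {d : F} (hd : d ∈ F₀) (hd0 : d ≠ 0) (h : formTv f v d ∈ M)
    {u : ι → F} (hu : Rv F₀ u) (hu0 : u ≠ 0) (huv : f u v = 0) : False := by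
  obtain ⟨a, ha, hua, hva⟩ := S.exists_orth hu hu0 fun c => hv c u hu
  have hvu : f v u = 0 := by rw [S.symp.skew, huv, neg_zero]
  set l := f v a with hl
  have hh := (S.rat_root hu ha F₀.zero_mem).1
  have h1 := M.mul_mem (M.mul_mem hh h) (M.inv_mem hh)
  rw [Symp.conj_formTv S.symp (root_isometry S.symp _ _ _), root_mulVec S.symp hua, hvu, zero_smul, add_zero,
    mul_zero, zero_smul, add_zero, formTv_add_smul S.symp huv] at h1
  have hR := M.mul_mem (M.inv_mem h) h1
  rw [inv_mul_cancel_left] at hR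
  set w := (d * l) • v with hw
  clear_value w
  have huw : f u w = 0 := by rw [hw, Symp.smul_right S.symp, huv, mul_zero]
  have hk : ∀ z, Rv F₀ z → f u z = 0 → f w z ∈ F₀ := by
    intro z hz huz
    by_cases hzu : ∃ c : F, z = c • u
    · obtain ⟨c, rfl⟩ := hzu
      rw [Symp.smul_right S.symp, S.symp.skew w u, huw, neg_zero, mul_zero]
      exact F₀.zero_mem
    push Not at hzu
    exact short_mem S hL (S.split hu hz hu0 huz hzu (root_rational_part S huw hz huz hR)).2
  have hc : d * l * l ∈ F₀ := by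
    have := hk a ha hua
    rwa [hw, Symp.smul_left S.symp, ← hl] at this
  obtain ⟨p, hp, hup⟩ := S.partner hu hu0
  set μ := f w p with hμ
  clear_value μ
  set a0 := w - μ • u with ha0
  clear_value a0
  have ha0R : Rv F₀ a0 := by
    refine rv_of_values S fun i => ?_
    have h2 := hk (Pi.single i 1 - f u (Pi.single i 1) • p)
      ((Rv.single i).sub (hp.smul (S.rat _ _ hu (Rv.single i))))
      (by rw [Symp.sub_right S.symp, Symp.smul_right S.symp, hup, mul_one, sub_self])
    rw [Symp.sub_right S.symp, Symp.smul_right S.symp] at h2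
    rwa [ha0, Symp.sub_left S.symp, Symp.smul_left S.symp, hμ, mul_comm (f w p)]
  have hdl : d * l ≠ 0 := mul_ne_zero hd0 hva
  have hvw : v = (d * l)⁻¹ • w := by rw [hw, smul_smul, inv_mul_cancel₀ hdl, one_smul]
  have hwa : w = a0 + μ • u := by rw [ha0, sub_add_cancel]
  have hμ' : μ ∉ F₀ := fun hm => hv _ w (hwa ▸ ha0R.add (hu.smul hm)) hvw
  have hua0 : f u a0 = 0 := by
    rw [ha0, Symp.sub_right S.symp, Symp.smul_right S.symp, huw, S.symp.alternating, mul_zero, sub_zero]
  have hk0 : (d * l * l)⁻¹ ≠ 0 := inv_ne_zero (mul_ne_zero hdl hva)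
  have hkF : (d * l * l)⁻¹ ∈ F₀ := F₀.inv_mem hc
  have h3 : formTv f w (d * l * l)⁻¹ ∈ M := by
    rw [hvw, Symp.formTv_smul S.symp] at h
    rwa [show (d * l)⁻¹ * (d * l)⁻¹ * d = (d * l * l)⁻¹ by field_simp] at h
  rw [hwa, formTv_add_smul S.symp hua0] at h3
  have h4 := M.mul_mem (M.inv_mem (S.mem a0 ha0R _ hkF)) h3
  rw [inv_mul_cancel_left] at h4
  have hne : ∀ c : F, a0 ≠ c • u := fun c hc' =>
    hv ((d * l)⁻¹ * (c + μ)) u hu (by rw [mul_smul, add_smul, ← hc', ← hwa, ← hvw])
  have h5 := short_mem S hL (S.split hu ha0R hu0 hua0 hne h4).2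
  have h6 := F₀.div_mem h5 hkF
  rw [mul_div_cancel_left₀ μ hk0] at h6
  exact hμ' h6

theorem char_two_coeff (S : Setting f F₀ M) (hL : ∀ c ∈ longSet f F₀ M, c ∈ F₀) (h2 : (2 : F) = 0)
    {v : ι → F} {d : F} (h : formTv f v d ∈ M) {a b r : ι → F} (ha : Rv F₀ a) (hb : Rv F₀ b) (hr : Rv F₀ r)
    (ha0 : a ≠ 0) (hab : f a b = 0) (har : f a r = 0) (hbr : f b r = 0) (hi : ∀ c : F, b ≠ c • a)
    (hri : r ∉ Submodule.span F {a, b}) : d * f v r * f v a ∈ F₀ := by
  obtain ⟨z, hz, haz, hbz, hrz⟩ := S.exists_orth_pair ha hb ha0 hab hi hri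
  set q := (f r z)⁻¹ • z with hq
  have hqR : Rv F₀ q := hz.smul (F₀.inv_mem (S.rat _ _ hr hz))
  have haq : f a q = 0 := by rw [hq, Symp.smul_right S.symp, haz, mul_zero]
  have hbq : f b q = 0 := by rw [hq, Symp.smul_right S.symp, hbz, mul_zero]
  have hrq : f r q = 1 := by rw [hq, Symp.smul_right S.symp, inv_mul_cancel₀ hrz]
  have hba : f b a = 0 := by rw [S.symp.skew, hab, neg_zero]
  have hra : f r a = 0 := by rw [S.symp.skew, har, neg_zero]
  set D := f v a • b + f v b • a with hD
  have hDa : f D a = 0 := by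
    rw [hD, Symp.add_left S.symp, Symp.smul_left S.symp, Symp.smul_left S.symp, hba, S.symp.alternating]; ring
  have hDq : f D q = 0 := by
    rw [hD, Symp.add_left S.symp, Symp.smul_left S.symp, Symp.smul_left S.symp, haq, hbq]; ring
  have hDr : f D r = 0 := by
    rw [hD, Symp.add_left S.symp, Symp.smul_left S.symp, Symp.smul_left S.symp, har, hbr]; ring
  have hDv : f D v = 0 := by
    rw [hD, Symp.add_left S.symp, Symp.smul_left S.symp, Symp.smul_left S.symp, S.symp.skew b v, S.symp.skew a v]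
    linear_combination (-(f v a * f v b)) * h2
  have hs := (S.rat_root ha hb F₀.zero_mem).1
  have h1 := M.mul_mem (M.mul_mem hs h) (M.inv_mem hs)
  rw [Symp.conj_formTv S.symp (root_isometry S.symp _ _ _), root_mulVec S.symp hab, zero_mul, zero_smul,
    add_zero, add_assoc, ← hD, ← one_smul F D, formTv_add_smul S.symp hDv] at h1
  have hR := M.mul_mem (M.inv_mem h) h1
  rw [inv_mul_cancel_left, mul_one, mul_one] at hR
  have h3 := root_rational_part S (by rw [Symp.smul_right S.symp, hDv, mul_zero]) hr hDr hR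
  rw [Symp.smul_left S.symp] at h3
  set k := d * f v r with hk
  have hg := (S.rat_root ha hqR F₀.zero_mem).1
  have h4 := M.mul_mem (M.mul_mem hg h3) (M.inv_mem hg)
  rw [root_conj S.symp (root_isometry S.symp _ _ _), root_mulVec S.symp haq 0 D, hDa, hDq, mulVec_smul,
    root_mulVec S.symp haq 0 r, hra, hrq] at h4
  simp only [zero_smul, mul_zero, add_zero, one_smul] at h4
  have hDr' : f D (k • r) = 0 := by rw [Symp.smul_right S.symp, hDr, mul_zero]
  have hDra : f D (k • (r + a)) = 0 := by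
    rw [Symp.smul_right S.symp, Symp.add_right S.symp, hDr, hDa, add_zero, mul_zero]
  have h5 := M.mul_mem (M.inv_mem h3) h4
  rw [root_inv S.symp hDr', root_mul S.symp (by rw [Symp.neg_right S.symp, hDr', neg_zero]) hDra,
    smul_add, neg_add_cancel_left, neg_add_cancel, zero_add, Symp.neg_right S.symp, Symp.add_left S.symp] at h5
  simp only [Symp.smul_left S.symp, Symp.smul_right S.symp, S.symp.alternating, har, mul_zero, add_zero,
    neg_zero] at h5
  have heq : root f D (k • a) 0 = root f a ((k * f v a) • b) 0 := by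
    refine gl_ext fun x => ?_
    rw [root_mulVec S.symp (by rw [Symp.smul_right S.symp, hDa, mul_zero]),
      root_mulVec S.symp (by rw [Symp.smul_right S.symp, hab, mul_zero])]
    simp only [hD, Symp.add_right S.symp, Symp.smul_right S.symp]
    match_scalars <;>
      first
      | ring1
      | linear_combination (k * f v b * f x a) * h2
      | linear_combination (-(k * f v b * f x a)) * h2
  rw [heq] at h5
  exact short_mem S hL (S.short_of_one ha hb ha0 hab hi h5)

theorem false_of_injective_even (S : Setting f F₀ M) (hL : ∀ c ∈ longSet f F₀ M, c ∈ F₀) (h2 : (2 : F) = 0)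
    {v : ι → F} (hinj : ∀ u, Rv F₀ u → f u v = 0 → u = 0) {d : F} (hd0 : d ≠ 0) (h : formTv f v d ∈ M) :
    False := by
  obtain ⟨a, b, ha, hb, ha0, hab, hi⟩ := S.exists_pair
  obtain ⟨r, hr, har, hbr, hri⟩ := S.exists_third ha hb ha0 hab hi
  have hne : ∀ x, Rv F₀ x → x ≠ 0 → f v x ≠ 0 := fun x hx hx0 h0 =>
    hx0 (hinj x hx (by rw [S.symp.skew, h0, neg_zero]))
  have hb0 : b ≠ 0 := fun h0 => hi 0 (by rw [h0, zero_smul])
  have hr0 : r ≠ 0 := fun h0 => hri (h0 ▸ Submodule.zero_mem _)
  have e1 := char_two_coeff S hL h2 h ha hb hr ha0 hab har hbr hi hri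
  have hi' : ∀ c : F, a ≠ c • b := by
    intro c hc
    have hc0 : c ≠ 0 := fun h0 => ha0 (by rw [hc, h0, zero_smul])
    exact hi c⁻¹ (by rw [hc, smul_smul, inv_mul_cancel₀ hc0, one_smul])
  have e2 := char_two_coeff S hL h2 h hb ha hr hb0 (by rw [S.symp.skew, hab, neg_zero]) hbr har hi'
    (by rwa [Set.pair_comm])
  have hκ := F₀.div_mem e1 e2
  rw [mul_div_mul_left _ _ (mul_ne_zero hd0 (hne r hr hr0))] at hκ
  have hz := hinj (a - (f v a / f v b) • b) (ha.sub (hb.smul hκ)) (by
    rw [Symp.sub_left S.symp, Symp.smul_left S.symp, S.symp.skew a v, S.symp.skew b v]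
    field_simp [hne b hb hb0]
    ring)
  exact hi' _ (sub_eq_zero.1 hz)

theorem false_of_injective_odd (S : Setting f F₀ M) (hL : ∀ c ∈ longSet f F₀ M, c ∈ F₀) (h2 : (2 : F) ≠ 0)
    {v : ι → F} (hinj : ∀ u, Rv F₀ u → f u v = 0 → u = 0) {d : F} (hd0 : d ≠ 0) (h : formTv f v d ∈ M) :
    False := by
  have hf := S.symp
  obtain ⟨a, b, ha, hb, ha0, hab, hi⟩ := S.exists_pair
  obtain ⟨z, hz, haz, hbz, hzi⟩ := S.exists_third ha hb ha0 hab hi
  set l := f a v with hl
  have hl0 : l ≠ 0 := fun h0 => ha0 (hinj a ha h0)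
  have hva : f v a = -l := hf.skew v a
  -- the orthogonal decomposition along the plane of `a` and `v`
  have hdec : ∀ y, ∃ y0, f y0 a = 0 ∧ f y0 v = 0 ∧ y = y0 + (f y v / l) • a + (f a y / l) • v := by
    intro y
    refine ⟨y - (f y v / l) • a - (f a y / l) • v, ?_, ?_, by abel⟩
    · rw [Symp.sub_left hf, Symp.sub_left hf, Symp.smul_left hf, Symp.smul_left hf, hf.alternating, hva,
        hf.skew y a]
      field_simp
      ring
    · rw [Symp.sub_left hf, Symp.sub_left hf, Symp.smul_left hf, Symp.smul_left hf, hf.alternating, ← hl]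
      field_simp
      ring
  have hplane : ∀ x, (∀ y, f y a = 0 → f y v = 0 → f y x = 0) → x = (f x v / l) • a + (f a x / l) • v := by
    intro x hx
    refine sub_eq_zero.1 (eq_zero_of_single hf fun i => ?_)
    obtain ⟨y0, h1, h3, hy⟩ := hdec (Pi.single i 1)
    have h4 : f x y0 = 0 := by rw [hf.skew, hx y0 h1 h3, neg_zero]
    have h5 : f a y0 = 0 := by rw [hf.skew, h1, neg_zero]
    have h6 : f v y0 = 0 := by rw [hf.skew, h3, neg_zero]
    rw [hy]
    simp only [Symp.sub_left hf, Symp.add_left hf, Symp.smul_left hf, Symp.add_right hf, Symp.smul_right hf,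
      h4, h5, h6, hf.alternating, hva, ← hl, hf.skew x a]
    field_simp
    ring
  let W : Subgroup (GL ι F) :=
    { carrier := {g | ∀ y, f y a = 0 → f y v = 0 → (g : Matrix ι ι F) *ᵥ y = y}
      one_mem' := fun y _ _ => by simp
      mul_mem' := fun {g k} hg hk y h1 h3 => by rw [gl_mul_mulVec, hk y h1 h3, hg y h1 h3]
      inv_mem' := fun {g} hg y h1 h3 => by
        conv_lhs => rw [← hg y h1 h3]
        rw [gl_inv_mulVec_mulVec] }
  set G := M ⊓ W with hG
  have himg : ∀ g ∈ G, ∀ x, f x a = 0 → f x v = 0 → ∀ y, f x ((g : Matrix ι ι F) *ᵥ y) = f x y := by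
    intro g hg x h1 h3 y
    have := S.isometry g hg.1 x y
    rwa [hg.2 x h1 h3] at this
  have hline : ∀ b' c : F, ∀ x : ι → F, c ≠ 0 → formTv f x c = formTv f a b' → ∃ t : F, x = t • a := by
    intro b' c x hc he
    by_cases hx : x = 0
    · exact ⟨0, by rw [hx, zero_smul]⟩
    obtain ⟨y, hy⟩ := (hf.nondegenerate x hx).1
    have h1 : (formTv f x c : Matrix ι ι F) *ᵥ y = (formTv f a b' : Matrix ι ι F) *ᵥ y := by rw [he]
    rw [Symp.formTv_mulVec hf, Symp.formTv_mulVec hf, add_right_inj] at h1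
    have hy' : c * f y x ≠ 0 := mul_ne_zero hc (by first | exact hy | exact Symp.ne_zero_comm hf hy)
    exact ⟨(c * f y x)⁻¹ * (b' * f y a), by rw [mul_smul, ← h1, inv_smul_smul₀ hy']⟩
  have hstab : ∀ g ∈ G, (∃ t : F, (g : Matrix ι ι F) *ᵥ a = t • a) → ∃ x ∈ F₀, g = formTv f a x := by
    rintro g hg ⟨t, ht⟩
    have hcoef : ∀ u, Rv F₀ u → f a u = 0 → (∀ c : F, u ≠ c • a) → f u v / l * (t - 1) ∈ F₀ := by
      intro u hu hau hui
      set e := f u v / l with he
      have hgu : (g : Matrix ι ι F) *ᵥ u = u + (e * (t - 1)) • a := by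
        have h1 : f (u - e • a) a = 0 := by
          rw [Symp.sub_left hf, Symp.smul_left hf, hf.alternating, hf.skew, hau]; ring
        have h3 : f (u - e • a) v = 0 := by
          rw [Symp.sub_left hf, Symp.smul_left hf, ← hl, he, div_mul_cancel₀ _ hl0, sub_self]
        have h4 := hg.2 _ h1 h3
        rw [mulVec_sub, mulVec_smul, ht, sub_eq_iff_eq_add] at h4
        rw [h4, smul_smul]
        module
      have h1 := M.mul_mem (M.mul_mem hg.1 (S.mem u hu 1 F₀.one_mem)) (M.inv_mem hg.1)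
      rw [Symp.conj_formTv hf (S.isometry g hg.1), hgu, formTv_add_smul hf hau, one_mul] at h1
      have h3 := M.mul_mem (M.inv_mem (S.mem u hu 1 F₀.one_mem)) h1
      rw [inv_mul_cancel_left] at h3
      exact short_mem S hL (S.split ha hu ha0 hau hui h3).2
    have ht1 : t = 1 := by
      by_contra hne
      have hb0 : b ≠ 0 := fun h0 => hi 0 (by rw [h0, zero_smul])
      have hbv : f b v ≠ 0 := fun h0 => hb0 (hinj b hb h0)
      have hzn : ∀ c : F, z ≠ c • a := fun c hc =>
        hzi (hc ▸ Submodule.smul_mem _ c (Submodule.subset_span (by simp)))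
      have hκ := F₀.div_mem (hcoef z hz haz hzn) (hcoef b hb hab hi)
      rw [mul_div_mul_right _ _ (sub_ne_zero.2 hne), div_div_div_cancel_right₀ hl0] at hκ
      have h1 := hinj (z - (f z v / f b v) • b) (hz.sub (hb.smul hκ))
        (by rw [Symp.sub_left hf, Symp.smul_left hf, div_mul_cancel₀ _ hbv, sub_self])
      exact hzi (by rw [sub_eq_zero.1 h1]; exact Submodule.smul_mem _ _ (Submodule.subset_span (by simp)))
    rw [ht1, one_smul] at ht
    set X := (g : Matrix ι ι F) *ᵥ v - v with hX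
    have hXp : X = (f X v / l) • a + (f a X / l) • v := hplane X fun y h1 h3 => by
      rw [hX, Symp.sub_right hf, himg g hg y h1 h3, sub_self]
    have haX : f a X = 0 := by
      rw [hX, Symp.sub_right hf]
      have := S.isometry g hg.1 a v
      rw [ht] at this
      rw [this, sub_self]
    rw [haX, zero_div, zero_smul, add_zero] at hXp
    have hgT : g = formTv f a (-(f X v / l) / l) := by
      refine gl_ext fun y => ?_
      obtain ⟨y0, h1, h3, hy⟩ := hdec y
      have hgv : (g : Matrix ι ι F) *ᵥ v = v + (f X v / l) • a := by rw [← hXp, hX]; abel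
      conv_lhs => rw [hy, mulVec_add, mulVec_add, mulVec_smul, mulVec_smul, hg.2 y0 h1 h3, ht, hgv]
      rw [Symp.formTv_mulVec hf, hf.skew y a]
      conv_rhs => arg 1; rw [hy]
      match_scalars <;> field_simp
    exact ⟨_, hL _ (S.long_of_one ha ha0 (hgT ▸ hg.1)), hgT⟩
  let P : Subgroup G :=
    { carrier := {g | ∃ x ∈ F₀, (g : GL ι F) = formTv f a x}
      one_mem' := ⟨0, F₀.zero_mem, by
        refine gl_ext fun y => ?_
        simp [Symp.formTv_mulVec hf]⟩
      mul_mem' := by
        rintro g k ⟨x, hx, e1⟩ ⟨y, hy, e2⟩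
        exact ⟨x + y, F₀.add_mem hx hy, by rw [Subgroup.coe_mul, e1, e2, Symp.formTv_mul hf]⟩
      inv_mem' := by
        rintro g ⟨x, hx, e1⟩
        exact ⟨-x, F₀.neg_mem hx, by rw [Subgroup.coe_inv, e1, Symp.formTv_inv hf]⟩ }
  have hTG : ∀ x ∈ F₀, formTv f a x ∈ G := fun x hx => ⟨S.mem a ha x hx, fun y h1 _ => by
    rw [Symp.formTv_mulVec hf, h1, mul_zero, zero_smul, add_zero]⟩
  let x₁ : G := ⟨formTv f a 1, hTG 1 F₀.one_mem⟩
  have hmemP : ∀ g : G, (∃ t : F, (g.1 : Matrix ι ι F) *ᵥ a = t • a) → g ∈ P := fun g hg => hstab g.1 g.2 hg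
  have hconj : ∀ g : G, ∀ x b' : F, x ≠ 0 → g.1 * formTv f a x * g.1⁻¹ = formTv f a b' → g ∈ P := by
    intro g x b' hx he
    rw [Symp.conj_formTv hf (S.isometry g.1 g.2.1)] at he
    exact hmemP g (hline b' x _ hx he)
  obtain ⟨p, hp⟩ := CharP.exists F
  haveI := hp
  haveI : Fact p.Prime := ⟨CharP.char_is_prime F p⟩
  have hpow : ∀ (x : F) (k : ℕ), formTv f a x ^ k = formTv f a (k * x) := by
    intro x k
    induction k with
    | zero => refine gl_ext fun y => ?_; simp [Symp.formTv_mulVec hf]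
    | succ k ih => rw [pow_succ, ih, Symp.formTv_mul hf]; congr 1; push_cast; ring
  have hPp : IsPGroup p P := by
    intro g
    refine ⟨1, Subtype.ext (Subtype.ext ?_)⟩
    obtain ⟨x, -, hx⟩ := g.2
    rw [pow_one, Subgroup.coe_pow, Subgroup.coe_pow, hx, hpow, CharP.cast_eq_zero, zero_mul]
    exact gl_ext fun y => by simp [Symp.formTv_mulVec hf]
  have htop : P = ⊤ := by
    refine eq_top_of_selfNormalizing P hPp ?_ ?_ x₁ ?_ ?_ ?_
    · rintro g ⟨x, -, e1⟩ k ⟨y, -, e2⟩
      refine Subtype.ext ?_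
      rw [Subgroup.coe_mul, Subgroup.coe_mul, e1, e2, Symp.formTv_mul hf, Symp.formTv_mul hf, add_comm]
    · intro g hg
      obtain ⟨y, -, hy⟩ := (Subgroup.mem_normalizer_iff.1 hg x₁).1 ⟨1, F₀.one_mem, rfl⟩
      exact hconj g 1 y one_ne_zero hy
    · intro k hk
      refine hconj k 1 1 one_ne_zero (mul_inv_eq_iff_eq_mul.2 ?_)
      exact congrArg Subtype.val hk
    · intro k hk
      refine hconj k (1 + 1) (1 + 1) (by rwa [one_add_one_eq_two]) (mul_inv_eq_iff_eq_mul.2 ?_)
      rw [← Symp.formTv_mul hf]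
      exact congrArg Subtype.val hk
    · intro k k' he
      refine hmemP k ?_
      have he' : formTv f a 1 * formTv f ((k.1 : Matrix ι ι F) *ᵥ a) 1 =
          formTv f ((k'.1 : Matrix ι ι F) *ᵥ a) (1 + 1) := by
        have := congrArg Subtype.val he
        simp only [Subgroup.coe_mul, Subgroup.coe_inv, x₁] at this
        rwa [Symp.formTv_mul hf, Symp.conj_formTv hf (S.isometry k.1 k.2.1),
          Symp.conj_formTv hf (S.isometry k'.1 k'.2.1)] at this
      set β := (k.1 : Matrix ι ι F) *ᵥ a with hβ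
      set γ := (k'.1 : Matrix ι ι F) *ᵥ a
      have hval : ∀ y, y + (f y β) • β + (f (y + (f y β) • β) a) • a = y + ((1 + 1) * f y γ) • γ := by
        intro y
        have := congrArg (fun t : GL ι F => (t : Matrix ι ι F) *ᵥ y) he'
        simpa only [gl_mul_mulVec, Symp.formTv_mulVec hf, one_mul] using this
      have h0 : f a β = 0 := by
        by_contra h0
        have e1 := hval β
        rw [hf.alternating, zero_smul, add_zero, add_right_inj] at e1
        have e2 := hval a
        rw [Symp.add_left hf, Symp.smul_left hf, hf.alternating, zero_add, add_assoc, add_right_inj] at e2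
        have h0' : f β a ≠ 0 := Symp.ne_zero_comm hf h0
        have e3 : f γ a = 0 := by
          have := congrArg (fun t => f t a) e1
          simp only [Symp.smul_left hf, hf.alternating, mul_zero] at this
          rcases mul_eq_zero.1 this.symm with h7 | h7
          · exfalso
            rw [h7, zero_smul] at e1
            exact ha0 ((smul_eq_zero.1 e1).resolve_left h0')
          · exact h7
        have e4 := congrArg (fun t => f t a) e2
        simp only [Symp.add_left hf, Symp.smul_left hf, hf.alternating, mul_zero, add_zero, e3] at e4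
        exact mul_ne_zero h0 h0' e4
      have hβp : β = (f β v / l) • a + (f a β / l) • v := hplane β fun y h1 h3 => by
        rw [hβ, himg k.1 k.2 y h1 h3]; exact h1
      exact ⟨f β v / l, by rwa [h0, zero_div, zero_smul, add_zero] at hβp⟩
  have hvG : formTv f v d ∈ G := ⟨h, fun y _ h3 => by
    rw [Symp.formTv_mulVec hf, h3, mul_zero, zero_smul, add_zero]⟩
  obtain ⟨x, -, hx⟩ : (⟨_, hvG⟩ : G) ∈ P := htop ▸ Subgroup.mem_top _
  have := congrArg (fun t : GL ι F => (t : Matrix ι ι F) *ᵥ a) hx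
  simp only [Symp.formTv_mulVec hf, hf.alternating, mul_zero, zero_smul, add_zero, add_eq_left] at this
  rcases smul_eq_zero.1 this with h7 | h7
  · exact mul_ne_zero hd0 hl0 h7
  · exact hl0 (by rw [hl, h7, Symp.zero_right hf])

/-- A transvection in `M` with irrational centre and rational coefficient gives a new root coefficient. -/
theorem exists_new (S : Setting f F₀ M) {v : ι → F} (hv : ∀ c : F, ∀ a, Rv F₀ a → v ≠ c • a) {d : F}
    (hd : d ∈ F₀) (hd0 : d ≠ 0) (h : formTv f v d ∈ M) : ∃ c ∈ longSet f F₀ M, c ∉ F₀ := by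
  by_contra hc
  push Not at hc
  by_cases hk : ∃ u, Rv F₀ u ∧ u ≠ 0 ∧ f u v = 0
  · obtain ⟨u, hu, hu0, huv⟩ := hk
    exact false_of_killed S hc hv hd hd0 h hu hu0 huv
  push Not at hk
  have hinj : ∀ u, Rv F₀ u → f u v = 0 → u = 0 := fun u hu h0 => by_contra fun hne => hk u hu hne h0
  by_cases h2 : (2 : F) = 0
  · exact false_of_injective_even S hc h2 hinj hd0 h
  · exact false_of_injective_odd S hc h2 hinj hd0 h

end CfsgLib.GeomClasses.SympRoot
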