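import Cfsg.Agent.Lib.GeomClasses.OrthEich
import Cfsg.Agent.Lib.GeomClasses.SympIrrational

/-!
The special linear group of degree two acting on a hyperbolic frame of four vectors, and a transfer argument
there.
-/

set_option autoImplicit false
set_option linter.unusedSectionVars false

namespace CfsgLib.GeomClasses.OrthSLTwo

open Matrix QuadraticMap CfsgLib.Orth

variable {ι : Type} [Fintype ι] [DecidableEq ι] {F : Type*} [Field F]
  {q : QuadraticForm F (ι → F)}

/-- Two hyperbolic pairs `(u, v)` and `(w, x)` orthogonal to each other. -/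
structure Frame (q : QuadraticForm F (ι → F)) (u w v x : ι → F) : Prop where
  qu : q u = 0
  qw : q w = 0
  qv : q v = 0
  qx : q x = 0
  uw : polar q u w = 0
  vx : polar q v x = 0
  ux : polar q u x = 0
  wv : polar q w v = 0
  uv : polar q u v = 1
  wx : polar q w x = 1

theorem Frame.swap {u w v x : ι → F} (R : Frame q u w v x) : Frame q w u x v where
  qu := R.qw
  qw := R.qu
  qv := R.qx
  qx := R.qv
  uw := by rw [polar_comm, R.uw]
  vx := by rw [polar_comm, R.vx]
  ux := R.wv
  wv := R.ux
  uv := R.wx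
  wx := R.uv

/-- The linear map of a two by two matrix. -/
def fLin (q : QuadraticForm F (ι → F)) (u w v x : ι → F) (A : Matrix (Fin 2) (Fin 2) F) :
    (ι → F) →ₗ[F] (ι → F) where
  toFun y := y + polar q y v • ((A 0 0 - 1) • u + (-A 1 0) • x) + polar q y x • ((A 0 0 - 1) • w + A 1 0 • v)
    + polar q y u • (A 0 1 • w + (A 1 1 - 1) • v) + polar q y w • ((-A 0 1) • u + (A 1 1 - 1) • x)
  map_add' a b := by simp only [polar_add_left]; module
  map_smul' c a := by simp only [polar_smul_left, smul_eq_mul, RingHom.id_apply]; module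

theorem fLin_apply (u w v x : ι → F) (A : Matrix (Fin 2) (Fin 2) F) (y : ι → F) : fLin q u w v x A y =
    y + polar q y v • ((A 0 0 - 1) • u + (-A 1 0) • x) + polar q y x • ((A 0 0 - 1) • w + A 1 0 • v)
    + polar q y u • (A 0 1 • w + (A 1 1 - 1) • v) + polar q y w • ((-A 0 1) • u + (A 1 1 - 1) • x) := rfl

variable {u w v x : ι → F} (R : Frame q u w v x)
include R

theorem Frame.table : polar q u u = 0 ∧ polar q w w = 0 ∧ polar q v v = 0 ∧ polar q x x = 0 ∧ polar q w u = 0 ∧
    polar q x v = 0 ∧ polar q x u = 0 ∧ polar q v w = 0 ∧ polar q v u = 1 ∧ polar q x w = 1 := by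
  refine ⟨?_, ?_, ?_, ?_, ?_, ?_, ?_, ?_, ?_, ?_⟩
  · rw [polar_self', R.qu, mul_zero]
  · rw [polar_self', R.qw, mul_zero]
  · rw [polar_self', R.qv, mul_zero]
  · rw [polar_self', R.qx, mul_zero]
  · rw [polar_comm, R.uw]
  · rw [polar_comm, R.vx]
  · rw [polar_comm, R.ux]
  · rw [polar_comm, R.wv]
  · rw [polar_comm, R.uv]
  · rw [polar_comm, R.wx]

theorem fLin_mul (A B : Matrix (Fin 2) (Fin 2) F) (y : ι → F) :
    fLin q u w v x A (fLin q u w v x B y) = fLin q u w v x (A * B) y := by
  obtain ⟨h1, h2, h3, h4, h5, h6, h7, h8, h9, h10⟩ := R.table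
  simp only [fLin_apply, polar_add_left, polar_smul_left, h1, h2, h3, h4, h5, h6, h7, h8, h9, h10, R.uw, R.vx,
    R.ux, R.wv, R.uv, R.wx, Matrix.mul_apply, Fin.sum_univ_two, smul_eq_mul]
  match_scalars <;> ring

theorem fLin_one (y : ι → F) : fLin q u w v x 1 y = y := by simp [fLin_apply]

theorem fLin_isometry {A : Matrix (Fin 2) (Fin 2) F} (hA : A 0 0 * A 1 1 - A 0 1 * A 1 0 = 1) (y : ι → F) :
    q (fLin q u w v x A y) = q y := by
  obtain ⟨h1, h2, h3, h4, h5, h6, h7, h8, h9, h10⟩ := R.table
  simp only [fLin_apply, QuadraticMap.map_add ⇑q, QuadraticMap.map_smul, polar_add_left, polar_add_right,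
    polar_smul_left, polar_smul_right, h1, h2, h3, h4, h5, h6, h7, h8, h9, h10, R.uw, R.vx, R.ux, R.wv, R.uv, R.wx,
    R.qu, R.qw, R.qv, R.qx, smul_eq_mul]
  linear_combination (polar q y v * polar q y u + polar q y x * polar q y w) * hA

/-- The representation of the special linear group. -/
noncomputable def Frame.hom : Matrix.SpecialLinearGroup (Fin 2) F →* O q where
  toFun A := mkO (fLin q u w v x A) (fLin q u w v x ((A⁻¹ : Matrix.SpecialLinearGroup (Fin 2) F) : Matrix (Fin 2) (Fin 2) F))
    (LinearMap.ext fun y => by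
      rw [LinearMap.comp_apply, fLin_mul R, ← Matrix.SpecialLinearGroup.coe_mul, mul_inv_cancel, Matrix.SpecialLinearGroup.coe_one,
        fLin_one R, LinearMap.id_apply])
    (LinearMap.ext fun y => by
      rw [LinearMap.comp_apply, fLin_mul R, ← Matrix.SpecialLinearGroup.coe_mul, inv_mul_cancel, Matrix.SpecialLinearGroup.coe_one,
        fLin_one R, LinearMap.id_apply])
    (fun y => fLin_isometry R (by
      have := A.det_coe
      rwa [Matrix.det_fin_two] at this) y)
  map_one' := ext_app fun y => by rw [app_mkO, app_one, Matrix.SpecialLinearGroup.coe_one, fLin_one R]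
  map_mul' A B := ext_app fun y => by
    rw [app_mkO, app_mul, app_mkO, app_mkO, fLin_mul R, Matrix.SpecialLinearGroup.coe_mul]

theorem Frame.app_hom (A : Matrix.SpecialLinearGroup (Fin 2) F) (y : ι → F) : app (R.hom A) y = fLin q u w v x A y := by
  rw [Frame.hom, MonoidHom.coe_mk, OneHom.coe_mk, app_mkO]

omit R

/-- An upper unitriangular matrix. -/
def upper (t : F) : Matrix.SpecialLinearGroup (Fin 2) F := ⟨!![1, t; 0, 1], by simp [Matrix.det_fin_two]⟩

/-- A lower unitriangular matrix. -/
def lower (t : F) : Matrix.SpecialLinearGroup (Fin 2) F := ⟨!![1, 0; t, 1], by simp [Matrix.det_fin_two]⟩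

theorem upper_coe (t : F) : (upper t : Matrix (Fin 2) (Fin 2) F) = !![1, t; 0, 1] := rfl

theorem lower_coe (t : F) : (lower t : Matrix (Fin 2) (Fin 2) F) = !![1, 0; t, 1] := rfl

theorem upper_mul (s t : F) : upper s * upper t = upper (s + t) := by
  apply Matrix.SpecialLinearGroup.ext
  intro i j
  fin_cases i <;> fin_cases j <;> simp [upper_coe, Matrix.mul_apply, Fin.sum_univ_two, add_comm]

theorem upper_zero : upper (0 : F) = 1 := by
  apply Matrix.SpecialLinearGroup.ext
  intro i j
  fin_cases i <;> fin_cases j <;> simp [upper_coe]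

theorem upper_inv (t : F) : (upper t)⁻¹ = upper (-t) :=
  inv_eq_of_mul_eq_one_right (by rw [upper_mul, add_neg_cancel, upper_zero])

theorem upper_pow (t : F) (k : ℕ) : upper t ^ k = upper (k * t) := by
  induction k with
  | zero => simp [upper_zero]
  | succ k ih => rw [pow_succ, ih, upper_mul]; push_cast; ring_nf

theorem lower_ne (c : F) (hc : c ≠ 0) (t : F) : lower c ≠ upper t := fun h => by
  have := congrArg (fun A : Matrix.SpecialLinearGroup (Fin 2) F => (A : Matrix (Fin 2) (Fin 2) F) 1 0) h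
  exact hc (by simpa [lower_coe, upper_coe] using this)

include R

theorem Frame.hom_upper (t : F) : R.hom (upper t) = eich q u (t • w) := by
  refine ext_app fun y => ?_
  rw [R.app_hom, app_eich R.qu (by rw [polar_smul_right, R.uw, smul_zero]), fLin_apply, QuadraticMap.map_smul, R.qw,
    polar_smul_right]
  simp [upper_coe]
  module

theorem Frame.hom_lower (c : F) : R.hom (lower c) = eich q x (c • v) := by
  refine ext_app fun y => ?_
  obtain ⟨-, -, -, -, -, h6, -⟩ := R.table
  rw [R.app_hom, app_eich R.qx (by rw [polar_smul_right, h6, smul_zero]), fLin_apply, QuadraticMap.map_smul, R.qv,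
    polar_smul_right]
  simp [lower_coe]
  module

omit R

/-- A subgroup of the special linear group of degree two in which the upper triangular elements are
unipotent, containing two upper root elements whose product is not trivial, is upper triangular. -/
theorem upper_only [Fintype F] {G : Subgroup (Matrix.SpecialLinearGroup (Fin 2) F)} {s t : F} (hs0 : s ≠ 0)
    (ht0 : t ≠ 0) (hst : s + t ≠ 0) (hs : upper s ∈ G) (ht : upper t ∈ G)
    (htri : ∀ A ∈ G, (A : Matrix (Fin 2) (Fin 2) F) 1 0 = 0 → (A : Matrix (Fin 2) (Fin 2) F) 0 0 = 1) :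
    ∀ A ∈ G, (A : Matrix (Fin 2) (Fin 2) F) 1 0 = 0 := by
  classical
  have hfin : Finite (Matrix.SpecialLinearGroup (Fin 2) F) :=
    Finite.of_injective (fun A => (A : Matrix (Fin 2) (Fin 2) F)) fun A B h => Subtype.ext h
  have hupper : ∀ g : G, (g.1 : Matrix (Fin 2) (Fin 2) F) 1 0 = 0 → ∃ r, g.1 = upper r := by
    intro g h10
    have h00 := htri g.1 g.2 h10
    refine ⟨(g.1 : Matrix (Fin 2) (Fin 2) F) 0 1, ?_⟩
    have h11 : (g.1 : Matrix (Fin 2) (Fin 2) F) 1 1 = 1 := by
      have := g.1.det_coe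
      rw [Matrix.det_fin_two, h00, h10] at this
      simpa using this
    apply Matrix.SpecialLinearGroup.ext
    intro i j
    fin_cases i <;> fin_cases j <;> simp [upper_coe, h00, h10, h11]
  let P : Subgroup G :=
    { carrier := {g | ∃ r, g.1 = upper r}
      one_mem' := ⟨0, upper_zero.symm⟩
      mul_mem' := by
        rintro g k ⟨a, e1⟩ ⟨b, e2⟩
        exact ⟨a + b, by rw [Subgroup.coe_mul, e1, e2, upper_mul]⟩
      inv_mem' := by
        rintro g ⟨a, e1⟩
        exact ⟨-a, by rw [Subgroup.coe_inv, e1, upper_inv]⟩ }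
  let x₁ : G := ⟨upper s, hs⟩
  let y₁ : G := ⟨upper t, ht⟩
  obtain ⟨p, hp⟩ := CharP.exists F
  haveI := hp
  haveI : Fact p.Prime := ⟨CharP.char_is_prime F p⟩
  have hPp : IsPGroup p P := by
    intro g
    refine ⟨1, Subtype.ext (Subtype.ext ?_)⟩
    obtain ⟨a, ha⟩ := g.2
    rw [pow_one, Subgroup.coe_pow, Subgroup.coe_pow, ha, upper_pow, CharP.cast_eq_zero, zero_mul, upper_zero]
    rfl
  have hcol : ∀ (g : G) (a b : F), a ≠ 0 → g.1 * upper a = upper b * g.1 → g ∈ P := by
    intro g a b ha he
    refine hupper g ?_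
    have := congrArg (fun A : Matrix.SpecialLinearGroup (Fin 2) F => (A : Matrix (Fin 2) (Fin 2) F) 1 1) he
    simpa [upper_coe, Matrix.SpecialLinearGroup.coe_mul, Matrix.mul_apply, Fin.sum_univ_two, ha] using this
  have htop : P = ⊤ := by
    refine SympRoot.eq_top_of_pair P hPp ?_ ?_ x₁ y₁ ?_ ?_
    · rintro g ⟨a, e1⟩ k ⟨b, e2⟩
      refine Subtype.ext ?_
      rw [Subgroup.coe_mul, Subgroup.coe_mul, e1, e2, upper_mul, upper_mul, add_comm]
    · intro g hg
      obtain ⟨b, hb⟩ := (Subgroup.mem_normalizer_iff.1 hg x₁).1 ⟨s, rfl⟩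
      refine hcol g s b hs0 ?_
      rw [← hb]
      simp [x₁]
    · intro k hk
      refine hcol k (s + t) (s + t) hst ?_
      rw [← upper_mul]
      exact congrArg Subtype.val hk
    · intro k k' he
      refine hupper k ?_
      have h1 := congrArg (fun g : G => ((g.1 : Matrix.SpecialLinearGroup (Fin 2) F) : Matrix (Fin 2) (Fin 2) F).trace) he
      have hd := k.1.det_coe
      have hd' := k'.1.det_coe
      rw [Matrix.det_fin_two] at hd hd'
      simp only [Subgroup.coe_mul, Subgroup.coe_inv, x₁, y₁, Matrix.SpecialLinearGroup.coe_mul,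
        Matrix.SpecialLinearGroup.coe_inv, Matrix.adjugate_fin_two, Matrix.trace_fin_two, upper_coe, Matrix.mul_apply,
        Fin.sum_univ_two, Matrix.of_apply, Matrix.cons_val', Matrix.cons_val_zero, Matrix.cons_val_one,
        Matrix.cons_val_fin_one, Matrix.SpecialLinearGroup.coe_mk] at h1
      set a := (k.1 : Matrix (Fin 2) (Fin 2) F) 0 0
      set b := (k.1 : Matrix (Fin 2) (Fin 2) F) 0 1
      set c' := (k.1 : Matrix (Fin 2) (Fin 2) F) 1 0
      set d := (k.1 : Matrix (Fin 2) (Fin 2) F) 1 1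
      have hsq : s * t * (c' * c') = 0 := by linear_combination -h1 + 2 * hd - 2 * hd'
      exact mul_self_eq_zero.1 ((mul_eq_zero.1 hsq).resolve_left (mul_ne_zero hs0 ht0))
  intro A hA
  obtain ⟨r, hr⟩ : (⟨A, hA⟩ : G) ∈ P := htop ▸ Subgroup.mem_top _
  have hr' : A = upper r := hr
  simp [hr', upper_coe]

end CfsgLib.GeomClasses.OrthSLTwo
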