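import Cfsg.Agent.Lib.GeomClasses.SympIrrational
import Cfsg.Agent.Lib.GeomClasses.Transport

/-!
Symplectic subfield groups are maximal in the isometry group of the form.
-/

set_option autoImplicit false
set_option linter.unusedSectionVars false

namespace CfsgLib.GeomClasses.SympRoot

open Matrix

variable {ι : Type} [Fintype ι] [DecidableEq ι] {F : Type*} [Field F]

/-- The rational matrices times scalars. -/
def ratScalar (F₀ : Subfield F) (ι : Type) [Fintype ι] [DecidableEq ι] : Subgroup (GL ι F) :=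
  (Matrix.GeneralLinearGroup.map (F₀.subtype : F₀ →+* F)).range ⊔ Cfsg.Geo.scalars ι F

theorem exists_rat_scalar {F₀ : Subfield F} {g : GL ι F} (hg : g ∈ ratScalar F₀ ι) :
    ∃ c : F, c ≠ 0 ∧ ∀ i j, c * (g : Matrix ι ι F) i j ∈ F₀ := by
  rw [ratScalar, Subgroup.mem_sup_of_normal_right] at hg
  obtain ⟨y, ⟨a, rfl⟩, z, hz, rfl⟩ := hg
  obtain ⟨c, hc⟩ := (Cfsg.Geo.mem_scalars_iff z).1 hz
  refine ⟨(c : F)⁻¹, inv_ne_zero c.ne_zero, fun i j => ?_⟩
  rw [Units.val_mul, hc, mul_smul_comm, mul_one, Matrix.smul_apply, smul_eq_mul, ← mul_assoc,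
    inv_mul_cancel₀ c.ne_zero, one_mul]
  exact ((a : Matrix ι ι F₀) i j).2

variable {f : (ι → F) → (ι → F) → F} {F₀ : Subfield F} {M : Subgroup (GL ι F)}

theorem mem_ratScalar_of_lines (S : Setting f F₀ M) (g : GL ι F)
    (h : ∀ a, Rv F₀ a → ∃ c : F, ∃ b, Rv F₀ b ∧ (g : Matrix ι ι F) *ᵥ a = c • b) : g ∈ ratScalar F₀ ι := by
  have := S.four_lt
  obtain ⟨i₀⟩ : Nonempty ι := Fintype.card_pos_iff.1 (by omega)
  obtain ⟨c, r₀, hr₀, he₀⟩ := h _ (Rv.single (F₀ := F₀) i₀)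
  have hne : ∀ x : ι → F, x ≠ 0 → (g : Matrix ι ι F) *ᵥ x ≠ 0 := fun x hx h0 =>
    hx (gl_mulVec_injective g (show (g : Matrix ι ι F) *ᵥ x = (g : Matrix ι ι F) *ᵥ 0 by rw [h0, mulVec_zero]))
  have hc0 : c ≠ 0 := fun h0 => hne (Pi.single i₀ 1) (by simp) (by rw [he₀, h0, zero_smul])
  have hr₀0 : r₀ ≠ 0 := fun h0 => hne (Pi.single i₀ 1) (by simp) (by rw [he₀, h0, smul_zero])
  have hcol : ∀ a i, c⁻¹ * (g : Matrix ι ι F) a i ∈ F₀ := by
    intro a i
    suffices H : Rv F₀ (c⁻¹ • ((g : Matrix ι ι F) *ᵥ Pi.single i 1)) by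
      simpa using H a
    rcases eq_or_ne i i₀ with rfl | hi
    · rwa [he₀, smul_smul, inv_mul_cancel₀ hc0, one_smul]
    obtain ⟨d, r, hr, hei⟩ := h _ (Rv.single (F₀ := F₀) i)
    obtain ⟨e, s, hs, hes⟩ := h _ ((Rv.single (F₀ := F₀) i₀).add (Rv.single i))
    rw [mulVec_add, he₀, hei] at hes
    have hd0 : d ≠ 0 := fun h0 => hne (Pi.single i 1) (by simp) (by rw [hei, h0, zero_smul])
    have hr0 : r ≠ 0 := fun h0 => hne (Pi.single i 1) (by simp) (by rw [hei, h0, smul_zero])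
    have hind : ∀ k : F, r₀ ≠ k • r := by
      intro k hk
      have h1 : (Pi.single i₀ (1 : F) : ι → F) = (c * k / d) • Pi.single i 1 := gl_mulVec_injective g
        (show (g : Matrix ι ι F) *ᵥ Pi.single i₀ 1 = (g : Matrix ι ι F) *ᵥ ((c * k / d) • Pi.single i 1) by
          rw [mulVec_smul, he₀, hei, hk, smul_smul, smul_smul, div_mul_cancel₀ _ hd0])
      simpa [hi] using congrFun h1 i₀
    have hind' : ∀ k : F, r ≠ k • r₀ := by
      intro k hk
      have hk0 : k ≠ 0 := fun h0 => hr0 (by rw [hk, h0, zero_smul])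
      exact hind k⁻¹ (by rw [hk, smul_smul, inv_mul_cancel₀ hk0, one_smul])
    obtain ⟨z, hz, hrz, hr₀z⟩ := S.exists_orth hr hr0 hind
    obtain ⟨z', hz', hr₀z', hrz'⟩ := S.exists_orth hr₀ hr₀0 hind'
    have e1 := congrArg (fun x => f x z) hes
    simp only [Symp.add_left S.symp, Symp.smul_left S.symp, hrz, mul_zero, add_zero] at e1
    have e2 := congrArg (fun x => f x z') hes
    simp only [Symp.add_left S.symp, Symp.smul_left S.symp, hr₀z', mul_zero, zero_add] at e2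
    have he0 : e ≠ 0 := fun h0 => by
      rw [h0, zero_mul] at e1
      exact mul_ne_zero hc0 hr₀z e1
    have h1 : c / e = f s z / f r₀ z := by rw [div_eq_div_iff he0 hr₀z]; linear_combination e1
    have h2 : d / e = f s z' / f r z' := by rw [div_eq_div_iff he0 hrz']; linear_combination e2
    have h3 : c⁻¹ * d ∈ F₀ := by
      have := F₀.div_mem (h2 ▸ F₀.div_mem (S.rat _ _ hs hz') (S.rat _ _ hr hz'))
        (h1 ▸ F₀.div_mem (S.rat _ _ hs hz) (S.rat _ _ hr₀ hz))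
      rwa [div_div_div_cancel_right₀ he0, div_eq_inv_mul] at this
    rw [hei, smul_smul]
    exact hr.smul h3
  let W : Matrix ι ι F₀ := fun a i => ⟨_, hcol a i⟩
  have hW : W.map (F₀.subtype : F₀ →+* F) = c⁻¹ • (g : Matrix ι ι F) := rfl
  have hdet : W.det ≠ 0 := by
    intro h0
    have h1 : (c⁻¹ • (g : Matrix ι ι F)).det = 0 := by
      rw [← hW, ← RingHom.mapMatrix_apply, ← RingHom.map_det, h0, map_zero]
    rw [det_smul] at h1
    exact mul_ne_zero (pow_ne_zero _ (inv_ne_zero hc0))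
      ((Matrix.isUnit_iff_isUnit_det _).1 g.isUnit).ne_zero h1
  let z : GL ι F :=
    Units.map (Matrix.scalar ι : F →+* Matrix ι ι F).toMonoidHom (Units.mk0 c⁻¹ (inv_ne_zero hc0))
  have hz : z ∈ Cfsg.Geo.scalars ι F := ⟨_, rfl⟩
  have hgz : g = Matrix.GeneralLinearGroup.map (F₀.subtype : F₀ →+* F)
      (Matrix.GeneralLinearGroup.mkOfDetNeZero W hdet) * z⁻¹ := by
    rw [eq_mul_inv_iff_mul_eq]
    apply Units.ext
    ext a i
    simp [z, W, Matrix.mul_diagonal, mul_comm]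
    rfl
  rw [hgz]
  exact Subgroup.mul_mem_sup ⟨_, rfl⟩ ((Cfsg.Geo.scalars ι F).inv_mem hz)

theorem maximal_rational [Fintype F] (hf : Cfsg.Geo.IsSymplecticForm f) (h4 : 4 < Fintype.card ι)
    (hrat : ∀ u v, Rv F₀ u → Rv F₀ v → f u v ∈ F₀) {r : ℕ} (hr : r.Prime)
    (hcard : Fintype.card F = Nat.card F₀ ^ r) {K : Subgroup (GL ι F)}
    (hK : ∀ g, g ∈ K ↔ Symp.IsIsometry f g) : Cfsg.Geo.IsMaximalIn K (ratScalar F₀ ι ⊓ K) := by
  have SK : Setting f F₀ K := ⟨hf, h4, hrat, fun g hg => (hK g).1 hg,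
    fun a _ c _ => (hK _).2 (Symp.formTv_isometry hf a c)⟩
  have hT : ∀ a, Rv F₀ a → ∀ c ∈ F₀, formTv f a c ∈ ratScalar F₀ ι ⊓ K := fun a ha c hc =>
    ⟨mem_ratScalar_of_lines SK _ fun x hx =>
      ⟨1, _, (SK.rat_formTv ha hc).2 x hx, (one_smul F _).symm⟩, (hK _).2 (Symp.formTv_isometry hf a c)⟩
  obtain ⟨lam, hlam⟩ : ∃ x : F, x ∉ F₀ := by
    by_contra h
    push Not at h
    have h1 : Nat.card F₀ = Nat.card F := Nat.card_congr (Equiv.subtypeUnivEquiv h)
    rw [h1, ← Nat.card_eq_fintype_card] at hcard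
    have := Nat.pow_right_injective (Finite.one_lt_card (α := F))
      (show Nat.card F ^ 1 = Nat.card F ^ r by rw [pow_one]; exact hcard)
    exact hr.one_lt.ne this
  refine ⟨lt_of_le_of_ne inf_le_right fun heq => ?_, fun M hle hMle => ?_⟩
  · obtain ⟨k⟩ : Nonempty ι := Fintype.card_pos_iff.1 (by omega)
    obtain ⟨i, hi⟩ := exists_single hf (x := (Pi.single k (1 : F) : ι → F)) (by simp)
    have hik : i ≠ k := by
      rintro rfl
      exact hi (hf.alternating _)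
    have hmem : formTv f (Pi.single i 1) lam ∈ K := (hK _).2 (Symp.formTv_isometry hf _ _)
    rw [← heq] at hmem
    obtain ⟨c, hc, hcrat⟩ := exists_rat_scalar hmem.1
    have hval : ∀ j, (formTv f (Pi.single i 1) lam : Matrix ι ι F) j k =
        (Pi.single k (1 : F) : ι → F) j +
          lam * f (Pi.single k 1) (Pi.single i 1) * (Pi.single i (1 : F) : ι → F) j := by
      intro j
      have := congrFun (Symp.formTv_mulVec hf (Pi.single i 1) lam (Pi.single k 1)) j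
      simpa using this
    have e1 := hcrat k k
    have e2 := hcrat i k
    rw [hval, Pi.single_eq_same, Pi.single_eq_of_ne hik.symm, mul_zero, add_zero, mul_one] at e1
    rw [hval, Pi.single_eq_same, Pi.single_eq_of_ne hik, zero_add, mul_one] at e2
    have e3 := F₀.div_mem (F₀.div_mem e2 e1) (hrat _ _ (Rv.single k) (Rv.single i))
    rw [mul_div_cancel_left₀ _ hc, mul_div_cancel_right₀ _ hi] at e3
    exact hlam e3
  by_cases hall : M ≤ ratScalar F₀ ι
  · exact Or.inl (le_antisymm (le_inf hall hMle) hle)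
  right
  refine le_antisymm hMle ?_
  have SM : Setting f F₀ M := ⟨hf, h4, hrat, fun g hg => (hK g).1 (hMle hg), fun a ha c hc => hle (hT a ha c hc)⟩
  obtain ⟨g, hgM, hg⟩ := SetLike.not_le_iff_exists.1 hall
  obtain ⟨a, ha, hirr⟩ : ∃ a, Rv F₀ a ∧ ∀ c : F, ∀ b, Rv F₀ b → (g : Matrix ι ι F) *ᵥ a ≠ c • b := by
    by_contra hno
    push Not at hno
    exact hg (mem_ratScalar_of_lines SM g hno)
  have hv := M.mul_mem (M.mul_mem hgM (SM.mem a ha 1 F₀.one_mem)) (M.inv_mem hgM)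
  rw [Symp.conj_formTv hf (SM.isometry g hgM)] at hv
  obtain ⟨c, hc, hc'⟩ := exists_new SM hirr F₀.one_mem one_ne_zero hv
  have hfull := long_eq_univ SM hr hcard hc hc'
  exact fun k hk => Symp.isometry_mem_of_formTv_mem hf (mem_of_full SM hfull) ((hK k).1 hk)

end CfsgLib.GeomClasses.SympRoot
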