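import Cfsg.Agent.Lib.GeomClasses.OrthSimilarity
import Cfsg.Agent.Lib.GeomClasses.OrthSLTwo
import Cfsg.Agent.Lib.GeomClasses.SympSubfield

/-!
The rational orthogonal space over a subfield, and its root elements.
-/

set_option autoImplicit false
set_option linter.unusedSectionVars false

namespace CfsgLib.GeomClasses.OrthRat

open Matrix QuadraticMap CfsgLib.Orth CfsgLib.GeomClasses.OrthEich

variable {ι : Type} [Fintype ι] [DecidableEq ι] {F : Type*} [Field F] [Fintype F]
  {q : QuadraticForm F (ι → F)} {F₀ : Subfield F}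

/-- A quadratic form taking rational values on rational vectors. -/
structure Rat (q : QuadraticForm F (ι → F)) (F₀ : Subfield F) : Prop where
  nondeg : q.polarBilin.Nondegenerate
  seven : 7 ≤ Fintype.card ι
  rat : ∀ u, SympRoot.Rv F₀ u → q u ∈ F₀

/-- A rational vector seen over the field. -/
def up (a : ι → F₀) : ι → F := fun i => (a i : F)

theorem up_rv (a : ι → F₀) : SympRoot.Rv F₀ (up a) := fun i => (a i).2

theorem exists_down {v : ι → F} (h : SympRoot.Rv F₀ v) : ∃ a : ι → F₀, up a = v := ⟨fun i => ⟨v i, h i⟩, rfl⟩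

theorem up_add (a b : ι → F₀) : up (a + b) = up a + up b := funext fun i => by simp [up]

theorem up_sub (a b : ι → F₀) : up (a - b) = up a - up b := funext fun i => by simp [up]

theorem up_smul (c : F₀) (a : ι → F₀) : up (c • a) = (c : F) • up a := funext fun i => by simp [up]

theorem up_zero : up (0 : ι → F₀) = 0 := funext fun i => by simp [up]

theorem up_injective : Function.Injective (up (ι := ι) (F₀ := F₀)) := fun _ _ h =>
  funext fun i => Subtype.ext (congrFun h i)

theorem up_single (i : ι) : up (Pi.single i (1 : F₀)) = Pi.single i 1 := by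
  funext j
  by_cases h : j = i
  · subst h; simp [up]
  · simp [up, h]

variable (S : Rat q F₀)
include S

theorem Rat.polar_mem (a b : ι → F₀) : polar q (up a) (up b) ∈ F₀ := by
  rw [QuadraticMap.polar]
  exact F₀.sub_mem (F₀.sub_mem (S.rat _ ((up_rv a).add (up_rv b))) (S.rat _ (up_rv a))) (S.rat _ (up_rv b))

/-- The rational quadratic form. -/
noncomputable def Rat.quad : QuadraticForm F₀ (ι → F₀) :=
  QuadraticMap.ofPolar (fun a => ⟨q (up a), S.rat _ (up_rv a)⟩)
    (fun c a => Subtype.ext (by simp [up_smul, QuadraticMap.map_smul]))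
    (fun a b d => Subtype.ext (by
      have h := polar_add_left (Q := q) (up a) (up b) (up d)
      simpa [QuadraticMap.polar, up_add] using h))
    (fun c a b => Subtype.ext (by
      have h := polar_smul_left (Q := q) (c : F) (up a) (up b)
      simpa [QuadraticMap.polar, up_add, up_smul] using h))

theorem Rat.quad_coe (a : ι → F₀) : ((S.quad a : F₀) : F) = q (up a) := rfl

theorem Rat.polar_coe (a b : ι → F₀) : ((polar S.quad a b : F₀) : F) = polar q (up a) (up b) := by
  simp [QuadraticMap.polar, S.quad_coe, up_add]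

theorem Rat.singular {a : ι → F₀} (h : S.quad a = 0) : q (up a) = 0 := by rw [← S.quad_coe, h]; rfl

theorem Rat.quad_eq_zero {a : ι → F₀} (h : q (up a) = 0) : S.quad a = 0 :=
  Subtype.ext (by rw [S.quad_coe, h]; rfl)

theorem Rat.orth_zero {a b : ι → F₀} (h : polar S.quad a b = 0) : polar q (up a) (up b) = 0 := by
  rw [← S.polar_coe, h]; rfl

theorem Rat.orth_zero' {a b : ι → F₀} (h : polar q (up a) (up b) = 0) : polar S.quad a b = 0 :=
  Subtype.ext (by rw [S.polar_coe, h]; rfl)

theorem Rat.eq_zero_of_rat {x : ι → F} (h : ∀ y : ι → F₀, polar q (up y) x = 0) : x = 0 := by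
  by_contra hx
  obtain ⟨z, hz⟩ := exists_polar_eq_one S.nondeg hx
  refine one_ne_zero (α := F) ?_
  rw [← hz, polar_comm, ← OrthSimilarity.dual_dot, pi_eq_sum_univ' z, dotProduct_sum]
  refine Finset.sum_eq_zero fun i _ => ?_
  rw [dotProduct_smul, OrthSimilarity.dual_dot, ← up_single (F₀ := F₀), h, smul_zero]

theorem Rat.quad_nondegenerate : S.quad.polarBilin.Nondegenerate := by
  have key : ∀ a, (∀ b, polar S.quad a b = 0) → a = 0 := fun a h =>
    up_injective ((S.eq_zero_of_rat fun y => by rw [polar_comm]; exact S.orth_zero (h y)).trans up_zero.symm)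
  refine ⟨fun x hx => key x fun b => hx b, fun x hx => key x fun b => ?_⟩
  rw [polar_comm]
  exact hx b

theorem Rat.sep [Fintype F₀] {T : Submodule F₀ (ι → F₀)} (hT : Module.finrank F₀ T ≤ 2) {v : ι → F₀} (hv : v ∉ T) :
    ∃ a ∈ OrthTools.orth S.quad T, S.quad a = 0 ∧ polar S.quad a v ≠ 0 :=
  OrthSimilarity.exists_singular_sep S.quad_nondegenerate (Nat.le_of_succ_le S.seven) (by have := S.seven; omega) hv

theorem Rat.outside [Fintype F₀] {T U : Submodule F₀ (ι → F₀)} (hT : Module.finrank F₀ T ≤ 2)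
    (hU : Module.finrank F₀ U ≤ 2) : ∃ b ∈ OrthTools.orth S.quad T, b ∉ U :=
  OrthSimilarity.exists_outside S.quad_nondegenerate (Nat.le_of_succ_le S.seven) (by have := S.seven; omega)

theorem Rat.one_le' [Fintype F₀] (a : ι → F₀) : Module.finrank F₀ (Submodule.span F₀ {a}) ≤ 2 :=
  OrthSimilarity.finrank_one_le S.quad_nondegenerate (Nat.le_of_succ_le S.seven) a

theorem Rat.two_le' [Fintype F₀] (a b : ι → F₀) :
    Module.finrank F₀ (Submodule.span F₀ ({a, b} : Set (ι → F₀))) ≤ 2 :=
  OrthSimilarity.finrank_two_le S.quad_nondegenerate (Nat.le_of_succ_le S.seven) a b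

theorem Rat.partner [Fintype F₀] {T : Submodule F₀ (ι → F₀)} {v : ι → F₀} (hv : v ∉ T) :
    ∃ y ∈ OrthTools.orth S.quad T, polar S.quad y v = 1 := by
  obtain ⟨y, hy, hyv⟩ := OrthSubspace.exists_orth_pairing S.quad_nondegenerate S.seven hv
  exact ⟨(polar S.quad y v)⁻¹ • y, Submodule.smul_mem _ _ hy, by
    rw [polar_smul_left, smul_eq_mul, inv_mul_cancel₀ hyv]⟩

/-- A rational vector orthogonal to a small subspace, outside it or singular, is a difference of two such
singular vectors. -/
theorem Rat.split [Fintype F₀] {T : Submodule F₀ (ι → F₀)} (hT : Module.finrank F₀ T ≤ 2) {y : ι → F₀}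
    (hy : y ∈ OrthTools.orth S.quad T) (h : y ∉ T ∨ S.quad y = 0) :
    ∃ a b, a ∈ OrthTools.orth S.quad T ∧ b ∈ OrthTools.orth S.quad T ∧ S.quad a = 0 ∧ S.quad b = 0 ∧
      y = a - b := by
  by_cases hq0 : S.quad y = 0
  · exact ⟨y, 0, hy, Submodule.zero_mem _, hq0, QuadraticMap.map_zero _, (sub_zero y).symm⟩
  obtain ⟨a, ha, hqa, hay⟩ := S.sep hT (h.resolve_right hq0)
  set t := -S.quad y / polar S.quad y a
  refine ⟨y + t • a, t • a, Submodule.add_mem _ hy (Submodule.smul_mem _ _ ha), Submodule.smul_mem _ _ ha, ?_, ?_,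
    (add_sub_cancel_right _ _).symm⟩
  · rw [QuadraticMap.map_add ⇑S.quad, QuadraticMap.map_smul, hqa, polar_smul_right]
    simp [t, div_mul_cancel₀ _ (show polar S.quad y a ≠ 0 by rwa [polar_comm])]
  · rw [QuadraticMap.map_smul, hqa, smul_zero]

/-- A vector with rational pairings is rational. -/
theorem Rat.exists_rat {x : ι → F} (h : ∀ y : ι → F₀, polar q (up y) x ∈ F₀) : ∃ x₀ : ι → F₀, up x₀ = x := by
  haveI := Fintype.ofFinite F₀
  obtain ⟨x₀, hx₀⟩ := OrthSimilarity.dual_surjective S.quad_nondegenerate (Nat.le_of_succ_le S.seven)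
    (fun i => ⟨polar q (up (Pi.single i (1 : F₀))) x, h _⟩)
  refine ⟨x₀, (sub_eq_zero.1 (S.eq_zero_of_rat fun y => ?_)).symm⟩
  rw [polar_sub_right, sub_eq_zero]
  have e : ((polar S.quad y x₀ : F₀) : F) = polar q (up y) x := by
    rw [← OrthSimilarity.dual_dot, hx₀]
    conv_rhs => rw [← OrthSimilarity.dual_dot]
    simp only [dotProduct, AddSubmonoidClass.coe_finset_sum, MulMemClass.coe_mul]
    refine Finset.sum_congr rfl fun i _ => ?_
    rw [up_single]
    rfl
  rw [← e, S.polar_coe]

end CfsgLib.GeomClasses.OrthRat
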