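import Cfsg.Agent.Lib.GeomClasses.Basic
import Cfsg.Agent.Lib.Tech46.CoprimeGen

/-!
Subgroups containing the transvections rational over a subfield, and one further transvection.
-/

set_option autoImplicit false
set_option linter.unusedSimpArgs false
set_option linter.unusedSectionVars false

namespace CfsgLib.GeomClasses.Rational

open Matrix
open scoped MatrixGroups

variable {n : ℕ} {F : Type*} [Field F] {F₀ : Subfield F}

/-- A rational vector seen over the large field. -/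
def up (a : Fin n → F₀) : Fin n → F := fun i => (a i : F)

theorem up_dot (α a : Fin n → F₀) : up α ⬝ᵥ up a = ((α ⬝ᵥ a : F₀) : F) := by
  simp [up, dotProduct]

theorem up_dot_zero {α a : Fin n → F₀} (h : α ⬝ᵥ a = 0) : up α ⬝ᵥ up a = 0 := by
  rw [up_dot, h, ZeroMemClass.coe_zero]

theorem up_add (a b : Fin n → F₀) : up (a + b) = up a + up b := funext fun i => by simp [up]

theorem up_smul (c : F₀) (a : Fin n → F₀) : up (c • a) = (c : F) • up a := funext fun i => by simp [up]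

theorem up_zero : up (0 : Fin n → F₀) = 0 := funext fun i => by simp [up]

theorem up_eq_zero {a : Fin n → F₀} : up a = 0 ↔ a = 0 := by
  constructor
  · intro h
    funext i
    exact Subtype.ext (congrFun h i)
  · rintro rfl; exact up_zero

theorem up_single (i : Fin n) : up (Pi.single i (1 : F₀)) = Pi.single i 1 := by
  funext j
  by_cases h : j = i
  · subst h; simp [up]
  · simp [up, h]

theorem exists_down {v : Fin n → F} (h : ∀ i, v i ∈ F₀) : ∃ a : Fin n → F₀, v = up a :=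
  ⟨fun i => ⟨v i, h i⟩, rfl⟩

/-- A non-zero rational vector killed by fewer than n rational functionals. -/
theorem exists_rat_orth {k : ℕ} (hk : k < n) (φ : Fin k → (Fin n → F₀)) :
    ∃ a : Fin n → F₀, a ≠ 0 ∧ ∀ i, φ i ⬝ᵥ a = 0 := by
  by_contra h
  push Not at h
  let L : (Fin n → F₀) →ₗ[F₀] (Fin k → F₀) :=
    { toFun := fun a i => φ i ⬝ᵥ a
      map_add' := fun a b => funext fun i => dotProduct_add _ _ _
      map_smul' := fun c a => funext fun i => dotProduct_smul _ _ _ }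
  have hinj : Function.Injective L := by
    rw [← LinearMap.ker_eq_bot, Submodule.eq_bot_iff]
    intro a ha
    by_contra hne
    obtain ⟨i, hi⟩ := h a hne
    exact hi (congrFun ha i)
  have := LinearMap.finrank_le_finrank_of_injective hinj
  rw [Module.finrank_fintype_fun_eq_card, Module.finrank_fintype_fun_eq_card, Fintype.card_fin,
    Fintype.card_fin] at this
  omega

theorem exists_rat_orth_one (hn : 1 < n) (φ : Fin n → F₀) :
    ∃ a : Fin n → F₀, a ≠ 0 ∧ φ ⬝ᵥ a = 0 := by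
  obtain ⟨a, ha, h⟩ := exists_rat_orth hn ![φ]
  exact ⟨a, ha, h 0⟩

theorem exists_rat_orth_two (hn : 2 < n) (φ ψ : Fin n → F₀) :
    ∃ a : Fin n → F₀, a ≠ 0 ∧ φ ⬝ᵥ a = 0 ∧ ψ ⬝ᵥ a = 0 := by
  obtain ⟨a, ha, h⟩ := exists_rat_orth hn ![φ, ψ]
  exact ⟨a, ha, h 0, h 1⟩

/-- A rational transvection. -/
def HasRat (M : Subgroup (GL (Fin n) F)) (F₀ : Subfield F) : Prop :=
  ∀ a α : Fin n → F₀, α ⬝ᵥ a = 0 → tv (up a) (up α) ∈ M

/-- The transvection with rational centre and axis and coefficient μ lies in M. -/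
def Rel (M : Subgroup (GL (Fin n) F)) (μ : F) (a α : Fin n → F₀) : Prop :=
  tv (up a) (μ • up α) ∈ M

theorem conj_step {M : Subgroup (GL (Fin n) F)} (hM : HasRat M F₀) {a α : Fin n → F₀} (ha : α ⬝ᵥ a = 0)
    {v φ : Fin n → F} (h : φ ⬝ᵥ v = 0) (hv : tv v φ ∈ M) :
    tv (v + (up α ⬝ᵥ v) • up a) (φ - (φ ⬝ᵥ up a) • up α) ∈ M := by
  rw [← tv_conj_tv (up_dot_zero ha) h]
  exact M.mul_mem (M.mul_mem (hM a α ha) hv) (M.inv_mem (hM a α ha))

theorem centre_step {M : Subgroup (GL (Fin n) F)} (hM : HasRat M F₀) {a α : Fin n → F₀} (ha : α ⬝ᵥ a = 0)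
    {v φ : Fin n → F} (h : φ ⬝ᵥ v = 0) (hv : tv v φ ∈ M) (hφa : φ ⬝ᵥ up a = 0) :
    tv ((up α ⬝ᵥ v) • up a) φ ∈ M := by
  have h1 := conj_step hM ha h hv
  rw [hφa, zero_smul, sub_zero] at h1
  have h2 := M.mul_mem (M.inv_mem hv) h1
  rwa [tv_inv h, tv_mul_tv_left (by simp [h]) (by simp [dotProduct_add, h, hφa]), neg_add_cancel_left] at h2

theorem axis_step {M : Subgroup (GL (Fin n) F)} (hM : HasRat M F₀) {a α : Fin n → F₀} (ha : α ⬝ᵥ a = 0)
    {v φ : Fin n → F} (h : φ ⬝ᵥ v = 0) (hv : tv v φ ∈ M) (hαv : up α ⬝ᵥ v = 0) :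
    tv v ((φ ⬝ᵥ up a) • up α) ∈ M := by
  have h1 := conj_step hM ha h hv
  rw [hαv, zero_smul, add_zero] at h1
  have h2 := M.mul_mem (M.inv_mem h1) hv
  have hd : (φ - (φ ⬝ᵥ up a) • up α) ⬝ᵥ v = 0 := by
    rw [sub_dotProduct, smul_dotProduct, h, hαv, smul_zero, sub_zero]
  rwa [tv_inv hd, ← neg_one_smul F v, tv_smul_comm hd, tv_mul_tv_right (by rw [smul_dotProduct, hd, smul_zero]) h, neg_one_smul,
    neg_sub, sub_add_cancel] at h2

theorem rel_smul_comm {M : Subgroup (GL (Fin n) F)} {μ : F} {a α : Fin n → F₀} (h : α ⬝ᵥ a = 0) :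
    tv (μ • up a) (up α) ∈ M ↔ Rel M μ a α := by
  rw [tv_smul_comm (up_dot_zero h), Rel]

theorem Rel.centre {M : Subgroup (GL (Fin n) F)} (hn : 2 < n) (hM : HasRat M F₀) {μ : F}
    {v α a : Fin n → F₀} (hv0 : v ≠ 0) (hv : α ⬝ᵥ v = 0) (ha : α ⬝ᵥ a = 0) (h : Rel M μ v α) :
    Rel M μ a α := by
  have key : ∀ p q : Fin n → F₀, α ⬝ᵥ p = 0 → α ⬝ᵥ q = 0 → q ∉ Submodule.span F₀ {p} → p ≠ 0 →
      Rel M μ p α → Rel M μ q α := by
    intro p q hp hq hpq hp0 hR
    obtain ⟨β, hβp, hβq⟩ : ∃ β : Fin n → F₀, β ⬝ᵥ p = 1 ∧ β ⬝ᵥ q = 0 := by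
      have hnot : p ∉ Submodule.span F₀ {q} := by
        intro hc
        obtain ⟨c, rfl⟩ := Submodule.mem_span_singleton.1 hc
        have hc0 : c ≠ 0 := fun h0 => hp0 (by rw [h0, zero_smul])
        exact hpq (Submodule.mem_span_singleton.2 ⟨c⁻¹, by rw [inv_smul_smul₀ hc0]⟩)
      obtain ⟨β, hb1, hb2⟩ := exists_separating hnot
      exact ⟨(β ⬝ᵥ p)⁻¹ • β, by rw [smul_dotProduct, smul_eq_mul, inv_mul_cancel₀ hb1],
        by rw [smul_dotProduct, hb2 q (Submodule.mem_span_singleton_self q), smul_zero]⟩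
    have := centre_step hM (a := q) (α := β) hβq (v := up p) (φ := μ • up α)
      (by rw [smul_dotProduct, up_dot_zero hp, smul_zero]) hR (by rw [smul_dotProduct, up_dot_zero hq, smul_zero])
    rw [up_dot, hβp, OneMemClass.coe_one, one_smul] at this
    exact this
  by_cases hav : a ∈ Submodule.span F₀ {v}
  · obtain ⟨c, rfl⟩ := Submodule.mem_span_singleton.1 hav
    by_cases hc : c = 0
    · rw [hc, zero_smul, Rel, up_zero, tv_zero_left]
      exact M.one_mem
    obtain ⟨i, hi⟩ := Function.ne_iff.1 hv0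
    obtain ⟨b, hb0, hb1, hb2⟩ := exists_rat_orth_two hn α (Pi.single i 1)
    have hbv : b ∉ Submodule.span F₀ {v} := by
      intro hb
      obtain ⟨d, rfl⟩ := Submodule.mem_span_singleton.1 hb
      simp [single_dotProduct] at hb2
      rcases hb2 with hd | hd
      · exact hb0 (by rw [hd, zero_smul])
      · exact hi hd
    refine key b _ hb1 ha ?_ hb0 (key v b hv hb1 hbv hv0 h)
    intro hcv
    obtain ⟨d, hd⟩ := Submodule.mem_span_singleton.1 hcv
    have hd0 : d ≠ 0 := by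
      rintro rfl
      rw [zero_smul, eq_comm, smul_eq_zero] at hd
      exact hd.elim hc hv0
    exact hbv (Submodule.mem_span_singleton.2 ⟨c / d, by
      rw [div_eq_inv_mul, mul_smul, ← hd, inv_smul_smul₀ hd0]⟩)
  · exact key v a hv ha hav hv0 h

theorem Rel.axis {M : Subgroup (GL (Fin n) F)} (hn : 2 < n) (hM : HasRat M F₀) {μ : F}
    {v α β : Fin n → F₀} (hα0 : α ≠ 0) (hv : α ⬝ᵥ v = 0) (hβ : β ⬝ᵥ v = 0) (h : Rel M μ v α) :
    Rel M μ v β := by
  have key : ∀ p q : Fin n → F₀, p ⬝ᵥ v = 0 → q ⬝ᵥ v = 0 → q ∉ Submodule.span F₀ {p} → p ≠ 0 →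
      Rel M μ v p → Rel M μ v q := by
    intro p q hp hq hpq hp0 hR
    obtain ⟨b, hbp, hbq⟩ : ∃ b : Fin n → F₀, p ⬝ᵥ b = 1 ∧ q ⬝ᵥ b = 0 := by
      have hnot : p ∉ Submodule.span F₀ {q} := by
        intro hc
        obtain ⟨c, rfl⟩ := Submodule.mem_span_singleton.1 hc
        have hc0 : c ≠ 0 := fun h0 => hp0 (by rw [h0, zero_smul])
        exact hpq (Submodule.mem_span_singleton.2 ⟨c⁻¹, by rw [inv_smul_smul₀ hc0]⟩)
      obtain ⟨b, hb1, hb2⟩ := exists_separating hnot
      refine ⟨(b ⬝ᵥ p)⁻¹ • b, ?_, ?_⟩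
      · rw [dotProduct_smul, smul_eq_mul, dotProduct_comm p b, inv_mul_cancel₀ hb1]
      · rw [dotProduct_smul, dotProduct_comm q b, hb2 q (Submodule.mem_span_singleton_self q), smul_zero]
    have := axis_step hM (a := b) (α := q) hbq (v := up v) (φ := μ • up p)
      (by rw [smul_dotProduct, up_dot_zero hp, smul_zero]) hR (up_dot_zero hq)
    rw [smul_dotProduct, up_dot, hbp, OneMemClass.coe_one, smul_eq_mul, mul_one] at this
    exact this
  by_cases hav : β ∈ Submodule.span F₀ {α}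
  · obtain ⟨c, rfl⟩ := Submodule.mem_span_singleton.1 hav
    by_cases hc : c = 0
    · rw [hc, zero_smul, Rel, up_zero, smul_zero]
      rw [show tv (up v) (0 : Fin n → F) = 1 from gl_ext fun x => by rw [tv_mulVec (by simp)]; simp]
      exact M.one_mem
    obtain ⟨i, hi⟩ := Function.ne_iff.1 hα0
    obtain ⟨b, hb0, hb1, hb2⟩ := exists_rat_orth_two hn v (Pi.single i 1)
    have hbv : b ∉ Submodule.span F₀ {α} := by
      intro hb
      obtain ⟨d, rfl⟩ := Submodule.mem_span_singleton.1 hb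
      simp [single_dotProduct] at hb2
      rcases hb2 with hd | hd
      · exact hb0 (by rw [hd, zero_smul])
      · exact hi hd
    rw [dotProduct_comm] at hb1
    refine key b _ hb1 hβ ?_ hb0 (key α b hv hb1 hbv hα0 h)
    intro hcv
    obtain ⟨d, hd⟩ := Submodule.mem_span_singleton.1 hcv
    have hd0 : d ≠ 0 := by
      rintro rfl
      rw [zero_smul, eq_comm, smul_eq_zero] at hd
      exact hd.elim hc hα0
    exact hbv (Submodule.mem_span_singleton.2 ⟨c / d, by
      rw [div_eq_inv_mul, mul_smul, ← hd, inv_smul_smul₀ hd0]⟩)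
  · exact key α β hv hβ hav hα0 h

/-- One scalar works in every elementary position. -/
theorem Rel.elementary {M : Subgroup (GL (Fin n) F)} (hn : 2 < n) (hM : HasRat M F₀) {μ : F}
    {v α : Fin n → F₀} (hv0 : v ≠ 0) (hα0 : α ≠ 0) (hv : α ⬝ᵥ v = 0) (h : Rel M μ v α)
    {i j : Fin n} (hij : i ≠ j) : tv (Pi.single i (1 : F)) (μ • Pi.single j 1) ∈ M := by
  obtain ⟨a, ha0, ha1, ha2⟩ := exists_rat_orth_two hn α (Pi.single j 1)
  have h1 := Rel.axis hn hM hα0 ha1 ha2 (Rel.centre hn hM hv0 hv ha1 h)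
  have h2 := Rel.centre hn hM ha0 ha2 (a := Pi.single i 1) (by simp [hij.symm]) h1
  simpa [Rel, up_single] using h2

/-- The goal: a new scalar in all elementary positions. -/
def HasNew (M : Subgroup (GL (Fin n) F)) (F₀ : Subfield F) : Prop :=
  ∃ μ : F, μ ∉ F₀ ∧ ∀ i j : Fin n, i ≠ j → tv (Pi.single i (1 : F)) (μ • Pi.single j 1) ∈ M

theorem hasNew_of_rat_centre {M : Subgroup (GL (Fin n) F)} (hn : 2 < n) (hM : HasRat M F₀)
    {v : Fin n → F₀} (hv0 : v ≠ 0) {φ : Fin n → F} (h : φ ⬝ᵥ up v = 0) (hmem : tv (up v) φ ∈ M)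
    {k : Fin n} (hk : φ k ∉ F₀) : HasNew M F₀ := by
  obtain ⟨α, hα0, hα1, hα2⟩ := exists_rat_orth_two hn v (Pi.single k 1)
  rw [dotProduct_comm] at hα1 hα2
  have h1 := axis_step hM (a := Pi.single k 1) hα2 h hmem (up_dot_zero hα1)
  rw [up_single, dotProduct_single, mul_one] at h1
  exact ⟨φ k, hk, fun i j hij => Rel.elementary hn hM hv0 hα0 hα1 h1 hij⟩

theorem hasNew_of_rat_axis {M : Subgroup (GL (Fin n) F)} (hn : 2 < n) (hM : HasRat M F₀)
    {α : Fin n → F₀} (hα0 : α ≠ 0) {u : Fin n → F} (h : up α ⬝ᵥ u = 0) (hmem : tv u (up α) ∈ M)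
    {k : Fin n} (hk : u k ∉ F₀) : HasNew M F₀ := by
  obtain ⟨b, hb0, hb1, hb2⟩ := exists_rat_orth_two hn α (Pi.single k 1)
  have h1 := centre_step hM (a := b) (α := Pi.single k 1) hb2 h hmem (up_dot_zero hb1)
  rw [up_single, single_dotProduct, one_mul, rel_smul_comm hb1] at h1
  exact ⟨u k, hk, fun i j hij => Rel.elementary hn hM hb0 hα0 hb1 h1 hij⟩

/-- A non-zero vector is proportional to a rational one, or no multiple of it is rational. -/
theorem exists_irr_coord {v : Fin n → F} (hv : ∀ (c : F) (a : Fin n → F₀), v ≠ c • up a) {c : F}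
    (hc : c ≠ 0) : ∃ k, (c • v) k ∉ F₀ := by
  by_contra h
  push Not at h
  obtain ⟨a, ha⟩ := exists_down h
  exact hv c⁻¹ a (by rw [← ha, inv_smul_smul₀ hc])

theorem hasNew_of_killed {M : Subgroup (GL (Fin n) F)} (hn : 2 < n) (hM : HasRat M F₀)
    {v φ : Fin n → F} (h : φ ⬝ᵥ v = 0) (hmem : tv v φ ∈ M) (hφ : φ ≠ 0)
    (hv : ∀ (c : F) (a : Fin n → F₀), v ≠ c • up a)
    {α : Fin n → F₀} (hα0 : α ≠ 0) (hαv : up α ⬝ᵥ v = 0) : HasNew M F₀ := by
  by_cases hex : ∃ a : Fin n → F₀, α ⬝ᵥ a = 0 ∧ φ ⬝ᵥ up a ≠ 0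
  · obtain ⟨a, ha, hφa⟩ := hex
    have h1 := axis_step hM ha h hmem hαv
    rw [← tv_smul_comm hαv] at h1
    obtain ⟨k, hk⟩ := exists_irr_coord hv hφa
    exact hasNew_of_rat_axis hn hM hα0 (by simp [hαv]) h1 hk
  · push Not at hex
    obtain ⟨i, hi⟩ := Function.ne_iff.1 hα0
    have hi' : (α i : F) ≠ 0 := fun h0 => hi (Subtype.ext h0)
    have hprop : φ = (φ i / (α i : F)) • up α := by
      funext j
      set a : Fin n → F₀ := Pi.single j 1 - (α j / α i) • Pi.single i 1 with ha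
      have ha' : α ⬝ᵥ a = 0 := by
        rw [ha, dotProduct_sub, dotProduct_smul]
        simp [div_mul_cancel₀ _ hi]
      have := hex a ha'
      rw [show up a = Pi.single j 1 - ((α j / α i : F₀) : F) • Pi.single i 1 by
        rw [ha, sub_eq_add_neg, up_add, ← neg_smul, up_smul, up_single, up_single, sub_eq_add_neg,
          ← neg_smul, NegMemClass.coe_neg]] at this
      simp [dotProduct_sub, dotProduct_smul, sub_eq_zero] at this
      rw [this]
      simp [up]
      ring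
    set c := φ i / (α i : F)
    have hc : c ≠ 0 := fun h0 => hφ (by rw [hprop, h0, zero_smul])
    rw [hprop, ← tv_smul_comm hαv] at hmem
    obtain ⟨k, hk⟩ := exists_irr_coord hv hc
    exact hasNew_of_rat_axis hn hM hα0 (by simp [hαv]) hmem hk

/-- The functionals α ↦ α·v, α rational with α·a = 0, do not fit into two rational lines. -/
theorem exists_outside (hn : 3 < n) {v : Fin n → F}
    (hinj : ∀ α : Fin n → F₀, up α ⬝ᵥ v = 0 → α = 0) (a : Fin n → F₀) (k₁ k₂ : F) :
    ∃ α : Fin n → F₀, α ⬝ᵥ a = 0 ∧ ∀ b c : F₀, up α ⬝ᵥ v ≠ (b : F) * k₁ + (c : F) * k₂ := by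
  by_contra h
  push Not at h
  let dotA : (Fin n → F₀) →ₗ[F₀] F₀ :=
    { toFun := fun α => α ⬝ᵥ a
      map_add' := fun x y => add_dotProduct x y a
      map_smul' := fun c x => smul_dotProduct c x a }
  let ev : (Fin n → F₀) →ₗ[F₀] F :=
    { toFun := fun α => up α ⬝ᵥ v
      map_add' := fun x y => by rw [up_add, add_dotProduct]
      map_smul' := fun c x => by rw [up_smul, smul_dotProduct]; rfl }
  have hev : Function.Injective ev := by
    rw [← LinearMap.ker_eq_bot, Submodule.eq_bot_iff]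
    exact fun x hx => hinj x hx
  have hle : (LinearMap.ker dotA).map ev ≤ Submodule.span F₀ {k₁, k₂} := by
    rintro _ ⟨α, hα, rfl⟩
    obtain ⟨b, c, hbc⟩ := h α hα
    exact Submodule.mem_span_pair.2 ⟨b, c, hbc.symm⟩
  have : FiniteDimensional F₀ ↥(Submodule.span F₀ ({k₁, k₂} : Set F)) :=
    FiniteDimensional.span_of_finite F₀ ((Set.finite_singleton k₂).insert k₁)
  have h1 := Submodule.finrank_mono hle
  rw [← ((LinearMap.ker dotA).equivMapOfInjective ev hev).finrank_eq] at h1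
  have h2 := LinearMap.finrank_range_add_finrank_ker dotA
  have h3 : Module.finrank F₀ (LinearMap.range dotA) ≤ 1 := by
    simpa using Submodule.finrank_le (LinearMap.range dotA)
  classical
  have h4 := finrank_span_finset_le_card (R := F₀) ({k₁, k₂} : Finset F)
  rw [Finset.coe_pair] at h4
  have h5 : Finset.card ({k₁, k₂} : Finset F) ≤ 2 := Finset.card_le_two
  rw [Module.finrank_fintype_fun_eq_card, Fintype.card_fin] at h2
  change Module.finrank F₀ ↥(Submodule.span F₀ ({k₁, k₂} : Set F)) ≤ _ at h4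
  omega

/-- Linear maps which are the identity modulo a subspace. -/
def modSubgroup (L : Submodule F (Fin n → F)) : Subgroup (GL (Fin n) F) where
  carrier := {g | ∀ x, (g : Matrix (Fin n) (Fin n) F) *ᵥ x - x ∈ L}
  one_mem' := fun x => by simp
  mul_mem' {g h} hg hh x := by
    rw [gl_mul_mulVec]
    simpa using L.add_mem (hg ((h : Matrix (Fin n) (Fin n) F) *ᵥ x)) (hh x)
  inv_mem' {g} hg x := by
    have := L.neg_mem (hg (((g⁻¹ : GL (Fin n) F) : Matrix (Fin n) (Fin n) F) *ᵥ x))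
    simpa using this

theorem mem_modSubgroup {L : Submodule F (Fin n → F)} {g : GL (Fin n) F} :
    g ∈ modSubgroup L ↔ ∀ x, (g : Matrix (Fin n) (Fin n) F) *ᵥ x - x ∈ L := Iff.rfl

theorem tv_eq_one {v φ : Fin n → F} (hv : v ≠ 0) (h : φ ⬝ᵥ v = 0) (h1 : tv v φ = 1) : φ = 0 := by
  refine dotProduct_eq _ _ fun x => ?_
  have := congrArg (fun g : GL (Fin n) F => (g : Matrix (Fin n) (Fin n) F) *ᵥ x) h1
  simp only [tv_mulVec h, Units.val_one, one_mulVec, add_eq_left] at this
  rw [zero_dotProduct]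
  exact (smul_eq_zero.1 this).resolve_right hv

theorem pair_coords (v : Fin n → F) (a : Fin n → F) {L : Submodule F (Fin n → F)}
    (hL : L = Submodule.span F {a, v}) {x : Fin n → F} (hx : x ∈ L) : ∃ p q : F, x = p • a + q • v := by
  rw [hL, Submodule.mem_span_pair] at hx
  obtain ⟨p, q, h⟩ := hx
  exact ⟨p, q, h.symm⟩

variable [Fintype F]

/-- The remaining case: no rational functional kills the centre. -/
theorem hasNew_of_injective {M : Subgroup (GL (Fin n) F)} (hn : 3 < n) (hM : HasRat M F₀)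
    (hMSL : M ≤ Cfsg.Geo.specialLinear (Fin n) F)
    {v φ : Fin n → F} (h : φ ⬝ᵥ v = 0) (hmem : tv v φ ∈ M) (hφ : φ ≠ 0)
    (hinj : ∀ α : Fin n → F₀, up α ⬝ᵥ v = 0 → α = 0) : HasNew M F₀ := by
  by_contra hgoal
  obtain ⟨k, hk⟩ := Function.ne_iff.1 hφ
  set a : Fin n → F₀ := Pi.single k 1 with ha
  have ha0 : a ≠ 0 := by simp [ha]
  have hua0 : up a ≠ 0 := fun h0 => ha0 (up_eq_zero.1 h0)
  have hφa : φ ⬝ᵥ up a ≠ 0 := by rw [ha, up_single, dotProduct_single, mul_one]; exact hk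
  set L := Submodule.span F ({up a, v} : Set (Fin n → F)) with hL
  have haL : up a ∈ L := Submodule.subset_span (Set.mem_insert _ _)
  have hvL : v ∈ L := Submodule.subset_span (Set.mem_insert_of_mem _ rfl)
  have hrat : ∀ ξ : Fin n → F, ξ ⬝ᵥ up a = 0 → tv (up a) ξ ∈ M → ∃ β : Fin n → F₀, ξ = up β := by
    intro ξ hξ hξM
    refine exists_down fun i => ?_
    by_contra hi
    exact hgoal (hasNew_of_rat_centre (by omega) hM ha0 hξ hξM hi)
  let G := M ⊓ modSubgroup L
  have hsG : ∀ α : Fin n → F₀, α ⬝ᵥ a = 0 → tv (up a) (up α) ∈ G := fun α hα =>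
    ⟨hM a α hα, fun x => by
      rw [tv_mulVec (up_dot_zero hα), add_sub_cancel_left]
      exact L.smul_mem _ haL⟩
  have htG : tv v φ ∈ G := ⟨hmem, fun x => by
    rw [tv_mulVec h, add_sub_cancel_left]
    exact L.smul_mem _ hvL⟩
  -- stabiliser of the line through a
  have stab : ∀ g ∈ G, ∀ lam : F, (g : Matrix (Fin n) (Fin n) F) *ᵥ up a = lam • up a →
      ∃ β : Fin n → F₀, β ⬝ᵥ a = 0 ∧ g = tv (up a) (up β) := by
    intro g hg lam hlam
    set gi := ((g⁻¹ : GL (Fin n) F) : Matrix (Fin n) (Fin n) F) with hgi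
    have hlam0 : lam ≠ 0 := fun h0 => gl_mulVec_ne_zero g hua0 (by rw [hlam, h0, zero_smul])
    have hgia : gi *ᵥ up a = lam⁻¹ • up a := by
      have := congrArg (gi *ᵥ ·) hlam
      simp only [hgi, gl_inv_mulVec_mulVec, mulVec_smul] at this
      rw [hgi]
      conv_rhs => rw [this]
      rw [inv_smul_smul₀ hlam0]
    -- conjugates of the rational transvections stay rational
    have hconj : ∀ α : Fin n → F₀, α ⬝ᵥ a = 0 → ∀ w : Fin n → F₀,
        ∀ p q : F, gi *ᵥ up w - up w = p • up a + q • v →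
          ∃ b : F₀, lam * q * (up α ⬝ᵥ v) = (b : F) - lam * ((α ⬝ᵥ w : F₀) : F) := by
      intro α hα w p q hpq
      have hm := M.mul_mem (M.mul_mem hg.1 (hM a α hα)) (M.inv_mem hg.1)
      rw [conj_tv g (up_dot_zero hα), hlam, tv_smul_comm (by
        rw [← dotProduct_mulVec, ← hgi, hgia, dotProduct_smul, up_dot_zero hα, smul_zero])] at hm
      obtain ⟨β, hβ⟩ := hrat _ (by
        rw [smul_dotProduct, ← dotProduct_mulVec, ← hgi, hgia, dotProduct_smul, up_dot_zero hα,
          smul_zero, smul_zero]) hm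
      refine ⟨β ⬝ᵥ w, ?_⟩
      have e : up β ⬝ᵥ up w = lam * (up α ⬝ᵥ (gi *ᵥ up w)) := by
        rw [← hβ, smul_dotProduct, ← dotProduct_mulVec, smul_eq_mul]
      rw [sub_eq_iff_eq_add.1 hpq, dotProduct_add, dotProduct_add, dotProduct_smul, dotProduct_smul,
        up_dot_zero hα, up_dot, up_dot] at e
      simp only [smul_eq_mul, mul_zero, zero_add] at e
      rw [e]
      ring
    -- hence the image modulo the line is trivial
    have hq : ∀ w : Fin n → F₀, ∀ p q : F, gi *ᵥ up w - up w = p • up a + q • v → q = 0 := by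
      intro w p q hpq
      by_contra hq0
      obtain ⟨α, hα, hout⟩ := exists_outside hn hinj a (lam * q)⁻¹ q⁻¹
      obtain ⟨b, hb⟩ := hconj α hα w p q hpq
      refine hout b (-(α ⬝ᵥ w)) ?_
      rw [NegMemClass.coe_neg]
      field_simp
      linear_combination hb
    have hline : ∀ x, (g : Matrix (Fin n) (Fin n) F) *ᵥ x - x ∈ Submodule.span F {up a} := by
      suffices H : ∀ x, gi *ᵥ x - x ∈ Submodule.span F {up a} by
        intro x
        have h1 := H ((g : Matrix (Fin n) (Fin n) F) *ᵥ x)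
        rw [hgi, gl_inv_mulVec_mulVec] at h1
        simpa using Submodule.neg_mem _ h1
      intro x
      have hi : ∀ i, gi *ᵥ (Pi.single i 1) - Pi.single i 1 ∈ Submodule.span F {up a} := by
        intro i
        have hmemL : gi *ᵥ up (Pi.single i (1 : F₀)) - up (Pi.single i (1 : F₀)) ∈ L :=
          (G.inv_mem hg).2 _
        obtain ⟨p, q, hpq⟩ := pair_coords v (up a) rfl hmemL
        rw [hq _ p q hpq, zero_smul, add_zero, up_single] at hpq
        rw [hpq]
        exact Submodule.smul_mem _ _ (Submodule.mem_span_singleton_self _)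
      rw [pi_eq_sum_univ' x, mulVec_sum, ← Finset.sum_sub_distrib]
      refine Submodule.sum_mem _ fun i _ => ?_
      rw [mulVec_smul, ← smul_sub]
      exact Submodule.smul_mem _ _ (hi i)
    choose c hc using fun x => Submodule.mem_span_singleton.1 (hline x)
    set ξ : Fin n → F := fun i => c (Pi.single i 1) with hξ
    have hgx : ∀ x, (g : Matrix (Fin n) (Fin n) F) *ᵥ x = x + (ξ ⬝ᵥ x) • up a := by
      intro x
      conv_lhs => rw [pi_eq_sum_univ' x, mulVec_sum]
      conv_rhs => arg 1; rw [pi_eq_sum_univ' x]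
      rw [dotProduct, Finset.sum_smul, ← Finset.sum_add_distrib]
      refine Finset.sum_congr rfl fun i _ => ?_
      rw [mulVec_smul, ← sub_add_cancel ((g : Matrix (Fin n) (Fin n) F) *ᵥ Pi.single i 1) (Pi.single i 1),
        ← hc, smul_add, smul_smul, mul_comm (ξ i)]
      exact add_comm _ _
    have hval : (g : Matrix (Fin n) (Fin n) F) = 1 + vecMulVec (up a) ξ := by
      refine Matrix.ext_of_mulVec_single fun i => ?_
      rw [hgx, add_mulVec, one_mulVec, vecMulVec_mulVec]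
      congr 1
      ext j
      simp [mul_comm]
    have hξa : ξ ⬝ᵥ up a = 0 := by
      have := mem_specialLinear.1 (hMSL hg.1)
      rw [hval, vecMulVec_eq Unit, det_one_add_replicateCol_mul_replicateRow] at this
      simpa using this
    have hg' : g = tv (up a) ξ := gl_ext fun x => by rw [hgx, tv_mulVec hξa]
    obtain ⟨β, hβ⟩ := hrat ξ hξa (hg' ▸ hg.1)
    refine ⟨β, ?_, by rw [hg', hβ]⟩
    rw [hβ, up_dot] at hξa
    exact Subtype.ext hξa
  -- the stabiliser is abelian and self-centralising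
  let P : Subgroup G :=
    { carrier := {g | ((g : GL (Fin n) F) : Matrix (Fin n) (Fin n) F) *ᵥ up a = up a}
      one_mem' := by simp
      mul_mem' := fun {x y} (hx : _ = up a) (hy : _ = up a) => by
        change (((x : GL (Fin n) F) * (y : GL (Fin n) F) : GL (Fin n) F) : Matrix _ _ F) *ᵥ up a = up a
        rw [gl_mul_mulVec, hy, hx]
      inv_mem' := fun {x} (hx : _ = up a) => by
        change (((x : GL (Fin n) F)⁻¹ : GL (Fin n) F) : Matrix _ _ F) *ᵥ up a = up a
        conv_lhs => arg 2; rw [← hx]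
        exact gl_inv_mulVec_mulVec _ _ }
  have hP : ∀ g : G, g ∈ P ↔ ((g : GL (Fin n) F) : Matrix (Fin n) (Fin n) F) *ᵥ up a = up a :=
    fun g => Iff.rfl
  have hPform : ∀ g : G, g ∈ P → ∃ β : Fin n → F₀, β ⬝ᵥ a = 0 ∧ (g : GL (Fin n) F) = tv (up a) (up β) :=
    fun g hg => stab g g.2 1 (by rw [one_smul]; exact hg)
  have hmemP : ∀ α : Fin n → F₀, ∀ hα : α ⬝ᵥ a = 0, (⟨_, hsG α hα⟩ : G) ∈ P := fun α hα => by
    rw [hP, tv_mulVec (up_dot_zero hα), up_dot_zero hα, zero_smul, add_zero]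
  have hPcomm : ∀ x ∈ P, ∀ y ∈ P, x * y = y * x := by
    intro x hx y hy
    obtain ⟨β, hβ, hxe⟩ := hPform x hx
    obtain ⟨γ, hγ, hye⟩ := hPform y hy
    apply Subtype.ext
    rw [Subgroup.coe_mul, Subgroup.coe_mul, hxe, hye, tv_mul_tv_right (up_dot_zero hβ) (up_dot_zero hγ),
      tv_mul_tv_right (up_dot_zero hγ) (up_dot_zero hβ), add_comm]
  have hcent : ∀ x ∈ P, x ≠ 1 → ∀ g : G, g * x * g⁻¹ ∈ P → g ∈ P := by
    intro x hx hx1 g hg
    obtain ⟨β, hβ, hxe⟩ := hPform x hx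
    -- x fixes the image of a
    have hfix : ((x : GL (Fin n) F) : Matrix (Fin n) (Fin n) F) *ᵥ
        ((((g : GL (Fin n) F)⁻¹ : GL (Fin n) F) : Matrix (Fin n) (Fin n) F) *ᵥ up a) =
        (((g : GL (Fin n) F)⁻¹ : GL (Fin n) F) : Matrix (Fin n) (Fin n) F) *ᵥ up a := by
      have := congrArg ((((g : GL (Fin n) F)⁻¹ : GL (Fin n) F) : Matrix (Fin n) (Fin n) F) *ᵥ ·) ((hP _).1 hg)
      simp only [Subgroup.coe_mul, Subgroup.coe_inv, gl_mul_mulVec, gl_inv_mulVec_mulVec] at this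
      exact this
    set b := (((g : GL (Fin n) F)⁻¹ : GL (Fin n) F) : Matrix (Fin n) (Fin n) F) *ᵥ up a with hb
    have hbL : b ∈ L := by
      have h1 : b - up a ∈ L := (G.inv_mem g.2).2 (up a)
      have := L.add_mem h1 haL
      rwa [sub_add_cancel] at this
    obtain ⟨p, q, hpq⟩ := pair_coords v (up a) rfl hbL
    rw [hxe, tv_mulVec (up_dot_zero hβ), add_eq_left, smul_eq_zero_iff_left hua0, hpq, dotProduct_add,
      dotProduct_smul, dotProduct_smul, up_dot_zero hβ, smul_zero, zero_add, smul_eq_zero] at hfix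
    have hq0 : q = 0 := hfix.resolve_right fun h0 => hx1 (Subtype.ext (by
      rw [hxe, hinj β h0, up_zero]
      exact gl_ext fun z => by rw [tv_mulVec (by simp)]; simp))
    rw [hq0, zero_smul, add_zero] at hpq
    obtain ⟨γ, hγ, hge⟩ := stab _ (G.inv_mem g.2) p (by rw [← hb, hpq])
    have : g⁻¹ ∈ P := by
      rw [hP, Subgroup.coe_inv, hge, tv_mulVec (up_dot_zero hγ), up_dot_zero hγ, zero_smul, add_zero]
    exact inv_inv g ▸ P.inv_mem this
  have hcent' : ∀ x ∈ P, x ≠ 1 → ∀ g : G, g * x = x * g → g ∈ P := fun x hx hx1 g hgx =>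
    hcent x hx hx1 g (by rwa [hgx, mul_inv_cancel_right])
  -- it is a Sylow subgroup
  obtain ⟨p, hchar⟩ := CharP.exists F
  have hp : Fact p.Prime := ⟨CharP.char_is_prime F p⟩
  have hpow : ∀ x : Fin n → F, x ⬝ᵥ up a = 0 → ∀ m : ℕ, tv (up a) x ^ m = tv (up a) ((m : F) • x) := by
    intro x hx m
    induction m with
    | zero =>
      rw [pow_zero, Nat.cast_zero, zero_smul]
      exact gl_ext fun z => by rw [tv_mulVec (by simp)]; simp
    | succ m ih =>
      rw [pow_succ, ih, tv_mul_tv_right (by simp [hx]) hx, Nat.cast_succ, add_smul, one_smul]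
  have hPp : IsPGroup p P := by
    intro x
    refine ⟨1, ?_⟩
    obtain ⟨β, hβ, hxe⟩ := hPform x.1 x.2
    rw [pow_one]
    apply Subtype.ext
    apply Subtype.ext
    rw [Subgroup.coe_pow, Subgroup.coe_pow, hxe, hpow _ (up_dot_zero hβ), CharP.cast_eq_zero, zero_smul]
    exact gl_ext fun z => by rw [tv_mulVec (by simp)]; simp
  obtain ⟨α₁, hα₁, hα₁out⟩ := exists_outside hn hinj a 0 0
  have hα₁0 : up α₁ ⬝ᵥ v ≠ 0 := fun h0 => hα₁out 0 0 (by simp [h0])
  obtain ⟨α₂, hα₂, hα₂out⟩ := exists_outside hn hinj a (up α₁ ⬝ᵥ v) 0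
  set s : G := ⟨_, hsG α₁ hα₁⟩ with hs
  set t : G := ⟨_, hsG α₂ hα₂⟩ with ht
  have hsP : s ∈ P := hmemP α₁ hα₁
  have htP : t ∈ P := hmemP α₂ hα₂
  have hs1 : s ≠ 1 := by
    intro h1
    apply hα₁0
    rw [tv_eq_one hua0 (up_dot_zero hα₁) (congrArg Subtype.val h1), zero_dotProduct]
  obtain ⟨S, hS⟩ := hPp.exists_le_sylow
  have hSP : (S : Subgroup G) = P := by
    refine le_antisymm ?_ hS
    have : Nontrivial (S : Subgroup G) := ⟨⟨⟨s, hS hsP⟩, 1, fun h1 => hs1 (congrArg Subtype.val h1)⟩⟩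
    obtain ⟨z, hz⟩ := Subgroup.nontrivial_iff_exists_ne_one _ |>.1 (IsPGroup.center_nontrivial S.isPGroup')
    have hzc : ∀ y : (S : Subgroup G), (z : G) * y = y * z := fun y =>
      congrArg Subtype.val (Subgroup.mem_center_iff.1 hz.1 y).symm
    have hzP : (z : G) ∈ P := hcent' s hsP hs1 _ (hzc ⟨s, hS hsP⟩)
    exact fun y hy => hcent' _ hzP (fun h1 => hz.2 (Subtype.ext h1)) y (hzc ⟨y, hy⟩).symm
  have hN : Subgroup.normalizer ((S : Subgroup G) : Set G) ≤ Subgroup.centralizer ((S : Subgroup G) : Set G) := by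
    rw [hSP]
    intro g hg
    have hgP : g ∈ P := hcent s hsP hs1 g ((Subgroup.mem_normalizer_iff.1 hg s).1 hsP)
    exact fun y hy => hPcomm y hy g hgP
  have hK := MonoidHom.ker_transferSylow_isComplement' S hN
  set K := (MonoidHom.transferSylow S hN).ker with hKdef
  have hKP : ∀ x ∈ K, x ∈ P → x = 1 := fun x hxK hxP =>
    (Subgroup.disjoint_def.1 hK.disjoint) hxK (hSP.symm ▸ hxP)
  have hKp : ¬ p ∣ Nat.card K := by
    rw [← hK.index_eq_card]
    exact S.not_dvd_index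
  have hKbot : K ≤ ⊥ := by
    refine CfsgLib.Tech46.le_of_centralizers_le (p := p) s t ?_ ?_ (hPcomm s hsP t htP) K ⊥ hKp ?_ ?_ ?_
    · apply Subtype.ext
      rw [Subgroup.coe_pow, hs, hpow _ (up_dot_zero hα₁), CharP.cast_eq_zero, zero_smul]
      exact gl_ext fun z => by rw [tv_mulVec (by simp)]; simp
    · apply Subtype.ext
      rw [Subgroup.coe_pow, ht, hpow _ (up_dot_zero hα₂), CharP.cast_eq_zero, zero_smul]
      exact gl_ext fun z => by rw [tv_mulVec (by simp)]; simp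
    · rw [Subgroup.normalizer_eq_top]; exact Subgroup.mem_top _
    · rw [Subgroup.normalizer_eq_top]; exact Subgroup.mem_top _
    · intro i j hij x hx
      have hmemst : s ^ i * t ^ j ∈ P := P.mul_mem (P.pow_mem hsP i) (P.pow_mem htP j)
      refine Subgroup.mem_bot.2 (hKP x hx.1 (hcent' _ hmemst ?_ x
        (Subgroup.mem_centralizer_singleton_iff.1 hx.2)))
      intro h1
      rcases hij with ⟨-, rfl⟩ | ⟨rfl, rfl⟩
      · have h2 := congrArg Subtype.val h1
        rw [Subgroup.coe_mul, Subgroup.coe_pow, pow_one, hs, ht, hpow _ (up_dot_zero hα₁),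
          tv_mul_tv_right (by simp [up_dot_zero hα₁]) (up_dot_zero hα₂)] at h2
        have h3 := tv_eq_one hua0 (by simp [add_dotProduct, up_dot_zero hα₁, up_dot_zero hα₂]) h2
        have h4 := congrArg (fun z : Fin n → F => z ⬝ᵥ v) h3
        simp only [add_dotProduct, smul_dotProduct, zero_dotProduct, smul_eq_mul] at h4
        refine hα₂out (-(i : F₀)) 0 ?_
        simp
        linear_combination h4
      · simp only [pow_one, pow_zero, mul_one] at h1
        exact hs1 h1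
  have htop := hK.sup_eq_top
  rw [le_bot_iff.1 hKbot, bot_sup_eq, hSP] at htop
  have hta : (⟨_, htG⟩ : G) ∈ P := htop ▸ Subgroup.mem_top _
  rw [hP, tv_mulVec h, add_eq_left, smul_eq_zero] at hta
  rcases hta with h1 | h1
  · exact hφa h1
  · obtain ⟨α, hα, -⟩ := exists_outside hn hinj a 0 0
    exact hα₁0 (by rw [h1, dotProduct_zero])

/-- A transvection which is not rational yields a new scalar. -/
theorem hasNew_of_irrational {M : Subgroup (GL (Fin n) F)} (hn : 3 < n) (hM : HasRat M F₀)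
    (hMSL : M ≤ Cfsg.Geo.specialLinear (Fin n) F) {v φ : Fin n → F} (h : φ ⬝ᵥ v = 0)
    (hmem : tv v φ ∈ M) {i j : Fin n} (hij : v i * φ j ∉ F₀) : HasNew M F₀ := by
  have hφ : φ ≠ 0 := fun h0 => hij (by simp [h0, F₀.zero_mem])
  have hv : v ≠ 0 := fun h0 => hij (by simp [h0, F₀.zero_mem])
  by_cases hprop : ∃ (c : F) (a : Fin n → F₀), v = c • up a
  · obtain ⟨c, a, rfl⟩ := hprop
    have ha : a ≠ 0 := fun h0 => hv (by rw [h0, up_zero, smul_zero])
    have hc : c ≠ 0 := fun h0 => hv (by rw [h0, zero_smul])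
    have hd : φ ⬝ᵥ up a = 0 := by simpa [hc] using h
    rw [tv_smul_comm hd] at hmem
    refine hasNew_of_rat_centre (by omega) hM ha (by simp [hd]) hmem (k := j) fun hmem' => hij ?_
    have := F₀.mul_mem (a i).2 hmem'
    simp [up] at this ⊢
    rwa [mul_left_comm, ← mul_assoc] at this
  · push Not at hprop
    by_cases hk : ∃ α : Fin n → F₀, α ≠ 0 ∧ up α ⬝ᵥ v = 0
    · obtain ⟨α, hα, hαv⟩ := hk
      exact hasNew_of_killed (by omega) hM h hmem hφ hprop hα hαv
    · push Not at hk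
      exact hasNew_of_injective hn hM hMSL h hmem hφ fun α hα => by_contra fun hne => hk α hne hα

end CfsgLib.GeomClasses.Rational
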