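import Cfsg.Agent.Lib.GeomClasses.OrthRat
import Cfsg.Agent.Lib.GeomClasses.OrthPair
import Cfsg.Agent.Lib.GeomClasses.Rational

/-!
One irrational axis at a rational centre gives all Eichler elements.
-/

set_option autoImplicit false
set_option linter.unusedSectionVars false

namespace CfsgLib.GeomClasses.OrthRat

open Matrix QuadraticMap CfsgLib.Orth CfsgLib.GeomClasses.OrthEich CfsgLib.GeomClasses.OrthPair

variable {ι : Type} [Fintype ι] [DecidableEq ι] {F : Type*} [Field F] [Fintype F]
  {q : QuadraticForm F (ι → F)} {F₀ : Subfield F} [Fintype F₀]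

/-- An overgroup of the rational root elements. -/
structure Over (q : QuadraticForm F (ι → F)) (F₀ : Subfield F) (M : Subgroup (O q)) : Prop extends Rat q F₀ where
  mem : ∀ a b : ι → F₀, q (up a) = 0 → polar q (up a) (up b) = 0 → eich q (up a) (up b) ∈ M

/-- Every axis at a rational centre pairs rationally with the rational vectors orthogonal to the centre. -/
def NoNew (F₀ : Subfield F) (M : Subgroup (O q)) : Prop :=
  ∀ a : ι → F₀, q (up a) = 0 → a ≠ 0 → ∀ X, polar q (up a) X = 0 → eich q (up a) X ∈ M →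
    ∀ z : ι → F₀, polar q (up a) (up z) = 0 → polar q X (up z) ∈ F₀

/-- The axes at a centre. -/
def axes (M : Subgroup (O q)) {u : ι → F} (hu : q u = 0) : AddSubgroup (ι → F) where
  carrier := {X | polar q u X = 0 ∧ eich q u X ∈ M}
  zero_mem' := ⟨polar_zero_right q u, by rw [← zero_smul F u, eich_smul_self hu]; exact M.one_mem⟩
  add_mem' := by
    rintro X Y ⟨hX, hX'⟩ ⟨hY, hY'⟩
    exact ⟨by rw [polar_add_right, hX, hY, add_zero], by rw [← eich_add hu hX hY]; exact M.mul_mem hX' hY'⟩
  neg_mem' := by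
    rintro X ⟨hX, hX'⟩
    refine ⟨by rw [polar_neg_right, hX, neg_zero], ?_⟩
    have h : eich q u X * eich q u (-X) = 1 := by
      rw [eich_add hu hX (by rw [polar_neg_right, hX, neg_zero]), add_neg_cancel, ← zero_smul F u,
        eich_smul_self hu]
    rw [eq_inv_of_mul_eq_one_right h]
    exact M.inv_mem hX'

/-- The coefficient works at the centre. -/
def Good (M : Subgroup (O q)) (l : F) (a : ι → F₀) : Prop :=
  ∀ z : ι → F₀, polar q (up a) (up z) = 0 → eich q (up a) (l • up z) ∈ M

variable {M : Subgroup (O q)} (V : Over q F₀ M)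
include V

theorem Over.mem_axes {u : ι → F} (hu : q u = 0) {X : ι → F} :
    X ∈ axes M hu ↔ polar q u X = 0 ∧ eich q u X ∈ M := Iff.rfl

theorem Over.rat_axes {a b : ι → F₀} (ha : q (up a) = 0) (hab : polar q (up a) (up b) = 0) :
    up b ∈ axes M ha := ⟨hab, V.mem a b ha hab⟩

/-- The displacement of an axis under a rational root element fixing the centre. -/
theorem Over.diff_mem {a p b : ι → F₀} (ha : q (up a) = 0) {X : ι → F} (hX : X ∈ axes M ha) (hp : q (up p) = 0)
    (hpb : polar q (up p) (up b) = 0) (hap : polar q (up a) (up p) = 0) (hab : polar q (up a) (up b) = 0) :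
    polar q X (up p) • up b + (-polar q X (up b) - q (up b) * polar q X (up p)) • up p ∈ axes M ha := by
  obtain ⟨haX, hXM⟩ := hX
  have hh := V.mem p b hp hpb
  have hfix : app (eich q (up p) (up b)) (up a) = up a := by rw [app_eich hp hpb, hap, hab]; simp
  have h1 := M.mul_mem (M.mul_mem hh hXM) (M.inv_mem hh)
  rw [eich_conj ha haX, hfix] at h1
  have h2 : app (eich q (up p) (up b)) X ∈ axes M ha := ⟨by rw [← hfix, polar_app, haX], h1⟩
  have h3 := (axes M ha).sub_mem h2 (show X ∈ axes M ha from ⟨haX, hXM⟩)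
  rwa [app_eich hp hpb, add_assoc, add_sub_cancel_left] at h3

/-- Multiples of a pairing on the line of a rational singular axis. -/
theorem Over.line_mem {a p : ι → F₀} (ha : q (up a) = 0) {X : ι → F} (hX : X ∈ axes M ha) (hp : q (up p) = 0)
    (hap : polar q (up a) (up p) = 0) {c : F} (hc : c ∈ F₀) : (c * polar q X (up p)) • up p ∈ axes M ha := by
  have S := V.toRat
  obtain ⟨y, hy, hyn⟩ := S.outside (S.two_le' a p) (S.two_le' a p)
  obtain ⟨r, hr, hqr, hry⟩ := S.sep (S.two_le' a p) hyn
  obtain ⟨hay, hpy⟩ := mem_orth_pair.1 hy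
  obtain ⟨har, hpr⟩ := mem_orth_pair.1 hr
  set t : F₀ := -⟨c, hc⟩ / polar S.quad r y with ht
  set b := t • r with hb
  have hby : polar q (up b) (up y) = -c := by
    rw [← S.polar_coe, hb, polar_smul_left, smul_eq_mul, ht, div_mul_cancel₀ _ hry]
    rfl
  have mk : ∀ d : ι → F₀, polar S.quad a d = 0 → polar S.quad p d = 0 →
      polar q X (up p) • up d + (-polar q X (up d) - q (up d) * polar q X (up p)) • up p ∈ axes M ha :=
    fun d h1 h2 => V.diff_mem ha hX hp (S.orth_zero h2) hap (S.orth_zero h1)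
  have hab : polar S.quad a b = 0 := by rw [hb, polar_smul_right, har, smul_zero]
  have hpb : polar S.quad p b = 0 := by rw [hb, polar_smul_right, hpr, smul_zero]
  have h := (axes M ha).sub_mem (mk (b + y) (by rw [polar_add_right, hab, hay, add_zero])
    (by rw [polar_add_right, hpb, hpy, add_zero])) ((axes M ha).add_mem (mk b hab hpb) (mk y hay hpy))
  rw [up_add, QuadraticMap.map_add ⇑q, polar_add_right, hby] at h
  convert h using 1
  module

/-- A coefficient on one rational line through a centre works on the whole of it. -/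
theorem Over.spread {a p : ι → F₀} (ha : q (up a) = 0) (hp : q (up p) = 0) (hap : polar q (up a) (up p) = 0)
    (hpa : p ∉ Submodule.span F₀ {a}) {l : F} (h : l • up p ∈ axes M ha) :
    ∀ z : ι → F₀, polar q (up a) (up z) = 0 → l • up z ∈ axes M ha := by
  have S := V.toRat
  obtain ⟨y, hy, hyp⟩ := S.partner hpa
  set p' := y - S.quad y • p with hp'
  have hqp : S.quad p = 0 := S.quad_eq_zero hp
  have hqp' : S.quad p' = 0 := by
    rw [hp', sub_eq_add_neg, ← neg_smul, QuadraticMap.map_add ⇑S.quad, QuadraticMap.map_smul, hqp,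
      polar_smul_right, hyp]
    simp
  have hay : polar S.quad a y = 0 := OrthTools.mem_orth.1 hy a (Submodule.mem_span_singleton_self a)
  have hpp' : polar q (up p) (up p') = 1 := by
    rw [← S.polar_coe, hp', polar_sub_right, polar_smul_right, polar_self', hqp, polar_comm, hyp]
    simp
  have hap' : polar q (up a) (up p') = 0 := S.orth_zero (by
    rw [hp', polar_sub_right, polar_smul_right, hay, S.orth_zero' hap, smul_zero, sub_zero])
  have hqp'' : q (up p') = 0 := S.singular hqp'
  have hline' : ∀ c ∈ F₀, (c * l) • up p' ∈ axes M ha := fun c hc => by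
    have := V.line_mem ha h hqp'' hap' hc
    rwa [polar_smul_left, hpp', smul_eq_mul, mul_one] at this
  have hline : ∀ c ∈ F₀, (c * l) • up p ∈ axes M ha := fun c hc => by
    have := V.line_mem ha (show l • up p' ∈ axes M ha by simpa using hline' 1 F₀.one_mem) hp hap hc
    rwa [polar_smul_left, polar_comm, hpp', smul_eq_mul, mul_one] at this
  intro z haz
  set b := z - polar S.quad z p' • p with hb
  have hab : polar q (up a) (up b) = 0 := S.orth_zero (by
    rw [hb, polar_sub_right, polar_smul_right, S.orth_zero' haz, S.orth_zero' hap, smul_zero, sub_zero])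
  have hp'b : polar q (up p') (up b) = 0 := S.orth_zero (by
    rw [hb, polar_sub_right, polar_smul_right, polar_comm (f := ⇑S.quad) p' p,
      show polar S.quad p p' = 1 from Subtype.ext (by rw [S.polar_coe, hpp']; rfl), smul_eq_mul, mul_one,
      polar_comm, sub_self])
  have h1 := V.diff_mem ha h hqp'' hp'b hap' hab
  rw [polar_smul_left, polar_smul_left, hpp', smul_eq_mul, mul_one, smul_eq_mul] at h1
  have h2 := (axes M ha).sub_mem h1 (hline' (-polar q (up p) (up b) - q (up b))
    (F₀.sub_mem (F₀.neg_mem (S.polar_mem p b)) (S.rat _ (up_rv b))))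
  have h3 := (axes M ha).add_mem h2 (hline ((polar S.quad z p' : F₀) : F) (Subtype.coe_prop _))
  convert h3 using 1
  rw [hb, up_sub, up_smul]
  module

theorem Over.good_next {l : F} {a b : ι → F₀} (h : Good M l a) (ha : q (up a) = 0) (hb : q (up b) = 0)
    (hab : polar q (up a) (up b) = 0) (hn : a ∉ Submodule.span F₀ {b}) : Good M l b := by
  have h1 : polar q (up b) (up a) = 0 := by rw [polar_comm, hab]
  refine fun z hz => (V.spread hb ha h1 hn ?_ z hz).2
  refine ⟨by rw [polar_smul_right, h1, smul_zero], ?_⟩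
  have h2 := h (-b) (by rw [← neg_one_smul F₀ b, up_smul, polar_smul_right, hab, smul_zero])
  rw [show up (-b) = -up b from funext fun i => by simp [up],
    eich_swap ha (by rw [QuadraticMap.map_smul, QuadraticMap.map_neg, hb, smul_zero])
      (by rw [polar_smul_right, polar_neg_right, hab, neg_zero, smul_zero]),
    smul_neg, ← neg_smul, eich_smul_left hb (by rw [polar_neg_right, h1, neg_zero]), neg_smul_neg] at h2
  exact h2

theorem Over.good_all {l : F} {a : ι → F₀} (h : Good M l a) (ha : q (up a) = 0) (ha0 : a ≠ 0) (c : ι → F₀)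
    (hc : q (up c) = 0) : Good M l c := by
  have S := V.toRat
  by_cases hc0 : c = 0
  · subst hc0
    intro z _
    rw [up_zero, eich_zero_left]
    exact M.one_mem
  obtain ⟨y, hy, hyn⟩ := S.outside (S.two_le' a c) (S.two_le' a c)
  obtain ⟨d, hd, hqd, hdy⟩ := S.sep (S.two_le' a c) hyn
  rw [mem_orth_pair] at hd hy
  have hdn : d ∉ Submodule.span F₀ ({a, c} : Set (ι → F₀)) := fun hin => by
    obtain ⟨r, s, rfl⟩ := Submodule.mem_span_pair.1 hin
    rw [polar_add_left, polar_smul_left, polar_smul_left, hy.1, hy.2] at hdy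
    simp at hdy
  have hd0 : d ≠ 0 := fun h => hdn (h ▸ Submodule.zero_mem _)
  have h1 := V.good_next h ha (S.singular hqd) (S.orth_zero hd.1) (fun hin => by
    obtain ⟨r, hr⟩ := Submodule.mem_span_singleton.1 hin
    have hr0 : r ≠ 0 := fun h0 => ha0 (by rw [← hr, h0, zero_smul])
    exact hdn (Submodule.mem_span_pair.2 ⟨r⁻¹, 0, by rw [← hr, inv_smul_smul₀ hr0, zero_smul, add_zero]⟩))
  refine V.good_next h1 (S.singular hqd) hc (by rw [polar_comm]; exact S.orth_zero hd.2) fun hin => ?_
  exact hdn (Submodule.span_mono (by simp) hin)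

theorem Over.good_mul {l m : F} (hl : ∀ a : ι → F₀, q (up a) = 0 → Good M l a)
    (hm : ∀ a : ι → F₀, q (up a) = 0 → Good M m a) :
    ∀ a : ι → F₀, q (up a) = 0 → Good M (l * m) a := by
  have S := V.toRat
  obtain ⟨a, -, ha0, hqa⟩ := OrthTools.exists_singular S.quad_nondegenerate (⊤ : Submodule F₀ (ι → F₀))
    (by rw [finrank_top, Module.finrank_fintype_fun_eq_card]; have := S.seven; omega)
  obtain ⟨y₀, hy₀, hy₀n⟩ := S.outside (S.one_le' a) (S.one_le' a)
  obtain ⟨v, hv, hqv, hvy⟩ := S.sep (S.one_le' a) hy₀n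
  have hva : v ∉ Submodule.span F₀ {a} := fun hin => by
    obtain ⟨r, rfl⟩ := Submodule.mem_span_singleton.1 hin
    rw [polar_smul_left, OrthTools.mem_orth.1 hy₀ a (Submodule.mem_span_singleton_self a), smul_zero] at hvy
    exact hvy rfl
  have hav : polar S.quad a v = 0 := OrthTools.mem_orth.1 hv a (Submodule.mem_span_singleton_self a)
  obtain ⟨b₁, hb₁, hb₁n⟩ := S.outside (S.two_le' a v) (S.two_le' a v)
  obtain ⟨b₂, hb₂, hb₂₁⟩ := S.partner hb₁n
  rw [mem_orth_pair] at hb₁ hb₂
  have e_av := S.orth_zero hav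
  have ea := S.singular hqa
  have ev := S.singular hqv
  have e1 := S.orth_zero hb₁.1
  have e1' := S.orth_zero hb₁.2
  have e2 := S.orth_zero hb₂.1
  have e2' := S.orth_zero hb₂.2
  have e12 : polar q (up b₂) (up b₁) = 1 := by rw [← S.polar_coe, hb₂₁]; rfl
  have p1 : polar q (up a) (l • up b₁) = 0 := by rw [polar_smul_right, e1, smul_zero]
  have p2 : polar q (up v) (m • up b₂) = 0 := by rw [polar_smul_right, e2', smul_zero]
  have hx := hl a ea b₁ e1
  have hy := hm v ev b₂ e2'
  have f1 : app (eich q (up a) (l • up b₁)) (up v) = up v := by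
    rw [app_eich ea p1, polar_comm (f := ⇑q) (up v) (up a), e_av, polar_smul_right, e1']
    simp
  have f2 : app (eich q (up a) (l • up b₁)) (m • up b₂) = m • up b₂ + (-(l * m)) • up a := by
    rw [map_smul, app_eich ea p1, polar_comm (f := ⇑q) (up b₂) (up a), e2, polar_smul_right, e12]
    match_scalars <;> simp [mul_comm]
  have h1 := M.mul_mem (M.mul_mem (M.mul_mem hx hy) (M.inv_mem hx)) (M.inv_mem hy)
  have p3 : polar q (up v) ((-(l * m)) • up a) = 0 := by
    rw [polar_smul_right, polar_comm, e_av, smul_zero]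
  rw [eich_conj ev p2, f1, f2, add_comm, ← eich_add ev p3 p2, mul_inv_cancel_right,
    eich_swap ev (by rw [QuadraticMap.map_smul, ea, smul_zero]) p3,
    eich_smul_left ea (by rw [polar_neg_right, e_av, neg_zero]), neg_smul_neg] at h1
  have h4 : (l * m) • up v ∈ axes M ea := ⟨by rw [polar_smul_right, e_av, smul_zero], h1⟩
  exact V.good_all (fun z hz => (V.spread ea ev e_av hva h4 z hz).2) ea ha0

/-- One irrational axis at a rational centre gives all of `Ω`. -/
theorem Over.commutator_le_of_new {r : ℕ} (hr : r.Prime) (hcard : Fintype.card F = Nat.card F₀ ^ r)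
    (hnew : ¬ NoNew F₀ M) : commutator (O q) ≤ M := by
  have S := V.toRat
  simp only [NoNew] at hnew
  push Not at hnew
  obtain ⟨a, ha, ha0, X, haX, hX, z, haz, hXz⟩ := hnew
  have hza : z ∉ Submodule.span F₀ {a} := fun hin => by
    obtain ⟨k, rfl⟩ := Submodule.mem_span_singleton.1 hin
    rw [up_smul, polar_smul_right, polar_comm, haX, smul_zero] at hXz
    exact hXz F₀.zero_mem
  obtain ⟨z₁, z₂, hz₁, hz₂, hq₁, hq₂, hz⟩ := S.split (S.one_le' a) (y := z)
    (OrthTools.mem_orth.2 fun y hy => by
      obtain ⟨k, rfl⟩ := Submodule.mem_span_singleton.1 hy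
      rw [polar_smul_left, S.orth_zero' haz, smul_zero]) (Or.inl hza)
  obtain ⟨p, hp, hqp, hXp⟩ : ∃ p, p ∈ OrthTools.orth S.quad (Submodule.span F₀ {a}) ∧ S.quad p = 0 ∧
      polar q X (up p) ∉ F₀ := by
    by_contra hc
    push Not at hc
    rw [hz, up_sub, polar_sub_right] at hXz
    exact hXz (F₀.sub_mem (hc z₁ hz₁ hq₁) (hc z₂ hz₂ hq₂))
  have hap : polar q (up a) (up p) = 0 :=
    S.orth_zero (OrthTools.mem_orth.1 hp a (Submodule.mem_span_singleton_self a))
  have hpa : p ∉ Submodule.span F₀ {a} := fun hin => by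
    obtain ⟨k, rfl⟩ := Submodule.mem_span_singleton.1 hin
    rw [up_smul, polar_smul_right, polar_comm, haX, smul_zero] at hXp
    exact hXp F₀.zero_mem
  set l := polar q X (up p)
  have hlA : l • up p ∈ axes M ha := by
    simpa using V.line_mem ha (show X ∈ axes M ha from ⟨haX, hX⟩) (S.singular hqp) hap F₀.one_mem
  have hl : ∀ c, q (up c) = 0 → Good M l c :=
    V.good_all (fun z hz => (V.spread ha (S.singular hqp) hap hpa hlA z hz).2) ha ha0
  let C : Set F := {t | ∀ c : ι → F₀, q (up c) = 0 → Good M t c}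
  have hbase : ∀ t ∈ F₀, t ∈ C := fun t ht c hc z hz => by
    have := V.mem c ((⟨t, ht⟩ : F₀) • z) hc (by rw [up_smul, polar_smul_right, hz, smul_zero])
    rwa [up_smul] at this
  have hadd : ∀ s ∈ C, ∀ t ∈ C, s + t ∈ C := fun s hs t ht c hc z hz => by
    rw [add_smul, ← eich_add hc (by rw [polar_smul_right, hz, smul_zero]) (by rw [polar_smul_right, hz, smul_zero])]
    exact M.mul_mem (hs c hc z hz) (ht c hc z hz)
  have hmul : ∀ s ∈ C, ∀ t ∈ C, s * t ∈ C := fun s hs t ht => V.good_mul hs ht
  have hpow : ∀ t ∈ C, ∀ k : ℕ, t ^ k ∈ C := fun t ht k => by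
    induction k with
    | zero => rw [pow_zero]; exact hbase 1 F₀.one_mem
    | succ k ih => rw [pow_succ]; exact hmul _ ih _ ht
  let E : Subfield F :=
    { carrier := C
      mul_mem' := fun hs ht => hmul _ hs _ ht
      one_mem' := hbase 1 F₀.one_mem
      add_mem' := fun hs ht => hadd _ hs _ ht
      zero_mem' := hbase 0 F₀.zero_mem
      neg_mem' := fun {t} ht => by
        rw [← neg_one_mul]; exact hmul _ (hbase _ (F₀.neg_mem F₀.one_mem)) _ ht
      inv_mem' := fun t ht => by
        rcases eq_or_ne t 0 with rfl | h0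
        · rwa [_root_.inv_zero]
        have h2 : 2 ≤ Fintype.card F := Fintype.one_lt_card
        rw [← eq_inv_of_mul_eq_one_left (a := t ^ (Fintype.card F - 2)) (b := t) (by
          rw [← pow_succ, show Fintype.card F - 2 + 1 = Fintype.card F - 1 by omega,
            FiniteField.pow_card_sub_one_eq_one t h0])]
        exact hpow t ht _ }
  have htop : E = ⊤ := Rational.subfield_eq_top_of_lt hr hcard
    (lt_of_le_of_ne (fun t ht => hbase t ht) fun he => hXp (by rw [he]; exact hl))
  have hall : ∀ t : F, t ∈ C := fun t => (htop ▸ Subfield.mem_top t : t ∈ E)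
  have hfull : ∀ c : ι → F₀, q (up c) = 0 → c ≠ 0 → Full M (up c) := by
    intro c hc hc0
    refine ⟨hc, fun Y hY => ?_⟩
    obtain ⟨w, -, hw⟩ := S.partner (T := ⊥) (v := c) (by simpa using hc0)
    let e : ι → ι → F₀ := fun i => Pi.single i 1 - polar S.quad (Pi.single i 1) c • w
    have he : ∀ i, polar q (up c) (up (e i)) = 0 := fun i => S.orth_zero (by
      rw [polar_comm, polar_sub_left, polar_smul_left, hw, smul_eq_mul, mul_one, sub_self])
    have h1 : ∑ i, Y i • up (e i) ∈ axes M hc := AddSubgroup.sum_mem _ fun i _ =>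
      ⟨by rw [polar_smul_right, he i, smul_zero], hall (Y i) c hc (e i) (he i)⟩
    have h2 : ∑ i, Y i * polar q (Pi.single i 1) (up c) = 0 := by
      rw [← hY, polar_comm, ← OrthSimilarity.dual_dot]
      exact Finset.sum_congr rfl fun i _ => mul_comm _ _
    have h3 : ∑ i, Y i • up (e i) = Y := by
      simp only [e, up_sub, up_smul, S.polar_coe, up_single, smul_sub, smul_smul, Finset.sum_sub_distrib,
        ← Finset.sum_smul, h2, zero_smul, sub_zero]
      exact (pi_eq_sum_univ' Y).symm
    exact h3 ▸ h1.2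
  obtain ⟨w, -, hw⟩ := S.partner (T := ⊥) (v := a) (by simpa using ha0)
  set b := w - S.quad w • a with hb
  have hqb : S.quad b = 0 := by
    rw [hb, sub_eq_add_neg, ← neg_smul, QuadraticMap.map_add ⇑S.quad, QuadraticMap.map_smul, S.quad_eq_zero ha,
      polar_smul_right, hw]
    simp
  have hba : polar q (up b) (up a) ≠ 0 := by
    rw [← S.polar_coe, hb, polar_sub_left, polar_smul_left, hw, polar_self', S.quad_eq_zero ha]
    simp
  refine commutator_le_of_pair S.nondeg (by have := S.seven; omega) (hfull a ha ha0)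
    (hfull b (S.singular hqb) fun h0 => hba (by rw [h0, up_zero, polar_zero_left])) hba

end CfsgLib.GeomClasses.OrthRat
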