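import Cfsg.Agent.Lib.GeomClasses.OrthSubspace
import Cfsg.Agent.Lib.Orth.Discriminant

/-!
Auxiliary facts for subspace stabilizers in orthogonal groups.
-/

set_option autoImplicit false
set_option linter.unusedSectionVars false

namespace CfsgLib.GeomClasses.OrthSubspace

open Matrix QuadraticMap CfsgLib.Maximal.TensorTools CfsgLib.Orth CfsgLib.GeomClasses.OrthEich

variable {ι : Type} [Fintype ι] [DecidableEq ι] {F : Type*} [Field F] [Fintype F]
  {q : QuadraticForm F (ι → F)} (hq : q.polarBilin.Nondegenerate)
include hq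

theorem orth_orth (W : Submodule F (ι → F)) : OrthTools.orth q (OrthTools.orth q W) = W :=
  LinearMap.BilinForm.orthogonal_orthogonal hq (polarBilin_isRefl hq) W

theorem stab_le_stab_orth (W : Submodule F (ι → F)) : stab q W ≤ stab q (OrthTools.orth q W) := by
  intro g hg
  refine mem_stab.2 fun x hx => OrthTools.mem_orth.2 fun y hy => ?_
  rw [← app_app_inv g y, polar_app]
  exact OrthTools.mem_orth.1 hx _ (mem_stab.1 ((stab q W).inv_mem hg) y hy)

theorem stab_orth (W : Submodule F (ι → F)) : stab q (OrthTools.orth q W) = stab q W :=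
  le_antisymm (by simpa [orth_orth hq W] using stab_le_stab_orth hq (OrthTools.orth q W)) (stab_le_stab_orth hq W)

/-- The sum of two isometric orthogonal subspaces of even dimension has plus type. -/
theorem plus_of_swap {k : ℕ} (hke : Even k) (hι : Fintype.card ι = 2 * k) {W : Submodule F (ι → F)}
    (hWk : Module.finrank F W = k) (hW : ∀ x ∈ W, x ≠ 0 → ∃ y ∈ W, polar q x y ≠ 0) {g : O q}
    (hg : ∀ x ∈ W, app g x ∈ OrthTools.orth q W) :
    ∃ X : Submodule F (ι → F), Module.finrank F X = k ∧ ∀ x ∈ X, q x = 0 := by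
  classical
  set U := OrthTools.orth q W with hU
  have hWU : ∀ w ∈ W, ∀ u ∈ U, polar q w u = 0 := fun w hw u hu => OrthTools.mem_orth.1 hu w hw
  have hdisj : Disjoint W U := Submodule.disjoint_def.2 fun x hxW hxU => by
    by_contra h0
    obtain ⟨y, hy, hxy⟩ := hW x hxW h0
    exact hxy (by rw [polar_comm]; exact hWU y hy x hxU)
  by_cases h2 : (2 : F) = 0
  · let φ : (ι → F) →ₗ[F] (ι → F) := LinearMap.id + app g
    have hinj : Function.Injective (φ.domRestrict W) := by
      refine (injective_iff_map_eq_zero _).2 fun x hx => Subtype.ext ?_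
      have hx' : (x : ι → F) + app g x = 0 := hx
      refine Submodule.disjoint_def.1 hdisj _ x.2 ?_
      rw [eq_neg_of_add_eq_zero_left hx']
      exact U.neg_mem (hg _ x.2)
    refine ⟨LinearMap.range (φ.domRestrict W), by rw [LinearMap.finrank_range_of_inj hinj, hWk], ?_⟩
    rintro _ ⟨x, rfl⟩
    show q ((x : ι → F) + app g x) = 0
    rw [QuadraticMap.map_add ⇑q, Q_app, hWU _ x.2 _ (hg _ x.2)]
    linear_combination (q (x : ι → F)) * h2
  · have hdU : Module.finrank F U = k := by
      rw [OrthTools.finrank_orth hq, hι, hWk]; omega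
    have hcompl : IsCompl W U := ⟨hdisj, codisjoint_iff.2 (Submodule.eq_top_of_finrank_eq (by
      have h1 := Submodule.finrank_sup_add_finrank_inf_eq W U
      rw [hdisj.eq_bot, finrank_bot] at h1
      rw [Module.finrank_fintype_fun_eq_card]
      omega))⟩
    let b := Module.finBasisOfFinrankEq F W hWk
    let gl : W →ₗ[F] U := LinearMap.codRestrict U ((app g).domRestrict W) fun x => hg x x.2
    have hgl : Function.Injective gl := fun x y h =>
      Subtype.ext (app_injective g (congrArg Subtype.val h))
    let ge : W ≃ₗ[F] U := LinearEquiv.ofInjectiveOfFinrankEq gl hgl (by rw [hWk, hdU])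
    have hge : ∀ x : W, (ge x : ι → F) = app g (x : ι → F) := fun x => rfl
    let c := (b.prod (b.map ge)).map (Submodule.prodEquivOfIsCompl W U hcompl)
    set G := LinearMap.BilinForm.toMatrix c q.polarBilin with hG
    set G₀ : Matrix (Fin k) (Fin k) F := Matrix.of fun i j => polar q (b i : ι → F) (b j) with hG₀
    have hblocks : G = Matrix.fromBlocks G₀ 0 0 G₀ := by
      ext i j
      rw [hG, LinearMap.BilinForm.toMatrix_apply]
      rcases i with i | i <;> rcases j with j | j
      · simp [c, G₀]
      · simp [c, hge, hWU _ (b i).2 _ (hg _ (b j).2)]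
      · simp [c, hge, polar_comm (f := ⇑q) (app g (b i : ι → F)), hWU _ (b j).2 _ (hg _ (b i).2)]
      · simp [c, hge, G₀]
    obtain ⟨X, hX, hXq⟩ := (lagrangian_iff h2 q.polarBilin hq
      (fun x y => by simp only [polarBilin_apply_apply]; exact polar_comm _ x y) c (n := k)
      (by rw [Module.finrank_fintype_fun_eq_card, hι])).2 ⟨G₀.det, by
        rw [← hG, hblocks, Matrix.det_fromBlocks_zero₁₂, hke.neg_one_pow, one_mul]⟩
    refine ⟨X, hX, fun x hx => ?_⟩
    have := hXq x hx x hx
    rw [polarBilin_apply_apply, polar_self'] at this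
    exact (mul_eq_zero.1 this).resolve_left h2

end CfsgLib.GeomClasses.OrthSubspace
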