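import Cfsg.Agent.Lib.GeomClasses.Decomp

/-!
Skew-hermitian forms (symplectic and unitary together): root elements, and maximality of the stabilizer of a
pair of complementary totally isotropic subspaces.
-/

set_option autoImplicit false
set_option linter.unusedSectionVars false

namespace CfsgLib.GeomClasses.SkewPair

open Matrix

variable {ι : Type} [Fintype ι] [DecidableEq ι] {F : Type*} [Field F]

/-- A non-degenerate skew-hermitian form whose involution has a non-zero trace, and whose fixed scalars are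
differences of two norms. -/
structure IsSkewHerm (σ : F ≃+* F) (f : (ι → F) → (ι → F) → F) : Prop where
  sesq : IsSesq (σ : F →+* F) f
  involutive : ∀ a, σ (σ a) = a
  skew : ∀ x y, f y x = - σ (f x y)
  nondegenerate : ∀ x, x ≠ 0 → ∃ y, f x y ≠ 0
  trace : ∃ t : F, t + σ t ≠ 0
  norms : ∀ c, σ c = c → ∃ a b, c = a * σ a - b * σ b

variable {σ : F ≃+* F} {f : (ι → F) → (ι → F) → F} (S : IsSkewHerm σ f)
include S

theorem add_left (x y v : ι → F) : f (x + y) v = f x v + f y v := S.sesq.add_left x y v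
theorem add_right (v x y : ι → F) : f v (x + y) = f v x + f v y := S.sesq.add_right v x y
theorem smul_left (c : F) (x v : ι → F) : f (c • x) v = c * f x v := S.sesq.smul_left c x v
theorem smul_right (c : F) (v x : ι → F) : f v (c • x) = σ c * f v x := S.sesq.smul_right c v x
theorem zero_left (v : ι → F) : f 0 v = 0 := S.sesq.zero_left v
theorem zero_right (v : ι → F) : f v 0 = 0 := S.sesq.zero_right v
theorem neg_left (x v : ι → F) : f (-x) v = - f x v := S.sesq.neg_left x v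

theorem neg_right (v x : ι → F) : f v (-x) = - f v x := by
  rw [← neg_one_smul F x, smul_right S, map_neg, map_one, neg_one_mul]

theorem eq_zero_comm {x y : ι → F} (h : f x y = 0) : f y x = 0 := by rw [S.skew, h, map_zero, neg_zero]

theorem ne_zero_comm {x y : ι → F} (h : f x y ≠ 0) : f y x ≠ 0 := fun h' => h (eq_zero_comm S h')

theorem conj_form (x y : ι → F) : σ (f x y) = - f y x := by rw [S.skew x y, neg_neg]

theorem formTv_mulVec {v : ι → F} (hv : f v v = 0) (c : F) (x : ι → F) :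
    (formTv f v c : Matrix ι ι F) *ᵥ x = x + (c * f x v) • v :=
  S.sesq.formTv_mulVec hv c x

omit S

/-- The map `x ↦ x + f(x,u) w + (γ f(x,u) + f(x,w)) u`. -/
noncomputable def root (f : (ι → F) → (ι → F) → F) (u w : ι → F) (γ : F) : GL ι F :=
  tv w (fVec f u) * tv u (γ • fVec f u + fVec f w)

include S

theorem root_mulVec {u w : ι → F} (hu : f u u = 0) (huw : f u w = 0) (γ : F) (x : ι → F) :
    (root f u w γ : Matrix ι ι F) *ᵥ x = x + f x u • w + (γ * f x u + f x w) • u := by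
  have h1 : fVec f u ⬝ᵥ w = 0 := by rw [S.sesq.fVec_dot, eq_zero_comm S huw]
  have h2 : (γ • fVec f u + fVec f w) ⬝ᵥ u = 0 := by
    rw [add_dotProduct, smul_dotProduct, S.sesq.fVec_dot, S.sesq.fVec_dot, hu, huw, smul_zero, add_zero]
  rw [root, gl_mul_mulVec, tv_mulVec h2, tv_mulVec h1, S.sesq.fVec_dot, add_dotProduct, smul_dotProduct,
    S.sesq.fVec_dot, S.sesq.fVec_dot, add_left S, smul_left S, hu, mul_zero, add_zero, smul_eq_mul]
  abel

theorem root_mul {u w w' : ι → F} (hu : f u u = 0) (h : f u w = 0) (h' : f u w' = 0) (γ γ' : F) :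
    root f u w γ * root f u w' γ' = root f u (w + w') (γ + γ' + f w' w) := by
  refine gl_ext fun x => ?_
  have h2 := eq_zero_comm S h'
  rw [gl_mul_mulVec, root_mulVec S hu h, root_mulVec S hu h',
    root_mulVec S hu (show f u (w + w') = 0 by rw [add_right S, h, h', add_zero])]
  simp only [add_left S, smul_left S, add_right S, hu, h, h2, mul_zero, add_zero]
  match_scalars <;> ring

theorem root_zero {u : ι → F} (hu : f u u = 0) (γ : F) : root f u 0 γ = formTv f u γ := by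
  refine gl_ext fun x => ?_
  rw [root_mulVec S hu (zero_right S u), formTv_mulVec S hu, zero_right S]
  simp

theorem root_inv {u w : ι → F} (hu : f u u = 0) (h : f u w = 0) (γ : F) :
    (root f u w γ)⁻¹ = root f u (-w) (-γ + f w w) := by
  refine inv_eq_of_mul_eq_one_right ?_
  rw [root_mul S hu h (by rw [neg_right S, h, neg_zero]), add_neg_cancel, root_zero S hu]
  refine gl_ext fun x => ?_
  rw [formTv_mulVec S hu, neg_left S, show γ + (-γ + f w w) + -f w w = 0 by ring]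
  simp

theorem root_swap {u w : ι → F} (hu : f u u = 0) (hw : f w w = 0) (huw : f u w = 0) :
    root f u w 0 = root f w u 0 := by
  refine gl_ext fun x => ?_
  rw [root_mulVec S hu huw, root_mulVec S hw (eq_zero_comm S huw), zero_mul, zero_add, zero_mul, zero_add,
    add_right_comm]

theorem root_isometry {u w : ι → F} (hu : f u u = 0) (huw : f u w = 0) {γ : F}
    (hγ : σ γ = γ - f w w) (x y : ι → F) :
    f ((root f u w γ : Matrix ι ι F) *ᵥ x) ((root f u w γ : Matrix ι ι F) *ᵥ y) = f x y := by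
  have hwu := eq_zero_comm S huw
  rw [root_mulVec S hu huw, root_mulVec S hu huw]
  simp only [add_left S, add_right S, smul_left S, smul_right S, hu, huw, hwu, map_add, map_mul, conj_form S]
  linear_combination (-(f x u * f u y)) * hγ

theorem root_conj {g : GL ι F} (hg : ∀ x y, f ((g : Matrix ι ι F) *ᵥ x) ((g : Matrix ι ι F) *ᵥ y) = f x y)
    {u w : ι → F} (hu : f u u = 0) (huw : f u w = 0) (γ : F) :
    g * root f u w γ * g⁻¹ = root f ((g : Matrix ι ι F) *ᵥ u) ((g : Matrix ι ι F) *ᵥ w) γ := by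
  refine gl_ext fun y => ?_
  obtain ⟨x, rfl⟩ : ∃ x, y = (g : Matrix ι ι F) *ᵥ x :=
    ⟨((g⁻¹ : GL ι F) : Matrix ι ι F) *ᵥ y, (gl_mulVec_inv_mulVec g y).symm⟩
  rw [gl_mul_mulVec, gl_mul_mulVec, gl_inv_mulVec_mulVec, root_mulVec S hu huw,
    root_mulVec S (by rw [hg, hu]) (by rw [hg, huw]), mulVec_add, mulVec_add, mulVec_smul, mulVec_smul, hg, hg]

/-- The commutator of two root elements with the same centre. -/
theorem commutator_mem {M : Subgroup (GL ι F)} {u w w' : ι → F} (hu : f u u = 0) (h : f u w = 0)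
    (h' : f u w' = 0) {γ γ' : F} (h1 : root f u w γ ∈ M) (h2 : root f u w' γ' ∈ M) :
    formTv f u (f w' w - f w w') ∈ M := by
  have h3 := M.mul_mem (M.mul_mem h1 h2) (M.inv_mem (M.mul_mem h2 h1))
  have hs : f u (w' + w) = 0 := by rw [add_right S, h, h', add_zero]
  rw [root_mul S hu h h', root_mul S hu h' h, root_inv S hu hs,
    root_mul S hu (by rw [add_right S, h, h', add_zero]) (by rw [neg_right S, hs, neg_zero]),
    add_comm w' w, add_neg_cancel, root_zero S hu, neg_left S] at h3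
  convert h3 using 2
  ring

theorem formTv_smul {v : ι → F} (hv : f v v = 0) (a c : F) : formTv f (a • v) c = formTv f v (a * σ a * c) := by
  refine gl_ext fun x => ?_
  rw [formTv_mulVec S (by rw [smul_left S, smul_right S, hv, mul_zero, mul_zero]), formTv_mulVec S hv,
    smul_right S, smul_smul]
  congr 2
  ring

omit S

/-- The data of a pair of complementary totally isotropic subspaces. -/
structure Pair (σ : F ≃+* F) (f : (ι → F) → (ι → F) → F) (D : Fin 2 → Submodule F (ι → F)) (k : ℕ) : Prop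
    extends IsSkewHerm σ f where
  decomp : Cfsg.Geo.IsMDecomposition k D
  isotropic : ∀ i, ∀ x ∈ D i, ∀ y ∈ D i, f x y = 0
  dim : 5 ≤ k ∨ 3 ≤ k ∧ ∃ θ : F, θ ≠ 0 ∧ θ + σ θ = 0

/-- A subgroup of isometries containing the root elements and swaps of the pair stabilizer. -/
structure Over (σ : F ≃+* F) (f : (ι → F) → (ι → F) → F) (D : Fin 2 → Submodule F (ι → F)) (k : ℕ)
    (M : Subgroup (GL ι F)) : Prop extends Pair σ f D k where
  isometry : ∀ g ∈ M, ∀ x y, f ((g : Matrix ι ι F) *ᵥ x) ((g : Matrix ι ι F) *ᵥ y) = f x y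
  root_mem : ∀ i j, i ≠ j → ∀ u ∈ D i, ∀ w ∈ D j, f u w = 0 → root f u w 0 ∈ M
  swap_mem : ∃ g ∈ M, ∀ x ∈ D 0, (g : Matrix ι ι F) *ᵥ x ∈ D 1

variable {D : Fin 2 → Submodule F (ι → F)} {k : ℕ} (P : Pair σ f D k)
include P

theorem Pair.components {i j : Fin 2} (hij : i ≠ j) (v : ι → F) : ∃ a ∈ D i, ∃ b ∈ D j, v = a + b := by
  have h := Decomp.sum_comp P.decomp v
  rw [Fin.sum_univ_two] at h
  have h0 := Decomp.comp_mem P.decomp 0 v
  have h1 := Decomp.comp_mem P.decomp 1 v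
  rcases (show (i = 0 ∧ j = 1) ∨ (i = 1 ∧ j = 0) by omega) with ⟨rfl, rfl⟩ | ⟨rfl, rfl⟩
  · exact ⟨_, h0, _, h1, h.symm⟩
  · exact ⟨_, h1, _, h0, by rw [add_comm]; exact h.symm⟩

theorem Pair.disjoint {i j : Fin 2} (hij : i ≠ j) {x : ι → F} (hi : x ∈ D i) (hj : x ∈ D j) : x = 0 := by
  rw [← Decomp.comp_of_mem P.decomp hi, Decomp.comp_of_mem_ne P.decomp hij.symm hj]

theorem Pair.finrank_inf_ker {i : Fin 2} (W : Submodule F (ι → F)) (φ : (ι → F) →ₗ[F] F) (hW : W ≤ D i) :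
    Module.finrank F W ≤ Module.finrank F ↥(W ⊓ LinearMap.ker φ) + 1 := by
  have h1 := Submodule.finrank_sup_add_finrank_inf_eq W (LinearMap.ker φ)
  have h2 := Submodule.finrank_le (W ⊔ LinearMap.ker φ)
  have h3 := φ.finrank_range_add_finrank_ker
  have h4 := Submodule.finrank_le (LinearMap.range φ)
  rw [Module.finrank_self] at h4
  omega

/-- The functional `x ↦ f(x, v)`. -/
def Pair.lin (v : ι → F) : (ι → F) →ₗ[F] F where
  toFun x := f x v
  map_add' x y := P.sesq.add_left x y v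
  map_smul' c x := P.sesq.smul_left c x v

theorem Pair.sep {i j : Fin 2} (hij : i ≠ j) {d₁ d₂ y : ι → F} (h1 : d₁ ∈ D j) (h2 : d₂ ∈ D j) (hy : y ∈ D j)
    (hn : y ∉ Submodule.span F {d₁, d₂}) : ∃ s ∈ D i, f s d₁ = 0 ∧ f s d₂ = 0 ∧ f s y ≠ 0 := by
  have S := P.toIsSkewHerm
  by_contra hc
  push Not at hc
  let L : Fin 2 → (D i →ₗ[F] F) := ![(P.lin d₁).domRestrict (D i), (P.lin d₂).domRestrict (D i)]
  have hmem : (P.lin y).domRestrict (D i) ∈ Submodule.span F (Set.range L) := mem_span_of_iInf_ker_le_ker (by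
    intro s hs
    rw [Submodule.mem_iInf] at hs
    exact hc s.1 s.2 (hs 0) (hs 1))
  obtain ⟨c, hc'⟩ := (Submodule.mem_span_range_iff_exists_fun F).1 hmem
  apply hn
  refine Submodule.mem_span_pair.2 ⟨σ (c 0), σ (c 1), (sub_eq_zero.1 ?_).symm⟩
  by_contra hne
  set z := y - (σ (c 0) • d₁ + σ (c 1) • d₂) with hz
  have hzj : z ∈ D j := (D j).sub_mem hy ((D j).add_mem ((D j).smul_mem _ h1) ((D j).smul_mem _ h2))
  obtain ⟨x, hx⟩ := P.nondegenerate z hne
  apply hx
  obtain ⟨a, ha, b, hb, rfl⟩ := P.components hij x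
  rw [add_right S, P.isotropic j z hzj b hb, add_zero]
  refine eq_zero_comm S ?_
  have e : ∀ s : D i, c 0 * f s d₁ + c 1 * f s d₂ = f s y := fun s => by
    have := LinearMap.congr_fun hc' s
    rw [Fin.sum_univ_two] at this
    simpa [L, Pair.lin] using this
  rw [hz, sub_eq_add_neg, add_right S, neg_right S, add_right S, smul_right S, smul_right S, P.involutive,
    P.involutive]
  linear_combination -(e ⟨a, ha⟩)

theorem Pair.sep_one {i j : Fin 2} (hij : i ≠ j) {d y : ι → F} (h1 : d ∈ D j) (hy : y ∈ D j)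
    (hn : y ∉ Submodule.span F {d}) : ∃ s ∈ D i, f s d = 0 ∧ f s y ≠ 0 := by
  obtain ⟨s, hs, e1, -, e3⟩ := P.sep hij h1 h1 hy (by simpa using hn)
  exact ⟨s, hs, e1, e3⟩

theorem Pair.three : 3 ≤ k := P.dim.elim (fun h => by omega) And.left

/-- A vector of a summand orthogonal to one vector and avoiding a line. -/
theorem Pair.exists_avoid_one {i : Fin 2} (d e : ι → F) :
    ∃ z ∈ D i, f z d = 0 ∧ z ∉ Submodule.span F {e} := by
  classical
  have h1 := P.finrank_inf_ker (D i) (P.lin d) le_rfl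
  have hk := P.decomp.finrank_eq i
  have := P.three
  obtain ⟨z, hz, hn⟩ := SetLike.not_le_iff_exists.1
    (show ¬ D i ⊓ LinearMap.ker (P.lin d) ≤ Submodule.span F {e} from fun h => by
      have h2 := Submodule.finrank_mono h
      have h3 := finrank_span_finset_le_card (R := F) ({e} : Finset (ι → F))
      rw [Finset.coe_singleton, Set.finrank, Finset.card_singleton] at h3
      omega)
  exact ⟨z, hz.1, hz.2, hn⟩

/-- A vector of a summand avoiding a span of two vectors. -/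
theorem Pair.exists_avoid_two {i : Fin 2} (e₁ e₂ : ι → F) :
    ∃ z ∈ D i, z ∉ Submodule.span F {e₁, e₂} := by
  classical
  have hk := P.decomp.finrank_eq i
  have := P.three
  obtain ⟨z, hz, hn⟩ := SetLike.not_le_iff_exists.1
    (show ¬ D i ≤ Submodule.span F {e₁, e₂} from fun h => by
      have h2 := Submodule.finrank_mono h
      have h3 := finrank_span_finset_le_card (R := F) ({e₁, e₂} : Finset (ι → F))
      rw [Finset.coe_pair, Set.finrank] at h3
      have h4 : Finset.card ({e₁, e₂} : Finset (ι → F)) ≤ 2 := Finset.card_le_two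
      omega)
  exact ⟨z, hz, hn⟩

/-- A non-zero vector of a summand orthogonal to two vectors. -/
theorem Pair.exists_orth_two {i : Fin 2} (d₁ d₂ : ι → F) : ∃ z ∈ D i, z ≠ 0 ∧ f z d₁ = 0 ∧ f z d₂ = 0 := by
  set X := D i ⊓ LinearMap.ker (P.lin d₁) ⊓ LinearMap.ker (P.lin d₂)
  have h1 := P.finrank_inf_ker (D i) (P.lin d₁) le_rfl
  have h2 := P.finrank_inf_ker (i := i) _ (P.lin d₂) (inf_le_left : D i ⊓ LinearMap.ker (P.lin d₁) ≤ D i)
  have hk := P.decomp.finrank_eq i
  have := P.three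
  obtain ⟨z, hz, hz0⟩ := Submodule.exists_mem_ne_zero_of_ne_bot (p := X) fun h => by
    have : Module.finrank F ↥X = 0 := by rw [h, finrank_bot]
    change Module.finrank F ↥(D i ⊓ LinearMap.ker (P.lin d₁) ⊓ LinearMap.ker (P.lin d₂)) = 0 at this
    omega
  exact ⟨z, hz.1.1, hz0, hz.1.2, hz.2⟩

/-- A vector of a summand orthogonal to two vectors and avoiding a small span. -/
theorem Pair.exists_avoid (h5 : 5 ≤ k) {i : Fin 2} (d₁ d₂ e₁ e₂ : ι → F) :
    ∃ z ∈ D i, f z d₁ = 0 ∧ f z d₂ = 0 ∧ z ∉ Submodule.span F {e₁, e₂} := by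
  classical
  set X := D i ⊓ LinearMap.ker (P.lin d₁) ⊓ LinearMap.ker (P.lin d₂)
  have h1 := P.finrank_inf_ker (D i) (P.lin d₁) le_rfl
  have h2 := P.finrank_inf_ker (i := i) _ (P.lin d₂) (inf_le_left : D i ⊓ LinearMap.ker (P.lin d₁) ≤ D i)
  have hk := P.decomp.finrank_eq i
  have h3 := finrank_span_finset_le_card (R := F) ({e₁, e₂} : Finset (ι → F))
  rw [Finset.coe_pair, Set.finrank] at h3
  have h4 : Finset.card ({e₁, e₂} : Finset (ι → F)) ≤ 2 := Finset.card_le_two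
  have hX : k ≤ Module.finrank F ↥X + 2 := by
    show k ≤ Module.finrank F ↥(D i ⊓ LinearMap.ker (P.lin d₁) ⊓ LinearMap.ker (P.lin d₂)) + 2
    omega
  obtain ⟨z, hz, hn⟩ := SetLike.not_le_iff_exists.1 (show ¬ X ≤ Submodule.span F {e₁, e₂} from fun h => by
    have := Submodule.finrank_mono h
    omega)
  obtain ⟨⟨hzi, hz1⟩, hz2⟩ := hz
  exact ⟨z, hzi, hz1, hz2, hn⟩

omit P

variable {M : Subgroup (GL ι F)} (O : Over σ f D k M)
include O

/-- A root element with both components independent gives a transvection. -/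
theorem tv_of_root_big (h5 : 5 ≤ k) {i j : Fin 2} (hij : i ≠ j) {v₁ v₂ x₁ x₂ : ι → F} (hv₁ : v₁ ∈ D i) (hv₂ : v₂ ∈ D j)
    (hx₁ : x₁ ∈ D i) (hx₂ : x₂ ∈ D j) (hvv : f (v₁ + v₂) (v₁ + v₂) = 0)
    (hvx : f (v₁ + v₂) (x₁ + x₂) = 0) (h1 : x₁ ∉ Submodule.span F {v₁}) (h2 : x₂ ∉ Submodule.span F {v₂})
    {γ : F} (h : root f (v₁ + v₂) (x₁ + x₂) γ ∈ M) :
    ∃ c, σ c = c ∧ c ≠ 0 ∧ formTv f (v₁ + v₂) c ∈ M := by
  have S := O.toIsSkewHerm
  have P := O.toPair
  have hx10 : x₁ ≠ 0 := fun h0 => h1 (h0 ▸ Submodule.zero_mem _)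
  set v := v₁ + v₂ with hv
  set x := x₁ + x₂ with hx
  obtain ⟨s, hs, hsv, hsx, hs1⟩ : ∃ s ∈ D i, f s v₂ = 0 ∧ f s x₂ ≠ 0 ∧ x₁ ∉ Submodule.span F {v₁, s} := by
    obtain ⟨s₀, hs₀, e1, e2⟩ := P.sep_one hij hv₂ hx₂ h2
    by_cases hin : x₁ ∈ Submodule.span F {v₁, s₀}
    · obtain ⟨z, hz, hz1, hz2, hzn⟩ := P.exists_avoid h5 (i := i) v₂ x₂ v₁ x₁
      refine ⟨s₀ + z, (D i).add_mem hs₀ hz, by rw [add_left S, e1, hz1, add_zero],
        by rwa [add_left S, hz2, add_zero], fun hin' => hzn ?_⟩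
      obtain ⟨a, b, hab⟩ := Submodule.mem_span_pair.1 hin
      obtain ⟨a', b', hab'⟩ := Submodule.mem_span_pair.1 hin'
      have hb : b ≠ 0 := fun h0 => h1 (Submodule.mem_span_singleton.2 ⟨a, by rw [← hab, h0, zero_smul, add_zero]⟩)
      have hb' : b' ≠ 0 := fun h0 =>
        h1 (Submodule.mem_span_singleton.2 ⟨a', by rw [← hab', h0, zero_smul, add_zero]⟩)
      have e : s₀ = (-a / b) • v₁ + b⁻¹ • x₁ := by
        rw [← hab]; match_scalars <;> field_simp <;> ring
      have e' : s₀ + z = (-a' / b') • v₁ + b'⁻¹ • x₁ := by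
        rw [← hab']; match_scalars <;> field_simp <;> ring
      refine Submodule.mem_span_pair.2 ⟨-a' / b' - -a / b, b'⁻¹ - b⁻¹, ?_⟩
      rw [sub_smul, sub_smul, show z = s₀ + z - s₀ by abel, e', e]
      abel
    · exact ⟨s₀, hs₀, e1, e2, hin⟩
  obtain ⟨z', hz', hz'v, hz's, hz'x⟩ := P.sep hij.symm hv₁ hs hx₁ hs1
  obtain ⟨z, hz, hzv, hzs, hzn⟩ := P.exists_avoid h5 (i := j) v₁ s v₂ z'
  obtain ⟨s', hs', hs'v, hs'z', hs'z⟩ := P.sep hij hv₂ hz' hz hzn
  obtain ⟨τ, hτ⟩ := O.trace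
  have hxs : f x s = f x₂ s := by rw [hx, add_left S, P.isotropic i x₁ hx₁ s hs, zero_add]
  have hxz' : f x z' = f x₁ z' := by rw [hx, add_left S, P.isotropic j x₂ hx₂ z' hz', add_zero]
  have hxs0 : f x s ≠ 0 := by rw [hxs]; exact ne_zero_comm S hsx
  have hxz'0 : f x z' ≠ 0 := by rw [hxz']; exact ne_zero_comm S hz'x
  set K := τ / (f x z' * σ (f x s) * f s' z) with hK
  have hden : f x z' * σ (f x s) * f s' z ≠ 0 :=
    mul_ne_zero (mul_ne_zero hxz'0 ((RingEquiv.map_ne_zero_iff σ).2 hxs0)) hs'z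
  have hmk : ∀ a ∈ D i, ∀ b ∈ D j, f a v₂ = 0 → f b v₁ = 0 → f a b = 0 →
      ∃ δ, root f v (f x a • b + f x b • a) δ ∈ M := by
    intro a ha b hb hav hbv hab
    have hh := O.root_mem i j hij a ha b hb hab
    have haa := P.isotropic i a ha a ha
    have hva : f v a = 0 := by
      rw [hv, add_left S, P.isotropic i v₁ hv₁ a ha, eq_zero_comm S hav, add_zero]
    have hvb : f v b = 0 := by
      rw [hv, add_left S, P.isotropic j v₂ hv₂ b hb, eq_zero_comm S hbv, add_zero]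
    have hfix : (root f a b 0 : Matrix ι ι F) *ᵥ v = v := by
      rw [root_mulVec S haa hab, hva, hvb]; simp
    have hmove : (root f a b 0 : Matrix ι ι F) *ᵥ x = x + (f x a • b + f x b • a) := by
      rw [root_mulVec S haa hab, zero_mul, zero_add, add_assoc]
    have h3 := M.mul_mem (M.mul_mem hh h) (M.inv_mem hh)
    rw [root_conj S (O.isometry _ hh) hvv hvx, hfix, hmove] at h3
    have hvy : f v (f x a • b + f x b • a) = 0 := by
      rw [add_right S, smul_right S, smul_right S, hva, hvb, mul_zero, mul_zero, add_zero]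
    have h4 := M.mul_mem (M.inv_mem h) h3
    rw [root_inv S hvv hvx, root_mul S hvv (by rw [neg_right S, hvx, neg_zero])
      (by rw [add_right S, hvx, hvy, add_zero]), neg_add_cancel_left] at h4
    exact ⟨_, h4⟩
  have hsz : f s z = 0 := eq_zero_comm S hzs
  obtain ⟨δ, hδ⟩ := hmk s hs z hz hsv hzv hsz
  obtain ⟨δ', hδ'⟩ := hmk (K • s') ((D i).smul_mem K hs') z' hz' (by rw [smul_left S, hs'v, mul_zero]) hz'v
    (by rw [smul_left S, hs'z', mul_zero])
  set y := f x s • z + f x z • s with hy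
  set y' := f x (K • s') • z' + f x z' • (K • s') with hy'
  have hvs : f v s = 0 := by rw [hv, add_left S, P.isotropic i v₁ hv₁ s hs, eq_zero_comm S hsv, add_zero]
  have hvz : f v z = 0 := by rw [hv, add_left S, P.isotropic j v₂ hv₂ z hz, eq_zero_comm S hzv, add_zero]
  have hvs' : f v s' = 0 := by rw [hv, add_left S, P.isotropic i v₁ hv₁ s' hs', eq_zero_comm S hs'v, add_zero]
  have hvz' : f v z' = 0 := by rw [hv, add_left S, P.isotropic j v₂ hv₂ z' hz', eq_zero_comm S hz'v, add_zero]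
  have hvy : f v y = 0 := by rw [hy]; simp [add_right S, smul_right S, hvs, hvz]
  have hvy' : f v y' = 0 := by rw [hy']; simp [add_right S, smul_right S, hvs', hvz']
  have h5 := commutator_mem S hvv hvy hvy' hδ hδ'
  have ht : f y' y = τ := by
    rw [hy, hy']
    simp only [add_left S, add_right S, smul_left S, smul_right S, P.isotropic j z' hz' z hz,
      P.isotropic i s' hs' s hs, hz's, mul_zero, add_zero, zero_add]
    rw [hK]
    field_simp
    rw [mul_div_cancel_right₀ _ ((RingEquiv.map_ne_zero_iff σ).2 hxs0)]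
  rw [S.skew y' y, ht, sub_neg_eq_add] at h5
  exact ⟨_, by rw [map_add, O.involutive, add_comm], hτ, h5⟩

/-- A root element at a summand component gives transvections there. -/
theorem tv_of_axis {i j : Fin 2} (hij : i ≠ j) {v₁ v₂ : ι → F} (hv₁ : v₁ ∈ D i) (hv₂ : v₂ ∈ D j)
    (h12 : f v₁ v₂ = 0) {μ : F} (h : root f (v₁ + v₂) (μ • v₂) 0 ∈ M) : formTv f v₂ (μ + σ μ) ∈ M := by
  have S := O.toIsSkewHerm
  have P := O.toPair
  have h11 := P.isotropic i v₁ hv₁ v₁ hv₁
  have h22 := P.isotropic j v₂ hv₂ v₂ hv₂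
  have h21 := eq_zero_comm S h12
  have hμ : f v₁ (μ • v₂) = 0 := by rw [smul_right S, h12, mul_zero]
  have hvv : f (v₁ + v₂) (v₁ + v₂) = 0 := by rw [add_left S, add_right S, add_right S, h11, h12, h21, h22]; ring
  have hvμ : f (v₁ + v₂) (μ • v₂) = 0 := by rw [add_left S, hμ, smul_right S, h22, mul_zero, add_zero]
  have e : root f (v₁ + v₂) (μ • v₂) 0 = root f v₁ (μ • v₂) 0 * formTv f v₂ (μ + σ μ) := by
    refine gl_ext fun y => ?_
    rw [root_mulVec S hvv hvμ, gl_mul_mulVec, formTv_mulVec S h22, root_mulVec S h11 hμ]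
    simp only [add_right S, add_left S, smul_left S, smul_right S, h22, h21, mul_zero, zero_mul, zero_add, add_zero]
    module
  rw [e] at h
  have h' := M.mul_mem (M.inv_mem (O.root_mem i j hij v₁ hv₁ _ ((D j).smul_mem μ hv₂) hμ)) h
  rwa [inv_mul_cancel_left] at h'

/-- Conjugating by a root element of the stabilizer. -/
theorem root_shift {i j : Fin 2} (hij : i ≠ j) {v₁ v₂ x : ι → F} (hv₁ : v₁ ∈ D i) (hv₂ : v₂ ∈ D j)
    (hvv : f (v₁ + v₂) (v₁ + v₂) = 0) (hvx : f (v₁ + v₂) x = 0) {γ : F}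
    (h : root f (v₁ + v₂) x γ ∈ M) {a b : ι → F} (ha : a ∈ D i) (hb : b ∈ D j) (hav : f a v₂ = 0)
    (hbv : f b v₁ = 0) (hab : f a b = 0) :
    root f (v₁ + v₂) (f x a • b + f x b • a) (-f (f x a • b + f x b • a) x) ∈ M ∧
      f (v₁ + v₂) (f x a • b + f x b • a) = 0 := by
  have S := O.toIsSkewHerm
  have P := O.toPair
  have hh := O.root_mem i j hij a ha b hb hab
  have haa := P.isotropic i a ha a ha
  have hva : f (v₁ + v₂) a = 0 := by
    rw [add_left S, P.isotropic i v₁ hv₁ a ha, eq_zero_comm S hav, add_zero]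
  have hvb : f (v₁ + v₂) b = 0 := by
    rw [add_left S, P.isotropic j v₂ hv₂ b hb, eq_zero_comm S hbv, add_zero]
  have hfix : (root f a b 0 : Matrix ι ι F) *ᵥ (v₁ + v₂) = v₁ + v₂ := by
    rw [root_mulVec S haa hab, hva, hvb]; simp
  have hmove : (root f a b 0 : Matrix ι ι F) *ᵥ x = x + (f x a • b + f x b • a) := by
    rw [root_mulVec S haa hab, zero_mul, zero_add, add_assoc]
  have h3 := M.mul_mem (M.mul_mem hh h) (M.inv_mem hh)
  rw [root_conj S (O.isometry _ hh) hvv hvx, hfix, hmove] at h3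
  have hvy : f (v₁ + v₂) (f x a • b + f x b • a) = 0 := by
    rw [add_right S, smul_right S, smul_right S, hva, hvb, mul_zero, mul_zero, add_zero]
  have h4 := M.mul_mem (M.inv_mem h) h3
  rw [root_inv S hvv hvx, root_mul S hvv (by rw [neg_right S, hvx, neg_zero])
    (by rw [add_right S, hvx, hvy, add_zero]), neg_add_cancel_left] at h4
  refine ⟨?_, hvy⟩
  rw [neg_right S, add_left S] at h4
  convert h4 using 2
  ring

/-- An element with orthogonal components of the centre and a suitable partner gives a transvection. -/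
theorem tv_of_orth {i j : Fin 2} (hij : i ≠ j) {v₁ v₂ x₁ x₂ : ι → F} (hv₁ : v₁ ∈ D i) (hv₂ : v₂ ∈ D j)
    (hx₁ : x₁ ∈ D i) (hx₂ : x₂ ∈ D j) (h12 : f v₁ v₂ = 0) (hxv : f x₁ v₂ = 0)
    (hvx : f (v₁ + v₂) (x₁ + x₂) = 0) (hv20 : v₂ ≠ 0) (h2 : x₂ ∉ Submodule.span F {v₂})
    {γ : F} (h : root f (v₁ + v₂) (x₁ + x₂) γ ∈ M) :
    ∃ w c, w ≠ 0 ∧ f w w = 0 ∧ σ c = c ∧ c ≠ 0 ∧ formTv f w c ∈ M := by
  have S := O.toIsSkewHerm
  have P := O.toPair
  have h11 := P.isotropic i v₁ hv₁ v₁ hv₁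
  have h22 := P.isotropic j v₂ hv₂ v₂ hv₂
  have hvv : f (v₁ + v₂) (v₁ + v₂) = 0 := by
    rw [add_left S, add_right S, add_right S, h11, h12, eq_zero_comm S h12, h22]; ring
  obtain ⟨u, hu, huv, hux⟩ := P.sep_one hij hv₂ hx₂ h2
  obtain ⟨τ, hτ⟩ := O.trace
  have hxu : f (x₁ + x₂) u ≠ 0 := by
    rw [add_left S, P.isotropic i x₁ hx₁ u hu, zero_add]; exact ne_zero_comm S hux
  set a := σ (τ / f (x₁ + x₂) u) • u with ha
  have hxa : f (x₁ + x₂) a = τ := by rw [ha, smul_right S, O.involutive, div_mul_cancel₀ _ hxu]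
  have hav : f a v₂ = 0 := by rw [ha, smul_left S, huv, mul_zero]
  obtain ⟨h1, -⟩ := root_shift O hij hv₁ hv₂ hvv hvx h ((D i).smul_mem _ hu) hv₂ hav
    (eq_zero_comm S h12) hav
  have hxb : f (x₁ + x₂) v₂ = 0 := by rw [add_left S, hxv, P.isotropic j x₂ hx₂ v₂ hv₂, add_zero]
  rw [← ha, hxa, hxb, zero_smul, add_zero, smul_left S, eq_zero_comm S hxb, mul_zero, neg_zero] at h1
  exact ⟨v₂, τ + σ τ, hv20, h22, by rw [map_add, O.involutive, add_comm], hτ, tv_of_axis O hij hv₁ hv₂ h12 h1⟩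

/-- Two shifts with non-zero trace of their product give a transvection. -/
theorem tv_of_two {v y y' : ι → F} (hv : v ≠ 0) (hvv : f v v = 0) {γ γ' : F}
    (hvy : f v y = 0) (hvy' : f v y' = 0) (h : root f v y γ ∈ M) (h' : root f v y' γ' ∈ M)
    (ht : f y' y + σ (f y' y) ≠ 0) : ∃ w c, w ≠ 0 ∧ f w w = 0 ∧ σ c = c ∧ c ≠ 0 ∧ formTv f w c ∈ M := by
  have S := O.toIsSkewHerm
  have h5 := commutator_mem S hvv hvy hvy' h h'
  rw [S.skew y' y, sub_neg_eq_add] at h5
  exact ⟨v, _, hv, hvv, by rw [map_add, O.involutive, add_comm], ht, h5⟩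

/-- A root element with both components independent gives a transvection, in any dimension at least three. -/
theorem tv_of_root_small {i j : Fin 2} (hij : i ≠ j) {θ : F} (hθ0 : θ ≠ 0) (hθ : θ + σ θ = 0)
    {v₁ v₂ x₁ x₂ : ι → F} (hv₁ : v₁ ∈ D i) (hv₂ : v₂ ∈ D j)
    (hx₁ : x₁ ∈ D i) (hx₂ : x₂ ∈ D j) (hvv : f (v₁ + v₂) (v₁ + v₂) = 0)
    (hv0 : v₁ + v₂ ≠ 0)
    (hvx : f (v₁ + v₂) (x₁ + x₂) = 0) (h1 : x₁ ∉ Submodule.span F {v₁}) (h2 : x₂ ∉ Submodule.span F {v₂})
    {γ : F} (h : root f (v₁ + v₂) (x₁ + x₂) γ ∈ M) :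
    ∃ w c, w ≠ 0 ∧ f w w = 0 ∧ σ c = c ∧ c ≠ 0 ∧ formTv f w c ∈ M := by
  have S := O.toIsSkewHerm
  have P := O.toPair
  have hi0 : ∀ {p q : ι → F}, p ∈ D i → q ∈ D i → f p q = 0 := fun hp hq => P.isotropic i _ hp _ hq
  have hj0 : ∀ {p q : ι → F}, p ∈ D j → q ∈ D j → f p q = 0 := fun hp hq => P.isotropic j _ hp _ hq
  have hvx' : f v₁ x₂ + f v₂ x₁ = 0 := by
    rw [add_left S, add_right S, add_right S, hi0 hv₁ hx₁, hj0 hv₂ hx₂] at hvx
    linear_combination hvx
  obtain ⟨τ, hτ⟩ := O.trace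
  by_cases h12 : f v₁ v₂ = 0
  · by_cases hxv : f x₁ v₂ = 0
    · by_cases hv20 : v₂ = 0
      · refine tv_of_orth O hij.symm hv₂ hv₁ hx₂ hx₁ (eq_zero_comm S h12) ?_ (by rwa [add_comm v₂, add_comm x₂])
          (fun h0 => hv0 (by rw [h0, hv20, add_zero])) h1 (by rwa [add_comm v₂, add_comm x₂])
        refine eq_zero_comm S ?_
        rw [eq_zero_comm S hxv, add_zero] at hvx'
        exact hvx'
      · exact tv_of_orth O hij hv₁ hv₂ hx₁ hx₂ h12 hxv hvx hv20 h2 h
    -- the partner pairs with the components of the centre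
    have hxa : f (x₁ + x₂) v₁ ≠ 0 := by
      rw [add_left S, hi0 hx₁ hv₁, zero_add]
      refine ne_zero_comm S fun h0 => hxv (eq_zero_comm S ?_)
      linear_combination hvx' - h0
    have hxb : f (x₁ + x₂) v₂ ≠ 0 := by rwa [add_left S, hj0 hx₂ hv₂, add_zero]
    obtain ⟨b, hb, hbv, hbn⟩ := P.exists_avoid_one (i := j) v₁ v₂
    obtain ⟨u, hu, huv, hub⟩ := P.sep_one hij hv₂ hb hbn
    set x := x₁ + x₂
    obtain ⟨r1, hy⟩ := root_shift O hij hv₁ hv₂ hvv hvx h hv₁ hb h12 hbv (eq_zero_comm S hbv)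
    have hden : f x v₂ * σ (f x v₁) * f u b ≠ 0 :=
      mul_ne_zero (mul_ne_zero hxb ((RingEquiv.map_ne_zero_iff σ).2 hxa)) hub
    set K := τ / (f x v₂ * σ (f x v₁) * f u b) with hK
    have hKu : f (K • u) v₂ = 0 := by rw [smul_left S, huv, mul_zero]
    obtain ⟨r2, hy'⟩ := root_shift O hij hv₁ hv₂ hvv hvx h ((D i).smul_mem K hu) hv₂ hKu
      (eq_zero_comm S h12) hKu
    refine tv_of_two O hv0 hvv hy hy' r1 r2 ?_
    convert hτ using 1
    have e : f (f x (K • u) • v₂ + f x v₂ • (K • u)) (f x v₁ • b + f x b • v₁) = τ := by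
      simp only [add_left S, add_right S, smul_left S, smul_right S, hj0 hv₂ hb, hi0 hu hv₁,
        eq_zero_comm S h12, mul_zero, add_zero, zero_add]
      rw [← div_mul_cancel₀ τ hden, ← hK]
      ring
    rw [e]
  set l := f x₁ v₂ / f v₁ v₂ with hl
  set p₁ := x₁ - l • v₁ with hp₁
  set p₂ := x₂ - l • v₂ with hp₂
  have hp₁D : p₁ ∈ D i := (D i).sub_mem hx₁ ((D i).smul_mem _ hv₁)
  have hp₂D : p₂ ∈ D j := (D j).sub_mem hx₂ ((D j).smul_mem _ hv₂)
  have hp1n : p₁ ∉ Submodule.span F {v₁} := fun hm => h1 (by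
    have := Submodule.add_mem _ hm (Submodule.smul_mem _ l (Submodule.mem_span_singleton_self v₁))
    rwa [hp₁, sub_add_cancel] at this)
  have hp2n : p₂ ∉ Submodule.span F {v₂} := fun hm => h2 (by
    have := Submodule.add_mem _ hm (Submodule.smul_mem _ l (Submodule.mem_span_singleton_self v₂))
    rwa [hp₂, sub_add_cancel] at this)
  have hp1v : f p₁ v₂ = 0 := by
    rw [hp₁, sub_eq_add_neg, add_left S, neg_left S, smul_left S, hl, div_mul_cancel₀ _ h12, add_neg_cancel]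
  have hvp : f (v₁ + v₂) (p₁ + p₂) = 0 := by
    rw [show p₁ + p₂ = x₁ + x₂ + (-l) • (v₁ + v₂) by rw [hp₁, hp₂]; module, add_right S, smul_right S, hvx, hvv,
      mul_zero, add_zero]
  have hp2v : f v₁ p₂ = 0 := by
    rw [add_left S, add_right S, add_right S, hi0 hv₁ hp₁D, hj0 hv₂ hp₂D, eq_zero_comm S hp1v, zero_add, add_zero,
      add_zero] at hvp
    exact hvp
  have hp : root f (v₁ + v₂) (p₁ + p₂) (γ + l + σ l) ∈ M := by
    convert h using 1
    refine gl_ext fun y => ?_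
    rw [root_mulVec S hvv hvp, root_mulVec S hvv hvx,
      show x₁ + x₂ = p₁ + p₂ + l • (v₁ + v₂) by rw [hp₁, hp₂]; module]
    simp only [add_right S, smul_right S]
    module
  set v := v₁ + v₂
  set x := p₁ + p₂ with hx
  by_cases h34 : f p₁ p₂ = 0
  · obtain ⟨a, ha, hav, hap⟩ := P.sep_one hij hv₂ hp₂D hp2n
    have hsep : p₁ ∉ Submodule.span F {v₁, a} := fun hm => by
      obtain ⟨α, β, he⟩ := Submodule.mem_span_pair.1 hm
      have e1 := congrArg (fun z => f z v₂) he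
      simp only [add_left S, smul_left S, hav, hp1v, mul_zero, add_zero] at e1
      have hα := (mul_eq_zero.1 e1).resolve_right h12
      have e2 := congrArg (fun z => f z p₂) he
      simp only [add_left S, smul_left S, hp2v, h34, mul_zero, zero_add] at e2
      have hβ := (mul_eq_zero.1 e2).resolve_right hap
      exact hp1n (by rw [← he, hα, hβ, zero_smul, zero_smul, add_zero]; exact Submodule.zero_mem _)
    obtain ⟨b, hb, hbv, hba, hbp⟩ := P.sep hij.symm hv₁ ha hp₁D hsep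
    have hxa : f x a ≠ 0 := by rw [hx, add_left S, hi0 hp₁D ha, zero_add]; exact ne_zero_comm S hap
    have hxb : f x b ≠ 0 := by rw [hx, add_left S, hj0 hp₂D hb, add_zero]; exact ne_zero_comm S hbp
    have hden : f x a * σ (f x b) ≠ 0 := mul_ne_zero hxa ((RingEquiv.map_ne_zero_iff σ).2 hxb)
    set K := σ (θ / (f x a * σ (f x b))) with hK
    have hK0 : K ≠ 0 := (RingEquiv.map_ne_zero_iff σ).2 (div_ne_zero hθ0 hden)
    have hAB : f x (K • a) * σ (f x b) = θ := by
      rw [smul_right S, hK, O.involutive, mul_assoc, div_mul_cancel₀ _ hden]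
    have hKa : f (K • a) v₂ = 0 := by rw [smul_left S, hav, mul_zero]
    have hKb : f (K • a) b = 0 := by rw [smul_left S, eq_zero_comm S hba, mul_zero]
    obtain ⟨r1, hy⟩ := root_shift O hij hv₁ hv₂ hvv hvp hp ((D i).smul_mem K ha) hb hKa hbv hKb
    set y₁ := f x b • (K • a) with hy₁
    set y₂ := f x (K • a) • b with hy₂
    have hy1D : y₁ ∈ D i := (D i).smul_mem _ ((D i).smul_mem K ha)
    have hy2D : y₂ ∈ D j := (D j).smul_mem _ hb
    have hyy12 : f y₁ y₂ = 0 := by rw [hy₁, hy₂, smul_left S, smul_right S, hKb, mul_zero, mul_zero]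
    have hδ : f (y₂ + y₁) x = 0 := by
      rw [hy₁, hy₂, add_left S, smul_left S, smul_left S, S.skew x b, S.skew x (K • a)]
      have e := congrArg σ hAB
      rw [map_mul, O.involutive] at e
      linear_combination -hAB - e - hθ
    rw [hδ, neg_zero] at r1
    have hyy : f (y₂ + y₁) (y₂ + y₁) = 0 := by
      rw [add_left S, add_right S, add_right S, hj0 hy2D hy2D, hi0 hy1D hy1D, hyy12, eq_zero_comm S hyy12]
      ring
    rw [root_swap S hvv hyy hy, add_comm y₂ y₁] at r1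
    refine tv_of_orth O hij hy1D hy2D hv₁ hv₂ hyy12 ?_ (by rw [add_comm]; exact eq_zero_comm S hy) ?_ ?_ r1
    · rw [hy₂, smul_right S, eq_zero_comm S hbv, mul_zero]
    · exact smul_ne_zero (fun h0 => hθ0 (by rw [← hAB, h0, zero_mul])) fun h0 => hxb (by rw [h0, zero_right S])
    · intro hm
      obtain ⟨r, hr⟩ := Submodule.mem_span_singleton.1 hm
      exact h12 (by rw [← hr, hy₂, smul_right S, smul_right S, eq_zero_comm S hbv, mul_zero, mul_zero])
  · obtain ⟨r, hr, hr0, hrv, hrp⟩ := P.exists_orth_two (i := j) v₁ p₁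
    have hsep : r ∉ Submodule.span F {v₂, p₂} := fun hm => by
      obtain ⟨α, β, he⟩ := Submodule.mem_span_pair.1 hm
      have e1 := congrArg (fun z => f v₁ z) he
      simp only [add_right S, smul_right S, hp2v, eq_zero_comm S hrv, mul_zero, add_zero] at e1
      have hα : α = 0 := (RingEquiv.map_eq_zero_iff σ).1 ((mul_eq_zero.1 e1).resolve_right h12)
      have e2 := congrArg (fun z => f p₁ z) he
      simp only [add_right S, smul_right S, hp1v, eq_zero_comm S hrp, mul_zero, zero_add] at e2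
      have hβ : β = 0 := (RingEquiv.map_eq_zero_iff σ).1 ((mul_eq_zero.1 e2).resolve_right h34)
      exact hr0 (by rw [← he, hα, hβ, zero_smul, zero_smul, add_zero])
    obtain ⟨s, hs, hsv, hsp, hsr⟩ := P.sep hij hv₂ hp₂D hr hsep
    have hxp1 : f x p₁ = f p₂ p₁ := by rw [hx, add_left S, hi0 hp₁D hp₁D, zero_add]
    have hxp2 : f x p₂ = f p₁ p₂ := by rw [hx, add_left S, hj0 hp₂D hp₂D, add_zero]
    have hxr : f x r = 0 := by rw [hx, add_left S, hj0 hp₂D hr, eq_zero_comm S hrp, add_zero]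
    obtain ⟨r1, hy⟩ := root_shift O hij hv₁ hv₂ hvv hvp hp hp₁D hr hp1v hrv (eq_zero_comm S hrp)
    have hden : f p₁ p₂ * σ (f p₂ p₁) * f s r ≠ 0 :=
      mul_ne_zero (mul_ne_zero h34 ((RingEquiv.map_ne_zero_iff σ).2 (ne_zero_comm S h34))) hsr
    set K := τ / (f p₁ p₂ * σ (f p₂ p₁) * f s r) with hK
    obtain ⟨r2, hy'⟩ := root_shift O hij hv₁ hv₂ hvv hvp hp ((D i).smul_mem K hs) hp₂D
      (by rw [smul_left S, hsv, mul_zero]) (eq_zero_comm S hp2v) (by rw [smul_left S, hsp, mul_zero])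
    refine tv_of_two O hv0 hvv hy hy' r1 r2 ?_
    have hxs : f x (K • s) = 0 := by
      rw [hx, smul_right S, add_left S, hi0 hp₁D hs, eq_zero_comm S hsp, add_zero, mul_zero]
    convert hτ using 1
    have e : f (f x (K • s) • p₂ + f x p₂ • (K • s)) (f x p₁ • r + f x r • p₁) = τ := by
      rw [hxs, hxr, zero_smul, zero_smul, zero_add, add_zero, hxp1, hxp2]
      simp only [smul_left S, smul_right S]
      rw [← div_mul_cancel₀ τ hden, ← hK]
      ring
    rw [e]

/-- A root element with both components independent gives a transvection. -/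
theorem tv_of_root {i j : Fin 2} (hij : i ≠ j) {v₁ v₂ x₁ x₂ : ι → F} (hv₁ : v₁ ∈ D i) (hv₂ : v₂ ∈ D j)
    (hx₁ : x₁ ∈ D i) (hx₂ : x₂ ∈ D j) (hvv : f (v₁ + v₂) (v₁ + v₂) = 0) (hv0 : v₁ + v₂ ≠ 0)
    (hvx : f (v₁ + v₂) (x₁ + x₂) = 0) (h1 : x₁ ∉ Submodule.span F {v₁}) (h2 : x₂ ∉ Submodule.span F {v₂})
    {γ : F} (h : root f (v₁ + v₂) (x₁ + x₂) γ ∈ M) :
    ∃ w c, w ≠ 0 ∧ f w w = 0 ∧ σ c = c ∧ c ≠ 0 ∧ formTv f w c ∈ M := by
  rcases O.dim with h5 | ⟨-, θ, hθ0, hθ⟩
  · obtain ⟨c, h1', h2', h3'⟩ := tv_of_root_big O h5 hij hv₁ hv₂ hx₁ hx₂ hvv hvx h1 h2 h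
    exact ⟨_, c, hv0, hvv, h1', h2', h3'⟩
  · exact tv_of_root_small O hij hθ0 hθ hv₁ hv₂ hx₁ hx₂ hvv hv0 hvx h1 h2 h

theorem move_summand {g : GL ι F} (hg : g ∈ M)
    (hno : ∀ v c, v ≠ 0 → f v v = 0 → σ c = c → c ≠ 0 → formTv f v c ∉ M) (i : Fin 2) {u : ι → F} (hu : u ∈ D i) :
    (g : Matrix ι ι F) *ᵥ u ∈ D 0 ∨ (g : Matrix ι ι F) *ᵥ u ∈ D 1 := by
  classical
  have S := O.toIsSkewHerm
  have P := O.toPair
  obtain ⟨v₁, hv₁, v₂, hv₂, hgu⟩ := P.components (show (0 : Fin 2) ≠ 1 by decide) ((g : Matrix ι ι F) *ᵥ u)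
  by_contra hc
  push Not at hc
  have hv10 : v₁ ≠ 0 := fun h => hc.2 (by rw [hgu, h, zero_add]; exact hv₂)
  have hv20 : v₂ ≠ 0 := fun h => hc.1 (by rw [hgu, h, add_zero]; exact hv₁)
  obtain ⟨j, hij⟩ : ∃ j, i ≠ j := exists_ne i |>.imp fun _ h => h.symm
  set v := v₁ + v₂ with hv
  have hgi := O.isometry g hg
  have hvv : f v v = 0 := by rw [← hgu, hgi, P.isotropic i u hu u hu]
  have hvne : v ≠ 0 := fun h => hc.1 (by rw [hgu, h]; exact Submodule.zero_mem _)
  let Y := (D j ⊓ LinearMap.ker (P.lin u)).map (Matrix.toLin' (g : Matrix ι ι F))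
  have hYroot : ∀ y ∈ Y, root f v y 0 ∈ M ∧ f v y = 0 ∧ f y y = 0 := by
    rintro y ⟨w, ⟨hw, hwu⟩, rfl⟩
    rw [Matrix.toLin'_apply]
    have huw : f u w = 0 := eq_zero_comm S hwu
    refine ⟨?_, by rw [← hgu, hgi, huw], by rw [hgi, P.isotropic j w hw w hw]⟩
    have := M.mul_mem (M.mul_mem hg (O.root_mem i j hij u hu w hw huw)) (M.inv_mem hg)
    rwa [root_conj S hgi (P.isotropic i u hu u hu) huw, hgu] at this
  have hYdim : k ≤ Module.finrank F Y + 1 := by
    have h1 := P.finrank_inf_ker (D j) (P.lin u) le_rfl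
    have h2 : Module.finrank F Y = Module.finrank F ↥(D j ⊓ LinearMap.ker (P.lin u)) :=
      (Submodule.equivMapOfInjective _ (by
        simpa [Function.Injective] using gl_mulVec_injective g) _).finrank_eq.symm
    have := P.decomp.finrank_eq j
    omega
  have hsingle : ∀ a b : Fin 2, a ≠ b → ∀ y, y ∈ Y → y ≠ 0 → y ∈ D b → ∀ w₁ ∈ D a, ∀ w₂ ∈ D b, w₁ + w₂ = v → w₁ ≠ 0 →
      w₂ ∈ Submodule.span F {y} := by
    intro a b hab y hy hy0 hyb w₁ hw₁ w₂ hw₂ hw hw10
    by_contra hn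
    obtain ⟨hr, hvy, hyy⟩ := hYroot y hy
    have hr' : root f (0 + y) (w₁ + w₂) 0 ∈ M := by
      rwa [zero_add, hw, ← root_swap S hvv hyy hvy]
    obtain ⟨w', c, hw'0, hw'w, hc1, hc2, hc3⟩ := tv_of_root O hab (D a).zero_mem hyb hw₁ hw₂ (by rwa [zero_add])
      (by rwa [zero_add]) (by rw [zero_add, hw]; exact eq_zero_comm S hvy) (by simpa using hw10) hn hr'
    exact hno w' c hw'0 hw'w hc1 hc2 hc3
  let c0 : (ι → F) →ₗ[F] (ι → F) := Decomp.comp P.decomp 0
  let c1 : (ι → F) →ₗ[F] (ι → F) := Decomp.comp P.decomp 1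
  by_cases hgood : ∃ y ∈ Y, c0 y ∉ Submodule.span F {v₁} ∧ c1 y ∉ Submodule.span F {v₂}
  · obtain ⟨y, hy, h1, h2⟩ := hgood
    obtain ⟨hr, hvy, -⟩ := hYroot y hy
    have hy' : y = c0 y + c1 y := by
      conv_lhs => rw [← Decomp.sum_comp P.decomp y]
      rw [Fin.sum_univ_two]
    rw [hy'] at hr hvy
    obtain ⟨w', c, hw'0, hw'w, hc1, hc2, hc3⟩ := tv_of_root O (show (0 : Fin 2) ≠ 1 by decide) hv₁ hv₂
      (Decomp.comp_mem P.decomp 0 y) (Decomp.comp_mem P.decomp 1 y) hvv hvne hvy h1 h2 hr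
    exact hno w' c hw'0 hw'w hc1 hc2 hc3
  push Not at hgood
  have hcases : Y ≤ (Submodule.span F {v₁}).comap c0 ∨ Y ≤ (Submodule.span F {v₂}).comap c1 := by
    by_contra hh
    push Not at hh
    obtain ⟨⟨y, hyY, hy0⟩, ⟨y', hyY', hy1⟩⟩ := SetLike.not_le_iff_exists.1 hh.1, SetLike.not_le_iff_exists.1 hh.2
    rw [Submodule.mem_comap] at hy0 hy1
    have e1 := hgood y hyY hy0
    have e0 : c0 y' ∈ Submodule.span F {v₁} := by_contra fun h => hy1 (hgood y' hyY' h)
    have e2 := hgood (y + y') (Y.add_mem hyY hyY')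
      (by rw [map_add]; exact fun h => hy0 ((Submodule.add_mem_iff_left _ e0).1 h))
    rw [map_add] at e2
    exact hy1 ((Submodule.add_mem_iff_right _ e1).1 e2)
  have key : ∀ a b : Fin 2, a ≠ b → ∀ w₁ ∈ D a, ∀ w₂ ∈ D b, w₁ + w₂ = v → w₁ ≠ 0 → w₂ ≠ 0 →
      Y ≤ (Submodule.span F {w₁}).comap (Decomp.comp P.decomp a) → False := by
    intro a b hab w₁ hw₁ w₂ hw₂ hw hw10 hw20 hle
    have h1 := Submodule.finrank_sup_add_finrank_inf_eq Y (D b)
    have hsup : Y ⊔ D b ≤ Submodule.span F {w₁} ⊔ D b := by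
      refine sup_le (fun y hy => ?_) le_sup_right
      have hy' : y = Decomp.comp P.decomp a y + Decomp.comp P.decomp b y := by
        conv_lhs => rw [← Decomp.sum_comp P.decomp y]
        rw [Fin.sum_univ_two]
        rcases (show (a = 0 ∧ b = 1) ∨ (a = 1 ∧ b = 0) by omega) with ⟨rfl, rfl⟩ | ⟨rfl, rfl⟩
        · rfl
        · rw [add_comm]
      rw [hy']
      exact Submodule.add_mem _ (Submodule.mem_sup_left (hle hy)) (Submodule.mem_sup_right (Decomp.comp_mem _ b y))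
    have h2 := Submodule.finrank_mono hsup
    have h3 := Submodule.finrank_add_le_finrank_add_finrank (Submodule.span F {w₁}) (D b)
    have h4 := finrank_span_singleton (K := F) hw10
    have := P.three
    obtain ⟨y, hy, hy0⟩ := Submodule.exists_mem_ne_zero_of_ne_bot (p := Y ⊓ D b) fun h => by
      rw [h, finrank_bot] at h1
      have := P.decomp.finrank_eq b
      omega
    obtain ⟨c, hc'⟩ := Submodule.mem_span_singleton.1 (hsingle a b hab y hy.1 hy0 hy.2 w₁ hw₁ w₂ hw₂ hw hw10)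
    have hc0 : c ≠ 0 := fun h0 => hw20 (by rw [← hc', h0, zero_smul])
    obtain ⟨τ, hτ⟩ := O.trace
    have hμy : τ • w₂ ∈ Y := by rw [← hc', smul_smul]; exact Y.smul_mem _ hy.1
    obtain ⟨hr, hvμ, -⟩ := hYroot _ hμy
    have hw12 : f w₁ w₂ = 0 := by
      have h' := (hYroot _ hy.1).2.1
      rw [← hw, add_left S, P.isotropic b w₂ hw₂ y hy.2, add_zero] at h'
      rw [← hc', smul_right S, h', mul_zero]
    rw [← hw] at hr
    exact hno w₂ _ hw20 (P.isotropic b w₂ hw₂ w₂ hw₂) (by rw [map_add, O.involutive, add_comm]) hτ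
      (tv_of_axis O hab hw₁ hw₂ hw12 hr)
  rcases hcases with hle | hle
  · exact key 0 1 (by decide) v₁ hv₁ v₂ hv₂ rfl hv10 hv20 hle
  · exact key 1 0 (by decide) v₂ hv₂ v₁ hv₁ (add_comm _ _) hv20 hv10 hle

end CfsgLib.GeomClasses.SkewPair
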