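import Cfsg.Agent.Lib.GeomClasses.SphereThree

/-!
A reflection closed set of unit vectors outside the two octahedral frames has a rotation of order `p`.

If not, every rotation has a unique axis and counting axes shows that the vertical axis has one or three images.
-/

set_option autoImplicit false
set_option linter.unusedSectionVars false

namespace CfsgLib.GeomClasses.SphereThree

open Matrix

variable {F : Type*} [Field F] {N : F}

theorem exists_iso_partner (h2 : (2 : F) ≠ 0) (hN : N ≠ 0) {w : Fin 3 → F} (hw0 : w ≠ 0)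
    (hw : ip3 N w w = 0) : ∃ w', ip3 N w' w' = 0 ∧ ip3 N w w' = 1 := by
  obtain ⟨y, hy⟩ : ∃ y, ip3 N w y ≠ 0 := by
    by_contra hc
    push Not at hc
    refine hw0 (funext fun i => ?_)
    have h0 := hc (Pi.single i 1)
    fin_cases i <;> simpa [ip3, hN] using h0
  refine ⟨(ip3 N w y)⁻¹ • (y - (ip3 N y y / (2 * ip3 N w y)) • w), ?_, ?_⟩
  · rw [ip3_smul_left, ip3_smul_right, ip3_sub_left, ip3_sub_right, ip3_sub_right, ip3_smul_left, ip3_smul_left,
      ip3_smul_right, ip3_smul_right, hw, ip3_comm y w]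
    field_simp
    ring
  · rw [ip3_smul_right, ip3_sub_right, ip3_smul_right, hw, mul_zero, sub_zero, inv_mul_cancel₀ hy]

theorem shape_pow (h2 : (2 : F) ≠ 0) (hN : N ≠ 0) {M : Matrix (Fin 3) (Fin 3) F} {w m w' : Fin 3 → F} {a : F}
    (hMw : M *ᵥ w = w) (hMm : M *ᵥ m = m + a • w)
    (hMw' : M *ᵥ w' = w' + (a / N) • m + (a * a / (2 * N)) • w) (k : ℕ) :
    M ^ k *ᵥ w = w ∧ M ^ k *ᵥ m = m + ((k : F) * a) • w ∧
      M ^ k *ᵥ w' = w' + ((k : F) * a / N) • m + ((k : F) * a * ((k : F) * a) / (2 * N)) • w := by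
  induction k with
  | zero => simp
  | succ k ih =>
    obtain ⟨i1, i2, i3⟩ := ih
    refine ⟨?_, ?_, ?_⟩
    · rw [pow_succ', ← mulVec_mulVec, i1, hMw]
    · rw [pow_succ', ← mulVec_mulVec, i2, mulVec_add, mulVec_smul, hMw, hMm]
      push_cast
      module
    · rw [pow_succ', ← mulVec_mulVec, i3, mulVec_add, mulVec_add, mulVec_smul, mulVec_smul, hMw, hMm, hMw']
      push_cast
      match_scalars <;> field_simp <;> ring

theorem pow_eq_one_of_isotropic (h2 : (2 : F) ≠ 0) (hN : N ≠ 0) (p : ℕ) [CharP F p]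
    {M : Matrix (Fin 3) (Fin 3) F} (hM : IsRot N M) (hnf : ∀ v, M *ᵥ v = v → ip3 N v v = 0) : M ^ p = 1 := by
  obtain ⟨w, hw0, hMw⟩ := exists_fixed h2 hN hM
  have hw := hnf w hMw
  obtain ⟨w', hw', hww⟩ := exists_iso_partner h2 hN hw0 hw
  obtain ⟨a, hMm, hMw'⟩ := unip_shape h2 hN hM hnf hw hw' hww hMw
  obtain ⟨i1, i2, i3⟩ := shape_pow h2 hN hMw hMm hMw' p
  rw [CharP.cast_eq_zero] at i2 i3
  exact eq_of_basis (pair_det h2 hN hw hw' hww) (by rw [i1, one_mulVec]) (by rw [i2, one_mulVec]; simp)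
    (by rw [i3, one_mulVec]; simp)

section Arith

theorem arith_one {N ou cu : ℕ} (hN : ou * (2 * cu) = N) (hs : ou * (cu - 1) + 1 = N) (hc : 4 ≤ cu) : False := by
  obtain ⟨k, rfl⟩ : ∃ k, cu = k + 1 := ⟨cu - 1, by omega⟩
  simp only [Nat.add_sub_cancel] at hs
  rcases Nat.eq_zero_or_pos ou with rfl | ho
  · simp at hN hs; omega
  · nlinarith

theorem arith_two {N ou cu o c n : ℕ} (hN : ou * (2 * cu) = N) (hn : o * n = N) (hnc : n = c ∨ n = 2 * c)
    (hs : ou * (cu - 1) + o * (c - 1) + 1 = N) (hc : 4 ≤ cu) (hc2 : 2 ≤ c) : ou = 1 := by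
  obtain ⟨k, rfl⟩ : ∃ k, cu = k + 1 := ⟨cu - 1, by omega⟩
  obtain ⟨l, rfl⟩ : ∃ l, c = l + 1 := ⟨c - 1, by omega⟩
  simp only [Nat.add_sub_cancel] at hs
  rcases hnc with rfl | rfl
  · rcases (show l = 1 ∨ 2 ≤ l by omega) with rfl | hl
    · nlinarith
    · nlinarith [Nat.mul_le_mul_left o hl, Nat.mul_le_mul_left ou (show 3 ≤ k by omega)]
  · nlinarith

theorem arith_three {N ou cu o₁ c₁ n₁ o₂ c₂ n₂ : ℕ} (hN : ou * (2 * cu) = N) (hN0 : 0 < N)
    (hn₁ : o₁ * n₁ = N) (hn₁c : n₁ = c₁ ∨ n₁ = 2 * c₁) (hn₂ : o₂ * n₂ = N) (hn₂c : n₂ = c₂ ∨ n₂ = 2 * c₂)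
    (hs : ou * (cu - 1) + o₁ * (c₁ - 1) + o₂ * (c₂ - 1) + 1 = N) (hcu : 4 ∣ cu) (hc₁ : 2 ≤ c₁) (hc₂ : 2 ≤ c₂) :
    ou = 1 ∨ ou = 3 := by
  have hcu0 : cu ≠ 0 := fun h => by subst h; simp at hN; omega
  have hcu4 : 4 ≤ cu := Nat.le_of_dvd (by omega) hcu
  obtain ⟨k, rfl⟩ : ∃ k, cu = k + 1 := ⟨cu - 1, by omega⟩
  obtain ⟨l₁, rfl⟩ : ∃ l, c₁ = l + 1 := ⟨c₁ - 1, by omega⟩
  obtain ⟨l₂, rfl⟩ : ∃ l, c₂ = l + 1 := ⟨c₂ - 1, by omega⟩
  simp only [Nat.add_sub_cancel] at hs
  have hk := Nat.mul_le_mul_left ou (show 3 ≤ k by omega)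
  have h1 := Nat.mul_le_mul_left o₁ (show 1 ≤ l₁ by omega)
  have h2 := Nat.mul_le_mul_left o₂ (show 1 ≤ l₂ by omega)
  rcases hn₁c with rfl | rfl
  · exfalso; rcases hn₂c with rfl | rfl <;> nlinarith
  rcases hn₂c with rfl | rfl
  · exfalso; nlinarith
  have key : ∀ a b la lb : ℕ, a * (2 * (la + 1)) = N → b * (2 * (lb + 1)) = N →
      ou * k + a * la + b * lb + 1 = N → la = 1 → 1 ≤ lb → (ou = 1 ∨ ou = 3) := by
    intro a b la lb ha hb hab hla hlb
    subst hla
    rcases (show lb = 1 ∨ lb = 2 ∨ 3 ≤ lb by omega) with rfl | rfl | hlb3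
    · left; nlinarith
    · right
      have h6 : ou * (6 - (k + 1)) = 6 := by
        rcases (show k + 1 ≤ 6 ∨ 6 < k + 1 by omega) with h | h
        · obtain ⟨r, hr⟩ : ∃ r, k + 1 + r = 6 := ⟨6 - (k + 1), by omega⟩
          rw [show 6 - (k + 1) = r by omega]
          nlinarith
        · exfalso
          have := Nat.mul_le_mul_left ou (show 6 ≤ k by omega)
          nlinarith
      have h5 : k + 1 = 4 := by
        obtain ⟨j, hj⟩ := hcu
        rcases Nat.lt_or_ge (k + 1) 6 with h | h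
        · omega
        · rw [show 6 - (k + 1) = 0 by omega, mul_zero] at h6; omega
      rw [h5] at h6
      omega
    · exfalso
      have := Nat.mul_le_mul_left b hlb3
      nlinarith
  rcases (show l₁ = 1 ∨ (l₂ = 1 ∧ l₁ ≠ 1) ∨ (2 ≤ l₁ ∧ 2 ≤ l₂) by omega) with e | ⟨e, -⟩ | ⟨e1, e2⟩
  · exact key o₁ o₂ l₁ l₂ hn₁ hn₂ hs e (by omega)
  · exact key o₂ o₁ l₂ l₁ hn₂ hn₁ (by omega) e (by omega)
  · exfalso
    have := Nat.mul_le_mul_left o₁ e1
    have := Nat.mul_le_mul_left o₂ e2
    nlinarith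

theorem arith_four {N ou cu : ℕ} (o c nn : Fin 3 → ℕ) (hN : ou * (2 * cu) = N) (hcu : 4 ≤ cu)
    (hn : ∀ i, o i * nn i = N) (hnc : ∀ i, nn i = c i ∨ nn i = 2 * c i) (hc : ∀ i, 2 ≤ c i)
    (hs : ou * (cu - 1) + (∑ i, o i * (c i - 1)) + 1 ≤ N) : False := by
  obtain ⟨k, rfl⟩ : ∃ k, cu = k + 1 := ⟨cu - 1, by omega⟩
  simp only [Nat.add_sub_cancel] at hs
  have h4 : ∀ i, N ≤ 4 * (o i * (c i - 1)) := fun i => by
    obtain ⟨l, hl⟩ : ∃ l, c i = l + 1 := ⟨c i - 1, by have := hc i; omega⟩
    have hl1 : 1 ≤ l := by have := hc i; omega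
    have := hn i
    rw [hl, Nat.add_sub_cancel]
    rcases hnc i with e | e <;> rw [e, hl] at this <;> nlinarith [Nat.mul_le_mul_left (o i) hl1]
  have hk := Nat.mul_le_mul_left ou (show 3 ≤ k by omega)
  rw [Fin.sum_univ_three] at hs
  have := h4 0; have := h4 1; have := h4 2
  nlinarith

end Arith

theorem scalar_of_mem_span {x y : Fin 3 → F} (h : x ∈ Submodule.span F {y}) : ∃ t : F, t • y = x :=
  Submodule.mem_span_singleton.1 h

theorem span_eq_of_mem {x y : Fin 3 → F} (hx : x ≠ 0) (h : x ∈ Submodule.span F {y}) :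
    Submodule.span F {x} = Submodule.span F {y} := by
  obtain ⟨t, rfl⟩ := scalar_of_mem_span h
  have ht : t ≠ 0 := fun h0 => hx (by rw [h0, zero_smul])
  exact Submodule.span_singleton_smul_eq (isUnit_iff_ne_zero.2 ht) _

/-- The linear action on subspaces. -/
@[instance_reducible]
noncomputable def lineAction (F : Type*) [Field F] :
    MulAction (GL (Fin 3) F) (Submodule F (Fin 3 → F)) where
  smul g a := a.map (Matrix.toLin' (g : Matrix (Fin 3) (Fin 3) F))
  one_smul a := by
    change a.map (Matrix.toLin' ((1 : GL (Fin 3) F) : Matrix (Fin 3) (Fin 3) F)) = a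
    rw [Units.val_one, Matrix.toLin'_one, Submodule.map_id]
  mul_smul g g' a := by
    change a.map (Matrix.toLin' ((g * g' : GL (Fin 3) F) : Matrix (Fin 3) (Fin 3) F)) =
      (a.map (Matrix.toLin' (g' : Matrix (Fin 3) (Fin 3) F))).map (Matrix.toLin' (g : Matrix (Fin 3) (Fin 3) F))
    rw [Units.val_mul, Matrix.toLin'_mul, Submodule.map_comp]

attribute [local instance] lineAction

theorem smul_span (g : GL (Fin 3) F) (v : Fin 3 → F) :
    g • Submodule.span F {v} = Submodule.span F {(g : Matrix (Fin 3) (Fin 3) F) *ᵥ v} := by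
  change (Submodule.span F {v}).map (Matrix.toLin' (g : Matrix (Fin 3) (Fin 3) F)) = _
  rw [Submodule.map_span, Set.image_singleton, Matrix.toLin'_apply]

variable (H : Subgroup (GL (Fin 3) F))

/-- The fixed space. -/
noncomputable def axis (g : GL (Fin 3) F) : Submodule F (Fin 3 → F) :=
  LinearMap.ker (Matrix.toLin' ((g : Matrix (Fin 3) (Fin 3) F) - 1))

theorem mem_axis {g : GL (Fin 3) F} {x : Fin 3 → F} :
    x ∈ axis g ↔ (g : Matrix (Fin 3) (Fin 3) F) *ᵥ x = x := by
  rw [axis, LinearMap.mem_ker, Matrix.toLin'_apply, sub_mulVec, one_mulVec, sub_eq_zero]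

theorem axis_conj (k g : GL (Fin 3) F) : axis (k * g * k⁻¹) = k • axis g := by
  have hk : ∀ y, (k : Matrix (Fin 3) (Fin 3) F) *ᵥ (((k⁻¹ : GL (Fin 3) F) : Matrix (Fin 3) (Fin 3) F) *ᵥ y) = y :=
    fun y => by rw [mulVec_mulVec, ← Units.val_mul, mul_inv_cancel, Units.val_one, one_mulVec]
  have hk' : ∀ y, ((k⁻¹ : GL (Fin 3) F) : Matrix (Fin 3) (Fin 3) F) *ᵥ ((k : Matrix (Fin 3) (Fin 3) F) *ᵥ y) = y :=
    fun y => by rw [mulVec_mulVec, ← Units.val_mul, inv_mul_cancel, Units.val_one, one_mulVec]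
  ext x
  change x ∈ axis (k * g * k⁻¹) ↔ x ∈ (axis g).map (Matrix.toLin' (k : Matrix (Fin 3) (Fin 3) F))
  rw [mem_axis, Submodule.mem_map, Units.val_mul, Units.val_mul, ← mulVec_mulVec, ← mulVec_mulVec]
  constructor
  · intro hx
    refine ⟨((k⁻¹ : GL (Fin 3) F) : Matrix (Fin 3) (Fin 3) F) *ᵥ x, mem_axis.2 ?_, by
      rw [Matrix.toLin'_apply, hk]⟩
    conv_rhs => rw [← hx, hk']
  · rintro ⟨y, hy, rfl⟩
    rw [Matrix.toLin'_apply, hk', mem_axis.1 hy]

/-- The elements fixing a subspace pointwise. -/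
def fixing (a : Submodule F (Fin 3 → F)) : Subgroup H where
  carrier := {h | ∀ x ∈ a, ((h : GL (Fin 3) F) : Matrix (Fin 3) (Fin 3) F) *ᵥ x = x}
  mul_mem' {g g'} hg hg' x hx := by
    rw [Subgroup.coe_mul, Units.val_mul, ← mulVec_mulVec, hg' x hx, hg x hx]
  one_mem' x _ := by simp
  inv_mem' {g} hg x hx := by
    conv_lhs => rw [← hg x hx]
    rw [mulVec_mulVec, Subgroup.coe_inv, ← Units.val_mul, inv_mul_cancel, Units.val_one, one_mulVec]

theorem card_fixing_smul (k : H) (a : Submodule F (Fin 3 → F)) :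
    Nat.card (fixing H (k • a)) = Nat.card (fixing H a) := by
  have e : fixing H (k • a) = (fixing H a).map (MulAut.conj k).toMonoidHom := by
    ext g
    rw [Subgroup.mem_map_equiv, MulAut.conj_symm_apply]
    have hk : ∀ x : Fin 3 → F, ((k : GL (Fin 3) F) : Matrix (Fin 3) (Fin 3) F) *ᵥ
        ((((k : GL (Fin 3) F)⁻¹ : GL (Fin 3) F) : Matrix (Fin 3) (Fin 3) F) *ᵥ x) = x :=
      fun x => by rw [mulVec_mulVec, ← Units.val_mul, mul_inv_cancel, Units.val_one, one_mulVec]
    have hk' : ∀ x : Fin 3 → F, (((k : GL (Fin 3) F)⁻¹ : GL (Fin 3) F) : Matrix (Fin 3) (Fin 3) F) *ᵥ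
        (((k : GL (Fin 3) F) : Matrix (Fin 3) (Fin 3) F) *ᵥ x) = x :=
      fun x => by rw [mulVec_mulVec, ← Units.val_mul, inv_mul_cancel, Units.val_one, one_mulVec]
    have hval : ∀ x : Fin 3 → F, ((k⁻¹ * g * k : H) : GL (Fin 3) F).val *ᵥ x =
        (((k : GL (Fin 3) F)⁻¹ : GL (Fin 3) F) : Matrix (Fin 3) (Fin 3) F) *ᵥ
          (((g : GL (Fin 3) F) : Matrix (Fin 3) (Fin 3) F) *ᵥ
            (((k : GL (Fin 3) F) : Matrix (Fin 3) (Fin 3) F) *ᵥ x)) := fun x => by
      simp only [Subgroup.coe_mul, Subgroup.coe_inv, Units.val_mul, ← mulVec_mulVec]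
    constructor
    · intro hg x hx
      have h1 := hg _ (Submodule.mem_map_of_mem
        (f := Matrix.toLin' ((k : GL (Fin 3) F) : Matrix (Fin 3) (Fin 3) F)) hx)
      rw [Matrix.toLin'_apply] at h1
      rw [hval, h1, hk']
    · intro hg x hx
      obtain ⟨y, hy, rfl⟩ := hx
      change ((g : GL (Fin 3) F) : Matrix (Fin 3) (Fin 3) F) *ᵥ
        (Matrix.toLin' ((k : GL (Fin 3) F) : Matrix (Fin 3) (Fin 3) F) y) = _
      have h1 := hg y hy
      rw [hval] at h1
      rw [Matrix.toLin'_apply]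
      conv_rhs => rw [← h1, hk]
  rw [e]
  exact Nat.card_congr ((fixing H a).equivMapOfInjective _ (MulAut.conj k).injective).toEquiv.symm

theorem fixing_le_stabilizer (a : Submodule F (Fin 3 → F)) : fixing H a ≤ MulAction.stabilizer H a := by
  intro g hg
  rw [MulAction.mem_stabilizer_iff]
  change Submodule.map _ _ = _
  ext x
  constructor
  · rintro ⟨y, hy, rfl⟩
    rw [Matrix.toLin'_apply, hg y hy]; exact hy
  · intro hx
    exact ⟨x, hx, by rw [Matrix.toLin'_apply]; exact hg x hx⟩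

section Count

variable [Finite F]

/-- Axis counting: the orbit of a distinguished axis with a quarter turn has one or three members. -/
theorem orbit_one_or_three (hax : ∀ h : H, h ≠ 1 → ∃ v, v ≠ 0 ∧ axis (h : GL (Fin 3) F) = Submodule.span F {v})
    (hstab : ∀ h : H, h ≠ 1 → (fixing H (axis (h : GL (Fin 3) F))).relIndex
      (MulAction.stabilizer H (axis (h : GL (Fin 3) F))) ≤ 2) {u : Submodule F (Fin 3 → F)} {r : H} (hr : r ≠ 1)
    (hru : axis (r : GL (Fin 3) F) = u) (hflip : (fixing H u).relIndex (MulAction.stabilizer H u) = 2)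
    (h4 : 4 ∣ Nat.card (fixing H u)) :
    Nat.card (MulAction.orbit H u) = 1 ∨ Nat.card (MulAction.orbit H u) = 3 := by
  classical
  have := Fintype.ofFinite H
  let orb : Submodule F (Fin 3 → F) → Finset (Submodule F (Fin 3 → F)) := fun a =>
    Finset.univ.image fun k : H => k • a
  have horb : ∀ a, (orb a : Set _) = MulAction.orbit H a := fun a => by
    simp [orb, MulAction.orbit]
  let A := ((Finset.univ : Finset H).erase 1).image fun h : H => axis (h : GL (Fin 3) F)
  have hAmem : ∀ a, a ∈ A ↔ ∃ h : H, h ≠ 1 ∧ axis (h : GL (Fin 3) F) = a := by simp [A]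
  let w : Submodule F (Fin 3 → F) → ℕ := fun a => Nat.card (fixing H a) - 1
  have hsum : ∑ a ∈ A, w a = Nat.card H - 1 := by
    rw [show Nat.card H - 1 = ((Finset.univ : Finset H).erase 1).card by
      rw [Finset.card_erase_of_mem (Finset.mem_univ _), Finset.card_univ, Nat.card_eq_fintype_card],
      Finset.card_eq_sum_card_fiberwise (f := fun h : H => axis (h : GL (Fin 3) F)) (t := A)
        fun h hh => Finset.mem_image_of_mem _ hh]
    refine Finset.sum_congr rfl fun a ha => ?_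
    obtain ⟨h, hh1, rfl⟩ := (hAmem a).1 ha
    obtain ⟨v, hv, hspan⟩ := hax h hh1
    have e : ((Finset.univ : Finset H).erase 1).filter (fun g : H => axis (g : GL (Fin 3) F) = axis (h : GL (Fin 3) F)) =
        ((Finset.univ : Finset H).filter fun g => g ∈ fixing H (axis (h : GL (Fin 3) F))).erase 1 := by
      ext g
      simp only [Finset.mem_filter, Finset.mem_erase, Finset.mem_univ, and_true, true_and]
      refine and_congr_right fun hg1 => ⟨fun e x hx => mem_axis.1 (by rw [e]; exact hx), fun hg => ?_⟩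
      obtain ⟨v', hv', hspan'⟩ := hax g hg1
      have hvmem : v ∈ axis (h : GL (Fin 3) F) := by rw [hspan]; exact Submodule.mem_span_singleton_self v
      have hv2 : v ∈ axis (g : GL (Fin 3) F) := mem_axis.2 (hg v hvmem)
      rw [hspan, hspan', span_eq_of_mem hv (hspan' ▸ hv2)]
    rw [e, Finset.card_erase_of_mem (by simp [(fixing H _).one_mem]), ← Fintype.card_subtype,
      ← Nat.card_eq_fintype_card]
  have hdata : ∀ a ∈ A, (orb a ⊆ A) ∧ (∑ b ∈ orb a, w b = (orb a).card * w a) ∧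
      (orb a).card * Nat.card (MulAction.stabilizer H a) = Nat.card H ∧
      (Nat.card (MulAction.stabilizer H a) = Nat.card (fixing H a) ∨
        Nat.card (MulAction.stabilizer H a) = 2 * Nat.card (fixing H a)) ∧ 2 ≤ Nat.card (fixing H a) := by
    intro a ha
    obtain ⟨h, hh1, rfl⟩ := (hAmem a).1 ha
    refine ⟨fun b hb => ?_, ?_, ?_, ?_, ?_⟩
    · obtain ⟨k, -, rfl⟩ := Finset.mem_image.1 hb
      refine (hAmem _).2 ⟨k * h * k⁻¹, fun e => hh1 (conj_eq_one_iff.1 e), ?_⟩
      rw [Subgroup.coe_mul, Subgroup.coe_mul, Subgroup.coe_inv, axis_conj]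
      rfl
    · rw [Finset.sum_congr rfl fun b hb => ?_, Finset.sum_const, smul_eq_mul]
      obtain ⟨k, -, rfl⟩ := Finset.mem_image.1 hb
      simp only [w, card_fixing_smul]
    · rw [← Set.ncard_coe_finset, horb, ← MulAction.index_stabilizer, Subgroup.index_mul_card]
    · have hle := fixing_le_stabilizer H (axis (h : GL (Fin 3) F))
      have h2 := hstab h hh1
      have h3 : (fixing H (axis (h : GL (Fin 3) F))).relIndex (MulAction.stabilizer H (axis (h : GL (Fin 3) F))) ≠
          0 := Subgroup.index_ne_zero_of_finite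
      have h4' := Subgroup.card_mul_index ((fixing H (axis (h : GL (Fin 3) F))).subgroupOf
        (MulAction.stabilizer H (axis (h : GL (Fin 3) F))))
      rw [Nat.card_congr (Subgroup.subgroupOfEquivOfLe hle).toEquiv] at h4'
      rcases (show (fixing H (axis (h : GL (Fin 3) F))).relIndex
          (MulAction.stabilizer H (axis (h : GL (Fin 3) F))) = 1 ∨ (fixing H (axis (h : GL (Fin 3) F))).relIndex
          (MulAction.stabilizer H (axis (h : GL (Fin 3) F))) = 2 by omega) with e | e <;>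
        rw [Subgroup.relIndex] at e <;> rw [e] at h4'
      · left; omega
      · right; omega
    · have hm : h ∈ fixing H (axis (h : GL (Fin 3) F)) := fun x hx => mem_axis.1 hx
      have : Nontrivial (fixing H (axis (h : GL (Fin 3) F))) :=
        ⟨⟨⟨h, hm⟩, 1, fun e => hh1 (congrArg Subtype.val e)⟩⟩
      exact Finite.one_lt_card
  have huA : u ∈ A := (hAmem u).2 ⟨r, hr, hru⟩
  have hmemorb : ∀ a, a ∈ orb a := fun a => Finset.mem_image.2 ⟨1, Finset.mem_univ _, one_smul H a⟩
  have hdisj : ∀ a b, b ∉ orb a → Disjoint (orb a) (orb b) := fun a b hab => by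
    rw [Finset.disjoint_left]
    intro x hxa hxb
    refine hab (Finset.mem_coe.1 ?_)
    have hxa' : x ∈ MulAction.orbit H a := by rw [← horb]; exact hxa
    have hxb' : x ∈ MulAction.orbit H b := by rw [← horb]; exact hxb
    rw [horb, ← MulAction.orbit_eq_iff.2 hxa', MulAction.orbit_eq_iff.2 hxb']
    exact MulAction.mem_orbit_self b
  obtain ⟨husub, hus, hum, -, huc2⟩ := hdata u huA
  have hcu4 : 4 ≤ Nat.card (fixing H u) := Nat.le_of_dvd (by omega) h4
  have hNu : (orb u).card * (2 * Nat.card (fixing H u)) = Nat.card H := by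
    rw [← hum]
    congr 1
    have hle := fixing_le_stabilizer H u
    have h4' := Subgroup.card_mul_index ((fixing H u).subgroupOf (MulAction.stabilizer H u))
    rw [Nat.card_congr (Subgroup.subgroupOfEquivOfLe hle).toEquiv] at h4'
    rw [Subgroup.relIndex] at hflip
    rw [hflip] at h4'
    omega
  have hN0 : 0 < Nat.card H := Nat.card_pos
  have hgoal : Nat.card (MulAction.orbit H u) = (orb u).card := by
    rw [Nat.card_coe_set_eq, ← horb, Set.ncard_coe_finset]
  rw [hgoal]
  by_cases hA1 : A ⊆ orb u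
  · exfalso
    have e : A = orb u := hA1.antisymm husub
    rw [e, hus] at hsum
    exact arith_one hNu (by simp only [w] at hsum; omega) hcu4
  obtain ⟨a₁, ha₁, ha₁u⟩ := Finset.not_subset.1 hA1
  obtain ⟨hs1, hw1, hm1, hn1, hc1⟩ := hdata a₁ ha₁
  have hd1 := hdisj u a₁ ha₁u
  by_cases hA2 : A ⊆ orb u ∪ orb a₁
  · left
    have e : A = orb u ∪ orb a₁ := hA2.antisymm (Finset.union_subset husub hs1)
    rw [e, Finset.sum_union hd1, hus, hw1] at hsum
    exact arith_two hNu hm1 hn1 (by simp only [w] at hsum; omega) hcu4 hc1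
  obtain ⟨a₂, ha₂, ha₂n⟩ := Finset.not_subset.1 hA2
  rw [Finset.mem_union, not_or] at ha₂n
  obtain ⟨hs2, hw2, hm2, hn2, hc2⟩ := hdata a₂ ha₂
  have hd2 : Disjoint (orb u ∪ orb a₁) (orb a₂) :=
    Finset.disjoint_union_left.2 ⟨hdisj u a₂ ha₂n.1, hdisj a₁ a₂ ha₂n.2⟩
  by_cases hA3 : A ⊆ orb u ∪ orb a₁ ∪ orb a₂
  · have e : A = orb u ∪ orb a₁ ∪ orb a₂ :=
      hA3.antisymm (Finset.union_subset (Finset.union_subset husub hs1) hs2)
    rw [e, Finset.sum_union hd2, Finset.sum_union hd1, hus, hw1, hw2] at hsum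
    exact arith_three hNu hN0 hm1 hn1 hm2 hn2 (by simp only [w] at hsum; omega) h4 hc1 hc2
  exfalso
  obtain ⟨a₃, ha₃, ha₃n⟩ := Finset.not_subset.1 hA3
  rw [Finset.mem_union, Finset.mem_union, not_or, not_or] at ha₃n
  obtain ⟨hs3, hw3, hm3, hn3, hc3⟩ := hdata a₃ ha₃
  have hd3 : Disjoint (orb u ∪ orb a₁ ∪ orb a₂) (orb a₃) :=
    Finset.disjoint_union_left.2
      ⟨Finset.disjoint_union_left.2 ⟨hdisj u a₃ ha₃n.1.1, hdisj a₁ a₃ ha₃n.1.2⟩, hdisj a₂ a₃ ha₃n.2⟩
  have hle : ∑ b ∈ orb u ∪ orb a₁ ∪ orb a₂ ∪ orb a₃, w b ≤ Nat.card H - 1 := hsum ▸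
    Finset.sum_le_sum_of_subset (Finset.union_subset (Finset.union_subset (Finset.union_subset husub hs1) hs2) hs3)
  rw [Finset.sum_union hd3, Finset.sum_union hd2, Finset.sum_union hd1, hus, hw1, hw2, hw3] at hle
  refine arith_four ![(orb a₁).card, (orb a₂).card, (orb a₃).card]
    ![Nat.card (fixing H a₁), Nat.card (fixing H a₂), Nat.card (fixing H a₃)]
    ![Nat.card (MulAction.stabilizer H a₁), Nat.card (MulAction.stabilizer H a₂),
      Nat.card (MulAction.stabilizer H a₃)] hNu hcu4 (fun i => ?_) (fun i => ?_) (fun i => ?_) ?_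
  · fin_cases i <;> assumption
  · fin_cases i <;> assumption
  · fin_cases i <;> assumption
  · simp only [w] at hle
    simp only [Fin.sum_univ_three, Matrix.cons_val_zero, Matrix.cons_val_one, Matrix.cons_val]
    omega

end Count

section Frames

variable [Finite F] {R : Set (Fin 3 → F)} (hR : IsRootSet N R)
include hR

/-- A reflection closed set outside the octahedral frames has a rotation of order `p`. -/
theorem exists_unip (p : ℕ) [Fact p.Prime] [CharP F p] (h2 : (2 : F) ≠ 0) (hN : N ≠ 0) {f : Fin 3 → F}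
    (hf : f ∈ R) (hz : f 2 ≠ 0) (hxy : f 0 ≠ 0 ∨ f 1 ≠ 0) (hb₀ : ¬ (f 1 = 0 ∧ 2 * f 0 ^ 2 = 1))
    (hb₁ : ¬ (f 0 = 0 ∧ 2 * f 1 ^ 2 = 1)) (hb₂ : ¬ (4 * f 0 ^ 2 = 1 ∧ 4 * f 1 ^ 2 = 1)) :
    ∃ g ∈ rotGroup N R, g ≠ 1 ∧ (g : Matrix (Fin 3) (Fin 3) F) ^ p = 1 := by
  classical
  by_contra hno
  push Not at hno
  set H := rotGroup N R
  have hax' : ∀ h : H, h ≠ 1 → ∃ v, ip3 N v v ≠ 0 ∧ axis (h : GL (Fin 3) F) = Submodule.span F {v} := by
    intro h hh1
    have hM : IsRot N ((h : GL (Fin 3) F) : Matrix (Fin 3) (Fin 3) F) := h.2.1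
    have hne : ((h : GL (Fin 3) F) : Matrix (Fin 3) (Fin 3) F) ≠ 1 := fun e =>
      hh1 (Subtype.ext (Units.ext e))
    have h1 : ¬ ∀ v, ((h : GL (Fin 3) F) : Matrix (Fin 3) (Fin 3) F) *ᵥ v = v → ip3 N v v = 0 := fun hnf =>
      hno (h : GL (Fin 3) F) h.2 (fun e => hh1 (Subtype.ext e)) (pow_eq_one_of_isotropic h2 hN p hM hnf)
    push Not at h1
    obtain ⟨v, hMv, hv⟩ := h1
    refine ⟨v, hv, le_antisymm (fun x hx => ?_) ((Submodule.span_singleton_le_iff_mem _ _).2 (mem_axis.2 hMv))⟩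
    rw [mem_span_of_fixed h2 hN hM hne hv hMv (mem_axis.1 hx)]
    exact Submodule.smul_mem _ _ (Submodule.mem_span_singleton_self v)
  have hne0 : ∀ v : Fin 3 → F, ip3 N v v ≠ 0 → v ≠ 0 := fun v hv e => hv (by rw [e, ip3_zero_left])
  set e₀ : Fin 3 → F := ![1, 0, 0]
  set e₂ : Fin 3 → F := ![0, 0, 1]
  set u := Submodule.span F {e₂} with hu
  obtain ⟨qg, hqg, hqv⟩ := exists_quarter hR
  obtain ⟨tg, htg, htv⟩ := exists_halfTurn hR hR.e₀
  obtain ⟨sg, hsg, hsv⟩ := exists_halfTurn hR hf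
  set r : H := ⟨qg, hqg⟩
  set t : H := ⟨tg, htg⟩
  have hr1 : r ≠ 1 := fun e => by
    have h1 : qg = 1 := congrArg Subtype.val e
    have := congrArg (fun M : Matrix (Fin 3) (Fin 3) F => M 0 0) hqv
    simp [h1, quarter] at this
  have hre₂ : (qg : Matrix (Fin 3) (Fin 3) F) *ᵥ e₂ = e₂ := by
    rw [hqv, quarter_mulVec]; ext i; fin_cases i <;> simp [e₂]
  have he₂ : e₂ ≠ 0 := fun e => one_ne_zero (congrFun e 2)
  have hru : axis (r : GL (Fin 3) F) = u := by
    obtain ⟨v, hv, hspan⟩ := hax' r hr1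
    rw [hspan, hu]
    exact (span_eq_of_mem he₂ (hspan ▸ mem_axis.2 hre₂)).symm
  have hrfix : r ∈ fixing H u := fun x hx => mem_axis.1 (by rw [hru]; exact hx)
  have h4 : 4 ∣ Nat.card (fixing H u) := by
    have : orderOf r = 4 := by
      refine orderOf_eq_prime_pow (p := 2) (n := 1) ?_ ?_
      · intro e
        have h1 := congrArg (fun g : H => ((g : GL (Fin 3) F) : Matrix (Fin 3) (Fin 3) F) 0 0) e
        simp [r, hqv, pow_succ, quarter, Matrix.mul_apply, Fin.sum_univ_three] at h1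
        exact h2 (by linear_combination -h1)
      · refine Subtype.ext (Units.ext ?_)
        simp only [r, SubgroupClass.coe_pow, Units.val_pow_eq_pow_val, hqv, Nat.reducePow, Nat.reduceAdd,
          OneMemClass.coe_one, Units.val_one]
        ext i j
        fin_cases i <;> fin_cases j <;> simp [pow_succ, quarter, Matrix.mul_apply, Fin.sum_univ_three]
    have h5 := orderOf_dvd_natCard (⟨r, hrfix⟩ : fixing H u)
    rwa [Subgroup.orderOf_mk, this] at h5
  have hsign : ∀ (h : H) (v : Fin 3 → F), ip3 N v v ≠ 0 → h • Submodule.span F {v} = Submodule.span F {v} →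
      ((h : GL (Fin 3) F) : Matrix (Fin 3) (Fin 3) F) *ᵥ v = v ∨
        ((h : GL (Fin 3) F) : Matrix (Fin 3) (Fin 3) F) *ᵥ v = -v := by
    intro h v hv he
    have he' : (h : GL (Fin 3) F) • Submodule.span F {v} = Submodule.span F {v} := he
    rw [smul_span] at he'
    obtain ⟨s, hs⟩ := scalar_of_mem_span (he' ▸ Submodule.mem_span_singleton_self _)
    have hk := h.2.1.1 v v
    rw [← hs, ip3_smul_left, ip3_smul_right] at hk
    have : s * s = 1 := by
      refine mul_right_cancel₀ hv ?_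
      rw [one_mul]; linear_combination hk
    rcases mul_self_eq_one_iff.1 this with rfl | rfl
    · left; rw [← hs, one_smul]
    · right; rw [← hs, neg_one_smul]
  have hidx : ∀ v : Fin 3 → F, ip3 N v v ≠ 0 →
      (fixing H (Submodule.span F {v})).relIndex (MulAction.stabilizer H (Submodule.span F {v})) ≤ 2 := by
    intro v hv
    set C := (fixing H (Submodule.span F {v})).subgroupOf (MulAction.stabilizer H (Submodule.span F {v}))
    have hmem : ∀ g : MulAction.stabilizer H (Submodule.span F {v}), g ∈ C ↔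
        (((g : H) : GL (Fin 3) F) : Matrix (Fin 3) (Fin 3) F) *ᵥ v = v := fun g => by
      refine ⟨fun hg => hg v (Submodule.mem_span_singleton_self v), fun hg x hx => ?_⟩
      obtain ⟨s, rfl⟩ := scalar_of_mem_span hx
      rw [mulVec_smul]
      exact congrArg (s • ·) hg
    by_cases hall : ∀ g, g ∈ C
    · have : C.index = 1 := Subgroup.index_eq_one.2 ((Subgroup.eq_top_iff' C).2 hall)
      exact le_of_eq_of_le this one_le_two
    · push Not at hall
      obtain ⟨a, ha⟩ := hall
      refine le_of_eq (Subgroup.index_eq_two_iff.2 ⟨a, fun g => ?_⟩)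
      have hav := (hsign a v hv a.2).resolve_left fun e => ha ((hmem a).2 e)
      have hga : (((g * a : MulAction.stabilizer H (Submodule.span F {v})) : H) : GL (Fin 3) F).val *ᵥ v =
          -((((g : H) : GL (Fin 3) F) : Matrix (Fin 3) (Fin 3) F) *ᵥ v) := by
        simp only [Subgroup.coe_mul, Units.val_mul, ← mulVec_mulVec, hav, mulVec_neg]
      by_cases hg : g ∈ C
      · refine Or.inr ⟨hg, fun hga' => hne0 v hv ?_⟩
        have h1 := (hmem _).1 hga'
        rw [hga, (hmem g).1 hg] at h1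
        exact (smul_eq_zero.1 (show (2 : F) • v = 0 by
          rw [two_smul]; exact add_eq_zero_iff_eq_neg.2 h1.symm)).resolve_left h2
      · refine Or.inl ⟨(hmem _).2 ?_, hg⟩
        rw [hga, (hsign g v hv g.2).resolve_left fun e => hg ((hmem g).2 e), neg_neg]
  have htu : (tg : Matrix (Fin 3) (Fin 3) F) *ᵥ e₂ = -e₂ := by
    rw [htv, halfTurn_mulVec]; ext i; fin_cases i <;> simp [e₂, ip3]
  have htst : t • u = u := by
    change tg • u = u
    rw [hu, smul_span, htu]
    exact span_eq_of_mem (neg_ne_zero.2 he₂) (Submodule.neg_mem _ (Submodule.mem_span_singleton_self _))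
  have hflip : (fixing H u).relIndex (MulAction.stabilizer H u) = 2 := by
    have hle := hidx e₂ (by simp [e₂, ip3, hN])
    have hne1 : (fixing H u).relIndex (MulAction.stabilizer H u) ≠ 1 := by
      intro e
      have h1 : t ∈ fixing H u := Subgroup.relIndex_eq_one.1 e (MulAction.mem_stabilizer_iff.2 htst)
      have h2' := h1 e₂ (Submodule.mem_span_singleton_self _)
      have h3 := congrFun (htu.symm.trans h2') 2
      simp [e₂] at h3
      exact h2 (by linear_combination -h3)
    have hne0' : (fixing H u).relIndex (MulAction.stabilizer H u) ≠ 0 := Subgroup.index_ne_zero_of_finite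
    rw [hu] at hne1 hne0' ⊢
    omega
  have horb := orbit_one_or_three H
    (fun h hh => by obtain ⟨v, hv, e⟩ := hax' h hh; exact ⟨v, hne0 v hv, e⟩)
    (fun h hh => by obtain ⟨v, hv, e⟩ := hax' h hh; rw [e]; exact hidx v hv) hr1 hru hflip h4
  set s : H := ⟨sg, hsg⟩
  have hgvec : (sg : Matrix (Fin 3) (Fin 3) F) *ᵥ e₂ =
      ![2 * N * f 2 * f 0, 2 * N * f 2 * f 1, 2 * N * f 2 * f 2 - 1] := by
    rw [hsv, halfTurn_mulVec]; ext i; fin_cases i <;>
      simp [e₂, ip3, -mul_eq_mul_right_iff, -mul_eq_mul_left_iff] <;> ring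
  have h2Nz : 2 * N * f 2 ≠ 0 := mul_ne_zero (mul_ne_zero h2 hN) hz
  have hsu : s • u ≠ u := by
    intro e
    have e' : sg • u = u := e
    rw [hu, smul_span] at e'
    obtain ⟨k, hk⟩ := scalar_of_mem_span (e' ▸ Submodule.mem_span_singleton_self _)
    have k0 := congrFun hk 0
    have k1 := congrFun hk 1
    rw [hgvec] at k0 k1
    simp [e₂, h2, hN, hz] at k0 k1
    rcases hxy with h | h
    · exact h k0
    · exact h k1
  rcases horb with h1 | h3
  · obtain ⟨x, hx⟩ := (Nat.card_eq_one_iff_unique.1 h1).2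
    have := (Nat.card_eq_one_iff_unique.1 h1).1
    exact hsu (congrArg Subtype.val (Subsingleton.elim (⟨s • u, MulAction.mem_orbit u s⟩ : MulAction.orbit H u)
      ⟨u, MulAction.mem_orbit_self u⟩))
  · set l := s • u with hl
    set v := (sg : Matrix (Fin 3) (Fin 3) F) *ᵥ e₂ with hvdef
    have hlv : l = Submodule.span F {v} := by change sg • u = _; rw [hu, smul_span]
    have hv : ip3 N v v = N := by
      rw [hvdef, hsg.1.1]; simp [e₂, ip3]
    have hrl : r • l ≠ l := by
      intro e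
      have e' : qg • l = l := e
      rw [hlv, smul_span, hqv, quarter_mulVec] at e'
      obtain ⟨k, hk⟩ := scalar_of_mem_span (e' ▸ Submodule.mem_span_singleton_self _)
      have k0 := congrFun hk 0
      have k1 := congrFun hk 1
      have k2 := congrFun hk 2
      simp at k0 k1 k2
      by_cases hv2 : v 2 = 0
      · have hsq : (k * k + 1) * v 0 = 0 := by linear_combination k * k0 - k1
        rcases mul_eq_zero.1 hsq with hk' | hv0
        · refine hN (hv.symm.trans ?_)
          simp only [ip3, hv2]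
          linear_combination v 0 * v 0 * hk' + (v 1 - k * v 0) * k0
        · refine hN (hv.symm.trans ?_)
          simp only [ip3, hv2, hv0]
          rw [hv0, mul_zero] at k0
          linear_combination v 1 * k0
      · have hk1 : k = 1 := mul_right_cancel₀ hv2 (by rw [one_mul]; exact k2)
        subst hk1
        have hv1 : v 1 = 0 := (mul_eq_zero.1 (show 2 * v 1 = 0 by linear_combination k0 + k1)).resolve_left h2
        have hv0 : v 0 = 0 := by linear_combination k0 - hv1
        refine hsu ?_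
        rw [hlv, hu]
        refine span_eq_of_mem (hne0 v (by rw [hv]; exact hN)) (Submodule.mem_span_singleton.2 ⟨v 2, ?_⟩)
        ext i; fin_cases i <;> simp [e₂, hv0, hv1]
    have hrfu : r • u = u := by
      change qg • u = u; rw [hu, smul_span, hre₂]
    have hrlu : r • l ≠ u := fun e => hsu (smul_left_cancel r (e.trans hrfu.symm))
    have hset : MulAction.orbit H u = ({u, l, r • l} : Set _) := by
      have hfin : (MulAction.orbit H u).Finite := Set.toFinite _
      refine (Set.eq_of_subset_of_ncard_le ?_ ?_ hfin).symm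
      · rintro x (rfl | rfl | rfl)
        · exact MulAction.mem_orbit_self u
        · exact MulAction.mem_orbit u s
        · exact MulAction.mem_orbit_of_mem_orbit r (MulAction.mem_orbit u s)
      · rw [← Nat.card_coe_set_eq, h3, Set.ncard_insert_of_notMem (by simp [Ne.symm hsu, Ne.symm hrlu]),
          Set.ncard_pair (Ne.symm hrl)]
    have hcases : ∀ g : H, g • u = u → g • l = l ∨ g • l = r • l := by
      intro g hgu
      have hm : g • l ∈ ({u, l, r • l} : Set _) := by
        rw [← hset]; exact MulAction.mem_orbit_of_mem_orbit g (MulAction.mem_orbit u s)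
      rcases hm with e | e | e
      · exact absurd (smul_left_cancel g (e.trans hgu.symm)) hsu
      · exact Or.inl e
      · exact Or.inr e
    have hv2 : v 2 = 0 := by
      rcases hcases (r * r) (by rw [mul_smul, hrfu, hrfu]) with e | e
      · have e' : (qg * qg) • l = l := e
        rw [hlv, smul_span, Units.val_mul, ← mulVec_mulVec, hqv, quarter_mulVec, quarter_mulVec] at e'
        obtain ⟨k, hk⟩ := scalar_of_mem_span (e' ▸ Submodule.mem_span_singleton_self _)
        have k0 := congrFun hk 0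
        have k1 := congrFun hk 1
        have k2 := congrFun hk 2
        simp at k0 k1 k2
        by_contra hv2
        have hk1 : k = 1 := mul_right_cancel₀ hv2 (by rw [one_mul]; exact k2)
        subst hk1
        refine hrl ?_
        have hv0 : v 0 = 0 := (mul_eq_zero.1 (show 2 * v 0 = 0 by linear_combination k0)).resolve_left h2
        have hv1 : v 1 = 0 := (mul_eq_zero.1 (show 2 * v 1 = 0 by linear_combination k1)).resolve_left h2
        change qg • l = l
        rw [hlv, smul_span, hqv, quarter_mulVec]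
        congr 2
        ext i; fin_cases i <;> simp [hv0, hv1]
      · rw [mul_smul] at e
        exact absurd (smul_left_cancel r e) hrl
    have hv01 : v 0 * v 1 = 0 ∨ v 0 * v 0 - v 1 * v 1 = 0 := by
      have ht : (tg : Matrix (Fin 3) (Fin 3) F) *ᵥ v = ![v 0, -v 1, -v 2] := by
        rw [htv, halfTurn_mulVec]; ext i; fin_cases i <;> simp [ip3] <;> ring
      rcases hcases t htst with e | e
      · have e' : tg • l = l := e
        rw [hlv, smul_span, ht] at e'
        obtain ⟨k, hk⟩ := scalar_of_mem_span (e' ▸ Submodule.mem_span_singleton_self _)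
        have k0 := congrFun hk 0
        have k1 := congrFun hk 1
        simp at k0 k1
        left
        exact (mul_eq_zero.1 (show 2 * (v 0 * v 1) = 0 by linear_combination v 0 * k1 - v 1 * k0)).resolve_left h2
      · have e' : tg • l = qg • l := e
        rw [hlv, smul_span, smul_span, ht, hqv, quarter_mulVec] at e'
        obtain ⟨k, hk⟩ := scalar_of_mem_span (e' ▸ Submodule.mem_span_singleton_self _)
        have k0 := congrFun hk 0
        have k1 := congrFun hk 1
        simp at k0 k1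
        right
        linear_combination -v 0 * k0 - v 1 * k1
    have hzero : 2 * N * f 2 * f 2 = 1 := by
      have h5 := congrFun hgvec 2
      rw [hv2] at h5
      simp at h5
      linear_combination -h5
    have hfu : f 0 * f 0 + f 1 * f 1 + N * (f 2 * f 2) = 1 := hR.unit f hf
    have hv0' : v 0 = 2 * N * f 2 * f 0 := by rw [hgvec]; rfl
    have hv1' : v 1 = 2 * N * f 2 * f 1 := by rw [hgvec]; rfl
    rcases hv01 with hp | hd
    · rw [hv0', hv1'] at hp
      have : f 0 * f 1 = 0 := (mul_eq_zero.1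
        (show (2 * N * f 2 * (2 * N * f 2)) * (f 0 * f 1) = 0 by linear_combination hp)).resolve_left
          (mul_ne_zero h2Nz h2Nz)
      rcases mul_eq_zero.1 this with h0 | h1'
      · exact hb₁ ⟨h0, by rw [h0] at hfu; linear_combination 2 * hfu - hzero⟩
      · exact hb₀ ⟨h1', by rw [h1'] at hfu; linear_combination 2 * hfu - hzero⟩
    · rw [hv0', hv1'] at hd
      have : f 0 * f 0 - f 1 * f 1 = 0 := (mul_eq_zero.1
        (show (2 * N * f 2 * (2 * N * f 2)) * (f 0 * f 0 - f 1 * f 1) = 0 by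
          linear_combination hd)).resolve_left (mul_ne_zero h2Nz h2Nz)
      exact hb₂ ⟨by linear_combination 2 * hfu - hzero + 2 * this, by linear_combination 2 * hfu - hzero - 2 * this⟩

end Frames

end CfsgLib.GeomClasses.SphereThree
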