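import Mathlib

/-!
Sets of unit vectors of a three-dimensional quadratic space over a prime field which are closed under their
reflections: such a set is everything unless it sits inside the roots of one of the two octahedral frames.

The group of rotations preserving the set either has no element of order `p`, and then counting axes shows that the
orbit of the vertical axis has one or three members, or it has two root groups, which move any unit vector to any
other.
-/

set_option autoImplicit false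
set_option linter.unusedSectionVars false

namespace CfsgLib.GeomClasses.SphereThree

open Matrix

variable {F : Type*} [Field F] {N : F}

/-- The inner product with Gram matrix `diag(1, 1, N)`. -/
def ip3 (N : F) (x y : Fin 3 → F) : F := x 0 * y 0 + x 1 * y 1 + N * (x 2 * y 2)

/-- The cross product for `ip3`. -/
def cross (N : F) (v w : Fin 3 → F) : Fin 3 → F :=
  ![N * (v 1 * w 2 - v 2 * w 1), N * (v 2 * w 0 - v 0 * w 2), v 0 * w 1 - v 1 * w 0]

theorem ip3_comm (x y : Fin 3 → F) : ip3 N x y = ip3 N y x := by simp only [ip3]; ring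

theorem ip3_add_left (x y z : Fin 3 → F) : ip3 N (x + y) z = ip3 N x z + ip3 N y z := by
  simp only [ip3, Pi.add_apply]; ring

theorem ip3_add_right (x y z : Fin 3 → F) : ip3 N x (y + z) = ip3 N x y + ip3 N x z := by
  simp only [ip3, Pi.add_apply]; ring

theorem ip3_smul_left (s : F) (x z : Fin 3 → F) : ip3 N (s • x) z = s * ip3 N x z := by
  simp only [ip3, Pi.smul_apply, smul_eq_mul]; ring

theorem ip3_smul_right (s : F) (x z : Fin 3 → F) : ip3 N x (s • z) = s * ip3 N x z := by
  simp only [ip3, Pi.smul_apply, smul_eq_mul]; ring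

theorem ip3_sub_left (x y z : Fin 3 → F) : ip3 N (x - y) z = ip3 N x z - ip3 N y z := by
  simp only [ip3, Pi.sub_apply]; ring

theorem ip3_sub_right (x y z : Fin 3 → F) : ip3 N x (y - z) = ip3 N x y - ip3 N x z := by
  simp only [ip3, Pi.sub_apply]; ring

theorem ip3_zero_left (z : Fin 3 → F) : ip3 N 0 z = 0 := by simp [ip3]

theorem cross_left (v w : Fin 3 → F) : ip3 N (cross N v w) v = 0 := by simp [ip3, cross]; ring

theorem cross_right (v w : Fin 3 → F) : ip3 N (cross N v w) w = 0 := by simp [ip3, cross]; ring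

theorem cross_self (v w : Fin 3 → F) :
    ip3 N (cross N v w) (cross N v w) = N * (ip3 N v v * ip3 N w w - ip3 N v w ^ 2) := by
  simp [ip3, cross]; ring

/-- The matrix with three given columns. -/
def cols (a b c : Fin 3 → F) : Matrix (Fin 3) (Fin 3) F := Matrix.of fun i j => (![a, b, c] j) i

theorem cols_mulVec (a b c : Fin 3 → F) (s : Fin 3 → F) : cols a b c *ᵥ s = s 0 • a + s 1 • b + s 2 • c := by
  ext i
  simp [cols, mulVec, dotProduct, Fin.sum_univ_three, mul_comm]

theorem cols_det_ne (hN : N ≠ 0) {a b c : Fin 3 → F}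
    (hG : ip3 N a a * (ip3 N b b * ip3 N c c - ip3 N b c ^ 2) - ip3 N a b * (ip3 N a b * ip3 N c c -
      ip3 N b c * ip3 N a c) + ip3 N a c * (ip3 N a b * ip3 N b c - ip3 N b b * ip3 N a c) ≠ 0) :
    (cols a b c).det ≠ 0 := by
  intro h
  refine hG ?_
  have hsq : N * (cols a b c).det ^ 2 = 0 := by rw [h]; ring
  rw [← hsq]
  simp [Matrix.det_fin_three, cols, ip3]
  ring

theorem exists_comb {a b c : Fin 3 → F} (hd : (cols a b c).det ≠ 0)
    (y : Fin 3 → F) : ∃ α β γ : F, y = α • a + β • b + γ • c := by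
  have hu : IsUnit (cols a b c).det := isUnit_iff_ne_zero.2 hd
  refine ⟨((cols a b c)⁻¹ *ᵥ y) 0, ((cols a b c)⁻¹ *ᵥ y) 1, ((cols a b c)⁻¹ *ᵥ y) 2, ?_⟩
  rw [← cols_mulVec, mulVec_mulVec, Matrix.mul_nonsing_inv _ hu, one_mulVec]

theorem eq_of_basis {a b c : Fin 3 → F} (hd : (cols a b c).det ≠ 0) {M M' : Matrix (Fin 3) (Fin 3) F}
    (ha : M *ᵥ a = M' *ᵥ a) (hb : M *ᵥ b = M' *ᵥ b) (hc : M *ᵥ c = M' *ᵥ c) : M = M' := by
  refine Matrix.ext_of_mulVec_single fun i => ?_
  obtain ⟨α, β, γ, e⟩ := exists_comb hd (Pi.single i 1)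
  rw [e]
  simp [mulVec_add, mulVec_smul, ha, hb, hc]

theorem det_of_triangular {a b c : Fin 3 → F} (hd : (cols a b c).det ≠ 0) {M : Matrix (Fin 3) (Fin 3) F}
    {s₀ s₁ s₂ r₁ r₂ t₂ : F} (ha : M *ᵥ a = s₀ • a) (hb : M *ᵥ b = r₁ • a + s₁ • b)
    (hc : M *ᵥ c = r₂ • a + t₂ • b + s₂ • c) : M.det = s₀ * s₁ * s₂ := by
  have e : M * cols a b c = cols a b c * !![s₀, r₁, r₂; 0, s₁, t₂; 0, 0, s₂] := by
    have hMa := congrFun ha
    have hMb := congrFun hb
    have hMc := congrFun hc
    simp only [mulVec, dotProduct, Fin.sum_univ_three] at hMa hMb hMc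
    ext i j
    fin_cases j
    · simpa [Matrix.mul_apply, cols, Fin.sum_univ_three, mul_comm] using hMa i
    · simpa [Matrix.mul_apply, cols, Fin.sum_univ_three, mul_comm] using hMb i
    · simpa [Matrix.mul_apply, cols, Fin.sum_univ_three, mul_comm] using hMc i
  have := congrArg Matrix.det e
  rw [det_mul, det_mul, mul_comm, Matrix.det_fin_three !![s₀, r₁, r₂; 0, s₁, t₂; 0, 0, s₂]] at this
  refine mul_left_cancel₀ hd (this.trans ?_)
  simp

/-- A rotation of `ip3`. -/
def IsRot (N : F) (M : Matrix (Fin 3) (Fin 3) F) : Prop :=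
  (∀ x y, ip3 N (M *ᵥ x) (M *ᵥ y) = ip3 N x y) ∧ M.det = 1

section Rot

variable (h2 : (2 : F) ≠ 0) (hN : N ≠ 0) {M : Matrix (Fin 3) (Fin 3) F} (hM : IsRot N M)
include h2 hN hM

theorem exists_fixed : ∃ v, v ≠ 0 ∧ M *ᵥ v = v := by
  have hG : ∀ (x y : Fin 3 → F), x ⬝ᵥ (diagonal ![1, 1, N] *ᵥ y) = ip3 N x y := fun x y => by
    simp [ip3, mulVec_diagonal, dotProduct, Fin.sum_univ_three]; ring
  have h1 : Mᵀ * diagonal ![1, 1, N] * M = diagonal ![1, 1, N] := by
    refine Matrix.ext_of_mulVec_single fun j => funext fun i => ?_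
    have := hM.1 (Pi.single i 1) (Pi.single j 1)
    rw [← hG, ← hG] at this
    rw [← mulVec_mulVec, ← mulVec_mulVec]
    have e : ∀ z : Fin 3 → F, z i = Pi.single i 1 ⬝ᵥ z := fun z => by rw [single_dotProduct, one_mul]
    rw [e (Mᵀ *ᵥ (diagonal ![1, 1, N] *ᵥ (M *ᵥ Pi.single j 1))), e (diagonal ![1, 1, N] *ᵥ Pi.single j 1),
      dotProduct_mulVec, vecMul_transpose]
    exact this
  have h3 : Mᵀ * diagonal ![1, 1, N] * (M - 1) = -((M - 1)ᵀ * diagonal ![1, 1, N]) := by
    rw [Matrix.mul_sub, Matrix.mul_one, h1, transpose_sub, transpose_one, Matrix.sub_mul, Matrix.one_mul, neg_sub]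
  have h4 := congrArg Matrix.det h3
  rw [det_mul, det_mul, det_neg, det_mul, det_transpose, det_transpose, hM.2, one_mul, det_diagonal,
    Fin.prod_univ_three, Fintype.card_fin] at h4
  simp only [Matrix.cons_val_zero, Matrix.cons_val_one, Matrix.cons_val, one_mul] at h4
  have h5 : (M - 1).det = 0 := by
    refine (mul_eq_zero.1 (show 2 * N * (M - 1).det = 0 by linear_combination h4)).resolve_left ?_
    exact mul_ne_zero h2 hN
  obtain ⟨v, hv, hMv⟩ := Matrix.exists_mulVec_eq_zero_iff.2 h5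
  exact ⟨v, hv, sub_eq_zero.1 (by rwa [sub_mulVec, one_mulVec] at hMv)⟩

theorem eq_one_of_fixed {v w : Fin 3 → F} (hv : ip3 N v v ≠ 0) (hMv : M *ᵥ v = v) (hw : w ≠ 0)
    (hvw : ip3 N v w = 0) (hMw : M *ᵥ w = w) : M = 1 := by
  by_cases hww : ip3 N w w = 0
  · obtain ⟨i, hi⟩ : ∃ i, ip3 N w (Pi.single i 1) ≠ 0 := by
      by_contra hc
      push Not at hc
      refine hw (funext fun i => ?_)
      have h0 := hc 0
      have h1 := hc 1
      have h2' := hc 2
      simp [ip3] at h0 h1 h2'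
      fin_cases i
      · exact h0
      · exact h1
      · exact h2'.resolve_left hN
    set x := Pi.single i 1 - (ip3 N v (Pi.single i 1) / ip3 N v v) • v with hx
    have hvx : ip3 N v x = 0 := by rw [hx, ip3_sub_right, ip3_smul_right, div_mul_cancel₀ _ hv, sub_self]
    have hwx : ip3 N w x ≠ 0 := by
      rwa [hx, ip3_sub_right, ip3_smul_right, ip3_comm w v, hvw, mul_zero, sub_zero]
    have hd : (cols v w x).det ≠ 0 := cols_det_ne hN (by
      rw [hvw, hvx, hww]
      have := mul_ne_zero hv (pow_ne_zero 2 hwx)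
      intro h0; apply this; linear_combination -h0)
    obtain ⟨α, β, γ, e⟩ := exists_comb hd (M *ᵥ x - x)
    have e1 : ip3 N v (M *ᵥ x - x) = 0 := by
      rw [ip3_sub_right]; conv_lhs => arg 1; arg 2; rw [← hMv]
      rw [hM.1, sub_self]
    have e2 : ip3 N w (M *ᵥ x - x) = 0 := by
      rw [ip3_sub_right]; conv_lhs => arg 1; arg 2; rw [← hMw]
      rw [hM.1, sub_self]
    rw [e, ip3_add_right, ip3_add_right, ip3_smul_right, ip3_smul_right, ip3_smul_right, hvw, hvx] at e1
    rw [e, ip3_add_right, ip3_add_right, ip3_smul_right, ip3_smul_right, ip3_smul_right, ip3_comm w v, hvw,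
      hww] at e2
    have hα : α = 0 := (mul_eq_zero.1 (show α * ip3 N v v = 0 by linear_combination e1)).resolve_right hv
    have hγ : γ = 0 := (mul_eq_zero.1 (show γ * ip3 N w x = 0 by linear_combination e2)).resolve_right hwx
    have hMx : M *ᵥ x = x + β • w := by
      have h' := sub_eq_iff_eq_add.1 e
      rw [hα, hγ, zero_smul, zero_smul, zero_add, add_zero] at h'
      rw [h']; abel
    have e3 := hM.1 x x
    rw [hMx, ip3_add_left, ip3_add_right, ip3_add_right, ip3_smul_left, ip3_smul_left, ip3_smul_right,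
      ip3_smul_right, hww, ip3_comm x w] at e3
    have hβ : β = 0 := (mul_eq_zero.1 (show β * (2 * ip3 N w x) = 0 by linear_combination e3)).resolve_right
      (mul_ne_zero h2 hwx)
    rw [hβ, zero_smul, add_zero] at hMx
    exact eq_of_basis hd (by rw [hMv, one_mulVec]) (by rw [hMw, one_mulVec]) (by rw [hMx, one_mulVec])
  · set c := cross N v w
    have hcv : ip3 N v c = 0 := by rw [ip3_comm]; exact cross_left v w
    have hcw : ip3 N w c = 0 := by rw [ip3_comm]; exact cross_right v w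
    have hcc : ip3 N c c ≠ 0 := by
      rw [cross_self, hvw]
      exact mul_ne_zero hN (by simpa using mul_ne_zero hv hww)
    have hd : (cols v w c).det ≠ 0 := cols_det_ne hN (by
      rw [hvw, hcv, hcw]
      have := mul_ne_zero hv (mul_ne_zero hww hcc)
      intro h0; apply this; linear_combination h0)
    obtain ⟨α, β, γ, e⟩ := exists_comb hd (M *ᵥ c)
    have e1 : ip3 N v (M *ᵥ c) = 0 := by
      conv_lhs => arg 2; rw [← hMv]
      rw [hM.1, hcv]
    have e2 : ip3 N w (M *ᵥ c) = 0 := by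
      conv_lhs => arg 2; rw [← hMw]
      rw [hM.1, hcw]
    rw [e, ip3_add_right, ip3_add_right, ip3_smul_right, ip3_smul_right, ip3_smul_right, hvw, hcv] at e1
    rw [e, ip3_add_right, ip3_add_right, ip3_smul_right, ip3_smul_right, ip3_smul_right, ip3_comm w v, hvw,
      hcw] at e2
    have hα : α = 0 := (mul_eq_zero.1 (show α * ip3 N v v = 0 by linear_combination e1)).resolve_right hv
    have hβ : β = 0 := (mul_eq_zero.1 (show β * ip3 N w w = 0 by linear_combination e2)).resolve_right hww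
    have hdet : M.det = 1 * 1 * γ := det_of_triangular hd (by rw [hMv, one_smul]) (r₁ := 0)
      (by rw [hMw]; simp) (r₂ := 0) (t₂ := 0) (by rw [e, hα, hβ])
    rw [hM.2, one_mul, one_mul] at hdet
    exact eq_of_basis hd (by rw [hMv, one_mulVec]) (by rw [hMw, one_mulVec])
      (by rw [e, hα, hβ, ← hdet]; simp)

/-- A second fixed vector beside an anisotropic one. -/
theorem mem_span_of_fixed (hne : M ≠ 1) {v x : Fin 3 → F} (hv : ip3 N v v ≠ 0) (hMv : M *ᵥ v = v)
    (hMx : M *ᵥ x = x) : x = (ip3 N v x / ip3 N v v) • v := by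
  by_contra hc
  refine hne (eq_one_of_fixed h2 hN hM hv hMv (w := x - (ip3 N v x / ip3 N v v) • v) (sub_ne_zero.2 hc) ?_ ?_)
  · rw [ip3_sub_right, ip3_smul_right, div_mul_cancel₀ _ hv, sub_self]
  · rw [mulVec_sub, mulVec_smul, hMx, hMv]

/-- An element with power `p` equal to one fixes no anisotropic vector. -/
theorem unip_fixed (p : ℕ) [Fact p.Prime] [CharP F p] (hne : M ≠ 1) (hp : M ^ p = 1) {v : Fin 3 → F}
    (hMv : M *ᵥ v = v) : ip3 N v v = 0 := by
  by_contra hv
  set D := M - 1 with hD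
  have hDp : D ^ p = 0 := by
    rw [hD, sub_pow_char_of_commute (p := p) (Commute.one_right M), one_pow, hp, sub_self]
  obtain ⟨x, hx0, hvx⟩ : ∃ x : Fin 3 → F, x ≠ 0 ∧ ip3 N v x = 0 := by
    by_cases h0 : cross N v (Pi.single 0 1) ≠ 0
    · exact ⟨_, h0, by rw [ip3_comm]; exact cross_left _ _⟩
    by_cases h1 : cross N v (Pi.single 1 1) ≠ 0
    · exact ⟨_, h1, by rw [ip3_comm]; exact cross_left _ _⟩
    exfalso
    push Not at h0 h1
    have a1 := congrFun h0 1
    have a2 := congrFun h0 2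
    have a3 := congrFun h1 2
    simp [cross, hN] at a1 a2 a3
    exact hv (by simp [ip3, a1, a2, a3])
  have hinv : ∀ y, ip3 N v y = 0 → ip3 N v (D *ᵥ y) = 0 := fun y hy => by
    rw [hD, sub_mulVec, one_mulVec, ip3_sub_right, hy, sub_zero]
    conv_lhs => arg 2; rw [← hMv]
    rw [hM.1, hy]
  obtain ⟨k, hk1, hk2⟩ : ∃ k, D ^ k *ᵥ x ≠ 0 ∧ D ^ (k + 1) *ᵥ x = 0 := by
    by_contra hc
    push Not at hc
    have : ∀ k, D ^ k *ᵥ x ≠ 0 := fun k => by
      induction k with
      | zero => simpa using hx0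
      | succ k ih => exact hc k ih
    exact this p (by rw [hDp, zero_mulVec])
  have hperp : ∀ k, ip3 N v (D ^ k *ᵥ x) = 0 := fun k => by
    induction k with
    | zero => simpa using hvx
    | succ k ih => rw [pow_succ', ← mulVec_mulVec]; exact hinv _ ih
  refine hne (eq_one_of_fixed h2 hN hM hv hMv hk1 (hperp k) ?_)
  rw [pow_succ', ← mulVec_mulVec, hD, sub_mulVec, one_mulVec, sub_eq_zero] at hk2
  exact hk2

omit hM in
theorem pair_det {w w' : Fin 3 → F} (hw : ip3 N w w = 0) (hw' : ip3 N w' w' = 0) (hww : ip3 N w w' = 1) :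
    (cols w (cross N w w') w').det ≠ 0 := cols_det_ne hN (by
  rw [hw, hw', hww, ip3_comm w (cross N w w'), cross_left, cross_right, cross_self, hw, hw', hww]
  intro h0; apply hN; linear_combination h0)

/-- The shape of a rotation fixing an isotropic vector and no anisotropic one. -/
theorem unip_shape (hnf : ∀ v, M *ᵥ v = v → ip3 N v v = 0) {w w' : Fin 3 → F} (hw : ip3 N w w = 0)
    (hw' : ip3 N w' w' = 0) (hww : ip3 N w w' = 1) (hMw : M *ᵥ w = w) :
    ∃ a, M *ᵥ cross N w w' = cross N w w' + a • w ∧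
      M *ᵥ w' = w' + (a / N) • cross N w w' + (a * a / (2 * N)) • w := by
  have hd := pair_det h2 hN hw hw' hww
  set m := cross N w w'
  have hmw : ip3 N m w = 0 := cross_left w w'
  have hmw' : ip3 N m w' = 0 := cross_right w w'
  have hmm : ip3 N m m = -N := by rw [cross_self, hw, hw', hww]; ring
  obtain ⟨a, μ, γ, em⟩ := exists_comb hd (M *ᵥ m)
  obtain ⟨α, β, δ, ew⟩ := exists_comb hd (M *ᵥ w')
  have e1 : ip3 N w (M *ᵥ m) = 0 := by
    conv_lhs => arg 2; rw [← hMw]
    rw [hM.1, ip3_comm, hmw]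
  have hγ : γ = 0 := by
    simp only [em, ip3_add_right, ip3_smul_right, hw, hww, ip3_comm w m, hmw] at e1
    linear_combination e1
  have e2 : ip3 N w (M *ᵥ w') = 1 := by
    conv_lhs => arg 2; rw [← hMw]
    rw [hM.1, hww]
  have hδ : δ = 1 := by
    simp only [ew, ip3_add_right, ip3_smul_right, hw, hww, ip3_comm w m, hmw] at e2
    linear_combination e2
  rw [hγ, zero_smul, add_zero] at em
  rw [hδ, one_smul] at ew
  have hdet : M.det = 1 * μ * 1 := det_of_triangular hd (s₀ := 1) (by rw [hMw, one_smul]) em (r₂ := α) (t₂ := β)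
    (s₂ := 1) (by rw [ew, one_smul])
  rw [hM.2, one_mul, mul_one] at hdet
  rw [← hdet, one_smul] at em
  have e3 := hM.1 m w'
  simp only [em, ew, ip3_add_left, ip3_add_right, ip3_smul_left, ip3_smul_right, hmw, hmw', hmm, hw, hww,
    ip3_comm w m] at e3
  have e4 := hM.1 w' w'
  simp only [ew, ip3_add_left, ip3_add_right, ip3_smul_left, ip3_smul_right, hw', hmw, hmw', hmm, hw, hww,
    ip3_comm w m, ip3_comm w' m, ip3_comm w' w] at e4
  have hβ : β = a / N := by rw [eq_div_iff hN]; linear_combination -e3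
  have hα : α = a * a / (2 * N) := by
    rw [eq_div_iff (mul_ne_zero h2 hN)]
    have hβN : β * N = a := by rw [hβ, div_mul_cancel₀ _ hN]
    linear_combination N * e4 + (β * N + a) * hβN
  refine ⟨a, by rw [em, add_comm], ?_⟩
  rw [ew, hα, hβ]
  abel

end Rot

/-- The half-turn about a unit vector. -/
def halfTurn (N : F) (f : Fin 3 → F) : Matrix (Fin 3) (Fin 3) F :=
  (2 : F) • vecMulVec f ![f 0, f 1, N * f 2] - 1

theorem halfTurn_mulVec (f x : Fin 3 → F) : halfTurn N f *ᵥ x = (2 * ip3 N x f) • f - x := by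
  ext i
  fin_cases i <;>
    simp [halfTurn, mulVec, dotProduct, Fin.sum_univ_three, vecMulVec, ip3, Matrix.one_apply] <;> ring

theorem halfTurn_rot {f : Fin 3 → F} (hf : ip3 N f f = 1) : IsRot N (halfTurn N f) := by
  refine ⟨fun x y => ?_, ?_⟩
  · simp only [halfTurn_mulVec, ip3_sub_left, ip3_sub_right, ip3_smul_left, ip3_smul_right, hf, ip3_comm f]
    ring
  · simp [Matrix.det_fin_three, halfTurn, vecMulVec, Matrix.one_apply, ip3] at hf ⊢
    linear_combination 2 * hf

/-- The quarter turn about the vertical axis. -/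
def quarter : Matrix (Fin 3) (Fin 3) F := !![0, -1, 0; 1, 0, 0; 0, 0, 1]

theorem quarter_mulVec (x : Fin 3 → F) : (quarter : Matrix (Fin 3) (Fin 3) F) *ᵥ x = ![-x 1, x 0, x 2] := by
  ext i; fin_cases i <;> simp [quarter, mulVec, dotProduct, Fin.sum_univ_three]

theorem quarter_rot : IsRot N (quarter : Matrix (Fin 3) (Fin 3) F) := by
  refine ⟨fun x y => ?_, by simp [quarter, Matrix.det_fin_three]⟩
  simp [quarter_mulVec, ip3]; ring

/-- The rotations preserving a set. -/
def rotGroup (N : F) (R : Set (Fin 3 → F)) [Finite F] : Subgroup (GL (Fin 3) F) where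
  carrier := {g | IsRot N (g : Matrix (Fin 3) (Fin 3) F) ∧ ∀ x ∈ R, (g : Matrix (Fin 3) (Fin 3) F) *ᵥ x ∈ R}
  mul_mem' {a b} ha hb := by
    refine ⟨⟨fun x y => ?_, ?_⟩, fun x hx => ?_⟩
    · rw [Units.val_mul, ← mulVec_mulVec, ← mulVec_mulVec, ha.1.1, hb.1.1]
    · rw [Units.val_mul, det_mul, ha.1.2, hb.1.2, one_mul]
    · rw [Units.val_mul, ← mulVec_mulVec]; exact ha.2 _ (hb.2 x hx)
  one_mem' := ⟨⟨fun x y => by simp, by simp⟩, fun x hx => by simpa using hx⟩
  inv_mem' {a} ha := by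
    have e : ∀ x, (a : Matrix (Fin 3) (Fin 3) F) *ᵥ (((a⁻¹ : GL (Fin 3) F) : Matrix (Fin 3) (Fin 3) F) *ᵥ x) = x :=
      fun x => by rw [mulVec_mulVec, ← Units.val_mul, mul_inv_cancel, Units.val_one, one_mulVec]
    refine ⟨⟨fun x y => ?_, ?_⟩, fun x hx => ?_⟩
    · conv_rhs => rw [← e x, ← e y, ha.1.1]
    · have h1 : (a : Matrix (Fin 3) (Fin 3) F).det * ((a⁻¹ : GL (Fin 3) F) : Matrix (Fin 3) (Fin 3) F).det = 1 := by
        rw [← det_mul, ← Units.val_mul, mul_inv_cancel, Units.val_one, det_one]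
      rwa [ha.1.2, one_mul] at h1
    · have hfin : Finite R := inferInstance
      obtain ⟨y, hy⟩ := Finite.injective_iff_surjective.1
        (show Function.Injective fun y : R => (⟨_, ha.2 y.1 y.2⟩ : R) from fun y z hyz => by
          refine Subtype.ext ?_
          have := congrArg (fun w : R => ((a⁻¹ : GL (Fin 3) F) : Matrix (Fin 3) (Fin 3) F) *ᵥ (w : Fin 3 → F)) hyz
          simpa [mulVec_mulVec] using this) ⟨x, hx⟩
      have hy' : (a : Matrix (Fin 3) (Fin 3) F) *ᵥ (y : Fin 3 → F) = x := congrArg Subtype.val hy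
      rw [← hy', mulVec_mulVec, ← Units.val_mul, inv_mul_cancel, Units.val_one, one_mulVec]
      exact y.2

/-- The hypotheses on a set of unit vectors. -/
structure IsRootSet (N : F) (R : Set (Fin 3 → F)) : Prop where
  unit : ∀ f ∈ R, ip3 N f f = 1
  refl : ∀ f ∈ R, ∀ g ∈ R, g - (2 * ip3 N g f) • f ∈ R
  neg : ∀ f ∈ R, -f ∈ R
  e₀ : ![1, 0, 0] ∈ R
  e₁ : ![0, 1, 0] ∈ R
  swap : ∀ x ∈ R, ![x 1, x 0, x 2] ∈ R

variable [Finite F] {R : Set (Fin 3 → F)} (hR : IsRootSet N R)
include hR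

theorem exists_halfTurn {f : Fin 3 → F} (hf : f ∈ R) :
    ∃ g ∈ rotGroup N R, (g : Matrix (Fin 3) (Fin 3) F) = halfTurn N f := by
  have hr := halfTurn_rot (hR.unit f hf)
  refine ⟨Matrix.GeneralLinearGroup.mkOfDetNeZero (halfTurn N f) (by rw [hr.2]; exact one_ne_zero),
    ⟨hr, fun x hx => ?_⟩, rfl⟩
  change halfTurn N f *ᵥ x ∈ R
  rw [halfTurn_mulVec, ← neg_sub]
  exact hR.neg _ (hR.refl f hf x hx)

theorem exists_quarter : ∃ g ∈ rotGroup N R, (g : Matrix (Fin 3) (Fin 3) F) = quarter := by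
  refine ⟨Matrix.GeneralLinearGroup.mkOfDetNeZero quarter (by rw [(quarter_rot (N := N)).2]; exact one_ne_zero),
    ⟨quarter_rot, fun x hx => ?_⟩, rfl⟩
  change (quarter : Matrix (Fin 3) (Fin 3) F) *ᵥ x ∈ R
  have := hR.refl _ hR.e₀ _ (hR.swap x hx)
  convert this using 1
  rw [quarter_mulVec]
  ext i
  fin_cases i <;> simp [ip3] <;> ring

end CfsgLib.GeomClasses.SphereThree
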