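import Cfsg.Agent.Lib.GeomClasses.Symp
import Cfsg.Agent.Lib.GeomClasses.Decomp

/-!
Non-degenerate decompositions of a symplectic space: isometries between members and swapping two members.
-/

set_option autoImplicit false
set_option linter.unusedSimpArgs false
set_option linter.unusedSectionVars false

namespace CfsgLib.GeomClasses.SympDecomp

open Matrix CfsgLib.GeomClasses CfsgLib.GeomClasses.Symp
open scoped MatrixGroups

variable {ι : Type} [Fintype ι] [DecidableEq ι] {F : Type*} [Field F]
  {f : (ι → F) → (ι → F) → F}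

theorem exists_isometry (hf : Cfsg.Geo.IsSymplecticForm f) (k : ℕ) :
    ∀ W W' : Submodule F (ι → F), Cfsg.Geo.IsNondegenerateOn f W → Cfsg.Geo.IsNondegenerateOn f W' →
      Module.finrank F W = k → Module.finrank F W' = k →
      ∃ L : (ι → F) →ₗ[F] (ι → F), ∀ x ∈ W, L x ∈ W' ∧ ∀ y ∈ W, f (L x) (L y) = f x y := by
  induction k using Nat.strong_induction_on with
  | _ k ih =>
  intro W W' hW hW' hk hk'
  by_cases h0 : W = ⊥
  · refine ⟨0, fun x hx => ⟨W'.zero_mem, fun y _ => ?_⟩⟩
    rw [h0, Submodule.mem_bot] at hx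
    simp [hx, Symp.zero_left hf]
  have hk0 : 0 < k := by
    rw [← hk]
    exact Nat.pos_of_ne_zero (mt Submodule.finrank_eq_zero.1 h0)
  have pair : ∀ U : Submodule F (ι → F), Cfsg.Geo.IsNondegenerateOn f U → Module.finrank F U = k →
      ∃ e p, e ∈ U ∧ p ∈ U ∧ f e p = 1 := by
    intro U hU hUk
    obtain ⟨e, he, he0⟩ := Submodule.exists_mem_ne_zero_of_ne_bot
      (show U ≠ ⊥ from fun h => by rw [h, finrank_bot] at hUk; omega)
    obtain ⟨p, hp, hep⟩ := (hU e he he0).2
    exact ⟨e, (f e p)⁻¹ • p, he, U.smul_mem _ hp, by rw [Symp.smul_right hf, inv_mul_cancel₀ hep]⟩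
  obtain ⟨e, p, he, hp, hep⟩ := pair W hW hk
  obtain ⟨e', p', he', hp', hep'⟩ := pair W' hW' hk'
  have hpe : f p e = -1 := by rw [hf.skew, hep]
  have hpe' : f p' e' = -1 := by rw [hf.skew, hep']
  -- projection away from a hyperbolic pair
  let P : (ι → F) → (ι → F) → ((ι → F) →ₗ[F] (ι → F)) := fun e p =>
    LinearMap.id - (((Symp.bil hf).flip p).smulRight e) - ((Symp.bil hf e).smulRight p)
  have hP : ∀ (e p x : ι → F), P e p x = x - f x p • e - f e x • p := fun e p x => by simp [P]
  have sub : ∀ (U : Submodule F (ι → F)) (e p : ι → F), Cfsg.Geo.IsNondegenerateOn f U → e ∈ U → p ∈ U →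
      f e p = 1 → Cfsg.Geo.IsNondegenerateOn f (U ⊓ perp hf (Submodule.span F {e, p})) ∧
        Module.finrank F ↥(U ⊓ perp hf (Submodule.span F {e, p})) + 2 = Module.finrank F U ∧
        ∀ x ∈ U, P e p x ∈ U ⊓ perp hf (Submodule.span F {e, p}) := by
    intro U e p hU he hp hep
    have hpe : f p e = -1 := by rw [hf.skew, hep]
    have hmem : ∀ x, x ∈ perp hf (Submodule.span F {e, p}) ↔ f e x = 0 ∧ f p x = 0 := by
      intro x
      refine ⟨fun h => ⟨(mem_perp hf).1 h e (Submodule.subset_span (Set.mem_insert _ _)),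
        (mem_perp hf).1 h p (Submodule.subset_span (Set.mem_insert_of_mem _ rfl))⟩, fun h => ?_⟩
      rw [mem_perp]
      intro w hw
      obtain ⟨a, b, rfl⟩ := Submodule.mem_span_pair.1 hw
      rw [Symp.add_left hf, Symp.smul_left hf, Symp.smul_left hf, h.1, h.2]
      simp
    have hproj : ∀ x ∈ U, P e p x ∈ U ⊓ perp hf (Submodule.span F {e, p}) := by
      intro x hx
      refine ⟨?_, (hmem _).2 ⟨?_, ?_⟩⟩
      · rw [hP]
        exact U.sub_mem (U.sub_mem hx (U.smul_mem _ he)) (U.smul_mem _ hp)
      · rw [hP, Symp.sub_right hf, Symp.sub_right hf, Symp.smul_right hf, Symp.smul_right hf,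
          hf.alternating, hep]
        ring
      · rw [hP, Symp.sub_right hf, Symp.sub_right hf, Symp.smul_right hf, Symp.smul_right hf,
          hf.alternating, hpe, hf.skew p x]
        ring
    refine ⟨?_, ?_, hproj⟩
    · intro x hx hx0
      obtain ⟨h1, h2⟩ := (hmem x).1 hx.2
      obtain ⟨⟨y, hy, hyx⟩, -⟩ := hU x hx.1 hx0
      have key : f (P e p y) x = f y x := by
        rw [hP, Symp.sub_left hf, Symp.sub_left hf, Symp.smul_left hf, Symp.smul_left hf, h1, h2]
        ring
      exact ⟨⟨_, hproj y hy, by rwa [key]⟩, ⟨_, hproj y hy, ne_zero_comm hf (by rwa [key])⟩⟩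
    · have hsup : U ⊓ perp hf (Submodule.span F {e, p}) ⊔ Submodule.span F {e, p} = U := by
        refine le_antisymm (sup_le inf_le_left (Submodule.span_le.2 (Set.pair_subset he hp))) fun x hx => ?_
        have : x = P e p x + (f x p • e + f e x • p) := by rw [hP]; abel
        rw [this]
        exact Submodule.add_mem_sup (hproj x hx) (Submodule.mem_span_pair.2 ⟨_, _, rfl⟩)
      have hinf : (U ⊓ perp hf (Submodule.span F {e, p})) ⊓ Submodule.span F {e, p} = ⊥ := by
        rw [Submodule.eq_bot_iff]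
        rintro x ⟨hx, hxs⟩
        obtain ⟨a, b, rfl⟩ := Submodule.mem_span_pair.1 hxs
        obtain ⟨h1, h2⟩ := (hmem _).1 hx.2
        rw [Symp.add_right hf, Symp.smul_right hf, Symp.smul_right hf, hf.alternating, hep] at h1
        rw [Symp.add_right hf, Symp.smul_right hf, Symp.smul_right hf, hf.alternating, hpe] at h2
        simp at h1 h2
        simp [h1, h2]
      have hind : LinearIndependent F ![e, p] := by
        rw [LinearIndependent.pair_iff]
        intro a b hab
        have h1 := congrArg (fun z => f z p) hab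
        have h2 := congrArg (fun z => f e z) hab
        simp only [Symp.add_left hf, Symp.add_right hf, Symp.smul_left hf, Symp.smul_right hf,
          hf.alternating, hep, Symp.zero_left hf, Symp.zero_right hf] at h1 h2
        exact ⟨by simpa using h1, by simpa using h2⟩
      have h2 : Module.finrank F (Submodule.span F ({e, p} : Set (ι → F))) = 2 := by
        have := finrank_span_eq_card hind
        rwa [Matrix.range_cons, Matrix.range_cons, Matrix.range_empty, Set.union_empty,
          Set.singleton_union, Fintype.card_fin] at this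
      have := Submodule.finrank_sup_add_finrank_inf_eq (U ⊓ perp hf (Submodule.span F {e, p}))
        (Submodule.span F {e, p})
      rw [hsup, hinf, finrank_bot, h2] at this
      omega
  obtain ⟨n1, d1, pr⟩ := sub W e p hW he hp hep
  obtain ⟨n2, d2, -⟩ := sub W' e' p' hW' he' hp' hep'
  obtain ⟨L, hL⟩ := ih (k - 2) (by omega) _ _ n1 n2 (by omega) (by omega)
  refine ⟨((Symp.bil hf).flip p).smulRight e' + (Symp.bil hf e).smulRight p' + L ∘ₗ P e p,
    fun x hx => ?_⟩
  have happ : ∀ z, (((Symp.bil hf).flip p).smulRight e' + (Symp.bil hf e).smulRight p' + L ∘ₗ P e p) z =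
      f z p • e' + f e z • p' + L (P e p z) := fun z => by simp
  obtain ⟨hLx, hLform⟩ := hL _ (pr x hx)
  refine ⟨?_, fun y hy => ?_⟩
  · rw [happ]
    exact W'.add_mem (W'.add_mem (W'.smul_mem _ he') (W'.smul_mem _ hp')) hLx.1
  · have perpfact : ∀ z, z ∈ perp hf (Submodule.span F {e', p'}) → f e' z = 0 ∧ f p' z = 0 ∧
        f z e' = 0 ∧ f z p' = 0 := fun z hz => by
      have a1 := (mem_perp hf).1 hz e' (Submodule.subset_span (Set.mem_insert _ _))
      have a2 := (mem_perp hf).1 hz p' (Submodule.subset_span (Set.mem_insert_of_mem _ rfl))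
      exact ⟨a1, a2, by rw [hf.skew, a1, neg_zero], by rw [hf.skew, a2, neg_zero]⟩
    obtain ⟨x1, x2, x3, x4⟩ := perpfact _ hLx.2
    obtain ⟨y1, y2, y3, y4⟩ := perpfact _ (hL _ (pr y hy)).1.2
    rw [happ, happ]
    simp only [Symp.add_left hf, Symp.add_right hf, Symp.smul_left hf, Symp.smul_right hf,
      hf.alternating, hep', hpe', x3, x4, y1, y2, hLform _ (pr y hy)]
    rw [hP e p x, hP e p y]
    simp only [Symp.sub_left hf, Symp.sub_right hf, Symp.smul_left hf, Symp.smul_right hf,
      hf.alternating, hep, hpe]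
    rw [hf.skew p y, hf.skew x e]
    ring

variable {t m : ℕ} {D : Fin t → Submodule F (ι → F)}

/-- Two members of a non-degenerate decomposition can be interchanged by an isometry in the stabiliser. -/
theorem exists_swap (hf : Cfsg.Geo.IsSymplecticForm f)
    (hD : Cfsg.Geo.IsNondegenerateMDecomposition f m D) (i j : Fin t) :
    ∃ g : GL ι F, IsIsometry f g ∧
      ∀ l, (D l).map (Matrix.toLin' (g : Matrix ι ι F)) = D (Equiv.swap i j l) := by
  classical
  have key : ∀ l, ∃ L : (ι → F) →ₗ[F] (ι → F), ∀ x ∈ D l, L x ∈ D (Equiv.swap i j l) ∧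
      ∀ y ∈ D l, f (L x) (L y) = f x y := fun l =>
    exists_isometry hf m _ _ (hD.nondegenerate l) (hD.nondegenerate _) (hD.decomp.finrank_eq _)
      (hD.decomp.finrank_eq _)
  choose L hL using key
  let T : (ι → F) →ₗ[F] (ι → F) := ∑ l, L l ∘ₗ Decomp.comp hD.decomp l
  have happ : ∀ x, T x = ∑ l, L l (Decomp.comp hD.decomp l x) := fun x => by simp [T]
  have hcomp : ∀ x l, Decomp.comp hD.decomp (Equiv.swap i j l) (T x) = L l (Decomp.comp hD.decomp l x) := by
    intro x l
    rw [happ, map_sum, Finset.sum_eq_single l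
      (fun b _ hb => Decomp.comp_of_mem_ne hD.decomp ((Equiv.swap i j).injective.ne hb)
        (hL b _ (Decomp.comp_mem _ _ _)).1) (by simp),
      Decomp.comp_of_mem hD.decomp (hL l _ (Decomp.comp_mem _ _ _)).1]
  have hform : ∀ x y, f (T x) (T y) = f x y := by
    intro x y
    rw [Decomp.form_eq_sum hD.decomp (sesq hf) hD.orthogonal (T x) (T y),
      Decomp.form_eq_sum hD.decomp (sesq hf) hD.orthogonal x y,
      ← Equiv.sum_comp (Equiv.swap i j)]
    refine Finset.sum_congr rfl fun l _ => ?_
    rw [hcomp, hcomp]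
    exact (hL l _ (Decomp.comp_mem _ _ _)).2 _ (Decomp.comp_mem _ _ _)
  have hinj : Function.Injective T := by
    rw [← LinearMap.ker_eq_bot, Submodule.eq_bot_iff]
    intro x hx
    by_contra hne
    obtain ⟨y, hy⟩ := (hf.nondegenerate x hne).2
    rw [← hform, LinearMap.mem_ker.1 hx, Symp.zero_left hf] at hy
    exact hy rfl
  have hdet : IsUnit (LinearMap.toMatrix' T).det := by
    rw [LinearMap.det_toMatrix']
    exact isUnit_iff_ne_zero.2 fun h => (LinearMap.bot_lt_ker_of_det_eq_zero h).ne'
      (LinearMap.ker_eq_bot.2 hinj)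
  let g : GL ι F := Matrix.GeneralLinearGroup.mk'' _ hdet
  have hg : ∀ x, (g : Matrix ι ι F) *ᵥ x = T x := fun x => LinearMap.toMatrix'_mulVec T x
  refine ⟨g, fun u v => by rw [hg, hg, hform], fun l => ?_⟩
  apply Submodule.eq_of_le_of_finrank_eq
  · rintro _ ⟨v, hv, rfl⟩
    rw [Matrix.toLin'_apply, hg, happ, Finset.sum_eq_single l
      (fun b _ hb => by rw [Decomp.comp_of_mem_ne hD.decomp (Ne.symm hb) hv, map_zero]) (by simp),
      Decomp.comp_of_mem hD.decomp hv]
    exact (hL l v hv).1
  · rw [← (Submodule.equivMapOfInjective _ (by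
      simpa [Function.Injective] using gl_mulVec_injective g) (D l)).finrank_eq, hD.decomp.finrank_eq,
      hD.decomp.finrank_eq]

/-- Transvections centred in a member stabilise the decomposition. -/
theorem formTv_mem_stabilizer (hf : Cfsg.Geo.IsSymplecticForm f)
    (hD : Cfsg.Geo.IsNondegenerateMDecomposition f m D) {i : Fin t} {v : ι → F} (hv : v ∈ D i) (c : F) :
    formTv f v c ∈ Cfsg.Geo.decompositionStabilizer D := by
  refine Decomp.mem_stabilizer_of_image hD.decomp fun j => ⟨j, fun x hx => ?_⟩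
  rw [formTv_mulVec hf]
  by_cases h : j = i
  · subst h
    exact (D j).add_mem hx ((D j).smul_mem _ hv)
  · rw [hD.orthogonal j i h x hx v hv, mul_zero, zero_smul, add_zero]
    exact hx

end CfsgLib.GeomClasses.SympDecomp
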