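import Cfsg.Agent.Lib.GeomClasses.Symp

/-!
Long and short root elements of a symplectic group, and rational root elements inside an overgroup of a
subfield group.
-/

set_option autoImplicit false
set_option linter.unusedSectionVars false

namespace CfsgLib.GeomClasses.SympRoot

open Matrix

variable {ι : Type} [Fintype ι] [DecidableEq ι] {F : Type*} [Field F]

/-- The root element `x ↦ x + f(x,u) w + f(x,w) u + c f(x,u) u` for orthogonal `u` and `w`. -/
noncomputable def root (f : (ι → F) → (ι → F) → F) (u w : ι → F) (c : F) : GL ι F :=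
  formTv f (u + w) 1 * formTv f u (-1) * formTv f w (-1) * formTv f u c

variable {f : (ι → F) → (ι → F) → F}

theorem root_mulVec (hf : Cfsg.Geo.IsSymplecticForm f) {u w : ι → F} (h : f u w = 0) (c : F) (x : ι → F) :
    (root f u w c : Matrix ι ι F) *ᵥ x = x + f x u • w + f x w • u + (c * f x u) • u := by
  have h' : f w u = 0 := by rw [hf.skew, h, neg_zero]
  simp only [root, gl_mul_mulVec, Symp.formTv_mulVec hf, Symp.add_left hf, Symp.add_right hf,
    Symp.smul_left hf, hf.alternating, h, h', mul_zero, add_zero, zero_add]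
  match_scalars <;> ring

theorem root_isometry (hf : Cfsg.Geo.IsSymplecticForm f) (u w : ι → F) (c : F) :
    Symp.IsIsometry f (root f u w c) :=
  Symp.isometry_mul (Symp.isometry_mul (Symp.isometry_mul (Symp.formTv_isometry hf _ _)
    (Symp.formTv_isometry hf _ _)) (Symp.formTv_isometry hf _ _)) (Symp.formTv_isometry hf _ _)

theorem root_zero (hf : Cfsg.Geo.IsSymplecticForm f) (u : ι → F) (c : F) : root f u 0 c = formTv f u c := by
  refine gl_ext fun x => ?_
  rw [root_mulVec hf (Symp.zero_right hf u), Symp.formTv_mulVec hf, Symp.zero_right hf]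
  simp

theorem root_mul (hf : Cfsg.Geo.IsSymplecticForm f) {u w w' : ι → F} (h : f u w = 0) (h' : f u w' = 0)
    (c c' : F) : root f u w c * root f u w' c' = root f u (w + w') (c + c' + f w' w) := by
  refine gl_ext fun x => ?_
  rw [gl_mul_mulVec, root_mulVec hf h, root_mulVec hf h',
    root_mulVec hf (show f u (w + w') = 0 by rw [Symp.add_right hf, h, h', add_zero])]
  have h2 : f w' u = 0 := by rw [hf.skew, h', neg_zero]
  simp only [Symp.add_left hf, Symp.smul_left hf, Symp.add_right hf, hf.alternating, h, h2,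
    mul_zero, add_zero]
  match_scalars <;> ring

theorem root_inv (hf : Cfsg.Geo.IsSymplecticForm f) {u w : ι → F} (h : f u w = 0) (c : F) :
    (root f u w c)⁻¹ = root f u (-w) (-c) := by
  refine inv_eq_of_mul_eq_one_right ?_
  rw [root_mul hf h (by rw [Symp.neg_right hf, h, neg_zero]), add_neg_cancel, add_neg_cancel,
    Symp.neg_left hf, hf.alternating, neg_zero, add_zero, root_zero hf]
  refine gl_ext fun x => ?_
  simp [Symp.formTv_mulVec hf]

theorem root_conj (hf : Cfsg.Geo.IsSymplecticForm f) {g : GL ι F} (hg : Symp.IsIsometry f g)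
    (u w : ι → F) (c : F) :
    g * root f u w c * g⁻¹ = root f ((g : Matrix ι ι F) *ᵥ u) ((g : Matrix ι ι F) *ᵥ w) c := by
  simp only [root, ← mulVec_add, ← Symp.conj_formTv hf hg]
  group

theorem root_smul_swap (hf : Cfsg.Geo.IsSymplecticForm f) {u w : ι → F} (h : f u w = 0) (s : F) :
    root f u (s • w) 0 = root f w (s • u) 0 := by
  refine gl_ext fun x => ?_
  rw [root_mulVec hf (by rw [Symp.smul_right hf, h, mul_zero]),
    root_mulVec hf (by rw [Symp.smul_right hf, hf.skew, h, neg_zero, mul_zero]),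
    Symp.smul_right hf, Symp.smul_right hf]
  match_scalars <;> ring

theorem formTv_add_smul (hf : Cfsg.Geo.IsSymplecticForm f) {w u : ι → F} (h : f u w = 0) (s d : F) :
    formTv f (w + s • u) d = formTv f w d * root f u ((d * s) • w) (d * s * s) := by
  refine gl_ext fun x => ?_
  have h' : f w u = 0 := by rw [hf.skew, h, neg_zero]
  rw [gl_mul_mulVec, Symp.formTv_mulVec hf, root_mulVec hf (by rw [Symp.smul_right hf, h, mul_zero]),
    Symp.formTv_mulVec hf]
  simp only [Symp.add_left hf, Symp.add_right hf, Symp.smul_left hf, Symp.smul_right hf, h, hf.alternating,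
    mul_zero, add_zero]
  match_scalars <;> ring

/-! ### Rational vectors -/

variable {F₀ : Subfield F}

/-- All coordinates lie in the subfield. -/
def Rv (F₀ : Subfield F) (v : ι → F) : Prop := ∀ i, v i ∈ F₀

theorem Rv.add {v w : ι → F} (hv : Rv F₀ v) (hw : Rv F₀ w) : Rv F₀ (v + w) := fun i => F₀.add_mem (hv i) (hw i)
theorem Rv.sub {v w : ι → F} (hv : Rv F₀ v) (hw : Rv F₀ w) : Rv F₀ (v - w) := fun i => F₀.sub_mem (hv i) (hw i)
theorem Rv.smul {c : F} {v : ι → F} (hc : c ∈ F₀) (hv : Rv F₀ v) : Rv F₀ (c • v) := fun i => F₀.mul_mem hc (hv i)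
theorem Rv.zero : Rv F₀ (0 : ι → F) := fun _ => F₀.zero_mem

theorem Rv.single (i : ι) : Rv F₀ (Pi.single i (1 : F) : ι → F) := fun j => by
  rcases eq_or_ne j i with rfl | h
  · simp [F₀.one_mem]
  · simp [h, F₀.zero_mem]

/-- The setting: an isometry group containing the rational transvections of a rational form. -/
structure Setting (f : (ι → F) → (ι → F) → F) (F₀ : Subfield F) (M : Subgroup (GL ι F)) : Prop where
  symp : Cfsg.Geo.IsSymplecticForm f
  four_lt : 4 < Fintype.card ι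
  rat : ∀ u v, Rv F₀ u → Rv F₀ v → f u v ∈ F₀
  isometry : ∀ h ∈ M, Symp.IsIsometry f h
  mem : ∀ a, Rv F₀ a → ∀ c ∈ F₀, formTv f a c ∈ M

theorem exists_single (hf : Cfsg.Geo.IsSymplecticForm f) {x : ι → F} (hx : x ≠ 0) :
    ∃ i, f x (Pi.single i 1) ≠ 0 := by
  by_contra hc
  push Not at hc
  obtain ⟨-, y, hy⟩ := hf.nondegenerate x hx
  apply hy
  rw [pi_eq_sum_univ' y, (Symp.sesq hf).sum_right]
  exact Finset.sum_eq_zero fun i _ => by rw [Symp.smul_right hf, hc i, mul_zero]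

theorem eq_zero_of_single (hf : Cfsg.Geo.IsSymplecticForm f) {x : ι → F}
    (h : ∀ i, f x (Pi.single i 1) = 0) : x = 0 := by
  by_contra hx
  obtain ⟨i, hi⟩ := exists_single hf hx
  exact hi (h i)

variable {M : Subgroup (GL ι F)}

theorem Setting.partner (S : Setting f F₀ M) {a : ι → F} (ha : Rv F₀ a) (ha0 : a ≠ 0) :
    ∃ p, Rv F₀ p ∧ f a p = 1 := by
  obtain ⟨i, hi⟩ := exists_single S.symp ha0
  exact ⟨(f a (Pi.single i 1))⁻¹ • Pi.single i 1, (Rv.single i).smul (F₀.inv_mem (S.rat _ _ ha (Rv.single i))),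
    by rw [Symp.smul_right S.symp, inv_mul_cancel₀ hi]⟩

/-- A rational vector orthogonal to `u` pairing non-trivially with `x`, unless `x` lies on the line of `u`. -/
theorem Setting.exists_orth (S : Setting f F₀ M) {u x : ι → F} (hu : Rv F₀ u) (hu0 : u ≠ 0)
    (hx : ∀ c : F, x ≠ c • u) : ∃ z, Rv F₀ z ∧ f u z = 0 ∧ f x z ≠ 0 := by
  obtain ⟨p, hp, hup⟩ := S.partner hu hu0
  by_contra hc
  push Not at hc
  refine hx (f x p) (sub_eq_zero.1 (eq_zero_of_single S.symp fun i => ?_))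
  set z := Pi.single i (1 : F) - f u (Pi.single i 1) • p with hz
  have h1 := hc z ((Rv.single i).sub (hp.smul (S.rat _ _ hu (Rv.single i))))
    (by rw [hz, Symp.sub_right S.symp, Symp.smul_right S.symp, hup, mul_one, sub_self])
  rw [hz, Symp.sub_right S.symp, Symp.smul_right S.symp] at h1
  rw [Symp.sub_left S.symp, Symp.smul_left S.symp]
  linear_combination h1

/-- The same for two vectors. -/
theorem Setting.exists_orth_both (S : Setting f F₀ M) {u x y : ι → F} (hu : Rv F₀ u) (hu0 : u ≠ 0)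
    (hx : ∀ c : F, x ≠ c • u) (hy : ∀ c : F, y ≠ c • u) :
    ∃ z, Rv F₀ z ∧ f u z = 0 ∧ f x z ≠ 0 ∧ f y z ≠ 0 := by
  obtain ⟨z, hz, huz, hxz⟩ := S.exists_orth hu hu0 hx
  obtain ⟨z', hz', huz', hyz'⟩ := S.exists_orth hu hu0 hy
  by_cases h1 : f y z = 0
  · by_cases h2 : f x z' = 0
    · exact ⟨z + z', hz.add hz', by rw [Symp.add_right S.symp, huz, huz', add_zero],
        by rwa [Symp.add_right S.symp, h2, add_zero], by rwa [Symp.add_right S.symp, h1, zero_add]⟩
    · exact ⟨z', hz', huz', h2, hyz'⟩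
  · exact ⟨z, hz, huz, hxz, h1⟩

/-- A pair of rational partners of an orthogonal independent pair. -/
theorem Setting.partners (S : Setting f F₀ M) {a b : ι → F} (ha : Rv F₀ a) (hb : Rv F₀ b) (ha0 : a ≠ 0)
    (hab : f a b = 0) (hi : ∀ c : F, b ≠ c • a) :
    ∃ p q, Rv F₀ p ∧ Rv F₀ q ∧ f a p = 1 ∧ f b p = 0 ∧ f a q = 0 ∧ f b q = 1 := by
  obtain ⟨z, hz, haz, hbz⟩ := S.exists_orth ha ha0 hi
  obtain ⟨p, hp, hap⟩ := S.partner ha ha0
  set q := (f b z)⁻¹ • z with hq
  have hqR : Rv F₀ q := hz.smul (F₀.inv_mem (S.rat _ _ hb hz))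
  have haq : f a q = 0 := by rw [hq, Symp.smul_right S.symp, haz, mul_zero]
  have hbq : f b q = 1 := by rw [hq, Symp.smul_right S.symp, inv_mul_cancel₀ hbz]
  exact ⟨p - f b p • q, q, hp.sub (hqR.smul (S.rat _ _ hb hp)), hqR,
    by rw [Symp.sub_right S.symp, Symp.smul_right S.symp, hap, haq, mul_zero, sub_zero],
    by rw [Symp.sub_right S.symp, Symp.smul_right S.symp, hbq, mul_one, sub_self], haq, hbq⟩

/-- A rational vector orthogonal to two given ones pairing non-trivially with a third independent one. -/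
theorem Setting.exists_orth_pair (S : Setting f F₀ M) {a b x : ι → F} (ha : Rv F₀ a) (hb : Rv F₀ b) (ha0 : a ≠ 0)
    (hab : f a b = 0) (hi : ∀ c : F, b ≠ c • a) (hx : x ∉ Submodule.span F {a, b}) :
    ∃ z, Rv F₀ z ∧ f a z = 0 ∧ f b z = 0 ∧ f x z ≠ 0 := by
  obtain ⟨p, q, hp, hq, hap, hbp, haq, hbq⟩ := S.partners ha hb ha0 hab hi
  by_contra hc
  push Not at hc
  refine hx (Submodule.mem_span_pair.2 ⟨f x p, f x q, ?_⟩)
  refine (sub_eq_zero.1 (eq_zero_of_single S.symp fun i => ?_)).symm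
  set z := Pi.single i (1 : F) - f a (Pi.single i 1) • p - f b (Pi.single i 1) • q with hz
  have h1 := hc z (((Rv.single i).sub (hp.smul (S.rat _ _ ha (Rv.single i)))).sub
      (hq.smul (S.rat _ _ hb (Rv.single i))))
    (by rw [hz, Symp.sub_right S.symp, Symp.sub_right S.symp, Symp.smul_right S.symp, Symp.smul_right S.symp,
      hap, haq, mul_one, mul_zero, sub_self, sub_zero])
    (by rw [hz, Symp.sub_right S.symp, Symp.sub_right S.symp, Symp.smul_right S.symp, Symp.smul_right S.symp,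
      hbp, hbq, mul_one, mul_zero, sub_zero, sub_self])
  rw [hz, Symp.sub_right S.symp, Symp.sub_right S.symp, Symp.smul_right S.symp, Symp.smul_right S.symp] at h1
  rw [Symp.sub_left S.symp, Symp.add_left S.symp, Symp.smul_left S.symp, Symp.smul_left S.symp]
  linear_combination h1

/-- A third rational vector orthogonal to and independent of an orthogonal independent pair. -/
theorem Setting.exists_third (S : Setting f F₀ M) {a b : ι → F} (ha : Rv F₀ a) (hb : Rv F₀ b) (ha0 : a ≠ 0)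
    (hab : f a b = 0) (hi : ∀ c : F, b ≠ c • a) :
    ∃ z, Rv F₀ z ∧ f a z = 0 ∧ f b z = 0 ∧ z ∉ Submodule.span F {a, b} := by
  classical
  obtain ⟨p, q, hp, hq, hap, hbp, haq, hbq⟩ := S.partners ha hb ha0 hab hi
  by_contra hc
  push Not at hc
  have hall : ∀ i, (Pi.single i (1 : F) : ι → F) ∈
      Submodule.span F ((({a, b, p, q} : Finset (ι → F))) : Set (ι → F)) := by
    intro i
    set z := Pi.single i (1 : F) - f a (Pi.single i 1) • p - f b (Pi.single i 1) • q with hz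
    have h1 := hc z (((Rv.single i).sub (hp.smul (S.rat _ _ ha (Rv.single i)))).sub
        (hq.smul (S.rat _ _ hb (Rv.single i))))
      (by rw [hz, Symp.sub_right S.symp, Symp.sub_right S.symp, Symp.smul_right S.symp, Symp.smul_right S.symp,
        hap, haq, mul_one, mul_zero, sub_self, sub_zero])
      (by rw [hz, Symp.sub_right S.symp, Symp.sub_right S.symp, Symp.smul_right S.symp, Symp.smul_right S.symp,
        hbp, hbq, mul_one, mul_zero, sub_zero, sub_self])
    have he : (Pi.single i (1 : F) : ι → F) = z + f b (Pi.single i 1) • q + f a (Pi.single i 1) • p := by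
      rw [hz, sub_add_cancel, sub_add_cancel]
    rw [he]
    refine Submodule.add_mem _ (Submodule.add_mem _ (Submodule.span_mono ?_ h1)
      (Submodule.smul_mem _ _ (Submodule.subset_span (by simp))))
      (Submodule.smul_mem _ _ (Submodule.subset_span (by simp)))
    intro y hy
    rcases hy with rfl | rfl <;> simp
  have htop : Submodule.span F ((({a, b, p, q} : Finset (ι → F))) : Set (ι → F)) = ⊤ := by
    rw [eq_top_iff]
    intro x _
    rw [pi_eq_sum_univ' x]
    exact Submodule.sum_mem _ fun i _ => Submodule.smul_mem _ _ (hall i)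
  have h1 := finrank_span_finset_le_card (R := F) ({a, b, p, q} : Finset (ι → F))
  rw [Set.finrank, htop, finrank_top, Module.finrank_fintype_fun_eq_card] at h1
  have h2 : Finset.card ({a, b, p, q} : Finset (ι → F)) ≤ 4 := Finset.card_le_four
  have := S.four_lt
  omega

/-- Elements of `M` preserving rationality. -/
def Rat' (F₀ : Subfield F) (M : Subgroup (GL ι F)) (h : GL ι F) : Prop :=
  h ∈ M ∧ ∀ v, Rv F₀ v → Rv F₀ ((h : Matrix ι ι F) *ᵥ v)

theorem Rat'.mul {g h : GL ι F} (hg : Rat' F₀ M g) (hh : Rat' F₀ M h) : Rat' F₀ M (g * h) :=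
  ⟨M.mul_mem hg.1 hh.1, fun v hv => by rw [gl_mul_mulVec]; exact hg.2 _ (hh.2 v hv)⟩

theorem Setting.rat_formTv (S : Setting f F₀ M) {a : ι → F} (ha : Rv F₀ a) {c : F} (hc : c ∈ F₀) :
    Rat' F₀ M (formTv f a c) :=
  ⟨S.mem a ha c hc, fun v hv => by
    rw [Symp.formTv_mulVec S.symp]; exact hv.add (ha.smul (F₀.mul_mem hc (S.rat _ _ hv ha)))⟩

theorem Setting.rat_root (S : Setting f F₀ M) {u w : ι → F} (hu : Rv F₀ u) (hw : Rv F₀ w) {c : F} (hc : c ∈ F₀) :
    Rat' F₀ M (root f u w c) :=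
  (((S.rat_formTv (hu.add hw) F₀.one_mem).mul (S.rat_formTv hu (F₀.neg_mem F₀.one_mem))).mul
    (S.rat_formTv hw (F₀.neg_mem F₀.one_mem))).mul (S.rat_formTv hu hc)

theorem Setting.move (S : Setting f F₀ M) {a b : ι → F} (ha : Rv F₀ a) (hb : Rv F₀ b) (ha0 : a ≠ 0)
    (hb0 : b ≠ 0) : ∃ h, Rat' F₀ M h ∧ (h : Matrix ι ι F) *ᵥ a = b := by
  have step : ∀ {a b : ι → F}, Rv F₀ a → Rv F₀ b → f a b ≠ 0 →
      ∃ h, Rat' F₀ M h ∧ (h : Matrix ι ι F) *ᵥ a = b := fun {a b} ha hb h =>
    ⟨_, S.rat_formTv (hb.sub ha) (F₀.inv_mem (S.rat _ _ ha hb)), Symp.formTv_move S.symp h⟩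
  by_cases h : f a b = 0
  · obtain ⟨i, hi⟩ := exists_single S.symp ha0
    obtain ⟨j, hj⟩ := exists_single S.symp hb0
    obtain ⟨z, hz, h1, h2⟩ : ∃ z, Rv F₀ z ∧ f a z ≠ 0 ∧ f b z ≠ 0 := by
      by_cases h1 : f b (Pi.single i 1) = 0
      · by_cases h2 : f a (Pi.single j 1) = 0
        · exact ⟨Pi.single i 1 + Pi.single j 1, (Rv.single i).add (Rv.single j),
            by rwa [Symp.add_right S.symp, h2, add_zero], by rwa [Symp.add_right S.symp, h1, zero_add]⟩
        · exact ⟨_, Rv.single j, h2, hj⟩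
      · exact ⟨_, Rv.single i, hi, h1⟩
    obtain ⟨g₁, hg₁, e₁⟩ := step ha hz h1
    obtain ⟨g₂, hg₂, e₂⟩ := step hz hb (Symp.ne_zero_comm S.symp h2)
    exact ⟨g₂ * g₁, hg₂.mul hg₁, by rw [gl_mul_mulVec, e₁, e₂]⟩
  · exact step ha hb h

theorem Setting.move_fix (S : Setting f F₀ M) {u a b : ι → F} (hu : Rv F₀ u) (hu0 : u ≠ 0) (ha : Rv F₀ a)
    (hb : Rv F₀ b) (hua : f u a = 0) (hub : f u b = 0) (hai : ∀ c : F, a ≠ c • u) (hbi : ∀ c : F, b ≠ c • u) :
    ∃ h, Rat' F₀ M h ∧ (h : Matrix ι ι F) *ᵥ u = u ∧ (h : Matrix ι ι F) *ᵥ a = b := by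
  have step : ∀ {a b : ι → F}, Rv F₀ a → Rv F₀ b → f u a = 0 → f u b = 0 → f a b ≠ 0 →
      ∃ h, Rat' F₀ M h ∧ (h : Matrix ι ι F) *ᵥ u = u ∧ (h : Matrix ι ι F) *ᵥ a = b := fun {a b} ha hb h1 h2 h =>
    ⟨_, S.rat_formTv (hb.sub ha) (F₀.inv_mem (S.rat _ _ ha hb)),
      by rw [Symp.formTv_mulVec S.symp, Symp.sub_right S.symp, h2, h1, sub_zero, mul_zero, zero_smul, add_zero],
      Symp.formTv_move S.symp h⟩
  by_cases h : f a b = 0
  · obtain ⟨z, hz, huz, h1, h2⟩ := S.exists_orth_both hu hu0 hai hbi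
    obtain ⟨g₁, hg₁, d₁, e₁⟩ := step ha hz hua huz h1
    obtain ⟨g₂, hg₂, d₂, e₂⟩ := step hz hb huz hub (Symp.ne_zero_comm S.symp h2)
    exact ⟨g₂ * g₁, hg₂.mul hg₁, by rw [gl_mul_mulVec, d₁, d₂], by rw [gl_mul_mulVec, e₁, e₂]⟩
  · exact step ha hb hua hub h

/-- The coefficients of the rational long root groups inside `M`. -/
def longSet (f : (ι → F) → (ι → F) → F) (F₀ : Subfield F) (M : Subgroup (GL ι F)) : Set F :=
  {c | ∀ a, Rv F₀ a → formTv f a c ∈ M}

/-- The coefficients of the rational short root groups inside `M`. -/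
def shortSet (f : (ι → F) → (ι → F) → F) (F₀ : Subfield F) (M : Subgroup (GL ι F)) : Set F :=
  {s | ∀ u w, Rv F₀ u → Rv F₀ w → u ≠ 0 → f u w = 0 → (∀ c : F, w ≠ c • u) → root f u (s • w) 0 ∈ M}

theorem Setting.long_of_one (S : Setting f F₀ M) {a : ι → F} (ha : Rv F₀ a) (ha0 : a ≠ 0) {c : F}
    (h : formTv f a c ∈ M) : c ∈ longSet f F₀ M := by
  intro b hb
  rcases eq_or_ne b 0 with rfl | hb0
  · rw [show formTv f (0 : ι → F) c = 1 from gl_ext fun x => by simp [Symp.formTv_mulVec S.symp]]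
    exact M.one_mem
  obtain ⟨g, hg, he⟩ := S.move ha hb ha0 hb0
  rw [← he, ← Symp.conj_formTv S.symp (S.isometry g hg.1)]
  exact M.mul_mem (M.mul_mem hg.1 h) (M.inv_mem hg.1)

/-- Transitivity on orthogonal independent rational pairs. -/
theorem Setting.move_pair (S : Setting f F₀ M) {u w u' w' : ι → F} (hu : Rv F₀ u) (hw : Rv F₀ w) (hu0 : u ≠ 0)
    (huw : f u w = 0) (hi : ∀ c : F, w ≠ c • u) (hu' : Rv F₀ u') (hw' : Rv F₀ w') (hu0' : u' ≠ 0)
    (huw' : f u' w' = 0) (hi' : ∀ c : F, w' ≠ c • u') :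
    ∃ h, Rat' F₀ M h ∧ (h : Matrix ι ι F) *ᵥ u = u' ∧ (h : Matrix ι ι F) *ᵥ w = w' := by
  obtain ⟨g, hg, he⟩ := S.move hu hu' hu0 hu0'
  obtain ⟨k, hk, hku, hkw⟩ := S.move_fix (a := (g : Matrix ι ι F) *ᵥ w) hu' hu0' (hg.2 w hw) hw'
    (by rw [← he, S.isometry g hg.1, huw]) huw' (fun c hc => hi c (gl_mulVec_injective g
      (show (g : Matrix ι ι F) *ᵥ w = (g : Matrix ι ι F) *ᵥ (c • u) by rw [hc, ← he, mulVec_smul]))) hi'
  exact ⟨k * g, hk.mul hg, by rw [gl_mul_mulVec, he, hku], by rw [gl_mul_mulVec, hkw]⟩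

theorem Setting.short_of_one (S : Setting f F₀ M) {u w : ι → F} (hu : Rv F₀ u) (hw : Rv F₀ w) (hu0 : u ≠ 0)
    (huw : f u w = 0) (hi : ∀ c : F, w ≠ c • u) {s : F} (h : root f u (s • w) 0 ∈ M) :
    s ∈ shortSet f F₀ M := by
  intro u' w' hu' hw' hu0' huw' hi'
  obtain ⟨g, hg, e1, e2⟩ := S.move_pair hu hw hu0 huw hi hu' hw' hu0' huw' hi'
  have := M.mul_mem (M.mul_mem hg.1 h) (M.inv_mem hg.1)
  rwa [root_conj S.symp (S.isometry g hg.1), mulVec_smul, e1, e2] at this

/-- A root element with a rational direction splits. -/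
theorem Setting.split (S : Setting f F₀ M) {u w : ι → F} (hu : Rv F₀ u) (hw : Rv F₀ w) (hu0 : u ≠ 0)
    (huw : f u w = 0) (hi : ∀ c : F, w ≠ c • u) {s c : F} (h : root f u (s • w) c ∈ M) :
    c ∈ longSet f F₀ M ∧ s ∈ shortSet f F₀ M := by
  have hall : ∀ w', Rv F₀ w' → f u w' = 0 → (∀ k : F, w' ≠ k • u) → root f u (s • w') c ∈ M := by
    intro w' hw' huw' hi'
    obtain ⟨g, hg, e1, e2⟩ := S.move_pair hu hw hu0 huw hi hu hw' hu0 huw' hi'
    have := M.mul_mem (M.mul_mem hg.1 h) (M.inv_mem hg.1)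
    rwa [root_conj S.symp (S.isometry g hg.1), mulVec_smul, e1, e2] at this
  obtain ⟨z, hz, huz, hwz, hzi⟩ := S.exists_third hu hw hu0 huw hi
  have hzu : ∀ k : F, z ≠ k • u := fun k hk => hzi (hk ▸ Submodule.smul_mem _ k (Submodule.subset_span (by simp)))
  have hsum : ∀ k : F, w + z ≠ k • u := fun k hk => hzi (Submodule.mem_span_pair.2 ⟨k, -1, by
    rw [← hk, neg_smul, one_smul]; abel⟩)
  have h3 := M.mul_mem h (hall z hz huz hzu)
  rw [root_mul S.symp (by rw [Symp.smul_right S.symp, huw, mul_zero])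
      (by rw [Symp.smul_right S.symp, huz, mul_zero]),
    Symp.smul_left S.symp, Symp.smul_right S.symp, S.symp.skew z w, hwz, neg_zero, mul_zero, mul_zero,
    add_zero, ← smul_add] at h3
  have hwz' : f u (w + z) = 0 := by rw [Symp.add_right S.symp, huw, huz, add_zero]
  have hsw : f u (s • (w + z)) = 0 := by rw [Symp.smul_right S.symp, hwz', mul_zero]
  have h4 := M.mul_mem (M.inv_mem (hall (w + z) (hw.add hz) hwz' hsum)) h3
  rw [root_inv S.symp hsw, root_mul S.symp (by rw [Symp.neg_right S.symp, hsw, neg_zero]) hsw,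
    neg_add_cancel, Symp.neg_right S.symp, S.symp.alternating, neg_zero, add_zero, neg_add_cancel_left,
    root_zero S.symp] at h4
  have hc := S.long_of_one hu hu0 h4
  refine ⟨hc, S.short_of_one hu hw hu0 huw hi ?_⟩
  have h5 := M.mul_mem h (M.inv_mem (hc u hu))
  rwa [Symp.formTv_inv S.symp, ← root_zero S.symp u (-c),
    root_mul S.symp (by rw [Symp.smul_right S.symp, huw, mul_zero]) (Symp.zero_right S.symp u), add_zero,
    add_neg_cancel, Symp.zero_left S.symp, add_zero] at h5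

end CfsgLib.GeomClasses.SympRoot
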