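import Cfsg.Agent.Lib.GeomClasses.Symp
import Cfsg.Agent.Lib.GeomClasses.SympRoot
import Cfsg.Agent.Lib.Geo.FieldTransvection

/-!
A self-adjoint field subalgebra `K` of prime degree `r` for a symplectic form: an overgroup of the isometries
centralising `K` either normalises `K` or contains every transvection.
-/

set_option autoImplicit false
set_option linter.unusedSectionVars false
set_option linter.unusedSimpArgs false

namespace CfsgLib.GeomClasses.SympExt

open Matrix Module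

variable {ι : Type} [Fintype ι] [DecidableEq ι] {F : Type*} [Field F]

/-- The action of a subalgebra element on a vector. -/
def act {K : Subalgebra F (Matrix ι ι F)} (a : ↥K) (x : ι → F) : ι → F := (a : Matrix ι ι F) *ᵥ x

section act

variable {K : Subalgebra F (Matrix ι ι F)} (a b : ↥K) (x y : ι → F)

theorem act_act : act a (act b x) = act (a * b) x := by
  simp only [act, mulVec_mulVec, Subalgebra.coe_mul]

theorem act_one : act (1 : ↥K) x = x := by simp [act]

theorem act_zero : act (0 : ↥K) x = 0 := by simp [act]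

theorem act_vzero : act a (0 : ι → F) = 0 := by simp [act]

theorem add_act : act (a + b) x = act a x + act b x := by simp [act, add_mulVec]

theorem sub_act : act (a - b) x = act a x - act b x := by simp [act, sub_mulVec]

theorem neg_act : act (-a) x = -act a x := by simp [act, neg_mulVec]

theorem smul_act (t : F) : act (t • a) x = t • act a x := by simp [act, smul_mulVec]

theorem act_add : act a (x + y) = act a x + act a y := mulVec_add _ _ _

theorem act_sub : act a (x - y) = act a x - act a y := mulVec_sub _ _ _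

theorem act_smul (t : F) : act a (t • x) = t • act a x := mulVec_smul _ _ _

theorem act_neg : act a (-x) = -act a x := mulVec_neg _ _

end act

/-- The element `1 + η` for a square-zero map `η`. -/
noncomputable def unip (η : (ι → F) →ₗ[F] (ι → F)) (h : ∀ x, η (η x) = 0) : GL ι F :=
  ⟨1 + LinearMap.toMatrix' η, 1 - LinearMap.toMatrix' η,
    by
      have hz : LinearMap.toMatrix' η * LinearMap.toMatrix' η = 0 := by
        rw [← LinearMap.toMatrix'_comp, show η ∘ₗ η = 0 from LinearMap.ext h, map_zero]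
      rw [add_mul, mul_sub, mul_sub, hz]; simp,
    by
      have hz : LinearMap.toMatrix' η * LinearMap.toMatrix' η = 0 := by
        rw [← LinearMap.toMatrix'_comp, show η ∘ₗ η = 0 from LinearMap.ext h, map_zero]
      rw [sub_mul, mul_add, mul_add, hz]; simp⟩

theorem unip_mulVec (η : (ι → F) →ₗ[F] (ι → F)) (h : ∀ x, η (η x) = 0) (x : ι → F) :
    (unip η h : Matrix ι ι F) *ᵥ x = x + η x := by
  simp [unip, add_mulVec, LinearMap.toMatrix'_mulVec]

/-- The data: a form, a self-adjoint field subalgebra, its extended form `B`, and an overgroup `M`. -/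
structure Setting (f : (ι → F) → (ι → F) → F) (K : Subalgebra F (Matrix ι ι F)) (r : ℕ)
    (ω : ↥K →ₗ[F] F) (B : (ι → F) →ₗ[F] (ι → F) →ₗ[F] ↥K) (M : Subgroup (GL ι F)) : Prop where
  symp : Cfsg.Geo.IsSymplecticForm f
  fld : Cfsg.Geo.IsFieldSubalgebra r K
  prime : r.Prime
  card : 0 < Fintype.card ι
  adj : ∀ (a : ↥K) x y, f (act a x) y = f x (act a y)
  alt : ∀ (a : ↥K) x, f (act a x) x = 0
  omega_one : ω 1 ≠ 0
  spec : ∀ (a : ↥K) x y, ω (a * B x y) = f (act a x) y
  cent : ∀ g : GL ι F, Symp.IsIsometry f g →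
    (∀ (a : ↥K) x, (g : Matrix ι ι F) *ᵥ act a x = act a ((g : Matrix ι ι F) *ᵥ x)) → g ∈ M
  isom : ∀ g ∈ M, Symp.IsIsometry f g

variable {f : (ι → F) → (ι → F) → F} {K : Subalgebra F (Matrix ι ι F)} {r : ℕ}
  {ω : ↥K →ₗ[F] F} {B : (ι → F) →ₗ[F] (ι → F) →ₗ[F] ↥K} {M : Subgroup (GL ι F)}

namespace Setting

variable (S : Setting f K r ω B M)
include S

theorem kcomm (a b : ↥K) : a * b = b * a := Subtype.ext (S.fld.comm _ a.2 _ b.2)

theorem kmul_neg (a b : ↥K) : a * -b = -(a * b) := mul_neg a b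

theorem kneg_mul (a b : ↥K) : -a * b = -(a * b) := neg_mul a b

theorem kleft (a b c : ↥K) : a * (b * c) = b * (a * c) := by
  rw [← mul_assoc, S.kcomm a b, mul_assoc]

theorem exists_inv {a : ↥K} (ha : a ≠ 0) : ∃ b : ↥K, b * a = 1 := by
  obtain ⟨y, hy, h⟩ := S.fld.inv _ a.2 fun e => ha (Subtype.ext e)
  exact ⟨⟨y, hy⟩, (S.kcomm _ _).trans (Subtype.ext h)⟩

theorem ext0 {b : ↥K} (h : ∀ a, ω (a * b) = 0) : b = 0 := by
  by_contra hb
  obtain ⟨a, ha⟩ := S.exists_inv hb
  exact S.omega_one (ha ▸ h a)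

theorem extK {b b' : ↥K} (h : ∀ a, ω (a * b) = ω (a * b')) : b = b' :=
  sub_eq_zero.1 (S.ext0 fun a => by rw [mul_sub, map_sub, h, sub_self])

theorem kfin : FiniteDimensional F ↥K := FiniteDimensional.of_finrank_pos (by
  rw [S.fld.finrank_eq]; exact S.prime.pos)

theorem riesz (φ : ↥K →ₗ[F] F) : ∃ c : ↥K, ∀ x, φ x = ω (c * x) := by
  haveI := S.kfin
  set Φ : ↥K →ₗ[F] Module.Dual F ↥K := (LinearMap.mul F ↥K).compr₂ ω with hΦ
  have hinj : Function.Injective Φ := fun b b' h => S.extK fun a => by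
    have := LinearMap.congr_fun h a
    rw [hΦ, LinearMap.compr₂_apply, LinearMap.compr₂_apply, LinearMap.mul_apply', LinearMap.mul_apply'] at this
    rwa [S.kcomm a, S.kcomm a]
  obtain ⟨c, hc⟩ := (LinearMap.injective_iff_surjective_of_finrank_eq_finrank
    Subspace.dual_finrank_eq.symm).1 hinj φ
  exact ⟨c, fun x => by rw [← hc]; rfl⟩

theorem B_left (c : ↥K) (x y : ι → F) : B (act c x) y = c * B x y :=
  S.extK fun a => by rw [← mul_assoc, S.spec, S.spec, act_act]

theorem B_right (c : ↥K) (x y : ι → F) : B x (act c y) = c * B x y :=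
  S.extK fun a => by
    rw [← mul_assoc, S.kcomm a c, S.spec, S.spec, ← act_act, S.adj c]

theorem B_self (x : ι → F) : B x x = 0 := S.ext0 fun a => by rw [S.spec, S.alt]

theorem B_swap (x y : ι → F) : B y x = -B x y :=
  S.extK fun a => by rw [S.kmul_neg, map_neg, S.spec, S.spec, S.symp.skew, ← S.adj]

theorem f_eq (x y : ι → F) : f x y = ω (B x y) := by
  rw [← one_mul (B x y), S.spec, act_one]

theorem nondeg {u : ι → F} (h : ∀ y, B u y = 0) : u = 0 := by
  by_contra hu
  obtain ⟨y, hy⟩ := (S.symp.nondegenerate u hu).2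
  exact hy (by rw [S.f_eq, h, map_zero])

theorem exists_B_eq {u : ι → F} (hu : u ≠ 0) (t : ↥K) : ∃ w, B u w = t := by
  obtain ⟨y, hy⟩ : ∃ y, B u y ≠ 0 := by
    by_contra h; push Not at h; exact hu (S.nondeg h)
  obtain ⟨b, hb⟩ := S.exists_inv hy
  exact ⟨act (t * b) y, by rw [S.B_right, mul_assoc, hb, mul_one]⟩

theorem f_line (u : ι → F) (a b : ↥K) : f (act a u) (act b u) = 0 := by
  rw [← S.adj, act_act, S.alt]

theorem act_inj {u : ι → F} (hu : u ≠ 0) {a b : ↥K} (h : act a u = act b u) : a = b := by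
  by_contra hne
  obtain ⟨c, hc⟩ := S.exists_inv (sub_ne_zero.2 hne)
  apply hu
  have h1 : act (a - b) u = 0 := by rw [sub_act, h, sub_self]
  rw [← act_one (K := K) u, ← hc, ← act_act, h1, act_vzero]

theorem B_inv_left {g : GL ι F} (hg : g ∈ M) (x : ι → F) (y : ι → F) (e : ↥K) :
    ω (e * B (((g⁻¹ : GL ι F) : Matrix ι ι F) *ᵥ x) y) = f x ((g : Matrix ι ι F) *ᵥ act e y) := by
  rw [S.spec, S.adj, ← S.isom g hg, gl_mulVec_inv_mulVec]

theorem mem_line {v z : ι → F} (hv : v ≠ 0) (h : ∀ w, B v w = 0 → B z w = 0) : ∃ t : ↥K, z = act t v := by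
  obtain ⟨w₁, hw₁⟩ := S.exists_B_eq hv 1
  refine ⟨B z w₁, sub_eq_zero.1 (S.nondeg fun w => ?_)⟩
  have h0 := h (w - act (B v w) w₁) (by rw [map_sub, S.B_right, hw₁, mul_one, sub_self])
  rw [map_sub, S.B_right, sub_eq_zero] at h0
  rw [map_sub, LinearMap.sub_apply, S.B_left, h0, S.kcomm, sub_self]

/-! ### Root elements of the centraliser -/

/-- `x ↦ x + (c B(x,u)) u`. -/
noncomputable def etaT (S : Setting f K r ω B M) (u : ι → F) (c : ↥K) : (ι → F) →ₗ[F] (ι → F) where
  toFun x := act (c * B x u) u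
  map_add' x y := by simp [mul_add, add_act]
  map_smul' t x := by simp [smul_act]

theorem etaT_apply (u : ι → F) (c : ↥K) (x : ι → F) : S.etaT u c x = act (c * B x u) u := rfl

theorem etaT_sq (u : ι → F) (c : ↥K) (x : ι → F) : S.etaT u c (S.etaT u c x) = 0 := by
  rw [etaT_apply, etaT_apply, S.B_left, S.B_self, mul_zero, mul_zero, act_zero]

/-- The root element. -/
noncomputable def T (u : ι → F) (c : ↥K) : GL ι F := unip (S.etaT u c) (S.etaT_sq u c)

theorem T_mulVec (u : ι → F) (c : ↥K) (x : ι → F) :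
    (S.T u c : Matrix ι ι F) *ᵥ x = x + act (c * B x u) u := unip_mulVec _ _ x

theorem T_isometry (u : ι → F) (c : ↥K) : Symp.IsIsometry f (S.T u c) := by
  intro x y
  rw [S.T_mulVec, S.T_mulVec, Symp.add_left S.symp, Symp.add_right S.symp, Symp.add_right S.symp,
    S.f_line, add_zero, ← S.adj _ x u, ← S.spec, ← S.spec]
  have h : c * B x u * B u y = -(c * B y u * B x u) := by
    rw [S.B_swap y u, S.kmul_neg, neg_inj, mul_assoc, mul_assoc, S.kcomm (B x u)]
  rw [h, map_neg]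
  ring

theorem T_comm (u : ι → F) (c a : ↥K) (x : ι → F) :
    (S.T u c : Matrix ι ι F) *ᵥ act a x = act a ((S.T u c : Matrix ι ι F) *ᵥ x) := by
  rw [S.T_mulVec, S.T_mulVec, S.B_left, act_add, act_act, S.kleft]

theorem T_mem (u : ι → F) (c : ↥K) : S.T u c ∈ M := S.cent _ (S.T_isometry u c) fun a x => S.T_comm u c a x

theorem exists_link {v w : ι → F} (hv : v ≠ 0) (hw : w ≠ 0) : ∃ y, B v y ≠ 0 ∧ B y w ≠ 0 := by
  obtain ⟨a, ha⟩ : ∃ a, B v a ≠ 0 := by
    by_contra h; push Not at h; exact hv (S.nondeg h)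
  obtain ⟨b, hb⟩ : ∃ b, B b w ≠ 0 := by
    by_contra h; push Not at h
    exact hw (S.nondeg fun y => by rw [S.B_swap, h, neg_zero])
  by_cases h1 : B a w ≠ 0
  · exact ⟨a, ha, h1⟩
  by_cases h2 : B v b ≠ 0
  · exact ⟨b, h2, hb⟩
  push Not at h1 h2
  exact ⟨a + b, by rw [map_add, h2, add_zero]; exact ha,
    by rw [map_add, LinearMap.add_apply, h1, zero_add]; exact hb⟩

theorem exists_move {v w : ι → F} (hv : v ≠ 0) (hw : w ≠ 0) :
    ∃ g ∈ M, (∀ (a : ↥K) x, (g : Matrix ι ι F) *ᵥ act a x = act a ((g : Matrix ι ι F) *ᵥ x)) ∧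
      (g : Matrix ι ι F) *ᵥ v = w := by
  have step : ∀ v w : ι → F, B v w ≠ 0 → ∃ c, (S.T (w - v) c : Matrix ι ι F) *ᵥ v = w := fun v w h => by
    obtain ⟨b, hb⟩ := S.exists_inv h
    exact ⟨b, by rw [S.T_mulVec, map_sub, S.B_self, sub_zero, hb, act_one, add_sub_cancel]⟩
  obtain ⟨y, hvy, hyw⟩ := S.exists_link hv hw
  obtain ⟨c, hc⟩ := step v y hvy
  obtain ⟨c', hc'⟩ := step y w hyw
  refine ⟨S.T (w - y) c' * S.T (y - v) c, M.mul_mem (S.T_mem _ _) (S.T_mem _ _), fun a x => ?_, ?_⟩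
  · rw [gl_mul_mulVec, gl_mul_mulVec, S.T_comm, S.T_comm]
  · rw [gl_mul_mulVec, hc, hc']

/-! ### Pairs consisting of a line and a conjugate root line -/

/-- `a ↦ B(g⁻¹ (a u), v)`. -/
noncomputable def Psi (S : Setting f K r ω B M) (g : GL ι F) (v u : ι → F) : ↥K →ₗ[F] ↥K where
  toFun a := B (((g⁻¹ : GL ι F) : Matrix ι ι F) *ᵥ act a u) v
  map_add' a b := by simp [add_act, mulVec_add]
  map_smul' t a := by simp [smul_act, mulVec_smul]

theorem Psi_apply (g : GL ι F) (v u : ι → F) (a : ↥K) :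
    S.Psi g v u a = B (((g⁻¹ : GL ι F) : Matrix ι ι F) *ᵥ act a u) v := rfl

/-- A line meeting the perpendicular space of a root line in a proper non-zero subspace. -/
def Good (S : Setting f K r ω B M) (p : GL ι F × (ι → F) × (ι → F)) : Prop :=
  p.1 ∈ M ∧ S.Psi p.1 p.2.1 p.2.2 ≠ 0 ∧ LinearMap.ker (S.Psi p.1 p.2.1 p.2.2) ≠ ⊥

theorem u_ne_zero {g : GL ι F} {v u : ι → F} (h : S.Psi g v u ≠ 0) : u ≠ 0 := fun e =>
  h (LinearMap.ext fun a => by simp [Psi_apply, e, act_vzero])

theorem conjT_mulVec (g : GL ι F) (v : ι → F) (c : ↥K) (x : ι → F) :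
    ((g * S.T v c * g⁻¹ : GL ι F) : Matrix ι ι F) *ᵥ x =
      x + (g : Matrix ι ι F) *ᵥ act (c * B (((g⁻¹ : GL ι F) : Matrix ι ι F) *ᵥ x) v) v := by
  rw [gl_mul_mulVec, gl_mul_mulVec, S.T_mulVec, mulVec_add, gl_mulVec_inv_mulVec]

theorem Psi_step {g : GL ι F} (hg : g ∈ M) (v u : ι → F) (c a e : ↥K) :
    ω (e * S.Psi (g * S.T v c * g⁻¹) u u a) = ω (c * S.Psi g v u e * S.Psi g v u a) := by
  have hb : g * S.T v c * g⁻¹ ∈ M := M.mul_mem (M.mul_mem hg (S.T_mem _ _)) (M.inv_mem hg)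
  rw [Psi_apply, S.B_inv_left hb, S.conjT_mulVec, Symp.add_right S.symp, S.f_line, zero_add,
    ← S.isom g⁻¹ (M.inv_mem hg), gl_inv_mulVec_mulVec, ← S.adj, ← S.spec, ← Psi_apply S, ← Psi_apply S]

theorem exists_good [Fintype F] (hM : ¬ M ≤ Cfsg.Geo.subalgebraNormalizer K) : ∃ p, S.Good p := by
  by_contra hno
  push Not at hno
  obtain ⟨g₀, hg₀, hgn⟩ := SetLike.not_le_iff_exists.1 hM
  haveI := S.kfin
  have key : ∀ g ∈ M, ∀ a : ↥K, ∀ v, ∃ t : ↥K,
      ((g⁻¹ : GL ι F) : Matrix ι ι F) *ᵥ act a ((g : Matrix ι ι F) *ᵥ v) = act t v := by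
    intro g hg a v
    rcases eq_or_ne v 0 with rfl | hv
    · exact ⟨0, by simp [act_vzero]⟩
    refine S.mem_line hv fun w hw => S.ext0 fun e => ?_
    have hker : S.Psi g v ((g : Matrix ι ι F) *ᵥ w) = 0 := by
      by_contra hne
      refine hno (g, v, (g : Matrix ι ι F) *ᵥ w) ⟨hg, hne, (Submodule.ne_bot_iff _).2 ⟨1, ?_, ?_⟩⟩
      · rw [LinearMap.mem_ker, Psi_apply, act_one, gl_inv_mulVec_mulVec, S.B_swap, hw, neg_zero]
      · intro h1
        exact S.omega_one (by rw [h1, map_zero])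
    have h1 : ∀ e : ↥K, B (((g⁻¹ : GL ι F) : Matrix ι ι F) *ᵥ act a ((g : Matrix ι ι F) *ᵥ act e w)) v = 0 := by
      intro e'
      have hw' : B v (act e' w) = 0 := by rw [S.B_right, hw, mul_zero]
      by_contra hne
      refine hno (g, v, (g : Matrix ι ι F) *ᵥ act e' w) ⟨hg, fun h0 => hne ?_, (Submodule.ne_bot_iff _).2 ⟨1, ?_, ?_⟩⟩
      · exact LinearMap.congr_fun h0 a
      · rw [LinearMap.mem_ker, Psi_apply, act_one, gl_inv_mulVec_mulVec, S.B_swap, hw', neg_zero]
      · intro h1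
        exact S.omega_one (by rw [h1, map_zero])
    rw [S.spec, S.adj, ← S.isom g hg, gl_mulVec_inv_mulVec, S.adj, ← S.isom g⁻¹ (M.inv_mem hg),
      gl_inv_mulVec_mulVec, S.f_eq, S.B_swap, h1, neg_zero, map_zero]
  apply hgn
  have hex : ∀ a : ↥K, ∃ t : ↥K, ((g₀⁻¹ : GL ι F) : Matrix ι ι F) * (a : Matrix ι ι F) * (g₀ : Matrix ι ι F) = t := by
    intro a
    choose t ht using key g₀ hg₀ a
    have pairEq : ∀ v w, B v w ≠ 0 → t v = t w := by
      intro v w hvw
      have h := ht (v + w)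
      rw [mulVec_add, act_add, mulVec_add, ht, ht, act_add] at h
      have h2 := congrArg (fun x => B x w) h
      simp only [map_add, LinearMap.add_apply, S.B_left, S.B_self, mul_zero, add_zero] at h2
      have h3 := congrArg (fun x => B v x) h
      simp only [map_add, S.B_right, S.B_self, mul_zero, zero_add] at h3
      obtain ⟨b, hb⟩ := S.exists_inv hvw
      have e1 := congrArg (fun x => x * b) h2
      have e2 := congrArg (fun x => x * b) h3
      simp only [mul_assoc, S.kcomm (B v w) b, hb, mul_one] at e1 e2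
      exact e1.trans e2.symm
    obtain ⟨i⟩ : Nonempty ι := Fintype.card_pos_iff.1 (by have := S.card; omega)
    set v₀ : ι → F := Pi.single i 1 with hv₀
    have hv₀ne : v₀ ≠ 0 := by simp [hv₀]
    refine ⟨t v₀, Matrix.ext_of_mulVec_single fun j => ?_⟩
    have hj : (Pi.single j (1 : F) : ι → F) ≠ 0 := by simp
    obtain ⟨y, hy1, hy2⟩ := S.exists_link hv₀ne hj
    have := ht (Pi.single j 1)
    rw [← pairEq _ _ hy2, ← pairEq _ _ hy1] at this
    rw [← mulVec_mulVec, ← mulVec_mulVec]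
    exact this
  choose σ hσ using hex
  haveI : Finite ↥K := Finite.of_injective _ Subtype.coe_injective
  have hinj : Function.Injective σ := fun a b h => by
    have h2 := congrArg (fun z : ↥K => (g₀ : Matrix ι ι F) * (z : Matrix ι ι F) * ((g₀⁻¹ : GL ι F) : Matrix ι ι F)) h
    simp only [← hσ, mul_assoc, ← Units.val_mul, mul_inv_cancel, Units.val_one, mul_one] at h2
    simp only [← mul_assoc, ← Units.val_mul, mul_inv_cancel, Units.val_one, one_mul] at h2
    exact Subtype.ext h2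
  intro k
  refine ⟨fun hk => ?_, fun hk => ?_⟩
  · obtain ⟨a, ha⟩ := Finite.surjective_of_injective hinj ⟨k, hk⟩
    have h2 := hσ a
    rw [ha] at h2
    rw [show k = ((⟨k, hk⟩ : ↥K) : Matrix ι ι F) from rfl, ← h2]
    simp only [mul_assoc, ← Units.val_mul, mul_inv_cancel, Units.val_one, mul_one]
    rw [← mul_assoc, ← Units.val_mul, mul_inv_cancel, Units.val_one, one_mul]
    exact a.2
  · have h2 := hσ ⟨_, hk⟩
    rw [Subtype.coe_mk, ← mul_assoc, Units.inv_mul_cancel_right, ← mul_assoc, ← Units.val_mul, inv_mul_cancel,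
      Units.val_one, one_mul] at h2
    exact h2 ▸ (σ _).2

/-- The fruit of the climbing: transvections with a fixed axis are induced on a line. -/
structure LineData (S : Setting f K r ω B M) (u : ι → F) (b : GL ι F) (ψ : ↥K →ₗ[F] F) : Prop where
  ne_zero : u ≠ 0
  surj : ∃ e₀, ψ e₀ = 1
  ind : ∀ a : ↥K, ψ a = 0 → ∃ h ∈ M,
    (∀ e : ↥K, (h : Matrix ι ι F) *ᵥ act e u = act (e + ψ e • a) u) ∧
    ∀ y, B (((b⁻¹ : GL ι F) : Matrix ι ι F) *ᵥ y) u = 0 → (h : Matrix ι ι F) *ᵥ y = y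

theorem exists_lineData [Fintype F] (hM : ¬ M ≤ Cfsg.Geo.subalgebraNormalizer K) :
    ∃ u b ψ, S.LineData u b ψ := by
  classical
  haveI := S.kfin
  haveI : Fintype (GL ι F) := Fintype.ofFinite _
  obtain ⟨p₀, hp₀⟩ := S.exists_good hM
  obtain ⟨⟨g, v, u⟩, hp, hmax⟩ := Finset.exists_max_image (Finset.univ.filter S.Good)
    (fun p => finrank F (LinearMap.ker (S.Psi p.1 p.2.1 p.2.2))) ⟨p₀, by simp [hp₀]⟩
  simp only [Finset.mem_filter, Finset.mem_univ, true_and] at hp hmax
  obtain ⟨hg, hne, hker⟩ := hp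
  set Ψ := S.Psi g v u with hΨ
  have hb : ∀ c, g * S.T v c * g⁻¹ ∈ M := fun c => M.mul_mem (M.mul_mem hg (S.T_mem _ _)) (M.inv_mem hg)
  -- a degenerate new pair is perpendicular
  have degen : ∀ c a₁, Ψ a₁ ≠ 0 → (∀ e, ω (c * Ψ e * Ψ a₁) = 0) → ∀ e e', ω (c * Ψ e * Ψ e') = 0 := by
    intro c a₁ ha₁ hc e e'
    set Ψ' := S.Psi (g * S.T v c * g⁻¹) u u with hΨ'
    suffices h : Ψ' = 0 by
      rw [← S.Psi_step hg v u c e' e, ← hΨ', h, LinearMap.zero_apply, mul_zero, map_zero]
    by_contra hne'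
    have hle : LinearMap.ker Ψ ≤ LinearMap.ker Ψ' := fun a ha => LinearMap.mem_ker.2 (S.ext0 fun e => by
      rw [S.Psi_step hg v u c a e, ← hΨ, LinearMap.mem_ker.1 ha, mul_zero, map_zero])
    have ha1 : a₁ ∈ LinearMap.ker Ψ' := LinearMap.mem_ker.2 (S.ext0 fun e => by
      rw [S.Psi_step hg v u c a₁ e, hc])
    have hlt : LinearMap.ker Ψ < LinearMap.ker Ψ' :=
      lt_of_le_of_ne hle fun he => ha₁ (LinearMap.mem_ker.1 (he ▸ ha1))
    have := hmax (g * S.T v c * g⁻¹, u, u) ⟨hb c, hne', ne_bot_of_gt hlt⟩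
    exact absurd (Submodule.finrank_lt_finrank_of_lt hlt) (not_lt.2 this)
  obtain ⟨a₁, ha₁⟩ : ∃ a, Ψ a ≠ 0 := by
    by_contra h; push Not at h; exact hne (LinearMap.ext h)
  obtain ⟨q, hq⟩ := S.exists_inv ha₁
  set P := LinearMap.range (LinearMap.mulLeft F q ∘ₗ Ψ) with hP
  have hmemP : ∀ x, x ∈ P ↔ ∃ a, q * Ψ a = x := fun x => by rw [hP]; simp
  have hPmul : ∀ x y, x ∈ P → y ∈ P → x * y ∈ P := by
    intro x y hx hy
    obtain ⟨a, rfl⟩ := (hmemP x).1 hx
    obtain ⟨a', rfl⟩ := (hmemP y).1 hy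
    by_contra hnot
    obtain ⟨φ, hφ, hφP⟩ := Submodule.exists_le_ker_of_notMem hnot
    obtain ⟨d, hd⟩ := S.riesz φ
    apply hφ
    rw [hd]
    have h0 : ∀ e, ω (d * (q * q) * Ψ e * Ψ a₁) = 0 := fun e => by
      have h1 : φ (q * Ψ e) = 0 := hφP ((hmemP _).2 ⟨e, rfl⟩)
      rw [hd] at h1
      rw [← h1]
      congr 1
      rw [mul_assoc, mul_assoc, mul_assoc, S.kcomm (Ψ e) (Ψ a₁), ← mul_assoc q (Ψ a₁), hq, one_mul]
    rw [← degen _ a₁ ha₁ h0 a a']
    congr 1
    simp only [mul_assoc]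
    rw [S.kleft (Ψ a) q]
  have hdom : IsDomain ↥K := by
    haveI : Nonempty ι := Fintype.card_pos_iff.1 (by have := S.card; omega)
    letI := CfsgLib.Geo.FieldTransvection.fieldOf S.fld
    infer_instance
  have hsimple := @Subalgebra.isSimpleOrder_of_finrank_prime F ↥K _ _ hdom _ (by rw [S.fld.finrank_eq]; exact S.prime)
  set A := P.toSubalgebra ((hmemP 1).2 ⟨a₁, hq⟩) hPmul with hA
  have hline : ∀ a, ∃ t : F, Ψ a = t • Ψ a₁ := by
    rcases hsimple.eq_bot_or_eq_top A with hbot | htop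
    · intro a
      obtain ⟨t, ht⟩ := Algebra.mem_bot.1 (hbot ▸ (show q * Ψ a ∈ A from (hmemP _).2 ⟨a, rfl⟩))
      refine ⟨t, ?_⟩
      rw [← mul_one (Ψ a), ← hq, S.kcomm q, ← mul_assoc, S.kcomm (Ψ a), mul_assoc, S.kcomm (Ψ a) q, ← ht,
        Algebra.algebraMap_eq_smul_one, mul_smul_comm, mul_one]
    · exfalso
      apply hker
      have hsur : Function.Surjective (LinearMap.mulLeft F q ∘ₗ Ψ) := fun x => by
        have : x ∈ A := htop ▸ Algebra.mem_top
        obtain ⟨a, ha⟩ := (hmemP x).1 this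
        exact ⟨a, ha⟩
      have hinj := LinearMap.injective_iff_surjective.2 hsur
      exact LinearMap.ker_eq_bot.2 fun a a' h => hinj (by simp [h])
  -- the functional
  set c₁ : ↥K := (ω 1)⁻¹ • (q * q) with hc₁
  set ψ : ↥K →ₗ[F] F := ω ∘ₗ LinearMap.mulLeft F (c₁ * Ψ a₁) ∘ₗ Ψ with hψ
  have hψv : ∀ a t, Ψ a = t • Ψ a₁ → ψ a = t := fun a t h => by
    rw [hψ, LinearMap.comp_apply, LinearMap.comp_apply, LinearMap.mulLeft_apply, h, mul_smul_comm, map_smul, hc₁,
      smul_mul_assoc, smul_mul_assoc, mul_assoc q q, hq, mul_one, hq, map_smul, smul_eq_mul, smul_eq_mul,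
      inv_mul_cancel₀ S.omega_one, mul_one]
  have hψeq : ∀ a, Ψ a = ψ a • Ψ a₁ := fun a => by
    obtain ⟨t, ht⟩ := hline a
    rw [hψv a t ht, ht]
  set b := g * S.T v c₁ * g⁻¹ with hbdef
  set Ψ' := S.Psi b u u with hΨ'
  have hψ1 : ψ a₁ = 1 := hψv a₁ 1 (one_smul _ _).symm
  have hΨ'0 : ∀ e, Ψ' e = ψ e • Ψ' a₁ := fun e => S.extK fun e' => by
    rw [S.Psi_step hg v u c₁ e e', mul_smul_comm, map_smul, S.Psi_step hg v u c₁ a₁ e', ← hΨ, hψeq e,
      mul_smul_comm, map_smul]
  have hΨ'ne : Ψ' a₁ ≠ 0 := by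
    intro h0
    have h := S.Psi_step hg v u c₁ a₁ a₁
    rw [← hΨ', h0, mul_zero, map_zero, ← hΨ, hc₁, smul_mul_assoc, smul_mul_assoc, mul_assoc q q, hq, mul_one, hq,
      map_smul, smul_eq_mul, inv_mul_cancel₀ S.omega_one] at h
    exact zero_ne_one h
  obtain ⟨q', hq'⟩ := S.exists_inv hΨ'ne
  refine ⟨u, b, ψ, S.u_ne_zero hne, ⟨a₁, hψ1⟩, fun a ha => ⟨b * S.T u (a * q') * b⁻¹,
    M.mul_mem (M.mul_mem (hb c₁) (S.T_mem _ _)) (M.inv_mem (hb c₁)), fun e => ?_, fun y hy => ?_⟩⟩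
  · rw [S.conjT_mulVec, ← Psi_apply S, ← hΨ', hΨ'0, mul_smul_comm, mul_assoc, hq', mul_one, smul_act,
      mulVec_smul, S.conjT_mulVec, ← Psi_apply S, ← hΨ, hψeq a, ha, zero_smul, mul_zero, act_zero, mulVec_zero,
      add_zero, add_act, smul_act]
  · rw [S.conjT_mulVec, hy, mul_zero, act_zero, mulVec_zero, add_zero]

/-! ### Root elements on the line -/

variable {u : ι → F} {b : GL ι F} {ψ : ↥K →ₗ[F] F}

theorem LineData.exists_dual (D : S.LineData u b ψ) : ∃ ζ : ↥K, ζ ≠ 0 ∧ ∀ e, ω (e * ζ) = ψ e := by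
  obtain ⟨ζ, hζ⟩ := S.riesz ψ
  refine ⟨ζ, fun h0 => ?_, fun e => by rw [hζ, S.kcomm]⟩
  obtain ⟨e₀, he₀⟩ := D.surj
  rw [hζ, h0, zero_mul, map_zero] at he₀
  exact zero_ne_one he₀

theorem B_transvection {ζ a : ↥K} (hζ : ∀ e, ω (e * ζ) = ψ e) {h : GL ι F} (hm : h ∈ M)
    (hh : ∀ e : ↥K, (h : Matrix ι ι F) *ᵥ act e u = act (e + ψ e • a) u) (x : ι → F) :
    B (((h⁻¹ : GL ι F) : Matrix ι ι F) *ᵥ x) u = B x u + f x (act a u) • ζ :=
  S.extK fun e => by
    rw [S.B_inv_left hm, hh, add_act, smul_act, Symp.add_right S.symp, Symp.smul_right S.symp, mul_add, map_add,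
      mul_smul_comm, map_smul, hζ, S.spec, S.adj, smul_eq_mul]
    ring

theorem root_psi (D : S.LineData u b ψ) {a : ↥K} (ha : ψ a = 0) (e : ↥K) :
    SympRoot.root f (act a u) (act e u) (ψ e) ∈ M := by
  obtain ⟨h, hm, hh, -⟩ := D.ind a ha
  obtain ⟨ζ, hζ0, hζ⟩ := D.exists_dual S
  obtain ⟨z, hz⟩ := S.exists_inv hζ0
  have key : h * S.T u (e * z) * h⁻¹ = SympRoot.root f (act a u) (act e u) (ψ e) * S.T u (e * z) := by
    refine gl_ext fun x => ?_
    have hf1 : f (act (e * z * B x u) u) (act a u) = 0 := S.f_line u _ _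
    have hf2 : f (act (e * z * B x u) u) (act e u) = 0 := S.f_line u _ _
    have hp : ψ (e * z * B x u) = f x (act e u) := by
      rw [← hζ, ← S.adj, ← S.spec]
      congr 1
      rw [S.kcomm (e * z * B x u), ← mul_assoc, ← mul_assoc, S.kcomm ζ, mul_assoc e ζ z, S.kcomm ζ z, hz, mul_one]
    rw [S.conjT_mulVec, S.B_transvection hζ hm hh, mul_add, mul_smul_comm, mul_assoc e z ζ, hz, mul_one, hh,
      gl_mul_mulVec, S.T_mulVec, SympRoot.root_mulVec S.symp (S.f_line u a e), map_add, map_smul, hp,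
      Symp.add_left S.symp, Symp.add_left S.symp, hf1, hf2, add_zero, add_zero]
    simp only [add_act, smul_act, add_smul, smul_smul, smul_eq_mul]
    module
  have : h * S.T u (e * z) * h⁻¹ * (S.T u (e * z))⁻¹ ∈ M :=
    M.mul_mem (M.mul_mem (M.mul_mem hm (S.T_mem _ _)) (M.inv_mem hm)) (M.inv_mem (S.T_mem _ _))
  rwa [key, mul_inv_cancel_right] at this

theorem root_zero_large (D : S.LineData u b ψ) (hr : 3 ≤ r) {a : ↥K} (ha : ψ a = 0) (e : ↥K) :
    SympRoot.root f (act a u) (act e u) 0 ∈ M := by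
  haveI := S.kfin
  obtain ⟨k, hk, hk0⟩ := (Submodule.ne_bot_iff _).1 (LinearMap.ker_ne_bot_of_finrank_lt
    (f := (ψ ∘ₗ LinearMap.mulRight F a).prod (ψ ∘ₗ LinearMap.mulRight F e))
    (by rw [Module.finrank_prod, Module.finrank_self, S.fld.finrank_eq]; omega))
  rw [LinearMap.mem_ker] at hk
  replace hk : ψ (k * a) = 0 ∧ ψ (k * e) = 0 := ⟨congrArg Prod.fst hk, congrArg Prod.snd hk⟩
  obtain ⟨k', hk'⟩ := S.exists_inv hk0
  have hk'0 : act k' u ≠ 0 := fun h0 => by
    have h1 := congrArg (act k) h0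
    rw [act_act, S.kcomm k, hk', act_one, act_vzero] at h1
    exact D.ne_zero h1
  obtain ⟨g, hg, hcomm, hgu⟩ := S.exists_move D.ne_zero hk'0
  have h := S.root_psi D hk.1 (k * e)
  rw [hk.2] at h
  have h2 := M.mul_mem (M.mul_mem hg h) (M.inv_mem hg)
  rwa [SympRoot.root_conj S.symp (S.isom g hg), hcomm, hcomm, hgu, act_act, act_act, mul_assoc, mul_assoc,
    S.kcomm a k', S.kcomm e k', ← mul_assoc k k', ← mul_assoc k k', S.kcomm k k', hk', one_mul, one_mul] at h2

/-- `x ↦ x + B(x,u) y + B(x,y) u`. -/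
noncomputable def etaR (S : Setting f K r ω B M) (u y : ι → F) : (ι → F) →ₗ[F] (ι → F) where
  toFun x := act (B x u) y + act (B x y) u
  map_add' x z := by simp [add_act]; abel
  map_smul' t x := by simp [smul_act, smul_add]

theorem etaR_apply (u y x : ι → F) : S.etaR u y x = act (B x u) y + act (B x y) u := rfl

theorem R_mem {u y : ι → F} (huy : B u y = 0) :
    ∃ R ∈ M, ∀ x, (R : Matrix ι ι F) *ᵥ x = x + act (B x u) y + act (B x y) u := by
  refine ⟨S.T (u + y) 1 * S.T u (-1) * S.T y (-1),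
    M.mul_mem (M.mul_mem (S.T_mem _ _) (S.T_mem _ _)) (S.T_mem _ _), fun x => ?_⟩
  have hyu : B y u = 0 := by rw [S.B_swap, huy, neg_zero]
  simp only [gl_mul_mulVec, S.T_mulVec, map_add, LinearMap.add_apply, S.B_left, huy, hyu, S.B_self, S.kneg_mul,
    one_mul, mul_zero, add_zero, add_act, act_add, neg_act, map_neg, map_zero, LinearMap.neg_apply, neg_zero, act_zero]
  abel

theorem root_zero_two (D : S.LineData u b ψ) (hr : r = 2) (hcard : 8 ≤ Fintype.card ι) {a : ↥K} (ha : ψ a = 0) (e : ↥K) :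
    SympRoot.root f (act a u) (act e u) 0 ∈ M := by
  haveI := S.kfin
  obtain ⟨h, hm, hh, hfix⟩ := D.ind a ha
  obtain ⟨ζ, hζ0, hζ⟩ := D.exists_dual S
  -- a vector whose line is fixed by `h`
  let W : (ι → F) →ₗ[F] (↥K →ₗ[F] ↥K) :=
    { toFun := fun y =>
        { toFun := fun t => B (((b⁻¹ : GL ι F) : Matrix ι ι F) *ᵥ act t y) u
          map_add' := fun s t => by simp [add_act, mulVec_add]
          map_smul' := fun s t => by simp [smul_act, mulVec_smul] }
      map_add' := fun y z => by ext1 t; simp [act_add, mulVec_add]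
      map_smul' := fun s y => by ext1 t; simp [act_smul, mulVec_smul] }
  let L : ↥K →ₗ[F] (ι → F) :=
    { toFun := fun t => act t u
      map_add' := fun s t => add_act s t u
      map_smul' := fun s t => smul_act t u s }
  rcases eq_or_ne a 0 with rfl | ha0
  · have h1 : SympRoot.root f (act (0 : ↥K) u) (act e u) 0 = 1 := gl_ext fun x => by
      rw [SympRoot.root_mulVec S.symp (S.f_line u 0 e), act_zero, Symp.zero_right S.symp]
      simp
    rw [h1]
    exact M.one_mem
  obtain ⟨y, hy, hy0⟩ : ∃ y ∈ LinearMap.ker ((B u).prod W), y ≠ 0 := by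
    refine (Submodule.ne_bot_iff _).1 fun hbot => ?_
    have h2 := LinearMap.finrank_range_add_finrank_ker (K := F) (V := ι → F) (V₂ := ↥K × (↥K →ₗ[F] ↥K)) ((B u).prod W)
    have h3 := Submodule.finrank_le (LinearMap.range ((B u).prod W))
    rw [Module.finrank_prod, Module.finrank_linearMap, S.fld.finrank_eq, hr] at h3
    rw [Module.finrank_fintype_fun_eq_card, hbot, finrank_bot] at h2
    omega
  -- such a vector is off the line, whose vectors are not all fixed by `h`
  have hyL : y ∉ LinearMap.range L := by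
    rintro ⟨t, rfl⟩
    rw [LinearMap.mem_ker] at hy
    obtain ⟨e₀, he₀⟩ := D.surj
    obtain ⟨t', ht'⟩ := S.exists_inv (show t ≠ 0 from fun h0 => hy0 (by rw [h0, map_zero]))
    have hWt : W (L t) = 0 := congrArg Prod.snd hy
    have h1 := hfix _ (LinearMap.congr_fun hWt (e₀ * t'))
    rw [show L t = act t u from rfl, act_act, mul_assoc, ht', mul_one, hh, he₀, one_smul] at h1
    exact ha0 (add_eq_left.1 (S.act_inj D.ne_zero h1))
  rw [LinearMap.mem_ker] at hy
  have huy : B u y = 0 := congrArg Prod.fst hy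
  have hWy : W y = 0 := congrArg Prod.snd hy
  have hyu : B y u = 0 := by rw [S.B_swap, huy, neg_zero]
  have hfy : ∀ t : ↥K, (h : Matrix ι ι F) *ᵥ act t y = act t y := fun t => hfix _ (LinearMap.congr_fun hWy t)
  obtain ⟨w, hw0, hw1⟩ : ∃ w, B u w = 0 ∧ B y w ≠ 0 := by
    by_contra hc
    push Not at hc
    obtain ⟨t, ht⟩ := S.mem_line D.ne_zero hc
    exact hyL ⟨t, ht.symm⟩
  obtain ⟨z, hz⟩ := S.exists_inv hζ0
  obtain ⟨w', hw'⟩ := S.exists_inv hw1
  set c : ↥K := e * z with hc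
  set y' := act (c * w') w with hy'
  have huy' : B u y' = 0 := by rw [hy', S.B_right, hw0, mul_zero]
  have hy'u : B y' u = 0 := by rw [S.B_swap, huy', neg_zero]
  have hyy' : B y y' = c := by rw [hy', S.B_right, mul_assoc, hw', mul_one]
  have hy'y : B y' y = -c := by rw [S.B_swap, hyy']
  obtain ⟨R, hR, hRx⟩ := S.R_mem huy
  obtain ⟨R', hR', hR'x⟩ := S.R_mem huy'
  have hBy : ∀ x, B (((h⁻¹ : GL ι F) : Matrix ι ι F) *ᵥ x) y = B x y := fun x => S.extK fun t => by
    rw [S.B_inv_left hm, hfy, S.spec, S.adj]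
  set A := h * R * h⁻¹ with hA
  have hAx : ∀ x, (A : Matrix ι ι F) *ᵥ x =
      x + act (B x u + f x (act a u) • ζ) y + act (B x y + ψ (B x y) • a) u := fun x => by
    rw [hA, gl_mul_mulVec, gl_mul_mulVec, hRx, mulVec_add, mulVec_add, gl_mulVec_inv_mulVec, hfy, hh, hBy,
      S.B_transvection hζ hm hh]
  have hdy' : f y' (act a u) = 0 := by rw [← S.adj, ← S.spec, hy'u, mul_zero, map_zero]
  have hdy : f y (act a u) = 0 := by rw [← S.adj, ← S.spec, hyu, mul_zero, map_zero]
  set Rt := SympRoot.root f (act a u) (act e u) 0 with hRt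
  have key : A * R' * (Rt * S.T u (c + c)) = R' * A := by
    refine gl_ext fun x => ?_
    have hψc : ψ (B x u * c) = f x (act e u) := by
      rw [← hζ, ← S.adj, ← S.spec, S.kcomm (B x u), mul_assoc, S.kcomm (B x u) ζ, ← mul_assoc, hc, mul_assoc e z,
        hz, mul_one]
    have hζc : ζ * c = e := by rw [hc, S.kleft, S.kcomm ζ z, hz, mul_one]
    simp only [gl_mul_mulVec, S.T_mulVec, hRt, SympRoot.root_mulVec S.symp (S.f_line u a e), hAx, hR'x, map_add,
      map_neg, map_zero, LinearMap.add_apply, Symp.add_left S.symp, S.f_line, Symp.smul_left S.symp,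
      Symp.zero_left S.symp, map_smul, LinearMap.smul_apply, S.B_left, S.B_self, huy, hyu, huy', hy'u, hyy', hy'y,
      mul_zero, add_zero, zero_add, zero_mul, smul_zero, zero_smul, act_zero, act_add, act_act,
      ← S.adj _ _ (act a u), act_smul]
    simp only [← S.spec, S.B_right, S.kmul_neg, hy'u, hyu, mul_zero, mul_neg, mul_add, add_mul, map_add, map_neg, map_smul, map_zero,
      smul_eq_mul, smul_mul_assoc, mul_smul_comm, hψc, hζc, add_act, neg_act, smul_act, act_zero, add_zero,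
      zero_add, zero_smul, smul_add, smul_neg, S.kcomm c (B x u)]
    module
  have hin : Rt * S.T u (c + c) ∈ M := by
    have hAm : A ∈ M := M.mul_mem (M.mul_mem hm hR) (M.inv_mem hm)
    have h1 : Rt * S.T u (c + c) = (A * R')⁻¹ * (R' * A) := by rw [← key, inv_mul_cancel_left]
    rw [h1]
    exact M.mul_mem (M.inv_mem (M.mul_mem hAm hR')) (M.mul_mem hR' hAm)
  have := M.mul_mem hin (M.inv_mem (S.T_mem u (c + c)))
  rwa [mul_inv_cancel_right] at this

theorem all_centres [Fintype F] (hM : ¬ M ≤ Cfsg.Geo.subalgebraNormalizer K)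
    (hbig : r = 2 → 8 ≤ Fintype.card ι ∨ 2 < Fintype.card F) (v : ι → F) :
    v ∈ Symp.centres f M := by
  haveI := S.kfin
  obtain ⟨u, b, ψ, D⟩ := S.exists_lineData hM
  obtain ⟨a, ha, ha0⟩ := (Submodule.ne_bot_iff _).1 (LinearMap.ker_ne_bot_of_finrank_lt (f := ψ)
    (by rw [Module.finrank_self, S.fld.finrank_eq]; exact S.prime.one_lt))
  rw [LinearMap.mem_ker] at ha
  obtain ⟨e₀, he₀⟩ := D.surj
  have hd : act a u ≠ 0 := fun h0 => ha0 (S.act_inj D.ne_zero (by rw [h0, act_zero]))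
  have hc : act a u ∈ Symp.centres f M := fun t => by
    classical
    by_cases hq : r = 2 ∧ ¬ 8 ≤ Fintype.card ι
    · -- scaling the axis vector
      have hF : 2 < Fintype.card F := (hbig hq.1).resolve_left hq.2
      obtain ⟨s, hs0, hs1⟩ : ∃ s : F, s ≠ 0 ∧ s ≠ 1 := by
        obtain ⟨s, hs, hs'⟩ := Finset.exists_mem_notMem_of_card_lt_card
          (s := ({0, 1} : Finset F)) (t := Finset.univ)
          (lt_of_le_of_lt Finset.card_le_two (by rwa [Finset.card_univ]))
        simp only [Finset.mem_insert, Finset.mem_singleton, not_or] at hs'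
        exact ⟨s, hs'.1, hs'.2⟩
      set e : ↥K := (t / (s * s - s)) • e₀
      have he : ψ e = t / (s * s - s) := by rw [map_smul, he₀, smul_eq_mul, mul_one]
      have h1 := S.root_psi D (a := s • a) (by rw [map_smul, ha, smul_zero]) e
      have h2 := S.root_psi D ha (s • e)
      rw [map_smul, smul_eq_mul] at h2
      have key : formTv f (act a u) t * SympRoot.root f (act a u) (act (s • e) u) (s * ψ e) =
          SympRoot.root f (act (s • a) u) (act e u) (ψ e) := by
        refine gl_ext fun x => ?_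
        have hss : s * s - s ≠ 0 := by
          rw [show s * s - s = s * (s - 1) by ring]; exact mul_ne_zero hs0 (sub_ne_zero.2 hs1)
        rw [gl_mul_mulVec, Symp.formTv_mulVec S.symp, SympRoot.root_mulVec S.symp (S.f_line u _ _),
          SympRoot.root_mulVec S.symp (S.f_line u _ _), he]
        simp only [smul_act, Symp.add_left S.symp, Symp.smul_left S.symp, Symp.smul_right S.symp, S.f_line,
          S.symp.alternating, mul_zero, add_zero]
        match_scalars <;> field_simp <;> ring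
      have h3 := M.mul_mem (show formTv f (act a u) t * SympRoot.root f (act a u) (act (s • e) u) (s * ψ e) ∈ M by
        rw [key]; exact h1) (M.inv_mem h2)
      rwa [mul_inv_cancel_right] at h3
    have h1 := S.root_psi D ha (t • e₀)
    rw [map_smul, he₀, smul_eq_mul, mul_one] at h1
    have h2 : SympRoot.root f (act a u) (act (t • e₀) u) 0 ∈ M := by
      rcases Nat.lt_or_ge r 3 with hr | hr
      · have h2 : r = 2 := by have := S.prime.two_le; omega
        exact S.root_zero_two D h2 (by push Not at hq; exact hq h2) ha _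
      · exact S.root_zero_large D hr ha _
    have h3 := M.mul_mem h1 (M.inv_mem h2)
    rwa [SympRoot.root_inv S.symp (S.f_line u _ _), SympRoot.root_mul S.symp (S.f_line u _ _)
      (by rw [Symp.neg_right S.symp, S.f_line, neg_zero]), add_neg_cancel, neg_zero, add_zero,
      Symp.neg_left S.symp, S.symp.alternating, neg_zero, add_zero, SympRoot.root_zero S.symp] at h3
  rcases eq_or_ne v 0 with rfl | hv
  · intro t
    have h1 : formTv f (0 : ι → F) t = 1 := gl_ext fun x => by simp [Symp.formTv_mulVec S.symp]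
    rw [h1]
    exact M.one_mem
  obtain ⟨g, hg, -, hgv⟩ := S.exists_move hd hv
  exact hgv ▸ Symp.centres_invariant S.symp hg (S.isom g hg) hc

end Setting

/-- The normaliser of a self-adjoint field subalgebra of prime degree is maximal in the symplectic group. -/
theorem maximal_field_of [Fintype F] {m : ℕ} (hm : 1 ≤ m) (r : ℕ) (hbig : r = 2 → 8 ≤ m + m ∨ 2 < Fintype.card F) (hr : r.Prime)
    (K : Subalgebra F (Matrix (Fin m ⊕ Fin m) (Fin m ⊕ Fin m) F)) (hK : Cfsg.Geo.IsFieldSubalgebra r K)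
    (hsa : Cfsg.Geo.IsSelfAdjointFor (Cfsg.sympForm m F) K)
    (halt : ∀ k ∈ K, ∀ v : (Fin m ⊕ Fin m → F), Cfsg.sympForm m F (k *ᵥ v) v = 0) :
    Cfsg.Geo.IsMaximalIn (Cfsg.spGL m F) (Cfsg.Geo.subalgebraNormalizer K ⊓ Cfsg.spGL m F) := by
  classical
  haveI : Nonempty (Fin m ⊕ Fin m) := ⟨.inl ⟨0, by omega⟩⟩
  set f := Cfsg.sympForm m F with hfdef
  have hf : Cfsg.Geo.IsSymplecticForm f := Symp.isSymplecticForm_sympForm m
  haveI : FiniteDimensional F ↥K := FiniteDimensional.of_finrank_pos (by rw [hK.finrank_eq]; exact hr.pos)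
  have h1ne : (1 : ↥K) ≠ 0 := fun h => one_ne_zero (α := Matrix (Fin m ⊕ Fin m) (Fin m ⊕ Fin m) F)
    (by simpa using congrArg Subtype.val h)
  obtain ⟨ω, hω, -⟩ := Submodule.exists_le_ker_of_notMem (p := (⊥ : Submodule F ↥K)) (v := (1 : ↥K))
    (by simpa using h1ne)
  have hcomm : ∀ a b : ↥K, a * b = b * a := fun a b => Subtype.ext (hK.comm _ a.2 _ b.2)
  set Φ : ↥K →ₗ[F] Module.Dual F ↥K := (LinearMap.mul F ↥K).compr₂ ω with hΦ
  have hinj : Function.Injective Φ := by
    refine (injective_iff_map_eq_zero Φ).2 fun b hb => ?_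
    by_contra hb0
    obtain ⟨y, hy, hyb⟩ := hK.inv _ b.2 fun e => hb0 (Subtype.ext e)
    have := LinearMap.congr_fun hb ⟨y, hy⟩
    rw [hΦ, LinearMap.compr₂_apply, LinearMap.mul_apply', LinearMap.zero_apply,
      show b * ⟨y, hy⟩ = (1 : ↥K) from Subtype.ext hyb] at this
    exact hω this
  have hbij : Function.Bijective Φ :=
    ⟨hinj, (LinearMap.injective_iff_surjective_of_finrank_eq_finrank Subspace.dual_finrank_eq.symm).1 hinj⟩
  let e := LinearEquiv.ofBijective Φ hbij
  let Lm : (Fin m ⊕ Fin m → F) →ₗ[F] (Fin m ⊕ Fin m → F) →ₗ[F] Module.Dual F ↥K :=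
    LinearMap.mk₂ F (fun x y =>
      { toFun := fun a => f (act a x) y
        map_add' := fun a b => by rw [add_act, Symp.add_left hf]
        map_smul' := fun t a => by rw [smul_act, Symp.smul_left hf]; rfl })
      (fun x x' y => by ext a; simp [act_add, Symp.add_left hf])
      (fun t x y => by ext a; simp [act_smul, Symp.smul_left hf])
      (fun x y y' => by ext a; simp [Symp.add_right hf])
      (fun t x y => by ext a; simp [Symp.smul_right hf])
  set B := Lm.compr₂ e.symm.toLinearMap with hB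
  have hspec : ∀ (a : ↥K) x y, ω (a * B x y) = f (act a x) y := fun a x y => by
    have h : Φ (B x y) = Lm x y := e.apply_symm_apply (Lm x y)
    have h2 := LinearMap.congr_fun h a
    rw [hΦ, LinearMap.compr₂_apply, LinearMap.mul_apply', hcomm] at h2
    exact h2
  have hnorm : ∀ g : GL (Fin m ⊕ Fin m) F,
      (∀ (a : ↥K) x, (g : Matrix _ _ F) *ᵥ act a x = act a ((g : Matrix _ _ F) *ᵥ x)) →
      g ∈ Cfsg.Geo.subalgebraNormalizer K := by
    intro g hg
    have hck : ∀ k ∈ K, (g : Matrix _ _ F) * k = k * (g : Matrix _ _ F) := fun k hk =>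
      Matrix.ext_of_mulVec_single fun i => by
        rw [← mulVec_mulVec, ← mulVec_mulVec]; exact hg ⟨k, hk⟩ _
    refine fun k => ⟨fun hk => ?_, fun (hk : _ * k * _ ∈ K) => ?_⟩
    · rw [hck k hk, mul_assoc, ← Units.val_mul, mul_inv_cancel, Units.val_one, mul_one]
      exact hk
    have h := hck _ hk
    rw [Units.inv_mul_cancel_right] at h
    have h4 : (g : Matrix _ _ F) * k * ((g⁻¹ : GL (Fin m ⊕ Fin m) F) : Matrix _ _ F) = k :=
      g.isUnit.mul_left_cancel h
    rwa [h4] at hk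
  refine ⟨lt_of_le_of_ne inf_le_right fun he => ?_, fun M hle hMI => ?_⟩
  · -- properness
    have hne1 : ∃ k : ↥K, ∀ t : F, k ≠ t • (1 : ↥K) := by
      by_contra hc
      push Not at hc
      have h1 : Module.finrank F ↥K ≤ 1 := finrank_le_one (1 : ↥K) fun k => by
        obtain ⟨t, ht⟩ := hc k; exact ⟨t, ht.symm⟩
      rw [hK.finrank_eq] at h1
      exact absurd hr.one_lt (by omega)
    obtain ⟨k, hk⟩ := hne1
    set u : Fin m ⊕ Fin m → F := Pi.single (.inl ⟨0, by omega⟩) 1 with hu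
    have hu0 : u ≠ 0 := by simp [hu]
    obtain ⟨x, hx⟩ := (hf.nondegenerate u hu0).1
    set g := formTv f u 1 with hg
    have hgN := (he.ge (Symp.formTv_mem_spGL m u 1)).1
    have hgx : ∀ z, (g : Matrix _ _ F) *ᵥ z = z + f z u • u := fun z => by
      rw [hg, Symp.formTv_mulVec hf, one_mul]
    set k' : ↥K := ⟨_, (hgN k).1 k.2⟩ with hk'
    have hkey : ∀ z, (g : Matrix _ _ F) *ᵥ act k z = act k' ((g : Matrix _ _ F) *ᵥ z) := fun z => by
      simp only [act, hk']
      rw [mulVec_mulVec, mulVec_mulVec, hg, Units.inv_mul_cancel_right]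
    have h1 := hkey u
    rw [hgx, hgx, hf.alternating, zero_smul, add_zero, show f (act k u) u = 0 from halt k k.2 u, zero_smul, add_zero] at h1
    have h2 := hkey x
    rw [hgx, hgx, act_add, act_smul, ← h1] at h2
    have hact : ∀ (a : ↥K) z, act a z = 0 → a ≠ 0 → z = 0 := by
      intro a z hz ha
      obtain ⟨y, hy, hya⟩ := hK.inv _ a.2 fun e' => ha (Subtype.ext e')
      have hya' : (⟨y, hy⟩ : ↥K) * a = 1 := (hcomm _ _).trans (Subtype.ext hya)
      rw [← act_one (K := K) z, ← hya', ← act_act, hz, act_vzero]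
    have hkk : k' = k := by
      by_contra hne
      exact hu0 (hact (k' - k) u (by rw [sub_act, ← h1, sub_self]) (sub_ne_zero.2 hne))
    rw [hkk, add_right_inj] at h2
    have hxu : f x u ≠ 0 := hx
    set t := f (act k x) u / f x u with ht
    apply hu0
    refine hact (k - t • 1) u ?_ (sub_ne_zero.2 (hk t))
    rw [sub_act, smul_act, act_one, ht, sub_eq_zero, div_eq_inv_mul, ← smul_smul, h2, smul_smul,
      inv_mul_cancel₀ hxu, one_smul]
  · by_cases hall : M ≤ Cfsg.Geo.subalgebraNormalizer K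
    · exact Or.inl (le_antisymm (le_inf hall hMI) hle)
    right
    refine Symp.eq_spGL_of_centres hMI fun v => ?_
    exact Setting.all_centres (r := r) (ω := ω) (B := B)
      { symp := hf, fld := hK, prime := hr
        card := by simp; omega
        adj := fun a x y => hsa _ a.2 x y
        alt := fun a x => halt _ a.2 x
        omega_one := hω, spec := hspec
        cent := fun g hgI hgc => hle ⟨hnorm g hgc, hgI⟩
        isom := fun g hg => hMI hg } hall (fun h => by simpa using hbig h) v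

/-- The normaliser of a self-adjoint field subalgebra of prime degree is maximal in `Sp(2m)`, `m ≥ 7`. -/
theorem maximal_field [Fintype F] {m : ℕ} (hm : 7 ≤ m) (r : ℕ) (hr : r.Prime)
    (K : Subalgebra F (Matrix (Fin m ⊕ Fin m) (Fin m ⊕ Fin m) F)) (hK : Cfsg.Geo.IsFieldSubalgebra r K)
    (hsa : Cfsg.Geo.IsSelfAdjointFor (Cfsg.sympForm m F) K)
    (halt : ∀ k ∈ K, ∀ v : (Fin m ⊕ Fin m → F), Cfsg.sympForm m F (k *ᵥ v) v = 0) :
    Cfsg.Geo.IsMaximalIn (Cfsg.spGL m F) (Cfsg.Geo.subalgebraNormalizer K ⊓ Cfsg.spGL m F) :=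
  maximal_field_of (by omega) r (fun _ => Or.inl (by omega)) hr K hK hsa halt

end CfsgLib.GeomClasses.SympExt
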