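import Cfsg.Agent.Lib.GeomClasses.OrthCplx
import Cfsg.Agent.Lib.GeomClasses.Symp

/-!
A symplectic form `f` with a skew-adjoint complex structure `δ`, `δ² = ν` a non-square: a group containing
the root elements of the associated unitary group and one more pair of commuting transvections contains every
symplectic transvection.
-/

set_option autoImplicit false
set_option linter.unusedSectionVars false
set_option linter.unusedSimpArgs false

namespace CfsgLib.GeomClasses.SympU

open Matrix QuadraticMap CfsgLib.GeomClasses CfsgLib.GeomClasses.OrthCplx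
open scoped MatrixGroups

variable {ι : Type} [Fintype ι] [DecidableEq ι] {F : Type*} [Field F] [Fintype F]
  {f : (ι → F) → (ι → F) → F} {q : QuadraticForm F (ι → F)} {δ : (ι → F) →ₗ[F] (ι → F)} {ν : F}

/-- A symplectic form with a skew-adjoint complex structure `δ`; `q x = f(x, δ x) / 2`. -/
structure Setup (f : (ι → F) → (ι → F) → F) (q : QuadraticForm F (ι → F)) (δ : (ι → F) →ₗ[F] (ι → F))
    (ν : F) : Prop where
  symp : Cfsg.Geo.IsSymplecticForm f
  cplx : Cplx q δ 0 (-ν)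
  large : 13 ≤ Fintype.card ι
  polar_eq : ∀ x y, polar q x y = f x (δ y)
  nonsquare : ¬ IsSquare ν

/-- The root element of the unitary group at an isotropic `v`. -/
noncomputable def rootU (f : (ι → F) → (ι → F) → F) (δ : (ι → F) →ₗ[F] (ι → F)) (ν : F) (v : ι → F) (k : F) :
    GL ι F :=
  formTv f (δ v) k * formTv f v (-(ν * k))

theorem formTv_vec_zero (hf : Cfsg.Geo.IsSymplecticForm f) (c : F) : formTv f (0 : ι → F) c = 1 :=
  gl_ext fun x => by simp [Symp.formTv_mulVec hf, Symp.zero_right hf]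

theorem formTv_scalar_zero (hf : Cfsg.Geo.IsSymplecticForm f) (v : ι → F) : formTv f v 0 = 1 :=
  gl_ext fun x => by simp [Symp.formTv_mulVec hf]

/-- The set of `δ`-lines is closed under sums of subspaces. -/
theorem jinv_sup {W U : Submodule F (ι → F)} (hW : JInv δ W) (hU : JInv δ U) : JInv δ (W ⊔ U) := by
  intro x hx
  obtain ⟨a, ha, b, hb, rfl⟩ := Submodule.mem_sup.1 hx
  rw [map_add]
  exact Submodule.mem_sup.2 ⟨_, hW a ha, _, hU b hb, rfl⟩

section

variable (S : Setup f q δ ν)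
include S

theorem nu_ne : ν ≠ 0 := fun h => S.nonsquare (h ▸ IsSquare.zero)

theorem d_sq (x : ι → F) : δ (δ x) = ν • x := by rw [S.cplx.sq]; simp

theorem f_skewd (x y : ι → F) : f (δ x) y = -f x (δ y) := by
  rw [← S.polar_eq x y, polar_comm, S.polar_eq, S.symp.skew (δ x) y]

theorem f_dd (x y : ι → F) : f (δ x) (δ y) = -(ν * f x y) := by
  rw [f_skewd S, d_sq S, Symp.smul_right S.symp]

theorem f_left (x y : ι → F) : f x y = -(ν⁻¹ * polar q (δ x) y) := by
  rw [S.polar_eq, f_dd S, mul_neg, ← mul_assoc, inv_mul_cancel₀ (nu_ne S), one_mul, neg_neg]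

theorem f_self {v : ι → F} (hv : q v = 0) : f v (δ v) = 0 := by
  rw [← S.polar_eq, polar_self, hv, smul_zero]

theorem f_self' {v : ι → F} (hv : q v = 0) : f (δ v) v = 0 := by
  rw [f_skewd S, f_self S hv, neg_zero]

theorem q_d {v : ι → F} (hv : q v = 0) : q (δ v) = 0 := by rw [S.cplx.qJ, hv, mul_zero]

theorem rootU_mulVec {v : ι → F} (hv : q v = 0) (k : F) (x : ι → F) :
    (rootU f δ ν v k : Matrix ι ι F) *ᵥ x = x + (k * f x (δ v)) • δ v - (ν * k * f x v) • v := by
  rw [rootU, gl_mul_mulVec, Symp.formTv_mulVec S.symp, Symp.formTv_mulVec S.symp, Symp.add_left S.symp,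
    Symp.smul_left S.symp, f_self S hv, mul_zero, add_zero]
  module

theorem rootU_comm {v : ι → F} (hv : q v = 0) (k : F) (x : ι → F) :
    (rootU f δ ν v k : Matrix ι ι F) *ᵥ δ x = δ ((rootU f δ ν v k : Matrix ι ι F) *ᵥ x) := by
  rw [rootU_mulVec S hv, rootU_mulVec S hv, map_sub, map_add, map_smul, map_smul, d_sq S, f_dd S,
    f_skewd S x v]
  module

theorem rootU_isometry (v : ι → F) (k : F) : Symp.IsIsometry f (rootU f δ ν v k) :=
  Symp.isometry_mul (Symp.formTv_isometry S.symp _ _) (Symp.formTv_isometry S.symp _ _)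

/-- Prescribed pairings with a `δ`-line outside an invariant subspace. -/
theorem exists_dual {W : Submodule F (ι → F)} (hW : JInv δ W) {x : ι → F} (hx : x ∉ W) (p p' : F) :
    ∃ v, (∀ w ∈ W, polar q w v = 0) ∧ polar q x v = p ∧ polar q (δ x) v = p' := by
  have h1 : x ∉ W ⊔ F ∙ δ x := fun h => by
    obtain ⟨w, hw, z, hz, e⟩ := Submodule.mem_sup.1 h
    obtain ⟨t, rfl⟩ := Submodule.mem_span_singleton.1 hz
    exact one_ne_zero (coeff_zero S.cplx hW hx (a := 1) (b := -t) (by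
      rw [show (1 : F) • x + -t • δ x = w by linear_combination (norm := module) -e]; exact hw)).1
  have h2 : δ x ∉ W ⊔ F ∙ x := fun h => by
    obtain ⟨w, hw, z, hz, e⟩ := Submodule.mem_sup.1 h
    obtain ⟨t, rfl⟩ := Submodule.mem_span_singleton.1 hz
    exact one_ne_zero (coeff_zero S.cplx hW hx (a := -t) (b := 1) (by
      rw [show -t • x + (1 : F) • δ x = w by linear_combination (norm := module) -e]; exact hw)).2
  obtain ⟨v₁, h₁, n₁⟩ := exists_pairing S.cplx h1
  obtain ⟨v₂, h₂, n₂⟩ := exists_pairing S.cplx h2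
  have e1 : polar q (δ x) v₁ = 0 := h₁ _ (Submodule.mem_sup_right (Submodule.mem_span_singleton_self _))
  have e2 : polar q x v₂ = 0 := h₂ _ (Submodule.mem_sup_right (Submodule.mem_span_singleton_self _))
  refine ⟨(p / polar q x v₁) • v₁ + (p' / polar q (δ x) v₂) • v₂, fun w hw => ?_, ?_, ?_⟩
  · rw [polar_add_right, polar_smul_right, polar_smul_right, h₁ w (Submodule.mem_sup_left hw),
      h₂ w (Submodule.mem_sup_left hw)]
    simp
  · rw [polar_add_right, polar_smul_right, polar_smul_right, e2]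
    simp [div_mul_cancel₀ _ n₁]
  · rw [polar_add_right, polar_smul_right, polar_smul_right, e1]
    simp [div_mul_cancel₀ _ n₂]

/-- An isotropic vector with prescribed products with a small invariant subspace and one more `δ`-line. -/
theorem exists_iso {W : Submodule F (ι → F)} (hW : JInv δ W) (hW4 : Module.finrank F W ≤ 4) {x : ι → F}
    (hx : x ∉ W) (v₁ : ι → F) (p p' : F) :
    ∃ v, q v = 0 ∧ (∀ w ∈ W, f w v = f w v₁ ∧ f w (δ v) = f w (δ v₁)) ∧ f x v = p ∧ f x (δ v) = p' := by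
  obtain ⟨d, hd, d1, d2⟩ := exists_dual S hW hx (p' - polar q x v₁) (-(ν * p) - polar q (δ x) v₁)
  set W' := W ⊔ jspan δ ![x] with hW'
  have hinv : JInv δ W' := jinv_sup hW (jinv_jspan S.cplx ![x])
  have hdim : Module.finrank F W' ≤ 6 := by
    have h1 := Submodule.finrank_add_le_finrank_add_finrank W (jspan δ ![x])
    have h2 := finrank_jspan (J := δ) ![x]
    rw [hW']
    omega
  obtain ⟨z, hz, hqz⟩ := exists_value_of_lt S.cplx (W := W') (by have := S.large; omega)
  obtain ⟨v, hv, hveq⟩ := exists_singular_eq_of_value S.cplx hinv (v₁ + d) hz hqz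
  refine ⟨v, hv, fun w hw => ⟨?_, ?_⟩, ?_, ?_⟩
  · rw [f_left S, f_left S w v₁, hveq _ (Submodule.mem_sup_left (hW w hw)), polar_add_right, hd _ (hW w hw),
      add_zero]
  · rw [← S.polar_eq, ← S.polar_eq, hveq _ (Submodule.mem_sup_left hw), polar_add_right, hd w hw, add_zero]
  · rw [f_left S, hveq _ (Submodule.mem_sup_right (map_mem_jspan ![x] 0) : δ x ∈ W'), polar_add_right, d2,
      add_sub_cancel, mul_neg, neg_neg, ← mul_assoc, inv_mul_cancel₀ (nu_ne S), one_mul]
  · rw [← S.polar_eq, hveq _ (Submodule.mem_sup_right (mem_jspan ![x] 0) : x ∈ W'), polar_add_right, d1,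
      add_sub_cancel]

variable {M : Subgroup (GL ι F)} (hX : ∀ v k, q v = 0 → rootU f δ ν v k ∈ M)
include hX

/-- The basic computation. -/
theorem core {a b v : ι → F} {α β : F} (he : formTv f a α * formTv f b β ∈ M) (hab : f a b = 0) (hα : α ≠ 0)
    (hv : q v = 0) (hbv : f b v = 0) (hbdv : f b (δ v) = 0) (hadv : f a (δ v) = 0) (hav : f a v = 1) :
    formTv f v α⁻¹ * formTv f b β ∈ M ∧ formTv f (δ v) (α⁻¹ / ν) * formTv f b β ∈ M := by
  have hf := S.symp
  have hν := nu_ne S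
  set e := formTv f a α * formTv f b β with he'
  have hei : Symp.IsIsometry f e :=
    Symp.isometry_mul (Symp.formTv_isometry hf _ _) (Symp.formTv_isometry hf _ _)
  have hev : (e : Matrix ι ι F) *ᵥ v = v - α • a := by
    rw [he', gl_mul_mulVec, Symp.formTv_mulVec hf, Symp.formTv_mulVec hf, hf.skew v b, hbv]
    simp only [neg_zero, mul_zero, zero_smul, add_zero, hf.skew v a, hav]
    module
  have hedv : (e : Matrix ι ι F) *ᵥ δ v = δ v := by
    rw [he', gl_mul_mulVec, Symp.formTv_mulVec hf, Symp.formTv_mulVec hf, hf.skew (δ v) b, hbdv]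
    simp [hf.skew (δ v) a, hadv]
  set k := -(α⁻¹ / ν) with hk
  have hc : -(ν * k) = α⁻¹ := by rw [hk, mul_neg, neg_neg, mul_div_cancel₀ _ hν]
  set X := rootU f δ ν v k with hX'
  have hXc : e * X * e⁻¹ = formTv f (δ v) k * formTv f (v - α • a) α⁻¹ := by
    rw [hX', rootU, hc, show e * (formTv f (δ v) k * formTv f v α⁻¹) * e⁻¹ =
      (e * formTv f (δ v) k * e⁻¹) * (e * formTv f v α⁻¹ * e⁻¹) by group, Symp.conj_formTv hf hei,
      Symp.conj_formTv hf hei, hedv, hev]
  set d := formTv f v (-α⁻¹) * formTv f (v - α • a) α⁻¹ with hd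
  have hdM : d ∈ M := by
    have h1 : X⁻¹ * (e * X * e⁻¹) = d := by
      rw [hXc, hX', rootU, hc, _root_.mul_inv_rev, Symp.formTv_inv hf, mul_assoc, inv_mul_cancel_left]
    rw [← h1]
    exact M.mul_mem (M.inv_mem (hX v k hv)) (M.mul_mem (M.mul_mem he (hX v k hv)) (M.inv_mem he))
  have hdi : Symp.IsIsometry f d :=
    Symp.isometry_mul (Symp.formTv_isometry hf _ _) (Symp.formTv_isometry hf _ _)
  have hda : (d : Matrix ι ι F) *ᵥ a = α⁻¹ • v := by
    rw [hd, gl_mul_mulVec, Symp.formTv_mulVec hf (v - α • a), Symp.sub_right hf, hav, Symp.smul_right hf,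
      hf.alternating, mul_zero, sub_zero, mul_one,
      show a + α⁻¹ • (v - α • a) = α⁻¹ • v by
        rw [smul_sub, smul_smul, inv_mul_cancel₀ hα, one_smul]; abel,
      Symp.formTv_mulVec hf, Symp.smul_left hf, hf.alternating]
    simp
  have hdb : (d : Matrix ι ι F) *ᵥ b = b := by
    rw [hd, gl_mul_mulVec, Symp.formTv_mulVec hf (v - α • a), Symp.sub_right hf, hbv, Symp.smul_right hf,
      hf.skew b a, hab, Symp.formTv_mulVec hf]
    simp [hbv]
  have he1 : formTv f v α⁻¹ * formTv f b β ∈ M := by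
    have h1 : d * e * d⁻¹ = formTv f v α⁻¹ * formTv f b β := by
      rw [he', show d * (formTv f a α * formTv f b β) * d⁻¹ =
        (d * formTv f a α * d⁻¹) * (d * formTv f b β * d⁻¹) by group, Symp.conj_formTv hf hdi,
        Symp.conj_formTv hf hdi, hda, hdb, Symp.formTv_smul hf,
        show α⁻¹ * α⁻¹ * α = α⁻¹ by field_simp]
    rw [← h1]
    exact M.mul_mem (M.mul_mem hdM he) (M.inv_mem hdM)
  refine ⟨he1, ?_⟩
  have h2 := M.mul_mem (hX v (α⁻¹ / ν) hv) he1
  rwa [rootU, mul_div_cancel₀ _ hν, mul_assoc, ← mul_assoc (formTv f v (-α⁻¹)), Symp.formTv_mul hf,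
    neg_add_cancel, formTv_scalar_zero hf, one_mul] at h2

/-- One transvection from a commuting pair which does not lie in one `δ`-line. -/
theorem exists_transvection {a b : ι → F} {α β : F} (he : formTv f a α * formTv f b β ∈ M) (hab : f a b = 0)
    (hα : α ≠ 0) (ha : a ∉ jspan δ ![b]) :
    ∃ w γ, q w = 0 ∧ w ≠ 0 ∧ γ ≠ 0 ∧ formTv f w γ ∈ M := by
  have C := S.cplx
  have hf := S.symp
  have hsub : jspan δ ![b] ≤ jspan δ ![b, a] := Submodule.span_le.2 (by
    rintro _ ⟨i | i, rfl⟩ <;> fin_cases i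
    · exact mem_jspan ![b, a] 0
    · exact map_mem_jspan ![b, a] 0)
  obtain ⟨v₁, hv₁, hbv₁, hav₁, hadv₁⟩ := exists_iso S (jinv_jspan C ![b])
    ((finrank_jspan _).trans (by omega)) ha 0 1 0
  obtain ⟨v, hv, hbv, hbdv, hav, hadv, hvW⟩ : ∃ v, q v = 0 ∧ f b v = 0 ∧ f b (δ v) = 0 ∧ f a v = 1 ∧
      f a (δ v) = 0 ∧ v ∉ jspan δ ![b, a] := by
    obtain ⟨e1, e2⟩ := hbv₁ b (mem_jspan ![b] 0)
    rw [map_zero, Symp.zero_right hf] at e2
    rw [Symp.zero_right hf] at e1
    by_cases hW : v₁ ∈ jspan δ ![b, a]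
    · obtain ⟨z, hz, hzW, hqz⟩ := exists_link' C (S := jspan δ ![b, a]) (W := jspan δ ![b, a])
        (by have := S.large; have := finrank_jspan (J := δ) ![b, a]; omega)
      have hp : ∀ {x}, x ∈ jspan δ ![b, a] → f x z = 0 ∧ f x (δ z) = 0 := fun {x} hx =>
        ⟨by rw [f_left S, OrthTools.mem_orth.1 hz _ (jinv_jspan C _ x hx), mul_zero, neg_zero],
          by rw [← S.polar_eq, OrthTools.mem_orth.1 hz _ hx]⟩
      obtain ⟨z1, z2⟩ := hp (mem_jspan ![b, a] 0)
      obtain ⟨z3, z4⟩ := hp (mem_jspan ![b, a] 1)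
      simp only [Matrix.cons_val_zero, Matrix.cons_val_one] at z1 z2 z3 z4
      refine ⟨v₁ + z, ?_, by rw [Symp.add_right hf, e1, z1, add_zero],
        by rw [map_add, Symp.add_right hf, e2, z2, add_zero], by rw [Symp.add_right hf, hav₁, z3, add_zero],
        by rw [map_add, Symp.add_right hf, hadv₁, z4, add_zero], fun h => hzW ?_⟩
      · rw [QuadraticMap.map_add ⇑q, hv₁, hqz, OrthTools.mem_orth.1 hz _ hW]
        simp
      · simpa using Submodule.sub_mem _ h hW
    · exact ⟨v₁, hv₁, e1, e2, hav₁, hadv₁, hW⟩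
  obtain ⟨he1, he2⟩ := core S hX he hab hα hv hbv hbdv hadv hav
  obtain ⟨w₁, -, hw₁, hw₁a, hw₁a'⟩ := exists_iso S (jinv_jspan C ![b])
    ((finrank_jspan _).trans (by omega)) ha 0 1 0
  obtain ⟨w, hw, hwW, hvw, hvw'⟩ := exists_iso S (jinv_jspan C ![b, a]) (finrank_jspan _) hvW w₁ 0 (-1)
  obtain ⟨b1, b2⟩ := hwW b (mem_jspan ![b, a] 0)
  obtain ⟨a1, a2⟩ := hwW a (mem_jspan ![b, a] 1)
  obtain ⟨c1, c2⟩ := hw₁ b (mem_jspan ![b] 0)
  rw [map_zero, Symp.zero_right hf] at c2
  rw [Symp.zero_right hf] at c1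
  rw [c1] at b1
  rw [c2] at b2
  rw [hw₁a] at a1
  rw [hw₁a'] at a2
  have d1 : f (δ v) w = 1 := by rw [f_skewd S, hvw', neg_neg]
  have d2 : f (δ v) (δ w) = 0 := by rw [f_dd S, hvw, mul_zero, neg_zero]
  have hbd : f (δ v) b = 0 := by rw [hf.skew, hbdv, neg_zero]
  have h1 := (core S hX he hab hα hw b1 b2 a2 a1).1
  have h2 := (core S hX he2 hbd (div_ne_zero (inv_ne_zero hα) (nu_ne S)) hw b1 b2 d2 d1).1
  refine ⟨w, (α⁻¹ / ν)⁻¹ - α⁻¹, hw, fun e => one_ne_zero (by rw [← a1, e, Symp.zero_right hf]), ?_, ?_⟩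
  · rw [inv_div, sub_ne_zero]
    intro h
    apply S.nonsquare
    refine ⟨α⁻¹, ?_⟩
    field_simp at h ⊢
    linear_combination h
  · have h3 := M.mul_mem h2 (M.inv_mem h1)
    rwa [_root_.mul_inv_rev, Symp.formTv_inv hf, Symp.formTv_inv hf, mul_assoc,
      ← mul_assoc (formTv f b β), Symp.formTv_mul hf, add_neg_cancel, formTv_scalar_zero hf, one_mul,
      Symp.formTv_mul hf, ← sub_eq_add_neg] at h3

/-- The two new centres from one transvection. -/
theorem step {w v : ι → F} {γ : F} (hT : formTv f w γ ∈ M) (hγ : γ ≠ 0) (hv : q v = 0) (hwv : f w v = 1)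
    (hwdv : f w (δ v) = 0) : formTv f v γ⁻¹ ∈ M ∧ formTv f (δ v) (γ⁻¹ / ν) ∈ M := by
  have hf := S.symp
  have := core S hX (a := w) (b := 0) (β := 0) (by rwa [formTv_vec_zero hf, mul_one])
    (Symp.zero_right hf _) hγ hv (Symp.zero_left hf _) (Symp.zero_left hf _) hwdv hwv
  rwa [formTv_vec_zero hf, mul_one, mul_one] at this

theorem spread {w u : ι → F} {γ : F} (hT : formTv f w γ ∈ M) (hγ : γ ≠ 0) (hw0 : w ≠ 0) (hu : q u = 0)
    (huw : u ∉ jspan δ ![w]) {r : F} (hr : r ≠ 0) :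
    formTv f u (r * r * γ) ∈ M ∧ formTv f u (r * r * (γ * ν)) ∈ M := by
  have hf := S.symp
  have C := S.cplx
  have hν := nu_ne S
  obtain ⟨v₁, -, -, hwv₁, hwdv₁⟩ := exists_iso S (W := ⊥) (x := w)
    (fun x hx => by rw [(Submodule.mem_bot F).1 hx, map_zero]; exact Submodule.zero_mem _) (by simp)
    (by simpa using hw0) 0 1 0
  constructor
  · obtain ⟨v, hv, hW, huv, hudv⟩ := exists_iso S (jinv_jspan C ![w]) ((finrank_jspan _).trans (by omega))
      huw v₁ (-r⁻¹) 0
    obtain ⟨e1, e2⟩ := hW w (mem_jspan ![w] 0)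
    obtain ⟨h1, -⟩ := step S hX hT hγ hv (e1.trans hwv₁) (e2.trans hwdv₁)
    obtain ⟨h2, -⟩ := step S hX (v := r • u) h1 (inv_ne_zero hγ) (by rw [QuadraticMap.map_smul, hu, smul_zero])
      (by rw [Symp.smul_right hf, hf.skew v u, huv, neg_neg, mul_inv_cancel₀ hr])
      (by rw [map_smul, Symp.smul_right hf, hf.skew v (δ u), f_skewd S, hudv]; simp)
    rwa [inv_inv, Symp.formTv_smul hf] at h2
  · obtain ⟨v, hv, hW, huv, hudv⟩ := exists_iso S (jinv_jspan C ![w]) ((finrank_jspan _).trans (by omega))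
      huw v₁ 0 (-r⁻¹)
    obtain ⟨e1, e2⟩ := hW w (mem_jspan ![w] 0)
    obtain ⟨-, h1⟩ := step S hX hT hγ hv (e1.trans hwv₁) (e2.trans hwdv₁)
    obtain ⟨h2, -⟩ := step S hX (v := r • u) h1 (div_ne_zero (inv_ne_zero hγ) hν)
      (by rw [QuadraticMap.map_smul, hu, smul_zero])
      (by rw [Symp.smul_right hf, hf.skew (δ v) u, hudv, neg_neg, mul_inv_cancel₀ hr])
      (by rw [map_smul, Symp.smul_right hf, f_dd S, hf.skew v u, huv]; simp)
    rwa [inv_div, Symp.formTv_smul hf, div_inv_eq_mul, mul_comm ν γ] at h2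

theorem square_class (t : F) (ht : t ≠ 0) : ∃ r : F, r ≠ 0 ∧ (t = r * r ∨ t = r * r * ν) := by
  have hν := nu_ne S
  by_cases h : IsSquare t
  · obtain ⟨r, rfl⟩ := h
    exact ⟨r, fun e => ht (by simp [e]), Or.inl rfl⟩
  · have h2 : ringChar F ≠ 2 := fun e => h (FiniteField.isSquare_of_char_two e t)
    have e1 := (FiniteField.pow_dichotomy h2 ht).resolve_left fun e => h ((FiniteField.isSquare_iff h2 ht).2 e)
    have e2 := (FiniteField.pow_dichotomy h2 hν).resolve_left fun e =>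
      S.nonsquare ((FiniteField.isSquare_iff h2 hν).2 e)
    obtain ⟨r, hr⟩ : IsSquare (t / ν) := by
      rw [FiniteField.isSquare_iff h2 (div_ne_zero ht hν), div_pow, e1, e2, div_self (neg_ne_zero.2 one_ne_zero)]
    refine ⟨r, fun e => ?_, Or.inr (by rw [← hr, div_mul_cancel₀ _ hν])⟩
    rw [e, mul_zero, div_eq_zero_iff] at hr
    exact hr.elim ht hν

/-- All transvections. -/
theorem all_centres {a b : ι → F} {α β : F} (he : formTv f a α * formTv f b β ∈ M) (hab : f a b = 0)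
    (hα : α ≠ 0) (ha : a ∉ jspan δ ![b]) : ∀ x, x ∈ Symp.centres f M := by
  have hf := S.symp
  have C := S.cplx
  obtain ⟨w, γ, hqw, hw0, hγ, hT⟩ := exists_transvection S hX he hab hα ha
  have key : ∀ {w : ι → F} {γ : F}, formTv f w γ ∈ M → γ ≠ 0 → w ≠ 0 → ∀ {u}, q u = 0 →
      u ∉ jspan δ ![w] → u ∈ Symp.centres f M := by
    intro w γ hT hγ hw0 u hu huw c
    by_cases hc : c = 0
    · rw [hc, formTv_scalar_zero hf]; exact M.one_mem
    obtain ⟨r, hr, h | h⟩ := square_class S hX (c / γ) (div_ne_zero hc hγ)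
    · have := (spread S hX hT hγ hw0 hu huw hr).1
      rwa [← h, div_mul_cancel₀ _ hγ] at this
    · have := (spread S hX hT hγ hw0 hu huw hr).2
      rwa [show r * r * (γ * ν) = c / γ * γ by rw [h]; ring, div_mul_cancel₀ _ hγ] at this
  have hiso : ∀ u, q u = 0 → u ∈ Symp.centres f M := by
    intro u hu
    rcases eq_or_ne u 0 with rfl | hu0
    · intro c; rw [formTv_vec_zero hf]; exact M.one_mem
    by_cases huw : u ∈ jspan δ ![w]
    · obtain ⟨u₀, -, hu₀W, hqu₀⟩ := exists_link C (W := jspan δ ![w]) ((finrank_jspan _).trans (by omega))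
        (Or.inl (finrank_jspan _))
      refine key (key hT hγ hw0 hqu₀ hu₀W 1) one_ne_zero (fun e => hu₀W (e ▸ Submodule.zero_mem _)) hu fun h => ?_
      obtain ⟨d, hd⟩ := (Submodule.mem_span_range_iff_exists_fun F).1 h
      simp only [Fintype.sum_sum_type, Fin.sum_univ_one, Sum.elim_inl, Sum.elim_inr, Matrix.cons_val_zero] at hd
      obtain ⟨e1, e2⟩ := coeff_zero C (jinv_jspan C ![w]) hu₀W (hd ▸ huw)
      rw [e1, e2, zero_smul, zero_smul, add_zero] at hd
      exact hu0 hd.symm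
    · exact key hT hγ hw0 hu huw
  intro x
  rcases eq_or_ne x 0 with rfl | hx0
  · exact hiso 0 (map_zero q)
  obtain ⟨v, hv, -, hxv, hxdv⟩ := exists_iso S (W := ⊥) (x := x)
    (fun z hz => by rw [(Submodule.mem_bot F).1 hz, map_zero]; exact Submodule.zero_mem _) (by simp)
    (by simpa using hx0) 0 1 1
  rw [← S.polar_eq] at hxdv
  have hu : q (x + -q x • v) = 0 := by
    rw [QuadraticMap.map_add ⇑q, QuadraticMap.map_smul, hv, polar_smul_right, hxdv]
    simp
  have := Symp.centres_step hf (hiso _ hu) (hiso v hv)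
    (by rw [Symp.add_left hf, Symp.smul_left hf, hxv, hf.alternating]; simp) (q x)
  rwa [neg_smul, neg_add_cancel_right] at this

end

end CfsgLib.GeomClasses.SympU
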