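import Cfsg.Agent.Lib.GeomClasses.OrthCplxField
import Cfsg.Agent.Lib.GeomClasses.SympUnitField

/-!
The normaliser of a quadratic field which is closed under adjoints but not self-adjoint is maximal in the
symplectic group in odd characteristic.
-/

set_option autoImplicit false
set_option linter.unusedSectionVars false

namespace CfsgLib.GeomClasses.SympU

open Matrix QuadraticMap CfsgLib.GeomClasses CfsgLib.GeomClasses.OrthCplx
open scoped MatrixGroups

variable {F : Type*} [Field F] [Fintype F]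

theorem maximal_field {m : ℕ} (hm : 7 ≤ m) (hodd : Odd (Fintype.card F))
    (K : Subalgebra F (Matrix (Fin m ⊕ Fin m) (Fin m ⊕ Fin m) F)) (hK : Cfsg.Geo.IsFieldSubalgebra 2 K)
    (hac : Cfsg.Geo.IsAdjointClosedFor (Cfsg.sympForm m F) K)
    (hnsa : ¬ Cfsg.Geo.IsSelfAdjointFor (Cfsg.sympForm m F) K) :
    Cfsg.Geo.IsMaximalIn (Cfsg.spGL m F) (Cfsg.Geo.subalgebraNormalizer K ⊓ Cfsg.spGL m F) := by
  classical
  haveI : Nonempty (Fin m ⊕ Fin m) := ⟨.inl ⟨0, by omega⟩⟩
  have h2 : (2 : F) ≠ 0 := fun h => by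
    haveI : CharP F 2 := CharTwo.of_one_ne_zero_of_two_eq_zero one_ne_zero h
    have := FiniteField.even_card_of_char_two (ringChar.eq F 2)
    have := Nat.odd_iff.1 hodd
    omega
  have hf := Symp.isSymplecticForm_sympForm (F := F) m
  set f := Cfsg.sympForm m F with hfdef
  simp only [Cfsg.Geo.IsSelfAdjointFor, not_forall] at hnsa
  obtain ⟨j, hj, u₁, v₁, huv₁⟩ := hnsa
  obtain ⟨j', hj', hjj'⟩ := hac j hj
  set d : Matrix (Fin m ⊕ Fin m) (Fin m ⊕ Fin m) F := j - j' with hd'
  have hdK : d ∈ K := K.sub_mem hj hj'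
  have hadj' : ∀ x y, f (j' *ᵥ x) y = f x (j *ᵥ y) := fun x y => by
    rw [hf.skew (j' *ᵥ x), ← hjj', ← hf.skew]
  have hskew : ∀ x y, f (d *ᵥ x) y = -f x (d *ᵥ y) := fun x y => by
    rw [hd', Matrix.sub_mulVec, Matrix.sub_mulVec, Symp.sub_left hf, Symp.sub_right hf, hjj', hadj']
    ring
  have hd0 : ∃ x y, f x (d *ᵥ y) ≠ 0 :=
    ⟨u₁, v₁, fun h => huv₁ (by
      rw [hd', Matrix.sub_mulVec, Symp.sub_right hf, sub_eq_zero] at h
      rw [hjj', ← h])⟩
  have hns : ∀ a : F, d ≠ a • 1 := fun a ha => by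
    obtain ⟨x, y, hxy⟩ := hd0
    have h := hskew x y
    rw [ha, Matrix.smul_mulVec, Matrix.smul_mulVec, Matrix.one_mulVec, Matrix.one_mulVec, Symp.smul_left hf,
      Symp.smul_right hf] at h
    have h0 : 2 * (a * f x y) = 0 := by linear_combination h
    exact hxy (by
      rw [ha, Matrix.smul_mulVec, Matrix.one_mulVec, Symp.smul_right hf]
      exact (mul_eq_zero.1 h0).resolve_left h2)
  obtain ⟨ν, b, hνb⟩ := mem_span_one hK hdK hns (K.mul_mem hdK hdK)
  have hdd : ∀ x, d *ᵥ (d *ᵥ x) = ν • x + b • (d *ᵥ x) := fun x => by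
    rw [Matrix.mulVec_mulVec, hνb, Matrix.add_mulVec, Matrix.smul_mulVec, Matrix.smul_mulVec, Matrix.one_mulVec]
  have hb : b = 0 := by
    obtain ⟨x, y, hxy⟩ := hd0
    have h : f (d *ᵥ (d *ᵥ x)) y = f x (d *ᵥ (d *ᵥ y)) := by rw [hskew, hskew, neg_neg]
    rw [hdd, hdd, Symp.add_left hf, Symp.add_right hf, Symp.smul_left hf, Symp.smul_left hf, Symp.smul_right hf,
      Symp.smul_right hf, hskew] at h
    have h0 : 2 * (b * f x (d *ᵥ y)) = 0 := by linear_combination -h
    exact (mul_eq_zero.1 ((mul_eq_zero.1 h0).resolve_left h2)).resolve_right hxy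
  subst hb
  rw [zero_smul, add_zero] at hνb
  set δ := Matrix.toLin' d with hδ
  have hδa : ∀ x, δ x = d *ᵥ x := fun x => Matrix.toLin'_apply d x
  have hsq : ∀ x, δ (δ x) = ν • x := fun x => by rw [hδa, hδa, hdd, zero_smul, add_zero]
  have hnsq : ¬ IsSquare ν := by
    rintro ⟨s, hs⟩
    have hprod : (d - s • (1 : Matrix (Fin m ⊕ Fin m) (Fin m ⊕ Fin m) F)) * (d + s • 1) = 0 := by
      rw [sub_mul, mul_add, mul_add, hνb, hs, Matrix.mul_smul, Matrix.smul_mul, Matrix.smul_mul,
        Matrix.mul_smul, mul_one, one_mul, one_mul, smul_smul]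
      abel
    obtain ⟨z, hz, hz1⟩ := hK.inv _ (K.sub_mem hdK (K.smul_mem K.one_mem s)) (fun e => hns s (sub_eq_zero.1 e))
    have h3 := congrArg (z * ·) hprod
    rw [← mul_assoc, hK.comm z hz _ (K.sub_mem hdK (K.smul_mem K.one_mem s)), hz1, one_mul, mul_zero] at h3
    exact hns (-s) (by rw [neg_smul]; exact eq_neg_of_add_eq_zero_left h3)
  have hνn : ν ≠ 0 := fun h => hnsq (h ▸ IsSquare.zero)
  have hskew' : ∀ x y, f (δ x) y = -f x (δ y) := fun x y => by rw [hδa, hδa, hskew]
  let B : LinearMap.BilinForm F (Fin m ⊕ Fin m → F) := (2 : F)⁻¹ • (Symp.bil hf).compl₂ δ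
  set q : QuadraticForm F (Fin m ⊕ Fin m → F) := LinearMap.BilinMap.toQuadraticMap B with hqdef
  have hqv : ∀ x, q x = (2 : F)⁻¹ * f x (δ x) := fun x => rfl
  have hpol : ∀ x y, polar q x y = f x (δ y) := fun x y => by
    simp only [QuadraticMap.polar, hqv, map_add, Symp.add_left hf, Symp.add_right hf]
    have e : f y (δ x) = f x (δ y) := by rw [hf.skew y, hskew', neg_neg]
    rw [e]
    field_simp
    ring
  have C : Cplx q δ 0 (-ν) :=
    { nondeg := by
        have key : ∀ x, (∀ y, polar q x y = 0) → x = 0 := fun x h => by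
          by_contra hne
          obtain ⟨z, hz⟩ := (hf.nondegenerate x hne).1
          have h1 := h (ν⁻¹ • δ z)
          rw [hpol, map_smul, hsq, smul_smul, inv_mul_cancel₀ hνn, one_smul] at h1
          exact hz (by first | exact h1 | (rw [hf.skew, h1, neg_zero]))
        exact ⟨fun x h => key x h, fun x h => key x fun y => (polar_comm (⇑q) x y).trans (h y)⟩
      card := by simp; omega
      sq := fun x => by rw [hsq]; simp
      adj := fun x y => by rw [hpol, hpol, hpol, hskew']; ring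
      qJ := fun x => by rw [hqv, hqv, hsq, hskew', map_smul, Symp.smul_right hf]; ring
      self_J := fun x => by rw [hpol, hsq, Symp.smul_right hf, hf.alternating]; ring
      irred := fun a c h => by
        have hc : c = 0 := by
          by_contra hc
          exact hnsq ⟨a / c, by field_simp; linear_combination -h⟩
        subst hc
        exact ⟨mul_self_eq_zero.1 (by linear_combination h), rfl⟩ }
  have S : Setup f q δ ν := ⟨hf, C, by simp; omega, hpol, hnsq⟩
  -- elements commuting with `δ` normalise `K`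
  have hmem : ∀ g : GL (Fin m ⊕ Fin m) F, (∀ x, (g : Matrix _ _ F) *ᵥ δ x = δ ((g : Matrix _ _ F) *ᵥ x)) →
      g ∈ Cfsg.Geo.subalgebraNormalizer K := by
    intro g hg
    have hcj : (g : Matrix _ _ F) * d = d * (g : Matrix _ _ F) :=
      Matrix.toLin'.injective (LinearMap.ext fun x => by
        rw [Matrix.toLin'_mul, Matrix.toLin'_mul]
        simpa [hδa] using hg x)
    have hck : ∀ k ∈ K, (g : Matrix _ _ F) * k = k * (g : Matrix _ _ F) := by
      intro k hk
      obtain ⟨a, c, rfl⟩ := mem_span_one hK hdK hns hk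
      rw [mul_add, add_mul, Matrix.mul_smul, Matrix.mul_smul, Matrix.smul_mul, Matrix.smul_mul, hcj, mul_one,
        one_mul]
    refine fun k => ⟨fun hk => ?_, fun (hk : _ * k * _ ∈ K) => ?_⟩
    · rw [hck k hk, mul_assoc, ← Units.val_mul, mul_inv_cancel, Units.val_one, mul_one]
      exact hk
    have h := hck _ hk
    rw [Units.inv_mul_cancel_right] at h
    have h4 : (g : Matrix _ _ F) * k * ((g⁻¹ : GL (Fin m ⊕ Fin m) F) : Matrix _ _ F) = k :=
      g.isUnit.mul_left_cancel h
    rwa [h4] at hk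
  refine ⟨lt_of_le_of_ne inf_le_right fun he => ?_, fun M hle hMI => ?_⟩
  · -- properness
    obtain ⟨u, -, huW, hu⟩ := exists_link C (W := ⊥) (by simp) (Or.inl (by simp))
    have hu0 : u ≠ 0 := fun e => huW (by rw [e]; exact Submodule.zero_mem _)
    obtain ⟨x, hx⟩ := (hf.nondegenerate u hu0).2
    set g := formTv f u 1 with hg
    have hgI : g ∈ Cfsg.spGL m F := Symp.formTv_mem_spGL m u 1
    have hgN := (he.ge hgI).1
    obtain ⟨a, c, hac'⟩ := mem_span_one hK hdK hns ((hgN d).1 hdK)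
    have key : ∀ z, (g : Matrix _ _ F) *ᵥ δ z = a • ((g : Matrix _ _ F) *ᵥ z) + c • δ ((g : Matrix _ _ F) *ᵥ z) :=
      fun z => by
        have h := congrArg (fun y => y *ᵥ ((g : Matrix _ _ F) *ᵥ z)) hac'
        simp only [← Matrix.mulVec_mulVec, Matrix.add_mulVec, Matrix.smul_mulVec, Matrix.one_mulVec] at h
        rw [gl_inv_mulVec_mulVec] at h
        rw [hδa, h, hδa]
    have hgx : ∀ z, (g : Matrix _ _ F) *ᵥ z = z + f z u • u := fun z => by
      rw [hg, Symp.formTv_mulVec hf, one_mul]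
    have k1 := key u
    rw [hgx, hgx, hf.alternating, f_self' S hu, zero_smul, add_zero, add_zero] at k1
    obtain ⟨ea, ec⟩ := indep_zero C hu0 (a := a) (b := c - 1) (by linear_combination (norm := module) -k1)
    have k2 := key x
    rw [hgx, hgx, ea, sub_eq_zero.1 ec, zero_smul, zero_add, one_smul, map_add, map_smul] at k2
    have h := (indep_zero C hu0 (a := f (δ x) u) (b := -f x u) (by linear_combination (norm := module) k2)).2
    exact hx (by first | exact neg_eq_zero.1 h | (rw [hf.skew]; exact h))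
  · by_cases hall : M ≤ Cfsg.Geo.subalgebraNormalizer K
    · exact Or.inl (le_antisymm (le_inf hall hMI) hle)
    right
    have hX : ∀ v k, q v = 0 → rootU f δ ν v k ∈ M := fun v k hv =>
      hle ⟨hmem _ (rootU_comm S hv k), rootU_isometry S v k⟩
    obtain ⟨g, hgM, hg⟩ := SetLike.not_le_iff_exists.1 hall
    refine Symp.eq_spGL_of_centres hMI ?_
    suffices hex : ∃ v, q v = 0 ∧ (g : Matrix _ _ F) *ᵥ δ v ∉ jspan δ ![(g : Matrix _ _ F) *ᵥ v] by
      obtain ⟨v, hv, hnot⟩ := hex
      have hgi : Symp.IsIsometry f g := hMI hgM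
      refine all_centres S hX (α := 1) (β := -(ν * 1)) ?_ (by rw [hgi, f_self' S hv]) one_ne_zero hnot
      rw [← Symp.conj_formTv hf hgi, ← Symp.conj_formTv hf hgi, conj_mul]
      exact M.mul_mem (M.mul_mem hgM (hX v 1 hv)) (M.inv_mem hgM)
    by_contra hcon
    push Not at hcon
    apply hg
    set A : (Fin m ⊕ Fin m → F) →ₗ[F] (Fin m ⊕ Fin m → F) :=
      Matrix.toLin' ((g⁻¹ : GL (Fin m ⊕ Fin m) F) : Matrix _ _ F) ∘ₗ δ ∘ₗ Matrix.toLin' (g : Matrix _ _ F) with hA
    have hAapp : ∀ z, A z = ((g⁻¹ : GL (Fin m ⊕ Fin m) F) : Matrix _ _ F) *ᵥ δ ((g : Matrix _ _ F) *ᵥ z) :=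
      fun z => by simp [hA]
    have hAv : ∀ v, q v = 0 → ∃ a c : F, A v = a • v + c • δ v := fun v hv => by
      obtain ⟨e, he⟩ := (Submodule.mem_span_range_iff_exists_fun F).1 (hcon v hv)
      simp only [Fintype.sum_sum_type, Fin.sum_univ_one, Sum.elim_inl, Sum.elim_inr, Matrix.cons_val_zero] at he
      rcases eq_or_ne (e (.inr 0)) 0 with h0 | h0
      · rcases eq_or_ne v 0 with rfl | hv0
        · exact ⟨0, 0, by simp⟩
        rw [h0, zero_smul, add_zero, ← mulVec_smul] at he
        have := gl_mulVec_injective g he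
        exact absurd (indep_zero C hv0 (a := e (.inl 0)) (b := -1)
          (by linear_combination (norm := module) this)).2 (by simp)
      · refine ⟨-(e (.inl 0) / e (.inr 0)), (e (.inr 0))⁻¹, ?_⟩
        have h := congrArg (fun y : Fin m ⊕ Fin m → F =>
          ((g⁻¹ : GL (Fin m ⊕ Fin m) F) : Matrix (Fin m ⊕ Fin m) (Fin m ⊕ Fin m) F) *ᵥ y) he
        simp only [mulVec_add, mulVec_smul, gl_inv_mulVec_mulVec, ← hAapp] at h
        rw [show A v = (e (.inr 0))⁻¹ • (e (.inr 0) • A v) by rw [inv_smul_smul₀ h0],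
          eq_sub_of_add_eq' h]
        match_scalars <;> field_simp
    obtain ⟨u₀, -, hu₀W, hqu₀⟩ := exists_link C (W := jspan δ (![] : Fin 0 → Fin m ⊕ Fin m → F))
      ((finrank_jspan _).trans (by omega)) (Or.inl ((finrank_jspan _).trans (by omega)))
    have hu₀0 : u₀ ≠ 0 := fun e => hu₀W (e ▸ Submodule.zero_mem _)
    obtain ⟨a, c, hac'⟩ := hAv u₀ hqu₀
    have hconst : ∀ x y, q x = 0 → q y = 0 → polar q x y = 0 → x ≠ 0 → y ∉ jspan δ ![x] →
        ∀ r s r' s' : F, A x = r • x + s • δ x → A y = r' • y + s' • δ y → r = r' ∧ s = s' := by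
      intro x y hx hy hxy hx0 hy1 r s r' s' e e'
      obtain ⟨r'', s'', e''⟩ := hAv (x + y) (by rw [QuadraticMap.map_add ⇑q, hx, hy, hxy]; simp)
      rw [map_add, e, e', map_add] at e''
      have hyz : (r' - r'') • y + (s' - s'') • δ y = (r'' - r) • x + (s'' - s) • δ x := by
        linear_combination (norm := module) e''
      obtain ⟨f1, f2⟩ := coeff_zero C (jinv_jspan C ![x]) hy1 (a := r' - r'') (b := s' - s'') (by
        rw [hyz]
        exact Submodule.add_mem _ (Submodule.smul_mem _ _ (mem_jspan ![x] 0))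
          (Submodule.smul_mem _ _ (map_mem_jspan ![x] 0)))
      rw [f1, f2, zero_smul, zero_smul, add_zero] at hyz
      obtain ⟨g1, g2⟩ := indep_zero C hx0 hyz.symm
      exact ⟨by linear_combination -g1 - f1, by linear_combination -g2 - f2⟩
    have hsing : ∀ w, q w = 0 → A w = a • w + c • δ w := by
      intro w hw
      rcases eq_or_ne w 0 with rfl | hw0
      · simp
      obtain ⟨z, hz, hzW, hqz⟩ := exists_link' C (S := jspan δ ![u₀, w]) (W := jspan δ ![u₀, w])
        (by have := S.large; have := finrank_jspan (J := δ) ![u₀, w]; omega)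
      have z1 := OrthTools.mem_orth.1 hz _ (mem_jspan ![u₀, w] 0)
      have z2 := OrthTools.mem_orth.1 hz _ (mem_jspan ![u₀, w] 1)
      simp only [Matrix.cons_val_zero, Matrix.cons_val_one] at z1 z2
      obtain ⟨r, s, hrs⟩ := hAv z hqz
      obtain ⟨r', s', hrs'⟩ := hAv w hw
      have hn1 : z ∉ jspan δ ![u₀] := fun hm => hzW ((Submodule.span_le.2 (by
        rintro _ ⟨i | i, rfl⟩ <;> fin_cases i
        · exact mem_jspan ![u₀, w] 0
        · exact map_mem_jspan ![u₀, w] 0) : jspan δ ![u₀] ≤ jspan δ ![u₀, w]) hm)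
      have hn2 : z ∉ jspan δ ![w] := fun hm => hzW ((Submodule.span_le.2 (by
        rintro _ ⟨i | i, rfl⟩ <;> fin_cases i
        · exact mem_jspan ![u₀, w] 1
        · exact map_mem_jspan ![u₀, w] 1) : jspan δ ![w] ≤ jspan δ ![u₀, w]) hm)
      obtain ⟨c1, c2⟩ := hconst u₀ z hqu₀ hqz z1 hu₀0 hn1 a c r s hac' hrs
      obtain ⟨c3, c4⟩ := hconst w z hw hqz z2 hw0 hn2 r' s' r s hrs' hrs
      rw [hrs', c3, c4, c1, c2]
    have hallx : ∀ x, A x = a • x + c • δ x := by
      intro x
      rcases eq_or_ne x 0 with rfl | hx0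
      · simp
      obtain ⟨v₀, -, hv₀⟩ := exists_pairing C (S := ⊥) (x := x) (by simpa using hx0)
      obtain ⟨y, hy, hyeq⟩ := exists_singular_eq C (jinv_jspan C ![x]) ((finrank_jspan _).trans (by omega)) v₀
        (Or.inl ((finrank_jspan _).trans (by omega)))
      have hxy : polar q x y ≠ 0 := fun e => hv₀ ((hyeq x (mem_jspan ![x] 0)).symm.trans e)
      set t := -q x / polar q x y with ht
      have h1 : q (x + t • y) = 0 := by
        rw [QuadraticMap.map_add ⇑q, QuadraticMap.map_smul, polar_smul_right, hy, ht]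
        simp [div_mul_cancel₀ _ hxy]
      have := hsing _ h1
      rw [map_add, map_smul, hsing y hy, map_add, map_smul] at this
      linear_combination (norm := module) this
    have hgd : ((g⁻¹ : GL (Fin m ⊕ Fin m) F) : Matrix _ _ F) * d * (g : Matrix _ _ F) = a • 1 + c • d :=
      Matrix.toLin'.injective (LinearMap.ext fun x => by
        simp only [map_add, map_smul, Matrix.toLin'_mul, Matrix.toLin'_one, LinearMap.add_apply,
          LinearMap.smul_apply, LinearMap.id_apply]
        exact hallx x)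
    have hc0 : c ≠ 0 := by
      rintro rfl
      refine hns a ?_
      have h := congrArg (fun z => (g : Matrix _ _ F) * z * ((g⁻¹ : GL (Fin m ⊕ Fin m) F) : Matrix _ _ F)) hgd
      simpa [mul_assoc] using h
    have hdg : (g : Matrix _ _ F) * d * ((g⁻¹ : GL (Fin m ⊕ Fin m) F) : Matrix _ _ F) =
        c⁻¹ • (d - a • 1) := by
      have h := congrArg (fun z => (g : Matrix _ _ F) * z * ((g⁻¹ : GL (Fin m ⊕ Fin m) F) : Matrix _ _ F)) hgd
      simp only [mul_add, add_mul, Matrix.mul_smul, Matrix.smul_mul, mul_one, mul_assoc, ← Units.val_mul,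
        mul_inv_cancel, Units.val_one] at h
      rw [← mul_assoc, ← Units.val_mul, mul_inv_cancel, Units.val_one, one_mul, ← mul_assoc] at h
      rw [eq_inv_smul_iff₀ hc0]
      exact eq_sub_of_add_eq' h.symm
    refine fun k => ⟨fun hk => ?_, fun hk => ?_⟩
    · obtain ⟨p, r, rfl⟩ := mem_span_one hK hdK hns hk
      rw [mul_add, add_mul, Matrix.mul_smul, Matrix.mul_smul, Matrix.smul_mul, Matrix.smul_mul, mul_one, hdg,
        ← Units.val_mul, mul_inv_cancel, Units.val_one]
      exact K.add_mem (K.smul_mem K.one_mem _)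
        (K.smul_mem (K.smul_mem (K.sub_mem hdK (K.smul_mem K.one_mem _)) _) _)
    · obtain ⟨p, r, hpr⟩ := mem_span_one hK hdK hns hk
      have h := congrArg (fun z => ((g⁻¹ : GL (Fin m ⊕ Fin m) F) : Matrix _ _ F) * z * (g : Matrix _ _ F)) hpr
      simp only [mul_add, add_mul, Matrix.mul_smul, Matrix.smul_mul, mul_one, ← mul_assoc, ← Units.val_mul,
        inv_mul_cancel, Units.val_one, one_mul] at h
      rw [hgd, mul_assoc, ← Units.val_mul, inv_mul_cancel, Units.val_one, mul_one] at h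
      rw [h]
      exact K.add_mem (K.smul_mem K.one_mem _)
        (K.smul_mem (K.add_mem (K.smul_mem K.one_mem _) (K.smul_mem hdK _)) _)

end CfsgLib.GeomClasses.SympU
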