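import Cfsg.Agent.Lib.GeomClasses.Basic

/-!
The stabiliser of a tensor decomposition `F^a ⊗ F^b`, `2 ≤ a < b`, is maximal in the special linear group
(`(a, q) ≠ (2, 2)`): an overgroup which moves the decomposition contains a non-scalar element of a root group
`U ⊗ (transvection of W)`, hence all transvections.
-/

set_option autoImplicit false
set_option linter.unusedSectionVars false
set_option linter.unusedSimpArgs false
set_option linter.style.haveILetI false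

namespace CfsgLib.GeomClasses.TensorMax

open Matrix Module
open scoped Kronecker

variable {F : Type*} [Field F] {a b : ℕ}

attribute [-simp] Matrix.coe_units_inv

/-- The tensor space, as matrices in coordinates. -/
abbrev V2 (F : Type*) (a b : ℕ) := Fin a × Fin b → F

/-- Matrices on the tensor space. -/
abbrev M2 (F : Type*) (a b : ℕ) := Matrix (Fin a × Fin b) (Fin a × Fin b) F

/-- `u ↦ u ⊗ w`. -/
def pl (w : Fin b → F) : (Fin a → F) →ₗ[F] V2 F a b where
  toFun u := fun i => u i.1 * w i.2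
  map_add' u u' := by ext; simp [add_mul]
  map_smul' t u := by ext; simp [mul_assoc]

/-- Contraction with a functional of the right factor. -/
def C (φ : Fin b → F) : V2 F a b →ₗ[F] (Fin a → F) where
  toFun z := fun i => ∑ j, z (i, j) * φ j
  map_add' z z' := by ext; simp [add_mul, Finset.sum_add_distrib]
  map_smul' t z := by ext; simp [Finset.mul_sum, mul_assoc]

/-- Contraction with a functional of the left factor. -/
def D (q : Fin a → F) : V2 F a b →ₗ[F] (Fin b → F) where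
  toFun z := fun j => ∑ i, q i * z (i, j)
  map_add' z z' := by ext; simp [mul_add, Finset.sum_add_distrib]
  map_smul' t z := by ext; simp [Finset.mul_sum, mul_left_comm]

/-- `w ↦ u ⊗ w`. -/
def pr (u : Fin a → F) : (Fin b → F) →ₗ[F] V2 F a b where
  toFun w := fun i => u i.1 * w i.2
  map_add' w w' := by ext; simp [mul_add]
  map_smul' t w := by ext; simp [mul_left_comm]

theorem pr_eq (u : Fin a → F) (w : Fin b → F) : pr u w = pl w u := rfl

theorem C_pl (φ : Fin b → F) (u : Fin a → F) (w : Fin b → F) : C φ (pl w u) = (φ ⬝ᵥ w) • u := by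
  ext i
  simp only [C, pl, LinearMap.coe_mk, AddHom.coe_mk, Pi.smul_apply, smul_eq_mul, dotProduct, Finset.sum_mul]
  exact Finset.sum_congr rfl fun j _ => by ring

theorem D_pl (q : Fin a → F) (u : Fin a → F) (w : Fin b → F) : D q (pl w u) = (q ⬝ᵥ u) • w := by
  ext j
  simp only [D, pl, LinearMap.coe_mk, AddHom.coe_mk, Pi.smul_apply, smul_eq_mul, dotProduct, Finset.sum_mul]
  exact Finset.sum_congr rfl fun i _ => by ring

theorem C_add (φ ψ : Fin b → F) (z : V2 F a b) : C (φ + ψ) z = C φ z + C ψ z := by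
  ext i; simp [C, mul_add, Finset.sum_add_distrib]

theorem C_sub (φ ψ : Fin b → F) (z : V2 F a b) : C (φ - ψ) z = C φ z - C ψ z := by
  ext i; simp [C, mul_sub, Finset.sum_sub_distrib]

theorem C_smul (t : F) (φ : Fin b → F) (z : V2 F a b) : C (t • φ) z = t • C φ z := by
  ext i; simp [C, Finset.mul_sum, mul_left_comm]

theorem eq_sum (z : V2 F a b) : z = ∑ j, pl (Pi.single j 1) (C (Pi.single j 1) z) := by
  ext ⟨i, j⟩
  simp [pl, C, Pi.single_apply, Finset.sum_apply]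

theorem eq_zero_of_C {z : V2 F a b} (h : ∀ φ, C φ z = 0) : z = 0 := by
  rw [eq_sum z]; simp [h]

theorem ext_pl {M : Type*} [AddCommMonoid M] [Module F M] {f g : V2 F a b →ₗ[F] M}
    (h : ∀ u w, f (pl w u) = g (pl w u)) : f = g :=
  LinearMap.ext fun z => by rw [eq_sum z, map_sum, map_sum]; simp [h]

/-- The line over a vector of the right factor. -/
def L (v : Fin b → F) : Submodule F (V2 F a b) := LinearMap.range (pl v)

theorem pl_mem_L (u : Fin a → F) (v : Fin b → F) : pl v u ∈ (L v : Submodule F (V2 F a b)) := ⟨u, rfl⟩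

theorem C_eq_zero_of_mem_L {v φ : Fin b → F} (h : φ ⬝ᵥ v = 0) {z : V2 F a b} (hz : z ∈ L v) : C φ z = 0 := by
  obtain ⟨u, rfl⟩ := hz
  rw [C_pl, h, zero_smul]

/-! ### Vectors and functionals -/

theorem exists_dot_eq_one {n : ℕ} {v : Fin n → F} (hv : v ≠ 0) : ∃ θ : Fin n → F, θ ⬝ᵥ v = 1 := by
  obtain ⟨i, hi⟩ := Function.ne_iff.1 hv
  exact ⟨Pi.single i (v i)⁻¹, by rw [single_dotProduct, inv_mul_cancel₀ hi]⟩

theorem exists_perp_of_notMem {n : ℕ} {x y : Fin n → F} (h : ∀ c : F, y ≠ c • x) :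
    ∃ θ : Fin n → F, θ ⬝ᵥ x = 0 ∧ θ ⬝ᵥ y = 1 := by
  obtain ⟨φ, hφ, hφW⟩ := exists_separating (W := Submodule.span F {x}) (u := y)
    (fun hm => by obtain ⟨c, hc⟩ := Submodule.mem_span_singleton.1 hm; exact h c hc.symm)
  exact ⟨(φ ⬝ᵥ y)⁻¹ • φ, by rw [smul_dotProduct, hφW x (Submodule.mem_span_singleton_self x), smul_zero],
    by rw [smul_dotProduct, smul_eq_mul, inv_mul_cancel₀ hφ]⟩

theorem indep_symm {n : ℕ} {x y : Fin n → F} (hx : x ≠ 0) (h : ∀ c : F, y ≠ c • x) : ∀ c : F, x ≠ c • y := by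
  intro c hc
  rcases eq_or_ne c 0 with rfl | hc0
  · exact hx (by rw [hc, zero_smul])
  · exact h c⁻¹ (by rw [hc, smul_smul, inv_mul_cancel₀ hc0, one_smul])

theorem exists_dot_one_one {n : ℕ} {x y : Fin n → F} (hx : x ≠ 0) (h : ∀ c : F, y ≠ c • x) :
    ∃ θ : Fin n → F, θ ⬝ᵥ x = 1 ∧ θ ⬝ᵥ y = 1 := by
  obtain ⟨θ₁, h1, h1'⟩ := exists_perp_of_notMem h
  obtain ⟨θ₂, h2, h2'⟩ := exists_perp_of_notMem (indep_symm hx h)
  exact ⟨θ₁ + θ₂, by rw [add_dotProduct, h1, h2', zero_add], by rw [add_dotProduct, h1', h2, add_zero]⟩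

theorem exists_perp_notMem {n : ℕ} (hn : 3 ≤ n) (x y : Fin n → F) :
    ∃ θ : Fin n → F, θ ⬝ᵥ x = 0 ∧ ∀ c : F, θ ≠ c • y := by
  let f : (Fin n → F) →ₗ[F] F := (dotProductBilin F F).flip x
  have h1 := LinearMap.finrank_range_add_finrank_ker f
  have h2 := Submodule.finrank_le (LinearMap.range f)
  rw [Module.finrank_self] at h2
  rw [Module.finrank_fintype_fun_eq_card, Fintype.card_fin] at h1
  have h3 : Module.finrank F (Submodule.span F {y}) ≤ 1 := by
    rcases eq_or_ne y 0 with rfl | hy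
    · rw [Submodule.span_zero_singleton, finrank_bot]; exact Nat.zero_le _
    · rw [finrank_span_singleton hy]
  obtain ⟨θ, hθ, hθy⟩ := SetLike.not_le_iff_exists.1
    (fun hle : LinearMap.ker f ≤ Submodule.span F {y} => by have := Submodule.finrank_mono hle; omega)
  exact ⟨θ, by simpa [f] using hθ, fun c hc => hθy (Submodule.mem_span_singleton.2 ⟨c, hc.symm⟩)⟩

theorem exists_perp {n : ℕ} (hn : 2 ≤ n) (x : Fin n → F) : ∃ θ : Fin n → F, θ ≠ 0 ∧ θ ⬝ᵥ x = 0 := by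
  let f : (Fin n → F) →ₗ[F] F := (dotProductBilin F F).flip x
  obtain ⟨θ, hθ, hθ0⟩ := (Submodule.ne_bot_iff _).1 (LinearMap.ker_ne_bot_of_finrank_lt (f := f)
    (by rw [Module.finrank_self, Module.finrank_fintype_fun_eq_card, Fintype.card_fin]; omega))
  exact ⟨θ, hθ0, by simpa [f] using hθ⟩

theorem exists_indep {n : ℕ} (hn : 2 ≤ n) (x : Fin n → F) : ∃ θ : Fin n → F, ∀ c : F, θ ≠ c • x := by
  by_cases h : ∀ c : F, (Pi.single ⟨0, by omega⟩ 1 : Fin n → F) ≠ c • x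
  · exact ⟨_, h⟩
  push Not at h
  obtain ⟨c, hc⟩ := h
  refine ⟨Pi.single ⟨1, by omega⟩ 1, fun d hd => ?_⟩
  have h0 := congrFun hc ⟨0, by omega⟩
  have h1 := congrFun hd ⟨0, by omega⟩
  have h2 := congrFun hd ⟨1, by omega⟩
  simp at h0 h1 h2
  rcases h1 with h1 | h1 <;> simp [h1] at h0 h2

theorem exists_perp_perp {n : ℕ} (hn : 3 ≤ n) (x y : Fin n → F) :
    ∃ θ : Fin n → F, θ ≠ 0 ∧ θ ⬝ᵥ x = 0 ∧ θ ⬝ᵥ y = 0 := by
  let f : (Fin n → F) →ₗ[F] F × F := ((dotProductBilin F F).flip x).prod ((dotProductBilin F F).flip y)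
  obtain ⟨θ, hθ, hθ0⟩ := (Submodule.ne_bot_iff _).1 (LinearMap.ker_ne_bot_of_finrank_lt (f := f)
    (by rw [Module.finrank_prod, Module.finrank_self, Module.finrank_fintype_fun_eq_card, Fintype.card_fin]; omega))
  rw [LinearMap.mem_ker] at hθ
  exact ⟨θ, hθ0, by simpa [f] using congrArg Prod.fst hθ, by simpa [f] using congrArg Prod.snd hθ⟩

/-- A map which is not a scalar. -/
def NonScalar (P : (Fin a → F) →ₗ[F] (Fin a → F)) : Prop := ∃ p, ∀ c : F, P p ≠ c • p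

theorem scalar_of_not_nonScalar {P : (Fin a → F) →ₗ[F] (Fin a → F)} (h : ¬ NonScalar P) :
    ∃ c : F, ∀ p, P p = c • p := by
  simp only [NonScalar, not_exists, not_forall, not_not] at h
  choose c hc using h
  rcases isEmpty_or_nonempty (Fin a) with he | ⟨⟨i⟩⟩
  · exact ⟨0, fun p => Subsingleton.elim _ _⟩
  refine ⟨c (Pi.single i 1), fun p => ?_⟩
  set e : Fin a → F := Pi.single i 1
  have he : e ≠ 0 := by simp [e]
  by_cases hp : ∃ t : F, p = t • e
  · obtain ⟨t, rfl⟩ := hp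
    rw [map_smul, hc e, smul_comm]
  · push Not at hp
    have h1 := hc (p + e)
    rw [map_add, hc p, hc e] at h1
    obtain ⟨θ, hθe, hθp⟩ := exists_perp_of_notMem hp
    obtain ⟨μ, hμp, hμe⟩ := exists_perp_of_notMem (indep_symm he hp)
    have a1 := congrArg (fun x => θ ⬝ᵥ x) h1
    have a2 := congrArg (fun x => μ ⬝ᵥ x) h1
    simp only [dotProduct_add, dotProduct_smul, smul_eq_mul, hθe, hθp, hμe, hμp, mul_zero, mul_one, add_zero,
      zero_add] at a1 a2
    rw [hc p, a1, ← a2]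

theorem nonScalar_of_kills {P : (Fin a → F) →ₗ[F] (Fin a → F)} {j u : Fin a → F} (hj : j ≠ 0) (hPj : P j = 0)
    (hu : P u ≠ 0) : NonScalar P := by
  by_contra h
  obtain ⟨c, hc⟩ := scalar_of_not_nonScalar h
  have hc0 : c = 0 := (smul_eq_zero.1 ((hc j).symm.trans hPj)).resolve_right hj
  exact hu (by rw [hc, hc0, zero_smul])

/-! ### Elements -/

open Classical in
/-- The element `1 + η` for a square-zero `η`. -/
noncomputable def el (η : V2 F a b →ₗ[F] V2 F a b) : GL (Fin a × Fin b) F :=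
  if h : LinearMap.toMatrix' η * LinearMap.toMatrix' η = 0 then
    ⟨1 + LinearMap.toMatrix' η, 1 - LinearMap.toMatrix' η,
      by rw [add_mul, mul_sub, mul_sub, h]; simp,
      by rw [sub_mul, mul_add, mul_add, h]; simp⟩
  else 1

theorem el_mulVec {η : V2 F a b →ₗ[F] V2 F a b} (h : ∀ x, η (η x) = 0) (x : V2 F a b) :
    (el η : Matrix (Fin a × Fin b) (Fin a × Fin b) F) *ᵥ x = x + η x := by
  classical
  have hz : LinearMap.toMatrix' η * LinearMap.toMatrix' η = 0 := by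
    rw [← LinearMap.toMatrix'_comp, show η ∘ₗ η = 0 from LinearMap.ext h, map_zero]
  rw [el, dif_pos hz]
  simp [add_mulVec, LinearMap.toMatrix'_mulVec]

/-- `z ↦ P(ν z) ⊗ s`. -/
def ten (P : (Fin a → F) →ₗ[F] (Fin a → F)) (ν s : Fin b → F) : V2 F a b →ₗ[F] V2 F a b :=
  pl s ∘ₗ P ∘ₗ C ν

theorem ten_apply (P : (Fin a → F) →ₗ[F] (Fin a → F)) (ν s : Fin b → F) (x : V2 F a b) :
    ten P ν s x = pl s (P (C ν x)) := rfl

theorem ten_sq (P : (Fin a → F) →ₗ[F] (Fin a → F)) {ν s : Fin b → F} (h : ν ⬝ᵥ s = 0) (x : V2 F a b) :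
    ten P ν s (ten P ν s x) = 0 := by
  rw [ten_apply, ten_apply, C_pl, h, zero_smul, map_zero, map_zero]

/-- `z ↦ p ⊗ (q z)`. -/
def tu (q p : Fin a → F) : V2 F a b →ₗ[F] V2 F a b := pr p ∘ₗ D q

theorem tu_apply (q p : Fin a → F) (x : V2 F a b) : (tu q p : V2 F a b →ₗ[F] V2 F a b) x = pr p (D q x) := rfl

theorem tu_sq {q p : Fin a → F} (h : q ⬝ᵥ p = 0) (x : V2 F a b) :
    (tu q p : V2 F a b →ₗ[F] V2 F a b) (tu q p x) = 0 := by
  rw [tu_apply, tu_apply, pr_eq p (D q x), D_pl, h, zero_smul, map_zero]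

/-- An overgroup of the tensor stabiliser. -/
structure Setting (H : Subgroup (GL (Fin a × Fin b) F)) : Prop where
  two_le : 2 ≤ a
  lt : a < b
  right : ∀ ν s : Fin b → F, ν ⬝ᵥ s = 0 → el (ten LinearMap.id ν s : V2 F a b →ₗ[F] V2 F a b) ∈ H
  left : ∀ q p : Fin a → F, q ⬝ᵥ p = 0 → el (tu q p : V2 F a b →ₗ[F] V2 F a b) ∈ H

/-- A non-scalar element in a root group of the stabiliser of a line. -/
def HasExtra (H : Subgroup (GL (Fin a × Fin b) F)) : Prop :=
  ∃ (P : (Fin a → F) →ₗ[F] (Fin a → F)) (ν s : Fin b → F),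
    NonScalar P ∧ ν ≠ 0 ∧ s ≠ 0 ∧ ν ⬝ᵥ s = 0 ∧ el (ten P ν s) ∈ H

variable {H : Subgroup (GL (Fin a × Fin b) F)}


theorem mem_of_swap {g h k : GL (Fin a × Fin b) F} (hg : g ∈ H) (hh : h ∈ H)
    (hk : g * h = k * (h * g)) : k ∈ H := by
  have : k = g * h * (h * g)⁻¹ := by rw [hk, mul_inv_cancel_right]
  rw [this]
  exact H.mul_mem (H.mul_mem hg hh) (H.inv_mem (H.mul_mem hh hg))

theorem mem_of_conj {g h k : GL (Fin a × Fin b) F} (hg : g ∈ H) (hh : h ∈ H) (hk : g * h = k * g) : k ∈ H := by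
  have : k = g * h * g⁻¹ := by rw [hk, mul_inv_cancel_right]
  rw [this]
  exact H.mul_mem (H.mul_mem hg hh) (H.inv_mem hg)

theorem conj_el_mulVec (g : GL (Fin a × Fin b) F) {η : V2 F a b →ₗ[F] V2 F a b} (h : ∀ x, η (η x) = 0)
    (x : V2 F a b) :
    ((g * el η * g⁻¹ : GL (Fin a × Fin b) F) : Matrix (Fin a × Fin b) (Fin a × Fin b) F) *ᵥ x =
      x + (g : Matrix (Fin a × Fin b) (Fin a × Fin b) F) *ᵥ
        η (((g⁻¹ : GL (Fin a × Fin b) F) : Matrix (Fin a × Fin b) (Fin a × Fin b) F) *ᵥ x) := by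
  rw [gl_mul_mulVec, gl_mul_mulVec, el_mulVec h, mulVec_add, gl_mulVec_inv_mulVec]

namespace Setting

variable (S : Setting H)
include S

theorem three_le : 3 ≤ b := by have := S.two_le; have := S.lt; omega

/-- Root elements fixing a line give an extra element. -/
theorem extra_of_primal {v : Fin b → F} (hv : v ≠ 0) {T : V2 F a b →ₗ[F] (Fin a → F)}
    (hT : ∀ u, T (pl v u) = 0) (hmem : el (pl v ∘ₗ T) ∈ H) {w : Fin b → F} (hP : NonScalar (T ∘ₗ pl w)) :
    HasExtra H := by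
  obtain ⟨ν, hν0, hνv, hνw⟩ := exists_perp_perp S.three_le v w
  refine ⟨T ∘ₗ pl w, ν, v, hP, hν0, hv, hνv, ?_⟩
  have hγ : ∀ x, (pl v ∘ₗ T) ((pl v ∘ₗ T) x) = 0 := fun x => by simp [hT]
  refine mem_of_swap hmem (S.right ν w hνw) (gl_ext fun x => ?_)
  simp only [gl_mul_mulVec, el_mulVec hγ, el_mulVec (ten_sq _ hνw), el_mulVec (ten_sq _ hνv),
    LinearMap.comp_apply, ten_apply, LinearMap.id_apply, map_add, C_pl, hνv, hνw, zero_smul, map_zero, add_zero]
  abel

/-- Elements of the dual kind give an extra element. -/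
theorem extra_of_dual {ψ : Fin b → F} {ι : (Fin a → F) →ₗ[F] V2 F a b} (hι : ∀ u, C ψ (ι u) = 0)
    (hmem : el (ι ∘ₗ C ψ) ∈ H) {θ : Fin b → F} (hP : NonScalar (C θ ∘ₗ ι)) (hψ : ψ ≠ 0) : HasExtra H := by
  obtain ⟨z, hz0, hzψ, hzθ⟩ := exists_perp_perp S.three_le ψ θ
  rw [dotProduct_comm] at hzψ hzθ
  refine ⟨C θ ∘ₗ ι, ψ, z, hP, hψ, hz0, hzψ, ?_⟩
  have hγ : ∀ x, (ι ∘ₗ C ψ) ((ι ∘ₗ C ψ) x) = 0 := fun x => by simp [hι]
  refine mem_of_swap (S.right θ z hzθ) hmem (gl_ext fun x => ?_)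
  simp only [gl_mul_mulVec, el_mulVec hγ, el_mulVec (ten_sq _ hzθ), el_mulVec (ten_sq _ hzψ),
    LinearMap.comp_apply, ten_apply, LinearMap.id_apply, map_add, C_pl, hι, hzψ, zero_smul, map_zero, add_zero]
  abel

/-- An element of small rank which acts on a line as a non-scalar gives an extra element. -/
theorem extra_of_stab {v : Fin b → F} (hv : v ≠ 0) {h : GL (Fin a × Fin b) F} (hh : h ∈ H)
    {X Y : (Fin a → F) →ₗ[F] (Fin a → F)}
    (hX : ∀ u, (h : M2 F a b) *ᵥ pl v u = pl v (X u))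
    (hY : ∀ u, ((h⁻¹ : GL (Fin a × Fin b) F) : M2 F a b) *ᵥ pl v u = pl v (Y u)) (hns : NonScalar Y)
    (hrank : finrank F (LinearMap.range
      (Matrix.mulVecLin (((h⁻¹ : GL (Fin a × Fin b) F) : M2 F a b) - 1))) ≤ a) :
    HasExtra H := by
  classical
  by_contra hno
  set hi : V2 F a b →ₗ[F] V2 F a b := Matrix.mulVecLin ((h⁻¹ : GL (Fin a × Fin b) F) : M2 F a b) with hhi
  have hXY : ∀ u, X (Y u) = u := fun u => by
    have h1 := gl_mulVec_inv_mulVec h (pl v u)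
    rw [hY, hX] at h1
    obtain ⟨θ, hθ⟩ := exists_dot_eq_one hv
    simpa [C_pl, hθ] using congrArg (C θ) h1
  have key : ∀ φ, φ ⬝ᵥ v = 0 → ∀ w, ∃ μ : F, ∀ u, C φ (hi (pl w u)) = μ • Y u := by
    intro φ hφ w
    set T : V2 F a b →ₗ[F] (Fin a → F) := X ∘ₗ C φ ∘ₗ hi with hT
    have hT0 : ∀ u, T (pl v u) = 0 := fun u => by simp [hT, hhi, hY, C_pl, hφ]
    have hmem : el (pl v ∘ₗ T) ∈ H := by
      refine mem_of_conj hh (S.right φ v hφ) (gl_ext fun x => ?_)
      rw [gl_mul_mulVec, gl_mul_mulVec, el_mulVec (ten_sq _ hφ), el_mulVec (fun x => by simp [hT0]),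
        mulVec_add, ten_apply, LinearMap.id_apply, hX]
      simp [hT, hhi, gl_inv_mulVec_mulVec]
    obtain ⟨μ, hμ⟩ := scalar_of_not_nonScalar fun hP => hno (S.extra_of_primal hv hT0 hmem (w := w) hP)
    refine ⟨μ, fun u => ?_⟩
    have h1 := hμ u
    simp only [hT, LinearMap.comp_apply] at h1
    have hYX : ∀ y, Y (X y) = y := fun y => by
      obtain ⟨y', rfl⟩ := (LinearMap.injective_iff_surjective.1 (fun p p' e => by
        rw [← hXY p, ← hXY p', e]) : Function.Surjective Y) y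
      rw [hXY]
    rw [← hYX (C φ _), h1, map_smul]
  obtain ⟨p, hp⟩ := hns
  set β : (Fin b → F) →ₗ[F] V2 F a b :=
    Matrix.mulVecLin (((h⁻¹ : GL (Fin a × Fin b) F) : M2 F a b) - 1) ∘ₗ pr p with hβ
  have hβa : ∀ w, β w = hi (pl w p) - pl w p := fun w => by simp [hβ, hhi, pr_eq, sub_mulVec]
  have hinj : Function.Injective β := by
    rw [← LinearMap.ker_eq_bot, Submodule.eq_bot_iff]
    intro w hw
    rw [LinearMap.mem_ker, hβa, sub_eq_zero] at hw
    have hwv : ∀ φ, φ ⬝ᵥ v = 0 → φ ⬝ᵥ w = 0 := by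
      intro φ hφ
      obtain ⟨μ, hμ⟩ := key φ hφ w
      have h1 := hμ p
      rw [hw, C_pl] at h1
      by_contra hne
      rcases eq_or_ne μ 0 with rfl | hμ0
      · rw [zero_smul, smul_eq_zero] at h1
        rcases h1 with h1 | h1
        · exact hne h1
        · exact hp 0 (by rw [h1, map_zero, zero_smul])
      · exact hp (μ⁻¹ * φ ⬝ᵥ w) (by rw [mul_smul, h1, smul_smul, inv_mul_cancel₀ hμ0, one_smul])
    obtain ⟨c, rfl⟩ : ∃ c : F, w = c • v := by
      by_contra hc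
      push Not at hc
      obtain ⟨φ, h1, h2⟩ := exists_perp_of_notMem hc
      exact one_ne_zero (h2.symm.trans (hwv φ h1))
    by_contra hc
    have hc0 : c ≠ 0 := fun e => hc (by rw [e, zero_smul])
    have e1 : pl (c • v) p = pl v (c • p) := by ext; simp [pl]; ring
    rw [e1, hhi, Matrix.mulVecLin_apply, hY, map_smul] at hw
    obtain ⟨θ, hθ⟩ := exists_dot_eq_one hv
    have h2 := congrArg (C θ) hw
    rw [C_pl, C_pl, hθ, one_smul, one_smul] at h2
    exact hp 1 (by rw [one_smul]; exact smul_right_injective _ hc0 h2)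
  have h1 := LinearMap.finrank_range_of_inj hinj
  have h2 := Submodule.finrank_mono (LinearMap.range_comp_le_range (pr p)
    (Matrix.mulVecLin (((h⁻¹ : GL (Fin a × Fin b) F) : M2 F a b) - 1)))
  rw [← hβ, h1, Module.finrank_fintype_fun_eq_card, Fintype.card_fin] at h2
  have := S.lt
  omega

omit S in
/-- The vectors of a line staying in it. -/
def K (g : GL (Fin a × Fin b) F) (v : Fin b → F) : Submodule F (Fin a → F) :=
  (L v).comap (Matrix.mulVecLin (g : M2 F a b) ∘ₗ pl v)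

omit S in
theorem mem_K {g : GL (Fin a × Fin b) F} {v : Fin b → F} {u : Fin a → F} :
    u ∈ K g v ↔ (g : M2 F a b) *ᵥ pl v u ∈ L v := Iff.rfl

omit S in
theorem K_inv_ne_bot {g : GL (Fin a × Fin b) F} {v : Fin b → F} (hv : v ≠ 0) (h : K g v ≠ ⊥) : K g⁻¹ v ≠ ⊥ := by
  obtain ⟨u, hu', hu⟩ := (Submodule.ne_bot_iff _).1 h
  obtain ⟨j, hj⟩ := mem_K.1 hu'
  have hj' : ((g⁻¹ : GL (Fin a × Fin b) F) : M2 F a b) *ᵥ pl v j = pl v u := by
    rw [hj]; simp
  refine (Submodule.ne_bot_iff _).2 ⟨j, by rw [mem_K, hj']; exact pl_mem_L _ _, ?_⟩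
  rintro rfl
  rw [map_zero, mulVec_zero] at hj'
  obtain ⟨θ, hθ⟩ := exists_dot_eq_one hv
  have := congrArg (C θ) hj'
  rw [map_zero, C_pl, hθ, one_smul] at this
  exact hu this.symm

/-- A conjugate of a root element of the right factor. -/
theorem conj_mem {g : GL (Fin a × Fin b) F} (hg : g ∈ H) {φ s : Fin b → F} (h : φ ⬝ᵥ s = 0) :
    g * el (ten LinearMap.id φ s : V2 F a b →ₗ[F] V2 F a b) * g⁻¹ ∈ H :=
  H.mul_mem (H.mul_mem hg (S.right φ s h)) (H.inv_mem hg)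

omit S in
theorem rank_conj_le (g : GL (Fin a × Fin b) F) {φ s : Fin b → F} (h : φ ⬝ᵥ s = 0) :
    finrank F (LinearMap.range (Matrix.mulVecLin
      (((g * el (ten LinearMap.id φ s : V2 F a b →ₗ[F] V2 F a b) * g⁻¹ : GL (Fin a × Fin b) F) :
        M2 F a b) - 1))) ≤ a := by
  have he : Matrix.mulVecLin (((g * el (ten LinearMap.id φ s : V2 F a b →ₗ[F] V2 F a b) * g⁻¹ :
      GL (Fin a × Fin b) F) : M2 F a b) - 1) =
      (Matrix.mulVecLin (g : M2 F a b) ∘ₗ pl s) ∘ₗ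
        (C φ ∘ₗ Matrix.mulVecLin ((g⁻¹ : GL (Fin a × Fin b) F) : M2 F a b)) := by
    refine LinearMap.ext fun x => ?_
    rw [Matrix.mulVecLin_apply, sub_mulVec, one_mulVec, conj_el_mulVec g (ten_sq _ h)]
    simp [ten_apply]
  rw [he]
  refine (Submodule.finrank_mono (LinearMap.range_comp_le_range _ _)).trans
    ((LinearMap.finrank_range_le _).trans ?_)
  rw [Module.finrank_fintype_fun_eq_card, Fintype.card_fin]

omit S in
theorem inv_conj_el (g : GL (Fin a × Fin b) F) {φ s : Fin b → F} (h : φ ⬝ᵥ s = 0) :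
    (g * el (ten LinearMap.id φ s : V2 F a b →ₗ[F] V2 F a b) * g⁻¹)⁻¹ =
      g * el (ten LinearMap.id (-φ) s : V2 F a b →ₗ[F] V2 F a b) * g⁻¹ := by
  have hn : (-φ) ⬝ᵥ s = 0 := by rw [neg_dotProduct, h, neg_zero]
  refine inv_eq_of_mul_eq_one_right (gl_ext fun x => ?_)
  rw [gl_mul_mulVec, conj_el_mulVec g (ten_sq _ h), conj_el_mulVec g (ten_sq _ hn)]
  simp only [ten_apply, LinearMap.id_apply, mulVec_add, gl_inv_mulVec_mulVec, map_add, C_pl, h, zero_smul,
    Units.val_one, one_mulVec]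
  have e : C (-φ) (((g⁻¹ : GL (Fin a × Fin b) F) : M2 F a b) *ᵥ x) =
      -C φ (((g⁻¹ : GL (Fin a × Fin b) F) : M2 F a b) *ᵥ x) := by
    simpa using C_smul (-1 : F) φ (((g⁻¹ : GL (Fin a × Fin b) F) : M2 F a b) *ᵥ x)
  simp only [e, map_neg, mulVec_neg, map_zero, mulVec_zero, add_zero]
  abel

/-- A moving line with a fixed part gives an extra element. -/
theorem extra_of_good [Fintype F] {g : GL (Fin a × Fin b) F} {v : Fin b → F} (hg : g ∈ H) (hK : K g v ≠ ⊥)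
    (hK' : K g v ≠ ⊤) : HasExtra H := by
  classical
  haveI : Fintype (GL (Fin a × Fin b) F) := Fintype.ofFinite _
  obtain ⟨⟨g₀, v₀⟩, hp, hmax⟩ := Finset.exists_max_image
    (Finset.univ.filter fun p : GL (Fin a × Fin b) F × (Fin b → F) =>
      p.1 ∈ H ∧ K p.1 p.2 ≠ ⊥ ∧ K p.1 p.2 ≠ ⊤)
    (fun p => finrank F (K p.1 p.2)) ⟨(g, v), by simp [hg, hK, hK']⟩
  simp only [Finset.mem_filter, Finset.mem_univ, true_and] at hp hmax
  clear hK hK' hg g v
  obtain ⟨hg, hK, hK'⟩ := hp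
  by_contra hno
  have hv : v₀ ≠ 0 := fun e => hK' (eq_top_iff.2 fun u _ => by
    have h0 : pl v₀ u = 0 := by ext; simp [pl, e]
    rw [mem_K, h0, mulVec_zero]; exact Submodule.zero_mem _)
  obtain ⟨θ, hθ⟩ := exists_dot_eq_one hv
  set gi := g₀⁻¹ with hgi
  -- the maps `u ↦ φ(g (u ⊗ v))` avoid the kept subspace
  have avoid : ∀ φ, φ ⬝ᵥ v₀ = 0 → ∀ u₀, u₀ ∉ K g₀ v₀ →
      C φ ((g₀ : M2 F a b) *ᵥ pl v₀ u₀) ∈ K gi v₀ → ∀ u, C φ ((g₀ : M2 F a b) *ᵥ pl v₀ u) = 0 := by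
    intro φ hφ u₀ hu₀ hJ
    set h := gi * el (ten LinearMap.id φ v₀ : V2 F a b →ₗ[F] V2 F a b) * gi⁻¹ with hdef
    have hh : h ∈ H := S.conj_mem (H.inv_mem hg) hφ
    have hhx : ∀ u, (h : M2 F a b) *ᵥ pl v₀ u =
        pl v₀ u + (gi : M2 F a b) *ᵥ pl v₀ (C φ ((g₀ : M2 F a b) *ᵥ pl v₀ u)) := fun u => by
      rw [hdef, conj_el_mulVec gi (ten_sq _ hφ), hgi, inv_inv, ten_apply, LinearMap.id_apply]
    have hmemK : ∀ u, u ∈ K h v₀ ↔ C φ ((g₀ : M2 F a b) *ᵥ pl v₀ u) ∈ K gi v₀ := fun u => by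
      rw [mem_K, mem_K, hhx, Submodule.add_mem_iff_right _ (pl_mem_L _ _)]
    have hle : K g₀ v₀ ≤ K h v₀ := fun u hu => by
      rw [hmemK, C_eq_zero_of_mem_L hφ (mem_K.1 hu)]; exact Submodule.zero_mem _
    have hlt : K g₀ v₀ < K h v₀ := lt_of_le_of_ne hle fun e => hu₀ (e ▸ (hmemK u₀).2 hJ)
    by_cases htop : K h v₀ = ⊤
    · -- the conjugate stabilises the line
      by_contra hne
      push Not at hne
      obtain ⟨u₁, hu₁⟩ := hne
      set X : (Fin a → F) →ₗ[F] (Fin a → F) := C θ ∘ₗ Matrix.mulVecLin (h : M2 F a b) ∘ₗ pl v₀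
      have hX : ∀ u, (h : M2 F a b) *ᵥ pl v₀ u = pl v₀ (X u) := fun u => by
        obtain ⟨y, hy⟩ := (mem_K.1 (htop ▸ Submodule.mem_top : u ∈ K h v₀))
        simp [X, ← hy, C_pl, hθ]
      set Q : (Fin a → F) →ₗ[F] (Fin a → F) :=
        C θ ∘ₗ Matrix.mulVecLin (gi : M2 F a b) ∘ₗ pl v₀ ∘ₗ C φ ∘ₗ
          Matrix.mulVecLin (g₀ : M2 F a b) ∘ₗ pl v₀ with hQ
      set Y : (Fin a → F) →ₗ[F] (Fin a → F) := LinearMap.id - Q with hYdef
      have hgQ : ∀ u, (gi : M2 F a b) *ᵥ pl v₀ (C φ ((g₀ : M2 F a b) *ᵥ pl v₀ u)) = pl v₀ (Q u) :=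
        fun u => by
          obtain ⟨y, hy⟩ := mem_K.1 ((hmemK u).1 (htop ▸ Submodule.mem_top))
          simp [hQ, ← hy, C_pl, hθ]
      have hY : ∀ u, ((h⁻¹ : GL (Fin a × Fin b) F) : M2 F a b) *ᵥ pl v₀ u = pl v₀ (Y u) := fun u => by
        have hn : (-φ) ⬝ᵥ v₀ = 0 := by rw [neg_dotProduct, hφ, neg_zero]
        rw [hdef, inv_conj_el gi hφ, conj_el_mulVec gi (ten_sq _ hn), hgi, inv_inv, ten_apply,
          LinearMap.id_apply]
        have e : C (-φ) ((g₀ : M2 F a b) *ᵥ pl v₀ u) = -C φ ((g₀ : M2 F a b) *ᵥ pl v₀ u) := by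
          simpa using C_smul (-1 : F) φ ((g₀ : M2 F a b) *ᵥ pl v₀ u)
        rw [e, map_neg, mulVec_neg, ← hgi, hgQ, hYdef, LinearMap.sub_apply, LinearMap.id_apply, map_sub]
        abel
      obtain ⟨j, hjK, hj⟩ := (Submodule.ne_bot_iff _).1 hK
      have hQj : Q j = 0 := by
        simp [hQ, C_eq_zero_of_mem_L hφ (mem_K.1 hjK)]
      have hQ1 : Q u₁ ≠ 0 := fun e => hu₁ (by
        have h1 := hgQ u₁
        rw [e, map_zero, ← mulVec_zero (gi : M2 F a b)] at h1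
        have h2 := congrArg (C θ) (gl_mulVec_injective gi h1)
        rwa [C_pl, hθ, one_smul, map_zero] at h2)
      have hns : NonScalar Y := by
        obtain ⟨p, hp⟩ := nonScalar_of_kills hj hQj hQ1
        exact ⟨p, fun c hc => hp (1 - c) (by
          rw [sub_smul, one_smul, ← hc, hYdef, LinearMap.sub_apply, LinearMap.id_apply, sub_sub_cancel])⟩
      refine hno (S.extra_of_stab hv hh hX hY hns ?_)
      rw [hdef, inv_conj_el gi hφ]
      exact rank_conj_le gi (by rw [neg_dotProduct, hφ, neg_zero])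
    · have := hmax (h, v₀) ⟨hh, ne_bot_of_gt hlt, htop⟩
      exact absurd (Submodule.finrank_lt_finrank_of_lt hlt) (not_lt.2 this)
  obtain ⟨u₀, -, hu₀⟩ := SetLike.exists_of_lt (lt_top_iff_ne_top.2 hK')
  -- a functional killing the whole image
  obtain ⟨j, hjJ, hj⟩ := (Submodule.ne_bot_iff _).1 (K_inv_ne_bot hv hK)
  let f₁ : (Fin b → F) →ₗ[F] F := (dotProductBilin F F).flip v₀
  let Rm : (Fin b → F) →ₗ[F] (Fin a → F) :=
    { toFun := fun φ => C φ ((g₀ : M2 F a b) *ᵥ pl v₀ u₀)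
      map_add' := fun φ ψ => C_add φ ψ _
      map_smul' := fun t φ => C_smul t φ _ }
  obtain ⟨φ, hφ, hφ0, hφR⟩ : ∃ φ, φ ⬝ᵥ v₀ = 0 ∧ φ ≠ 0 ∧ Rm φ = 0 := by
    by_contra hc
    push Not at hc
    set R' := Rm ∘ₗ (LinearMap.ker f₁).subtype with hR'
    have hi : Function.Injective R' := by
      rw [← LinearMap.ker_eq_bot, Submodule.eq_bot_iff]
      rintro ⟨φ, hφ⟩ h0
      by_contra hne
      exact hc φ (by simpa [f₁] using hφ) (fun e => hne (Subtype.ext e)) h0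
    have hjR : j ∉ LinearMap.range R' := by
      rintro ⟨⟨φ, hφ⟩, rfl⟩
      exact hj (avoid φ (by simpa [f₁] using hφ) u₀ hu₀ hjJ u₀)
    have h1 := LinearMap.finrank_range_of_inj hi
    have h2 := Submodule.finrank_lt (show LinearMap.range R' ≠ ⊤ from fun e => hjR (by rw [e]; exact Submodule.mem_top))
    have h3 := LinearMap.finrank_range_add_finrank_ker f₁
    have h4 := Submodule.finrank_le (LinearMap.range f₁)
    rw [Module.finrank_self] at h4
    rw [Module.finrank_fintype_fun_eq_card, Fintype.card_fin] at h2 h3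
    have := S.lt
    omega
  have hall := avoid φ hφ u₀ hu₀ (by
    show Rm φ ∈ K gi v₀
    rw [hφR]; exact Submodule.zero_mem _)
  -- the element with image in `g (U ⊗ v)`
  obtain ⟨φ', hφ', u₁, hu₁⟩ : ∃ φ', φ' ⬝ᵥ v₀ = 0 ∧ ∃ u, C φ' ((gi : M2 F a b) *ᵥ pl v₀ u) ≠ 0 := by
    by_contra hc
    push Not at hc
    apply hK'
    have hstab : ∀ u, (gi : M2 F a b) *ᵥ pl v₀ u = pl v₀ (C θ ((gi : M2 F a b) *ᵥ pl v₀ u)) := fun u => by
      refine sub_eq_zero.1 (eq_zero_of_C fun ψ => ?_)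
      rw [map_sub, C_pl, ← C_smul, ← C_sub]
      exact hc _ (by rw [sub_dotProduct, smul_dotProduct, hθ, smul_eq_mul, mul_one, sub_self]) u
    set Xi : (Fin a → F) →ₗ[F] (Fin a → F) := C θ ∘ₗ Matrix.mulVecLin (gi : M2 F a b) ∘ₗ pl v₀
    have hXi : Function.Injective Xi := fun x y e => by
      have h1 : (gi : M2 F a b) *ᵥ pl v₀ x = (gi : M2 F a b) *ᵥ pl v₀ y := by
        rw [hstab x, hstab y]; exact congrArg (pl v₀) e
      simpa [C_pl, hθ] using congrArg (C θ) (gl_mulVec_injective gi h1)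
    refine eq_top_iff.2 fun u _ => ?_
    obtain ⟨y, rfl⟩ := LinearMap.injective_iff_surjective.1 hXi u
    have h2 : Xi y = C θ ((gi : M2 F a b) *ᵥ pl v₀ y) := rfl
    rw [mem_K, h2, ← hstab, hgi, gl_mulVec_inv_mulVec]
    exact pl_mem_L _ _
  set h := g₀ * el (ten LinearMap.id φ' v₀ : V2 F a b →ₗ[F] V2 F a b) * g₀⁻¹ with hdef
  have hh : h ∈ H := S.conj_mem hg hφ'
  set β : V2 F a b →ₗ[F] V2 F a b := Matrix.mulVecLin (g₀ : M2 F a b) ∘ₗ pl v₀ ∘ₗ C φ' ∘ₗ
    Matrix.mulVecLin (gi : M2 F a b) with hβ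
  have hhx : ∀ x, (h : M2 F a b) *ᵥ x = x + β x := fun x => by
    rw [hdef, conj_el_mulVec g₀ (ten_sq _ hφ')]
    simp [hβ, hgi, ten_apply]
  have hββ : ∀ x, β (β x) = 0 := fun x => by simp [hβ, hgi, C_pl, hφ']
  have hCβ : ∀ x, C φ (β x) = 0 := fun x => hall _
  set ι : (Fin a → F) →ₗ[F] V2 F a b := β ∘ₗ pl v₀ with hι
  have hmem : el (ι ∘ₗ C φ) ∈ H := by
    refine mem_of_swap hh (S.right φ v₀ hφ) (gl_ext fun x => ?_)
    simp only [gl_mul_mulVec, hhx, el_mulVec (ten_sq _ hφ),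
      el_mulVec (η := (β ∘ₗ pl v₀) ∘ₗ C φ) (fun x => by simp [hCβ]),
      hι, LinearMap.comp_apply, ten_apply, LinearMap.id_apply, map_add, C_pl, hφ, hCβ, hββ, zero_smul, map_zero,
      add_zero]
    abel
  have hιu : ι u₁ ≠ 0 := fun e => hu₁ (by
    rw [hι, LinearMap.comp_apply, hβ, LinearMap.comp_apply, LinearMap.comp_apply, LinearMap.comp_apply,
      Matrix.mulVecLin_apply, Matrix.mulVecLin_apply, ← mulVec_zero (g₀ : M2 F a b)] at e
    have h2 := congrArg (C θ) (gl_mulVec_injective g₀ e)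
    rwa [C_pl, hθ, one_smul, map_zero] at h2)
  obtain ⟨ψ, hψ⟩ : ∃ ψ, C ψ (ι u₁) ≠ 0 := by
    by_contra hc; push Not at hc; exact hιu (eq_zero_of_C hc)
  have hj0 : C φ' ((gi : M2 F a b) *ᵥ pl v₀ j) = 0 := C_eq_zero_of_mem_L hφ' (mem_K.1 hjJ)
  have hιj : ι j = 0 := by
    simp [hι, hβ, hj0]
  exact hno (S.extra_of_dual (fun u => hCβ _) hmem (θ := ψ)
    (nonScalar_of_kills hj (by simp [hιj]) (by simpa using hψ)) hφ0)

/-- An element of small rank whose fixed part is a tensor hyperplane, or an extra element. -/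
theorem extra_or_special [Fintype F] {g : GL (Fin a × Fin b) F} (hg : g ∈ H) {φ s : Fin b → F}
    (hφs : φ ⬝ᵥ s = 0) (hφ : φ ≠ 0) (hs : s ≠ 0) :
    HasExtra H ∨ ∃ w, ∀ p, ∃ y, (g : M2 F a b) *ᵥ pl s p = pl w y := by
  classical
  refine or_iff_not_imp_left.2 fun hno => ?_
  set h := g * el (ten LinearMap.id φ s : V2 F a b →ₗ[F] V2 F a b) * g⁻¹ with hdef
  have hh : h ∈ H := S.conj_mem hg hφs
  set β : V2 F a b →ₗ[F] V2 F a b := Matrix.mulVecLin (g : M2 F a b) ∘ₗ pl s ∘ₗ C φ ∘ₗ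
    Matrix.mulVecLin ((g⁻¹ : GL (Fin a × Fin b) F) : M2 F a b) with hβ
  have hhx : ∀ x, (h : M2 F a b) *ᵥ x = x + β x := fun x => by
    rw [hdef, conj_el_mulVec g (ten_sq _ hφs)]
    simp [hβ, ten_apply]
  have hββ : ∀ x, β (β x) = 0 := fun x => by simp [hβ, C_pl, hφs]
  have hrk : finrank F (LinearMap.range β) ≤ a := by
    refine (Submodule.finrank_mono (LinearMap.range_comp_le_range
      (C φ ∘ₗ Matrix.mulVecLin ((g⁻¹ : GL (Fin a × Fin b) F) : M2 F a b))
      (Matrix.mulVecLin (g : M2 F a b) ∘ₗ pl s))).trans ((LinearMap.finrank_range_le _).trans ?_)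
    rw [Module.finrank_fintype_fun_eq_card, Fintype.card_fin]
  -- a fixed pure vector spreads over its line
  have spread : ∀ u v, u ≠ 0 → β (pl v u) = 0 → ∀ u', β (pl v u') = 0 := by
    intro u v hu huv u'
    rcases eq_or_ne v 0 with rfl | hv
    · simp [show pl (0 : Fin b → F) u' = 0 by ext; simp [pl]]
    obtain ⟨θ, hθ⟩ := exists_dot_eq_one hv
    have huK : u ∈ K h v := by rw [mem_K, hhx, huv, add_zero]; exact pl_mem_L _ _
    by_cases htop : K h v = ⊤
    · set Q : (Fin a → F) →ₗ[F] (Fin a → F) := C θ ∘ₗ β ∘ₗ pl v with hQ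
      have hβQ : ∀ x, β (pl v x) = pl v (Q x) := fun x => by
        have hx : (h : M2 F a b) *ᵥ pl v x ∈ L v := mem_K.1 (htop ▸ Submodule.mem_top)
        rw [hhx, Submodule.add_mem_iff_right _ (pl_mem_L _ _)] at hx
        obtain ⟨y, hy⟩ := hx
        simp [hQ, ← hy, C_pl, hθ]
      by_contra hne
      have hQu' : Q u' ≠ 0 := fun e => hne (by rw [hβQ, e, map_zero])
      have hQu : Q u = 0 := by simp [hQ, huv]
      have hhi : ∀ x, ((h⁻¹ : GL (Fin a × Fin b) F) : M2 F a b) *ᵥ x = x - β x := fun x => by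
        apply gl_mulVec_injective h
        simp only [gl_mulVec_inv_mulVec]
        rw [hhx, map_sub, hββ]
        abel
      refine hno (S.extra_of_stab hv hh (X := LinearMap.id + Q) (Y := LinearMap.id - Q)
        (fun x => by rw [hhx, hβQ, LinearMap.add_apply, LinearMap.id_apply, map_add])
        (fun x => by rw [hhi, hβQ, LinearMap.sub_apply, LinearMap.id_apply, map_sub]) ?_ ?_)
      · obtain ⟨p, hp⟩ := nonScalar_of_kills hu hQu hQu'
        exact ⟨p, fun c hc => hp (1 - c) (by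
          rw [sub_smul, one_smul, ← hc, LinearMap.sub_apply, LinearMap.id_apply, sub_sub_cancel])⟩
      · have he : Matrix.mulVecLin (((h⁻¹ : GL (Fin a × Fin b) F) : M2 F a b) - 1) = -β :=
          LinearMap.ext fun x => by simp [sub_mulVec, hhi]
        rw [he, LinearMap.range_neg]
        exact hrk
    · exact absurd (S.extra_of_good hh ((Submodule.ne_bot_iff _).2 ⟨u, huK, hu⟩) htop) hno
  -- some fixed pure vector
  have hab := S.lt
  have ha := S.two_le
  set e : Fin a → F := Pi.single ⟨0, by omega⟩ 1 with he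
  have he0 : e ≠ 0 := by simp [he]
  obtain ⟨w, hw0, hw⟩ : ∃ w, w ≠ 0 ∧ β (pl w e) = 0 := by
    have h1 := LinearMap.finrank_range_add_finrank_ker (β ∘ₗ pr e)
    have h2 := Submodule.finrank_mono (LinearMap.range_comp_le_range (pr e) β)
    rw [Module.finrank_fintype_fun_eq_card, Fintype.card_fin] at h1
    obtain ⟨w, hwk, hw0⟩ := (Submodule.ne_bot_iff (LinearMap.ker (β ∘ₗ pr e))).1 fun hbot => by
      rw [hbot, finrank_bot] at h1; omega
    exact ⟨w, hw0, by simpa [pr_eq] using hwk⟩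
  have hwall : ∀ u, β (pl w u) = 0 := spread e w he0 hw
  -- scalars
  have key : ∀ θ, θ ⬝ᵥ w = 0 → ∀ w', ∃ μ : F, ∀ u, C θ (β (pl w' u)) = μ • u := by
    intro θ hθ w'
    have hT : ∀ u, (C θ ∘ₗ β) (pl w u) = 0 := fun u => by simp [hwall]
    have hmem : el (pl w ∘ₗ (C θ ∘ₗ β)) ∈ H := by
      refine mem_of_swap (S.right θ w hθ) hh (gl_ext fun x => ?_)
      simp only [gl_mul_mulVec, hhx, el_mulVec (ten_sq _ hθ),
        el_mulVec (η := pl w ∘ₗ (C θ ∘ₗ β)) (fun x => by simp [hwall]),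
        LinearMap.comp_apply, ten_apply, LinearMap.id_apply, map_add, hwall, hββ, map_zero, add_zero]
      abel
    exact scalar_of_not_nonScalar fun hP => hno (S.extra_of_primal hw0 hT hmem (w := w') hP)
  -- a functional whose kernel spans fixed lines
  obtain ⟨ν, hν⟩ : ∃ ν : Fin b → F, ∀ u w', ν ⬝ᵥ w' = 0 → β (pl w' u) = 0 := by
    by_cases hall : ∀ θ, θ ⬝ᵥ w = 0 → ∀ x, C θ (β x) = 0
    · obtain ⟨θ₁, hθ₁⟩ := exists_dot_eq_one hw0
      have hβw : ∀ x, β x = pl w (C θ₁ (β x)) := fun x => by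
        refine sub_eq_zero.1 (eq_zero_of_C fun ψ => ?_)
        rw [map_sub, C_pl, ← C_smul, ← C_sub]
        exact hall _ (by rw [sub_dotProduct, smul_dotProduct, hθ₁, smul_eq_mul, mul_one, sub_self]) x
      have hsc : ∀ w', ∃ μ : F, ∀ u, C θ₁ (β (pl w' u)) = μ • u := by
        intro w'
        have hT : ∀ u, (C θ₁ ∘ₗ β) (pl w u) = 0 := fun u => by simp [hwall]
        have hmem : el (pl w ∘ₗ (C θ₁ ∘ₗ β)) ∈ H := by
          have e : pl w ∘ₗ (C θ₁ ∘ₗ β) = β := LinearMap.ext fun x => by simp [← hβw]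
          have e2 : h = el β := gl_ext fun x => by rw [hhx, el_mulVec hββ]
          rw [e, ← e2]
          exact hh
        exact scalar_of_not_nonScalar fun hP => hno (S.extra_of_primal hw0 hT hmem (w := w') hP)
      refine ⟨fun j => C θ₁ (β (pl (Pi.single j 1) e)) ⟨0, by omega⟩, fun u w' hw' => ?_⟩
      obtain ⟨μ, hμ⟩ := hsc w'
      have hlin : C θ₁ (β (pl w' e)) ⟨0, by omega⟩ = 0 := by
        rw [← hw', ← pr_eq]
        conv_lhs => rw [pi_eq_sum_univ' w']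
        simp [map_sum, map_smul, dotProduct, Finset.sum_apply, pr_eq, mul_comm]
      rw [hμ, Pi.smul_apply, he, Pi.single_eq_same, smul_eq_mul, mul_one] at hlin
      rw [hβw, hμ, hlin, zero_smul, map_zero]
    · push Not at hall
      obtain ⟨θ, hθ, x₀, hx₀⟩ := hall
      obtain ⟨w₀, hw₀⟩ : ∃ w₀, ∃ u, C θ (β (pl w₀ u)) ≠ 0 := by
        by_contra hc
        push Not at hc
        exact hx₀ (LinearMap.congr_fun (ext_pl (f := C θ ∘ₗ β) (g := 0) fun u w' => hc w' u) x₀)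
      obtain ⟨μ₀, hμ₀⟩ := key θ hθ w₀
      have hμ0 : μ₀ ≠ 0 := fun e => by
        obtain ⟨u, hu⟩ := hw₀; exact hu (by rw [hμ₀, e, zero_smul])
      have hsur : Function.Surjective ((C θ).comp (LinearMap.range β).subtype) := fun y =>
        ⟨⟨β (pl w₀ (μ₀⁻¹ • y)), LinearMap.mem_range_self _ _⟩, by
          show C θ (β (pl w₀ (μ₀⁻¹ • y))) = y
          rw [hμ₀, smul_smul, mul_inv_cancel₀ hμ0, one_smul]⟩
      have hinj : Function.Injective ((C θ).comp (LinearMap.range β).subtype) := by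
        rw [← LinearMap.ker_eq_bot]
        have h1 := LinearMap.finrank_range_add_finrank_ker ((C θ).comp (LinearMap.range β).subtype)
        rw [LinearMap.range_eq_top.2 hsur, finrank_top, Module.finrank_fintype_fun_eq_card, Fintype.card_fin] at h1
        exact Submodule.finrank_eq_zero.1 (by omega)
      refine ⟨fun j => C θ (β (pl (Pi.single j 1) e)) ⟨0, by omega⟩, fun u w' hw' => ?_⟩
      obtain ⟨μ, hμ⟩ := key θ hθ w'
      have hlin : C θ (β (pl w' e)) ⟨0, by omega⟩ = 0 := by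
        rw [← hw', ← pr_eq]
        conv_lhs => rw [pi_eq_sum_univ' w']
        simp [map_sum, map_smul, dotProduct, Finset.sum_apply, pr_eq, mul_comm]
      rw [hμ, Pi.smul_apply, he, Pi.single_eq_same, smul_eq_mul, mul_one] at hlin
      have h0 : (⟨β (pl w' u), LinearMap.mem_range_self _ _⟩ : LinearMap.range β) = 0 := hinj (by
        rw [map_zero]; show C θ (β (pl w' u)) = 0
        rw [hμ, hlin, zero_smul])
      exact congrArg Subtype.val h0
  have hν0 : ν ≠ 0 := by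
    rintro rfl
    have hβ0 : β = 0 := ext_pl fun u w' => hν u w' (zero_dotProduct _)
    obtain ⟨i, hi⟩ := Function.ne_iff.1 hs
    obtain ⟨θ, hθ⟩ := exists_dot_eq_one hs
    obtain ⟨t, ht⟩ := exists_dot_eq_one hφ
    rw [dotProduct_comm] at ht
    have h1 := LinearMap.congr_fun hβ0 ((g : M2 F a b) *ᵥ pl t e)
    simp only [hβ, LinearMap.comp_apply, Matrix.mulVecLin_apply, gl_inv_mulVec_mulVec, C_pl, ht, one_smul,
      LinearMap.zero_apply] at h1
    rw [← mulVec_zero (g : M2 F a b)] at h1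
    have h2 := congrArg (C θ) (gl_mulVec_injective g h1)
    rw [C_pl, hθ, one_smul, map_zero] at h2
    exact he0 h2
  obtain ⟨w₀, hw₀⟩ := exists_dot_eq_one hν0
  rw [dotProduct_comm] at hw₀
  set ι : (Fin a → F) →ₗ[F] V2 F a b := β ∘ₗ pl w₀ with hι
  have hβι : β = ι ∘ₗ C ν := ext_pl fun u w' => by
    show β (pl w' u) = β (pl w₀ (C ν (pl w' u)))
    rw [C_pl, map_smul, ← sub_eq_zero, ← map_sub]
    have : pl w' u - (ν ⬝ᵥ w') • pl w₀ u = pl (w' - (ν ⬝ᵥ w') • w₀) u := by ext; simp [pl]; ring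
    rw [this]
    exact hν u _ (by rw [dotProduct_sub, dotProduct_smul, hw₀, smul_eq_mul, mul_one, sub_self])
  have hsur : Function.Surjective fun x => C φ (((g⁻¹ : GL (Fin a × Fin b) F) : M2 F a b) *ᵥ x) := fun y => by
    obtain ⟨t, ht⟩ := exists_dot_eq_one hφ
    rw [dotProduct_comm] at ht
    exact ⟨(g : M2 F a b) *ᵥ pl t y, by simp [C_pl, ht]⟩
  have himg : ∀ p, ∃ y, (g : M2 F a b) *ᵥ pl s p = ι y := fun p => by
    obtain ⟨x, hx⟩ := hsur p
    refine ⟨C ν x, ?_⟩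
    have h1 : β x = ι (C ν x) := LinearMap.congr_fun hβι x
    rw [← h1, ← hx]
    rfl
  have hCι : ∀ u, C ν (ι u) = 0 := by
    intro u
    have hinj : Function.Injective ι := by
      have hs' : ∀ p, ∃ y, ι y = (g : M2 F a b) *ᵥ pl s p := fun p => (himg p).imp fun y h => h.symm
      choose σ hσ using hs'
      obtain ⟨θ, hθ⟩ := exists_dot_eq_one hs
      have hσi : Function.Injective σ := fun p p' e => by
        have h1 := hσ p
        rw [e, hσ p'] at h1
        simpa [C_pl, hθ] using congrArg (C θ) (gl_mulVec_injective g h1.symm)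
      intro y y' hyy
      obtain ⟨p, rfl⟩ := Finite.surjective_of_injective hσi y
      obtain ⟨p', rfl⟩ := Finite.surjective_of_injective hσi y'
      rw [hσ, hσ] at hyy
      rw [show p = p' by simpa [C_pl, hθ] using congrArg (C θ) (gl_mulVec_injective g hyy)]
    apply hinj
    have e : ∀ x, β x = ι (C ν x) := LinearMap.congr_fun hβι
    have h1 := hββ (pl w₀ u)
    rw [e, e, C_pl, hw₀, one_smul] at h1
    rw [map_zero]
    exact h1
  have e2 : h = el (ι ∘ₗ C ν) := gl_ext fun x => by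
    rw [hhx, el_mulVec (fun x => by simp [hCι]), ← hβι]
  have hsc : ∀ θ, ∃ c : F, ∀ u, C θ (ι u) = c • u := fun θ =>
    scalar_of_not_nonScalar fun hP => hno (S.extra_of_dual hCι (e2 ▸ hh) (θ := θ) hP hν0)
  choose c hc using hsc
  refine ⟨fun j => c (Pi.single j 1), fun p => ?_⟩
  obtain ⟨y, hy⟩ := himg p
  refine ⟨y, ?_⟩
  rw [hy, eq_sum (ι y)]
  ext ⟨i, j⟩
  simp [hc, pl, Pi.single_apply, Finset.sum_apply, mul_comm]

/-- An element moving the decomposition gives an extra element. -/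
theorem extra_or_tensor [Fintype F] {g : GL (Fin a × Fin b) F} (hg : g ∈ H) :
    HasExtra H ∨ ∃ (E : (Fin a → F) →ₗ[F] (Fin a → F)) (G : (Fin b → F) →ₗ[F] (Fin b → F)),
      Function.Injective E ∧ Function.Injective G ∧
      ∀ u w, (g : M2 F a b) *ᵥ pl w u = pl (G w) (E u) := by
  classical
  refine or_iff_not_imp_left.2 fun hno => ?_
  have hab := S.lt
  have ha := S.two_le
  have hw : ∀ z, z ≠ 0 → ∃ w, ∀ p, ∃ y, (g : M2 F a b) *ᵥ pl z p = pl w y := fun z hz => by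
    obtain ⟨φ, hφ0, hφz, -⟩ := exists_perp_perp S.three_le z z
    exact (S.extra_or_special hg hφz hφ0 hz).resolve_left hno
  choose! ω hω using hw
  set z₀ : Fin b → F := Pi.single ⟨0, by omega⟩ 1 with hz₀
  have hz₀0 : z₀ ≠ 0 := by simp [hz₀]
  have inj0 : ∀ {z : Fin b → F}, z ≠ 0 → ∀ {p : Fin a → F}, (g : M2 F a b) *ᵥ pl z p = 0 → p = 0 := by
    intro z hz p h0
    obtain ⟨θ, hθ⟩ := exists_dot_eq_one hz
    rw [← mulVec_zero (g : M2 F a b)] at h0
    simpa [C_pl, hθ] using congrArg (C θ) (gl_mulVec_injective g h0)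
  set e : Fin a → F := Pi.single ⟨0, by omega⟩ 1 with he
  have he0 : e ≠ 0 := by simp [he]
  have hω0 : ∀ z, z ≠ 0 → ω z ≠ 0 := fun z hz h0 => by
    obtain ⟨y, hy⟩ := hω z hz e
    exact he0 (inj0 hz (by rw [hy, h0]; ext; simp [pl]))
  -- the left component on each line
  have hE : ∀ z, z ≠ 0 → ∃ E : (Fin a → F) →ₗ[F] (Fin a → F), Function.Injective E ∧
      ∀ p, (g : M2 F a b) *ᵥ pl z p = pl (ω z) (E p) := fun z hz => by
    obtain ⟨θ, hθ⟩ := exists_dot_eq_one (hω0 z hz)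
    set E := C θ ∘ₗ Matrix.mulVecLin (g : M2 F a b) ∘ₗ pl z
    have hEp : ∀ p, (g : M2 F a b) *ᵥ pl z p = pl (ω z) (E p) := fun p => by
      obtain ⟨y, hy⟩ := hω z hz p
      simp [E, hy, C_pl, hθ]
    refine ⟨E, fun p p' h => sub_eq_zero.1 (inj0 hz ?_), hEp⟩
    rw [map_sub, mulVec_sub, hEp, hEp, h, sub_self]
  obtain ⟨E, hEi, hE0⟩ := hE z₀ hz₀0
  have hEs : Function.Surjective E := LinearMap.injective_iff_surjective.1 hEi
  have main : ∀ z, ∃ w, ∀ p, (g : M2 F a b) *ᵥ pl z p = pl w (E p) := by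
    intro z
    by_cases hd : ∃ c : F, z = c • z₀
    · obtain ⟨c, rfl⟩ := hd
      refine ⟨c • ω z₀, fun p => ?_⟩
      have e1 : pl (c • z₀) p = c • pl z₀ p := by ext; simp [pl]; ring
      rw [e1, mulVec_smul, hE0]
      ext; simp [pl]; ring
    push Not at hd
    have hz : z ≠ 0 := fun h => hd 0 (by rw [h, zero_smul])
    have hzz : z₀ + z ≠ 0 := fun h => hd (-1) (by rw [neg_one_smul]; exact eq_neg_of_add_eq_zero_right h)
    obtain ⟨E₁, hE₁i, hE₁⟩ := hE z hz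
    obtain ⟨E₂, hE₂i, hE₂⟩ := hE (z₀ + z) hzz
    have hwd : ∀ c : F, ω z ≠ c • ω z₀ := fun c hc => by
      obtain ⟨p₀, hp₀⟩ := hEs (c • E₁ e)
      have h1 : (g : M2 F a b) *ᵥ (pl z e - pl z₀ p₀) = 0 := by
        rw [mulVec_sub, hE₁, hE0, hp₀, hc]
        ext; simp [pl]; ring
      rw [← mulVec_zero (g : M2 F a b)] at h1
      have h2 := gl_mulVec_injective g h1
      rw [sub_eq_zero] at h2
      obtain ⟨θ, hθ, hθ'⟩ := exists_perp_of_notMem hd
      have h3 := congrArg (C θ) h2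
      rw [C_pl, C_pl, hθ, hθ', one_smul, zero_smul] at h3
      exact he0 h3
    have hsum : ∀ p, pl (ω z₀) (E p) + pl (ω z) (E₁ p) = pl (ω (z₀ + z)) (E₂ p) := fun p => by
      rw [← hE0, ← hE₁, ← hE₂, ← mulVec_add]
      congr 1
      ext; simp [pl]; ring
    obtain ⟨θ₁, h1a, h1b⟩ := exists_perp_of_notMem hwd
    obtain ⟨θ₀, h0a, h0b⟩ := exists_perp_of_notMem (indep_symm (hω0 z₀ hz₀0) hwd)
    have c1 : ∀ p, E₁ p = (θ₁ ⬝ᵥ ω (z₀ + z)) • E₂ p := fun p => by
      simpa [map_add, C_pl, h1a, h1b] using congrArg (C θ₁) (hsum p)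
    have c0 : ∀ p, E p = (θ₀ ⬝ᵥ ω (z₀ + z)) • E₂ p := fun p => by
      simpa [map_add, C_pl, h0a, h0b] using congrArg (C θ₀) (hsum p)
    have hne : θ₀ ⬝ᵥ ω (z₀ + z) ≠ 0 := fun h => he0 (hEi (by rw [c0, h, zero_smul, map_zero]))
    refine ⟨((θ₁ ⬝ᵥ ω (z₀ + z)) / (θ₀ ⬝ᵥ ω (z₀ + z))) • ω z, fun p => ?_⟩
    rw [hE₁, c1, c0]
    ext; simp [pl]; field_simp
  choose G₀ hG₀ using main
  obtain ⟨p, hp⟩ := hEs e
  obtain ⟨q, hq⟩ : ∃ q : Fin a → F, q ⬝ᵥ e = 1 := exists_dot_eq_one he0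
  set G : (Fin b → F) →ₗ[F] (Fin b → F) := D q ∘ₗ Matrix.mulVecLin (g : M2 F a b) ∘ₗ pr p with hG
  have hGz : ∀ z, G z = G₀ z := fun z => by simp [hG, pr_eq, hG₀, D_pl, hp, hq]
  refine ⟨E, G, hEi, ?_, fun u w => by rw [hGz]; exact hG₀ w u⟩
  rw [← LinearMap.ker_eq_bot, Submodule.eq_bot_iff]
  intro z hz
  rw [LinearMap.mem_ker, hGz] at hz
  by_contra hz0
  exact he0 (inj0 hz0 (by rw [hG₀, hz]; ext; simp [pl]))

/-- An extra element produces all transvections. -/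
theorem tv_mem_of_extra [Fintype F] (hex : ¬ (a = 2 ∧ Fintype.card F = 2)) (hx : HasExtra H) :
    Cfsg.Geo.specialLinear (Fin a × Fin b) F ≤ H := by
  classical
  obtain ⟨P, ν, s, hP, hν0, hs0, hνs, hmem⟩ := hx
  have hb := S.three_le
  -- all pairs of the right factor
  have stepW : ∀ (Q : (Fin a → F) →ₗ[F] (Fin a → F)) (μ t θ r : Fin b → F), μ ⬝ᵥ t = 0 → θ ⬝ᵥ r = 0 →
      el (ten Q μ t) ∈ H →
      el (ten Q (μ - (μ ⬝ᵥ r) • θ) (t + (θ ⬝ᵥ t) • r)) ∈ H := by
    intro Q μ t θ r hμt hθr hQ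
    have hz : (μ - (μ ⬝ᵥ r) • θ) ⬝ᵥ (t + (θ ⬝ᵥ t) • r) = 0 := by
      simp only [sub_dotProduct, dotProduct_add, smul_dotProduct, dotProduct_smul, smul_eq_mul, hμt, hθr]; ring
    refine mem_of_conj (S.right θ r hθr) hQ (gl_ext fun x => ?_)
    have hpl : ∀ (z z' : Fin b → F) (c : F) (u : Fin a → F), pl (z + c • z') u = pl z u + c • pl z' u := by
      intro z z' c u; ext; simp [pl]; ring
    simp only [gl_mul_mulVec, el_mulVec (ten_sq _ hθr), el_mulVec (ten_sq _ hμt), el_mulVec (ten_sq _ hz),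
      ten_apply, LinearMap.id_apply, map_add, C_pl, C_sub, C_smul, map_sub, map_smul, hμt, hθr, zero_smul,
      hpl, smul_add, smul_sub, sub_smul, add_smul, map_zero, smul_zero, sub_zero, add_zero, sub_dotProduct,
      smul_dotProduct, smul_eq_mul, mul_zero]
    module
  have hvec : ∀ (Q : (Fin a → F) →ₗ[F] (Fin a → F)) (μ t t' : Fin b → F), μ ≠ 0 → t ≠ 0 → μ ⬝ᵥ t = 0 →
      (∀ c : F, t' ≠ c • t) → el (ten Q μ t) ∈ H → ∃ μ', μ' ≠ 0 ∧ μ' ⬝ᵥ t' = 0 ∧ el (ten Q μ' t') ∈ H := by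
    intro Q μ t t' hμ0 ht hμt hind hQ
    obtain ⟨θ, hθt, hθt'⟩ := exists_dot_one_one ht hind
    have hθr : θ ⬝ᵥ (t' - t) = 0 := by rw [dotProduct_sub, hθt, hθt', sub_self]
    have h1 := stepW Q μ t θ (t' - t) hμt hθr hQ
    rw [hθt, one_smul, add_sub_cancel] at h1
    refine ⟨_, fun h0 => ?_, ?_, h1⟩
    · rw [sub_eq_zero] at h0
      have h2 := congrArg (fun y => y ⬝ᵥ t) h0
      simp only [smul_dotProduct, smul_eq_mul, hθt, mul_one, hμt] at h2
      rw [← h2, zero_smul] at h0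
      exact hμ0 h0
    · simp only [sub_dotProduct, smul_dotProduct, smul_eq_mul, hθt', mul_one, dotProduct_sub, hμt, sub_zero,
        sub_self]
  have hfun : ∀ (Q : (Fin a → F) →ₗ[F] (Fin a → F)) (μ μ' t : Fin b → F), μ ≠ 0 → μ ⬝ᵥ t = 0 → μ' ⬝ᵥ t = 0 →
      (∀ c : F, μ' ≠ c • μ) → el (ten Q μ t) ∈ H → el (ten Q μ' t) ∈ H := by
    intro Q μ μ' t hμ0 hμt hμ't hind hQ
    obtain ⟨r, hr, hr'⟩ := exists_dot_one_one hμ0 hind
    rw [dotProduct_comm] at hr hr'
    have h1 := stepW Q μ t (μ - μ') r hμt (by rw [sub_dotProduct, hr, hr', sub_self]) hQ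
    rwa [hr, one_smul, sub_sub_cancel, sub_dotProduct, hμt, hμ't, sub_zero, zero_smul, add_zero] at h1
  have hpairs : ∀ (Q : (Fin a → F) →ₗ[F] (Fin a → F)) (μ t μ' t' : Fin b → F), μ ≠ 0 → t ≠ 0 → μ ⬝ᵥ t = 0 →
      el (ten Q μ t) ∈ H → μ' ≠ 0 → t' ≠ 0 → μ' ⬝ᵥ t' = 0 → el (ten Q μ' t') ∈ H := by
    intro Q μ t μ' t' hμ0 ht hμt hQ hμ'0 ht' hμ't'
    obtain ⟨μ₂, hμ₂0, hμ₂t, hQ₂⟩ : ∃ μ₂, μ₂ ≠ 0 ∧ μ₂ ⬝ᵥ t' = 0 ∧ el (ten Q μ₂ t') ∈ H := by
      by_cases hd : ∀ c : F, t' ≠ c • t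
      · exact hvec Q μ t t' hμ0 ht hμt hd hQ
      push Not at hd
      obtain ⟨c, rfl⟩ := hd
      have hc : c ≠ 0 := fun e => ht' (by rw [e, zero_smul])
      obtain ⟨r, -, hr⟩ := exists_perp_notMem hb (0 : Fin b → F) t
      have hr0 : r ≠ 0 := fun e => hr 0 (by rw [e, zero_smul])
      obtain ⟨μ₁, h10, h1t, hQ1⟩ := hvec Q μ t r hμ0 ht hμt hr hQ
      exact hvec Q μ₁ r _ h10 hr0 h1t (fun d hd => by
        refine hr (d⁻¹ * c) ?_
        have hd0 : d ≠ 0 := fun e => ht' (by rw [hd, e, zero_smul])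
        rw [mul_smul, hd, smul_smul, inv_mul_cancel₀ hd0, one_smul]) hQ1
    by_cases hd : ∀ c : F, μ' ≠ c • μ₂
    · exact hfun Q μ₂ μ' t' hμ₂0 hμ₂t hμ't' hd hQ₂
    push Not at hd
    obtain ⟨c, rfl⟩ := hd
    obtain ⟨r, hr0, hr⟩ := exists_perp_notMem hb t' μ₂
    have h1 := hfun Q μ₂ r t' hμ₂0 hμ₂t hr0 hr hQ₂
    exact hfun Q r _ t' (fun e => hr 0 (by rw [e, zero_smul])) hr0 hμ't' (fun d hd => by
      refine hr (d⁻¹ * c) ?_
      have hd0 : d ≠ 0 := fun e => hμ'0 (by rw [hd, e, zero_smul])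
      rw [mul_smul, hd, smul_smul, inv_mul_cancel₀ hd0, one_smul]) h1
  -- the space of left components
  let 𝔓 : Submodule F ((Fin a → F) →ₗ[F] (Fin a → F)) :=
    { carrier := {Q | ∀ μ t, μ ≠ 0 → t ≠ 0 → μ ⬝ᵥ t = 0 → el (ten Q μ t) ∈ H}
      add_mem' := by
        intro Q Q' hQ hQ' μ t hμ ht hμt
        refine (show el (ten (Q + Q') μ t) = el (ten Q μ t) * el (ten Q' μ t) from gl_ext fun x => ?_) ▸
          H.mul_mem (hQ μ t hμ ht hμt) (hQ' μ t hμ ht hμt)
        simp only [gl_mul_mulVec, el_mulVec (ten_sq _ hμt), ten_apply, map_add, C_pl, hμt, zero_smul, map_zero,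
          LinearMap.add_apply, add_zero]
        abel
      zero_mem' := by
        intro μ t _ _ hμt
        rw [show el (ten (0 : (Fin a → F) →ₗ[F] (Fin a → F)) μ t) = 1 from gl_ext fun x => by
          rw [el_mulVec (ten_sq _ hμt)]; simp [ten_apply]]
        exact H.one_mem
      smul_mem' := by
        intro c Q hQ μ t hμ ht hμt
        rcases eq_or_ne c 0 with rfl | hc
        · rw [show el (ten ((0 : F) • Q) μ t) = 1 from gl_ext fun x => by
            rw [el_mulVec (ten_sq _ hμt)]; simp [ten_apply]]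
          exact H.one_mem
        rw [show el (ten (c • Q) μ t) = el (ten Q (c • μ) t) from gl_ext fun x => by
          rw [el_mulVec (ten_sq _ hμt), el_mulVec (ten_sq _ (by rw [smul_dotProduct, hμt, smul_zero]))]
          simp [ten_apply, C_smul]]
        exact hQ _ t (smul_ne_zero hc hμ) ht (by rw [smul_dotProduct, hμt, smul_zero]) }
  have hP𝔓 : P ∈ 𝔓 := fun μ t hμ ht hμt => hpairs P ν s μ t hν0 hs0 hνs hmem hμ ht hμt
  let R : (Fin a → F) → (Fin a → F) → ((Fin a → F) →ₗ[F] (Fin a → F)) :=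
    fun q p => LinearMap.smulRight (dotProductBilin F F q) p
  have hR : ∀ q p u, R q p u = (q ⬝ᵥ u) • p := fun q p u => rfl
  -- invariance under the left factor
  have hconj : ∀ Q ∈ 𝔓, ∀ q p : Fin a → F, q ⬝ᵥ p = 0 →
      (LinearMap.id + R q p) ∘ₗ Q ∘ₗ (LinearMap.id - R q p) ∈ 𝔓 := by
    intro Q hQ q p hqp μ t hμ ht hμt
    refine mem_of_conj (S.left q p hqp) (hQ μ t hμ ht hμt) (gl_ext fun x => ?_)
    have hC : ∀ y : V2 F a b, C μ (tu q p y) = (q ⬝ᵥ C μ y) • p := fun y => by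
      rw [tu_apply, pr_eq, C_pl]
      congr 1
      simp only [D, C, LinearMap.coe_mk, AddHom.coe_mk, dotProduct, Finset.mul_sum, Finset.sum_mul]
      rw [Finset.sum_comm]
      exact Finset.sum_congr rfl fun i _ => Finset.sum_congr rfl fun j _ => by ring
    have hplp : ∀ (c : F) (z : Fin b → F) (u : Fin a → F), pl (c • z) u = c • pl z u := by
      intro c z u; ext; simp [pl]; ring
    have htu : ∀ y, (tu q p : V2 F a b →ₗ[F] V2 F a b) (pl t y) = pl t ((q ⬝ᵥ y) • p) := fun y => by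
      rw [tu_apply, pr_eq, D_pl, hplp, map_smul]
    simp only [gl_mul_mulVec, el_mulVec (tu_sq hqp), el_mulVec (ten_sq _ hμt), ten_apply, map_add, map_sub,
      htu, hC, LinearMap.comp_apply, LinearMap.add_apply, LinearMap.sub_apply, LinearMap.id_apply, hR,
      map_smul, hqp, smul_zero, zero_smul, map_zero, add_zero, sub_zero, smul_add, add_smul, dotProduct_add,
      dotProduct_sub, dotProduct_smul, smul_eq_mul]
    module
  have hD : ∀ Q ∈ 𝔓, ∀ q p : Fin a → F, q ⬝ᵥ p = 0 →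
      (LinearMap.id + R q p) ∘ₗ Q ∘ₗ (LinearMap.id - R q p) - Q ∈ 𝔓 :=
    fun Q hQ q p h => 𝔓.sub_mem (hconj Q hQ q p h) hQ
  -- a rank one map
  obtain ⟨q₁, p₁, hq₁, hp₁, hqp₁, hR₁⟩ : ∃ q p, q ≠ 0 ∧ p ≠ 0 ∧ q ⬝ᵥ p = 0 ∧ R q p ∈ 𝔓 := by
    obtain ⟨p, hp⟩ := hP
    obtain ⟨q, hqp, hqP⟩ := exists_perp_of_notMem hp
    have hp0 : p ≠ 0 := fun e => hp 0 (by rw [e, map_zero, zero_smul])
    have hq0 : q ≠ 0 := fun e => by rw [e, zero_dotProduct] at hqP; exact zero_ne_one hqP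
    rcases Nat.lt_or_ge a 3 with ha | ha
    · obtain ⟨t, ht0, ht1⟩ : ∃ t : F, t ≠ 0 ∧ t ≠ 1 := by
        have hF : 2 < Fintype.card F := by
          have h2 : 1 < Fintype.card F := Fintype.one_lt_card
          have : a = 2 := by have := S.two_le; omega
          have : Fintype.card F ≠ 2 := fun e => hex ⟨this, e⟩
          omega
        obtain ⟨t, -, ht'⟩ := Finset.exists_mem_notMem_of_card_lt_card
          (s := ({0, 1} : Finset F)) (t := Finset.univ)
          (lt_of_le_of_lt Finset.card_le_two (by rwa [Finset.card_univ]))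
        simp only [Finset.mem_insert, Finset.mem_singleton, not_or] at ht'
        exact ⟨t, ht'.1, ht'.2⟩
      refine ⟨q, p, hq0, hp0, hqp, ?_⟩
      have h1 := hD P hP𝔓 q p hqp
      have h2 := hD P hP𝔓 (t • q) p (by rw [smul_dotProduct, hqp, smul_zero])
      have h3 := 𝔓.smul_mem (t - t * t)⁻¹ (𝔓.sub_mem h2 (𝔓.smul_mem t h1))
      convert h3 using 1
      have htt : t - t * t ≠ 0 := by
        rw [show t - t * t = t * (1 - t) by ring]; exact mul_ne_zero ht0 (sub_ne_zero.2 (Ne.symm ht1))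
      refine LinearMap.ext fun u => ?_
      simp only [LinearMap.smul_apply, LinearMap.sub_apply, LinearMap.comp_apply, LinearMap.add_apply,
        LinearMap.id_apply, hR, map_sub, map_smul, smul_dotProduct, dotProduct_sub, dotProduct_smul, smul_eq_mul,
        hqP, mul_one]
      match_scalars <;> field_simp <;> ring
    · let f : (Fin a → F) →ₗ[F] F × F :=
        ((dotProductBilin F F).flip p).prod ((dotProductBilin F F).flip (P p))
      obtain ⟨q', hq', hq'0⟩ := (Submodule.ne_bot_iff _).1 (LinearMap.ker_ne_bot_of_finrank_lt (f := f)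
        (by rw [Module.finrank_prod, Module.finrank_self, Module.finrank_fintype_fun_eq_card, Fintype.card_fin]
            omega))
      rw [LinearMap.mem_ker] at hq'
      have hq'p : q' ⬝ᵥ p = 0 := by simpa [f] using congrArg Prod.fst hq'
      have hq'P : q' ⬝ᵥ P p = 0 := by simpa [f] using congrArg Prod.snd hq'
      refine ⟨q', p, hq'0, hp0, hq'p, ?_⟩
      have h3 := 𝔓.neg_mem (hD _ (hD P hP𝔓 q p hqp) q' p hq'p)
      convert h3 using 1
      refine LinearMap.ext fun u => ?_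
      simp only [LinearMap.neg_apply, LinearMap.sub_apply, LinearMap.comp_apply, LinearMap.add_apply,
        LinearMap.id_apply, hR, map_sub, map_add, map_smul, dotProduct_sub, dotProduct_add, dotProduct_smul,
        smul_eq_mul, hqP, hq'P, hqp, hq'p, mul_zero, mul_one, zero_smul, sub_zero, add_zero, zero_add]
      module
  -- all rank one maps of square zero
  have stepU : ∀ q p θ r : Fin a → F, q ⬝ᵥ p = 0 → θ ⬝ᵥ r = 0 → R q p ∈ 𝔓 →
      R (q - (q ⬝ᵥ r) • θ) (p + (θ ⬝ᵥ p) • r) ∈ 𝔓 := by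
    intro q p θ r hqp hθr hQ
    convert hconj _ hQ θ r hθr using 1
    refine LinearMap.ext fun u => ?_
    simp only [hR, LinearMap.comp_apply, LinearMap.add_apply, LinearMap.sub_apply, LinearMap.id_apply,
      dotProduct_sub, dotProduct_smul, sub_dotProduct, smul_dotProduct, smul_eq_mul]
    module
  have hRall : ∀ q p : Fin a → F, q ⬝ᵥ p = 0 → R q p ∈ 𝔓 := by
    intro q p hqp
    rcases eq_or_ne p 0 with rfl | hp
    · convert 𝔓.zero_mem using 1; exact LinearMap.ext fun u => by simp [hR]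
    obtain ⟨q₂, hq₂, hq₂p, hR₂⟩ : ∃ q₂, q₂ ≠ 0 ∧ q₂ ⬝ᵥ p = 0 ∧ R q₂ p ∈ 𝔓 := by
      by_cases hd : ∀ c : F, p ≠ c • p₁
      · obtain ⟨θ, hθ1, hθ2⟩ := exists_dot_one_one hp₁ hd
        have hθr : θ ⬝ᵥ (p - p₁) = 0 := by rw [dotProduct_sub, hθ1, hθ2, sub_self]
        have h1 := stepU q₁ p₁ θ (p - p₁) hqp₁ hθr hR₁
        rw [hθ1, one_smul, add_sub_cancel] at h1
        refine ⟨_, fun h0 => ?_, ?_, h1⟩
        · rw [sub_eq_zero] at h0
          have h2 := congrArg (fun y => y ⬝ᵥ p₁) h0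
          simp only [smul_dotProduct, smul_eq_mul, hθ1, mul_one, hqp₁] at h2
          rw [← h2, zero_smul] at h0
          exact hq₁ h0
        · simp only [sub_dotProduct, smul_dotProduct, smul_eq_mul, hθ2, mul_one, dotProduct_sub, hqp₁, sub_zero,
            sub_self]
      · push Not at hd
        obtain ⟨c, rfl⟩ := hd
        refine ⟨q₁, hq₁, by rw [dotProduct_smul, hqp₁, smul_zero], ?_⟩
        convert 𝔓.smul_mem c hR₁ using 1
        exact LinearMap.ext fun u => by simp [hR, smul_comm c]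
    by_cases hd : ∀ c : F, q ≠ c • q₂
    · obtain ⟨r, hr, hr'⟩ := exists_dot_one_one hq₂ hd
      rw [dotProduct_comm] at hr hr'
      have h1 := stepU q₂ p (q₂ - q) r hq₂p (by rw [sub_dotProduct, hr, hr', sub_self]) hR₂
      rwa [hr, one_smul, sub_sub_cancel, sub_dotProduct, hq₂p, hqp, sub_zero, zero_smul, add_zero] at h1
    · push Not at hd
      obtain ⟨c, rfl⟩ := hd
      convert 𝔓.smul_mem c hR₂ using 1
      exact LinearMap.ext fun u => by simp [hR, smul_smul]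
  -- pure transvections
  have hA : ∀ (p q : Fin a → F) (z μ : Fin b → F), q ⬝ᵥ p = 0 → μ ⬝ᵥ z = 0 → tv (pl z p) (pl μ q) ∈ H := by
    intro p q z μ hqp hμz
    have hdot : pl μ q ⬝ᵥ pl z p = 0 := by
      simp only [dotProduct, pl, LinearMap.coe_mk, AddHom.coe_mk, Fintype.sum_prod_type]
      have : (∑ i, ∑ j, q i * μ j * (p i * z j)) = (q ⬝ᵥ p) * (μ ⬝ᵥ z) := by
        simp only [dotProduct, Finset.sum_mul_sum]
        exact Finset.sum_congr rfl fun i _ => Finset.sum_congr rfl fun j _ => by ring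
      rw [this, hqp, zero_mul]
    rcases eq_or_ne z 0 with rfl | hz
    · rw [show pl (0 : Fin b → F) p = 0 by ext; simp [pl], tv_zero_left]; exact H.one_mem
    rcases eq_or_ne μ 0 with rfl | hμ
    · rw [show tv (pl z p) (pl (0 : Fin b → F) q) = 1 from gl_ext fun x => by
        rw [tv_mulVec hdot]; simp [show pl (0 : Fin b → F) q = 0 by ext; simp [pl]]]
      exact H.one_mem
    have h := hRall q p hqp μ z hμ hz hμz
    convert h using 1
    refine gl_ext fun x => ?_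
    rw [tv_mulVec hdot, el_mulVec (ten_sq _ hμz), ten_apply, hR, map_smul]
    congr 2
    simp only [dotProduct, C, pl, LinearMap.coe_mk, AddHom.coe_mk, Fintype.sum_prod_type, Finset.mul_sum]
    exact Finset.sum_congr rfl fun i _ => Finset.sum_congr rfl fun j _ => by ring
  have pure_dot : ∀ (p q : Fin a → F) (z μ : Fin b → F), pl μ q ⬝ᵥ pl z p = (q ⬝ᵥ p) * (μ ⬝ᵥ z) := by
    intro p q z μ
    simp only [dotProduct, pl, LinearMap.coe_mk, AddHom.coe_mk, Fintype.sum_prod_type, Finset.sum_mul_sum]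
    exact Finset.sum_congr rfl fun i _ => Finset.sum_congr rfl fun j _ => by ring
  -- commutators of pure transvections
  have hcomm : ∀ v φ w ψ : Fin a × Fin b → F, φ ⬝ᵥ v = 0 → ψ ⬝ᵥ w = 0 → ψ ⬝ᵥ v = 0 → φ ⬝ᵥ w = 1 →
      tv v φ ∈ H → tv w ψ ∈ H → tv v ψ ∈ H := by
    intro v φ w ψ h1 h2 h3 h4 hv hw
    refine mem_of_swap hv hw (gl_ext fun x => ?_)
    simp only [gl_mul_mulVec, tv_mulVec h1, tv_mulVec h2, tv_mulVec h3, dotProduct_add, dotProduct_smul,
      smul_eq_mul, h1, h2, h3, h4, mul_zero, mul_one, add_zero]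
    module
  have case1 : ∀ (p q : Fin a → F) (z μ : Fin b → F), μ ⬝ᵥ z = 0 → tv (pl z p) (pl μ q) ∈ H := by
    intro p q z μ hμz
    by_cases hqp : q ⬝ᵥ p = 0
    · exact hA p q z μ hqp hμz
    obtain ⟨q₀, hq₀0, hq₀p⟩ := exists_perp S.two_le p
    obtain ⟨p', hp'q, hp'0⟩ := exists_perp_of_notMem (x := q) (y := q₀) fun c hc => by
      rw [hc, smul_dotProduct, smul_eq_mul] at hq₀p
      rcases mul_eq_zero.1 hq₀p with h | h
      · exact hq₀0 (by rw [hc, h, zero_smul])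
      · exact hqp h
    obtain ⟨ν', hν'z, hind⟩ := exists_perp_notMem hb z μ
    obtain ⟨z', hz'μ, hz'ν⟩ := exists_perp_of_notMem hind
    rw [dotProduct_comm] at hp'q hp'0 hz'μ hz'ν
    exact hcomm (pl z p) (pl ν' q₀) (pl z' p') (pl μ q) (by rw [pure_dot, hν'z, mul_zero])
      (by rw [pure_dot, hz'μ, mul_zero]) (by rw [pure_dot, hμz, mul_zero])
      (by rw [pure_dot, hp'0, hz'ν, one_mul]) (hA p q₀ z ν' hq₀p hν'z) (hA p' q z' μ hp'q hz'μ)
  have hpure : ∀ (p q : Fin a → F) (z μ : Fin b → F), (q ⬝ᵥ p) * (μ ⬝ᵥ z) = 0 →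
      tv (pl z p) (pl μ q) ∈ H := by
    intro p q z μ h
    by_cases hμz : μ ⬝ᵥ z = 0
    · exact case1 p q z μ hμz
    have hqp : q ⬝ᵥ p = 0 := (mul_eq_zero.1 h).resolve_right hμz
    obtain ⟨ν', hν'0, hν'z, -⟩ := exists_perp_perp hb z z
    obtain ⟨q₀, hq₀⟩ := exists_indep S.two_le q
    obtain ⟨p', hp'q, hp'0⟩ := exists_perp_of_notMem hq₀
    obtain ⟨z', hz'μ, hz'ν⟩ := exists_perp_of_notMem (x := μ) (y := ν') fun c hc => by
      rw [hc, smul_dotProduct, smul_eq_mul] at hν'z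
      rcases mul_eq_zero.1 hν'z with h | h
      · exact hν'0 (by rw [hc, h, zero_smul])
      · exact hμz h
    rw [dotProduct_comm] at hp'q hp'0 hz'μ hz'ν
    exact hcomm (pl z p) (pl ν' q₀) (pl z' p') (pl μ q) (by rw [pure_dot, hν'z, mul_zero])
      (by rw [pure_dot, hz'μ, mul_zero]) (by rw [pure_dot, hqp, zero_mul])
      (by rw [pure_dot, hp'0, hz'ν, one_mul]) (case1 p q₀ z ν' hν'z) (hA p' q z' μ hp'q hz'μ)
  -- all pure axes are full
  have hfull : ∀ (q : Fin a → F) (μ : Fin b → F), pl μ q ∈ fullAxes H := by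
    intro q μ
    rcases eq_or_ne q 0 with rfl | hq
    · rw [map_zero]; exact Submodule.zero_mem _
    rcases eq_or_ne μ 0 with rfl | hμ
    · rw [show pl (0 : Fin b → F) q = 0 by ext; simp [pl]]; exact Submodule.zero_mem _
    rw [mem_fullAxes]
    intro v hv
    obtain ⟨p₀, hp₀⟩ := exists_dot_eq_one hq
    rw [dotProduct_comm] at hp₀
    let good : Submodule F (V2 F a b) :=
      { carrier := {x | pl μ q ⬝ᵥ x = 0 ∧ ∀ c : F, tv (c • x) (pl μ q) ∈ H}
        add_mem' := fun {x y} hx hy => ⟨by rw [dotProduct_add, hx.1, hy.1, add_zero], fun c => by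
          rw [smul_add, ← tv_mul_tv_left (by rw [dotProduct_smul, hx.1, smul_zero])
            (by rw [dotProduct_smul, hy.1, smul_zero])]
          exact H.mul_mem (hx.2 c) (hy.2 c)⟩
        zero_mem' := ⟨dotProduct_zero _, fun c => by rw [smul_zero, tv_zero_left]; exact H.one_mem⟩
        smul_mem' := fun t x hx => ⟨by rw [dotProduct_smul, hx.1, smul_zero], fun c => by
          rw [smul_smul]; exact hx.2 _⟩ }
    have hgood : ∀ (p : Fin a → F) (z : Fin b → F), (q ⬝ᵥ p) * (μ ⬝ᵥ z) = 0 → pl z p ∈ good :=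
      fun p z h => ⟨by rw [pure_dot, h], fun c => by
        rw [← map_smul]
        exact hpure _ q z μ (by rw [dotProduct_smul, smul_eq_mul, mul_assoc, h, mul_zero])⟩
    have hdec : v = (∑ j, pl (Pi.single j 1) (C (Pi.single j 1) v - (q ⬝ᵥ C (Pi.single j 1) v) • p₀)) +
        pl (D q v) p₀ := by
      ext ⟨i, j⟩
      simp [pl, C, D, Finset.sum_apply, Pi.single_apply, dotProduct, mul_comm]
    have hμD : μ ⬝ᵥ D q v = 0 := by
      rw [← hv]
      simp only [dotProduct, D, pl, LinearMap.coe_mk, AddHom.coe_mk, Fintype.sum_prod_type, Finset.mul_sum]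
      rw [Finset.sum_comm]
      exact Finset.sum_congr rfl fun i _ => Finset.sum_congr rfl fun j _ => by ring
    have hvg : v ∈ good := by
      rw [hdec]
      refine Submodule.add_mem _ (Submodule.sum_mem _ fun j _ => hgood _ _ ?_) (hgood _ _ ?_)
      · rw [dotProduct_sub, dotProduct_smul, hp₀, smul_eq_mul, mul_one, sub_self, zero_mul]
      · rw [hμD, mul_zero]
    simpa using hvg.2 1
  refine specialLinear_le_of_fullAxes_eq_top (eq_top_iff.2 fun φ _ => ?_)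
  rw [eq_sum φ]
  exact Submodule.sum_mem _ fun j _ => hfull _ _

end Setting

/-! ### The stabiliser -/

theorem kronecker_mulVec_pl (A : Matrix (Fin a) (Fin a) F) (B : Matrix (Fin b) (Fin b) F) (u : Fin a → F)
    (w : Fin b → F) : (A ⊗ₖ B) *ᵥ pl w u = pl (B *ᵥ w) (A *ᵥ u) := by
  funext ⟨i, j⟩
  simp only [Matrix.mulVec, dotProduct, pl, LinearMap.coe_mk, AddHom.coe_mk, Fintype.sum_prod_type,
    Matrix.kroneckerMap_apply, Finset.sum_mul_sum]
  exact Finset.sum_congr rfl fun c _ => Finset.sum_congr rfl fun d _ => by ring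

theorem mat_ext {M N : Matrix (Fin a × Fin b) (Fin a × Fin b) F} (h : ∀ u w, M *ᵥ pl w u = N *ᵥ pl w u) :
    M = N :=
  Matrix.ext_of_mulVec_single fun _ =>
    LinearMap.congr_fun (ext_pl (f := Matrix.mulVecLin M) (g := Matrix.mulVecLin N) h) _

theorem el_right_mem {ν s : Fin b → F} (h : ν ⬝ᵥ s = 0) :
    el (ten LinearMap.id ν s : V2 F a b →ₗ[F] V2 F a b) ∈
      Cfsg.Geo.kroneckerSubgroup a b F ⊓ Cfsg.Geo.specialLinear (Fin a × Fin b) F := by
  have he : ((el (ten LinearMap.id ν s : V2 F a b →ₗ[F] V2 F a b) : GL (Fin a × Fin b) F) :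
      Matrix (Fin a × Fin b) (Fin a × Fin b) F) =
      (1 : Matrix (Fin a) (Fin a) F) ⊗ₖ (tv s ν : Matrix (Fin b) (Fin b) F) := mat_ext fun u w => by
    rw [el_mulVec (ten_sq _ h), kronecker_mulVec_pl, one_mulVec, tv_mulVec h, ten_apply, C_pl,
      LinearMap.id_apply]
    ext
    simp [pl]
    ring
  refine ⟨⟨1, tv s ν, by rw [he, Units.val_one]⟩, ?_⟩
  show el _ ∈ Cfsg.Geo.specialLinear (Fin a × Fin b) F
  rw [mem_specialLinear, he, Matrix.det_kronecker, det_one,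
    mem_specialLinear.1 (tv_mem_specialLinear s ν)]
  simp

theorem el_left_mem {q p : Fin a → F} (h : q ⬝ᵥ p = 0) :
    el (tu q p : V2 F a b →ₗ[F] V2 F a b) ∈
      Cfsg.Geo.kroneckerSubgroup a b F ⊓ Cfsg.Geo.specialLinear (Fin a × Fin b) F := by
  have he : ((el (tu q p : V2 F a b →ₗ[F] V2 F a b) : GL (Fin a × Fin b) F) :
      Matrix (Fin a × Fin b) (Fin a × Fin b) F) =
      (tv p q : Matrix (Fin a) (Fin a) F) ⊗ₖ (1 : Matrix (Fin b) (Fin b) F) := mat_ext fun u w => by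
    rw [el_mulVec (tu_sq h), kronecker_mulVec_pl, one_mulVec, tv_mulVec h, tu_apply, pr_eq, D_pl]
    ext
    simp [pl]
    ring
  refine ⟨⟨tv p q, 1, by rw [he, Units.val_one]⟩, ?_⟩
  show el _ ∈ Cfsg.Geo.specialLinear (Fin a × Fin b) F
  rw [mem_specialLinear, he, Matrix.det_kronecker, det_one,
    mem_specialLinear.1 (tv_mem_specialLinear p q)]
  simp

theorem tensor_mem {g : GL (Fin a × Fin b) F} {E : (Fin a → F) →ₗ[F] (Fin a → F)}
    {G : (Fin b → F) →ₗ[F] (Fin b → F)} (hE : Function.Injective E) (hG : Function.Injective G)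
    (h : ∀ u w, (g : M2 F a b) *ᵥ pl w u = pl (G w) (E u)) :
    g ∈ Cfsg.Geo.kroneckerSubgroup a b F := by
  have hA : IsUnit (LinearMap.toMatrix' E) := Matrix.mulVec_injective_iff_isUnit.1 (fun x y e => hE (by
    simpa [LinearMap.toMatrix'_mulVec] using e))
  have hB : IsUnit (LinearMap.toMatrix' G) := Matrix.mulVec_injective_iff_isUnit.1 (fun x y e => hG (by
    simpa [LinearMap.toMatrix'_mulVec] using e))
  exact ⟨hA.unit, hB.unit, mat_ext fun u w => by
    rw [h, IsUnit.unit_spec, IsUnit.unit_spec, kronecker_mulVec_pl, LinearMap.toMatrix'_mulVec,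
      LinearMap.toMatrix'_mulVec]⟩

theorem exists_not_tensor (ha : 2 ≤ a) (hb : 2 ≤ b) :
    ∃ k ∈ Cfsg.Geo.specialLinear (Fin a × Fin b) F, k ∉ Cfsg.Geo.kroneckerSubgroup a b F := by
  set e₀ : Fin a → F := Pi.single ⟨0, by omega⟩ 1 with he₀
  set e₁ : Fin a → F := Pi.single ⟨1, by omega⟩ 1 with he₁
  set f₀ : Fin b → F := Pi.single ⟨0, by omega⟩ 1 with hf₀
  set f₁ : Fin b → F := Pi.single ⟨1, by omega⟩ 1 with hf₁
  have hd : pl f₁ e₁ ⬝ᵥ pl f₀ e₀ = 0 := Finset.sum_eq_zero fun i _ => by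
    obtain ⟨i, j⟩ := i
    simp [pl, he₀, he₁, Pi.single_apply]
    intros; subst_vars; simp_all
  refine ⟨tv (pl f₀ e₀) (pl f₁ e₁), tv_mem_specialLinear _ _, ?_⟩
  rintro ⟨A, B, hAB⟩
  have h1 : (pl f₁ e₁) ⬝ᵥ pl f₁ e₁ = 1 := by
    simp [dotProduct, pl, he₁, hf₁, Fintype.sum_prod_type, Pi.single_apply]
  have h2 := tv_mulVec hd (pl f₁ e₁)
  rw [h1, one_smul, hAB, kronecker_mulVec_pl] at h2
  have c0 := congrArg (C f₀) h2
  have c1 := congrArg (C f₁) h2
  simp only [map_add, C_pl, hf₀, hf₁, single_dotProduct, Pi.single_apply, Fin.ext_iff, one_mul] at c0 c1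
  norm_num at c0 c1
  have d0 := congrFun c0 ⟨0, by omega⟩
  have d1 := congrFun c1 ⟨1, by omega⟩
  have d2 := congrFun c1 ⟨0, by omega⟩
  simp [he₀, he₁, Pi.single_apply, Fin.ext_iff] at d0 d1 d2
  rcases d2 with d2 | d2 <;> simp [d2] at d0 d1

/-- The stabiliser of a tensor decomposition is maximal in the special linear group. -/
theorem maximal_tensor [Fintype F] {n : ℕ} (ha : 2 ≤ a) (hab : a < b)
    (hex : ¬ (a = 2 ∧ Fintype.card F = 2)) (e : Fin n ≃ Fin a × Fin b) (P : GL (Fin n) F) :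
    Cfsg.Geo.IsMaximalIn (Cfsg.Geo.specialLinear (Fin n) F)
      (Cfsg.Geo.tensorProductSubgroup a b e P ⊓ Cfsg.Geo.specialLinear (Fin n) F) := by
  classical
  let Φ : GL (Fin a × Fin b) F ≃* GL (Fin n) F := (Cfsg.Geo.glReindex e.symm).trans (MulAut.conj P)
  have hH : Cfsg.Geo.tensorProductSubgroup a b e P =
      (Cfsg.Geo.kroneckerSubgroup a b F).map Φ.toMonoidHom := by
    rw [Cfsg.Geo.tensorProductSubgroup, Subgroup.map_map]
    rfl
  have hSL : ∀ k, Φ k ∈ Cfsg.Geo.specialLinear (Fin n) F ↔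
      k ∈ Cfsg.Geo.specialLinear (Fin a × Fin b) F := fun k => by
    rw [mem_specialLinear, mem_specialLinear]
    show ((P * Cfsg.Geo.glReindex e.symm k * P⁻¹ : GL (Fin n) F) : Matrix (Fin n) (Fin n) F).det = 1 ↔ _
    rw [Units.val_mul, Units.val_mul, Matrix.coe_units_inv, Matrix.det_conj P.isUnit]
    show (Matrix.reindexAlgEquiv F F e.symm (k : M2 F a b)).det = 1 ↔ _
    rw [Matrix.det_reindexAlgEquiv]
  have hmap : ∀ k, Φ k ∈ Cfsg.Geo.tensorProductSubgroup a b e P ↔ k ∈ Cfsg.Geo.kroneckerSubgroup a b F :=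
    fun k => by rw [hH]; exact Subgroup.mem_map_iff_mem Φ.injective
  refine ⟨lt_of_le_of_ne inf_le_right fun heq => ?_, fun M hM hMK => ?_⟩
  · obtain ⟨k, hk, hk'⟩ := exists_not_tensor (F := F) ha (show 2 ≤ b by omega)
    have h1 : Φ k ∈ Cfsg.Geo.tensorProductSubgroup a b e P ⊓ Cfsg.Geo.specialLinear (Fin n) F :=
      by rw [heq]; exact (hSL k).2 hk
    exact hk' ((hmap k).1 h1.1)
  let H : Subgroup (GL (Fin a × Fin b) F) := M.comap Φ.toMonoidHom
  have hle : ∀ k ∈ Cfsg.Geo.kroneckerSubgroup a b F ⊓ Cfsg.Geo.specialLinear (Fin a × Fin b) F, k ∈ H :=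
    fun k hk => hM ⟨(hmap k).2 hk.1, (hSL k).2 hk.2⟩
  have S : Setting H := ⟨ha, hab, fun ν s h => hle _ (el_right_mem h), fun q p h => hle _ (el_left_mem h)⟩
  by_cases hx : HasExtra H
  · refine Or.inr (le_antisymm hMK fun x hx' => ?_)
    obtain ⟨k, rfl⟩ := Φ.surjective x
    exact S.tv_mem_of_extra hex hx ((hSL k).1 hx')
  · refine Or.inl (le_antisymm (fun x hx' => ?_) hM)
    obtain ⟨k, rfl⟩ := Φ.surjective x
    refine ⟨(hmap k).2 ?_, hMK hx'⟩
    obtain ⟨E, G, hE, hG, h⟩ := (S.extra_or_tensor (show k ∈ H from hx')).resolve_left hx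
    exact tensor_mem hE hG h

end CfsgLib.GeomClasses.TensorMax
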