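import Cfsg.Agent.Lib.GeomClasses.UnitQr

/-!
Counting in a finite field with an involution: the norm-one elements and the values they produce.
-/

set_option autoImplicit false
set_option linter.unusedSectionVars false
set_option linter.unusedSimpArgs false

namespace CfsgLib.GeomClasses.UnitCircle

variable {F : Type*} [Field F] [Fintype F]

/-- The elements fixed by the involution. -/
noncomputable def fixSet (σ : F ≃+* F) : Finset F := by
  classical exact Finset.univ.filter fun x => σ x = x

/-- The elements of norm one. -/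
noncomputable def circle (σ : F ≃+* F) : Finset F := by
  classical exact Finset.univ.filter fun x => x * σ x = 1

/-- The norm of one minus an element. -/
def nv (σ : F ≃+* F) (η : F) : F := (1 - η) * σ (1 - η)

theorem mem_fixSet {σ : F ≃+* F} {x : F} : x ∈ fixSet σ ↔ σ x = x := by simp [fixSet]

theorem mem_circle {σ : F ≃+* F} {x : F} : x ∈ circle σ ↔ x * σ x = 1 := by simp [circle]

variable {σ : F ≃+* F} (hne : σ ≠ RingEquiv.refl F) (h2 : ∀ a, σ (σ a) = a)

theorem nv_fixed (h2 : ∀ a, σ (σ a) = a) (η : F) : σ (nv σ η) = nv σ η := by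
  rw [nv, map_mul, h2, mul_comm]

theorem nv_one : nv σ (1 : F) = 0 := by simp [nv]

theorem nv_ne_zero {η : F} (h : η ≠ 1) : nv σ η ≠ 0 :=
  mul_ne_zero (sub_ne_zero.2 (Ne.symm h)) ((RingEquiv.map_ne_zero_iff σ).2 (sub_ne_zero.2 (Ne.symm h)))

theorem nv_eq {η : F} (h : η * σ η = 1) : nv σ η = 2 - (η + σ η) := by
  rw [nv, map_sub, map_one]
  linear_combination h

include hne h2

theorem card_field : Fintype.card F = (fixSet σ).card * (fixSet σ).card := by
  obtain ⟨z, hz⟩ := Unit.exists_moved hne
  have hd : z - σ z ≠ 0 := sub_ne_zero.2 (Ne.symm hz)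
  rw [← Finset.card_product, ← Finset.card_univ]
  symm
  refine Finset.card_bij (fun p _ => p.1 + p.2 * z) (fun p _ => Finset.mem_univ _) ?_ ?_
  · rintro ⟨a, b⟩ hp ⟨a', b'⟩ hp' h
    simp only [Finset.mem_product, mem_fixSet] at hp hp'
    dsimp only at h
    have h' := congrArg σ h
    simp only [map_add, map_mul, hp.1, hp.2, hp'.1, hp'.2] at h'
    have hb : (b - b') * (z - σ z) = 0 := by linear_combination h - h'
    have hb' := sub_eq_zero.1 ((mul_eq_zero.1 hb).resolve_right hd)
    subst hb'
    rw [add_right_cancel h]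
  · intro x _
    have hb : σ ((x - σ x) / (z - σ z)) = (x - σ x) / (z - σ z) := by
      rw [map_div₀, map_sub, map_sub, h2, h2, ← neg_sub x, ← neg_sub z, neg_div_neg_eq]
    refine ⟨(x - (x - σ x) / (z - σ z) * z, (x - σ x) / (z - σ z)), ?_, by simp⟩
    simp only [Finset.mem_product, mem_fixSet]
    refine ⟨?_, hb⟩
    rw [map_sub, map_mul, hb]
    field_simp
    ring

theorem card_circle : (circle σ).card = (fixSet σ).card + 1 := by
  classical
  have hfib : ∀ b ∈ (fixSet σ).erase 0,
      (((Finset.univ : Finset F).erase 0).filter fun x => x * σ x = b).card = (circle σ).card := by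
    intro b hb
    obtain ⟨hb0, hb⟩ := Finset.mem_erase.1 hb
    obtain ⟨y, hy⟩ := Unit.exists_norm hne h2 (mem_fixSet.1 hb)
    have hy0 : y ≠ 0 := fun h => hb0 (by rw [← hy, h, zero_mul])
    have hsy0 : σ y ≠ 0 := (RingEquiv.map_ne_zero_iff σ).2 hy0
    refine Finset.card_bij' (fun x _ => x / y) (fun e _ => e * y) ?_ ?_ (fun x _ => div_mul_cancel₀ _ hy0)
      (fun e _ => mul_div_cancel_right₀ _ hy0)
    · intro x hx
      simp only [Finset.mem_filter, Finset.mem_erase, Finset.mem_univ, and_true] at hx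
      rw [mem_circle, map_div₀, div_mul_div_comm, hx.2, hy, div_self hb0]
    · intro e he
      rw [mem_circle] at he
      simp only [Finset.mem_filter, Finset.mem_erase, Finset.mem_univ, and_true]
      refine ⟨mul_ne_zero (fun h => by rw [h, zero_mul] at he; exact zero_ne_one he) hy0, ?_⟩
      rw [map_mul]
      linear_combination (y * σ y) * he + hy
  have h := Finset.card_eq_sum_card_fiberwise (f := fun x : F => x * σ x) (s := (Finset.univ : Finset F).erase 0)
    (t := (fixSet σ).erase 0) (fun x hx => by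
      simp only [Finset.coe_erase, Set.mem_diff, Finset.coe_univ, Set.mem_univ, true_and, Set.mem_singleton_iff] at hx
      simp only [Finset.mem_coe, Finset.mem_erase, mem_fixSet]
      exact ⟨mul_ne_zero hx ((RingEquiv.map_ne_zero_iff σ).2 hx), by rw [map_mul, h2, mul_comm]⟩)
  rw [Finset.sum_congr rfl hfib, Finset.sum_const, smul_eq_mul, Finset.card_erase_of_mem (Finset.mem_univ _),
    Finset.card_univ, card_field hne h2, Finset.card_erase_of_mem (mem_fixSet.2 (map_zero σ))] at h
  have h2' : 2 ≤ (fixSet σ).card := by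
    have := Finset.card_le_card (show ({0, 1} : Finset F) ⊆ fixSet σ by
      intro x hx
      simp only [Finset.mem_insert, Finset.mem_singleton] at hx
      rcases hx with rfl | rfl <;> simp [mem_fixSet])
    rwa [Finset.card_pair zero_ne_one] at this
  obtain ⟨m, hm⟩ : ∃ m, (fixSet σ).card = m + 2 := ⟨(fixSet σ).card - 2, by omega⟩
  rw [hm] at h ⊢
  simp only [Nat.add_sub_cancel, show m + 2 - 1 = m + 1 by omega] at h
  have h' : (m + 1) * (circle σ).card = (m + 1) * (m + 2 + 1) := by
    rw [← h]
    have e : (m + 2) * (m + 2) = (m + 1) * (m + 2 + 1) + 1 := by ring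
    omega
  exact Nat.eq_of_mul_eq_mul_left (by omega) h'

theorem three_le_circle : 3 ≤ (circle σ).card := by
  classical
  rw [card_circle hne h2]
  have := Finset.card_le_card (show ({0, 1} : Finset F) ⊆ fixSet σ by
    intro x hx
    simp only [Finset.mem_insert, Finset.mem_singleton] at hx
    rcases hx with rfl | rfl <;> simp [mem_fixSet])
  rw [Finset.card_pair zero_ne_one] at this
  omega

/-- At most two elements of norm one have the same trace with a fixed non-zero multiplier. -/
theorem fibre_le_two [DecidableEq F] {A : F} (hA : A ≠ 0) (s : F) :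
    ((circle σ).filter fun c => c * A + σ (c * A) = s).card ≤ 2 := by
  classical
  by_contra h
  obtain ⟨a, b, c, ha, hb, hc, hab, hac, hbc⟩ := Finset.two_lt_card_iff.1 (not_le.1 h)
  simp only [Finset.mem_filter, mem_circle, map_mul] at ha hb hc
  have key : ∀ x : F, x * σ x = 1 → x * A + σ x * σ A = s → A * x ^ 2 - s * x + σ A = 0 := fun x h1 h3 => by
    linear_combination x * h3 - σ A * h1
  have e1 : (a - b) * (A * (a + b) - s) = 0 := by linear_combination key a ha.1 ha.2 - key b hb.1 hb.2
  have e2 : (a - c) * (A * (a + c) - s) = 0 := by linear_combination key a ha.1 ha.2 - key c hc.1 hc.2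
  have e1' := (mul_eq_zero.1 e1).resolve_left (sub_ne_zero.2 hab)
  have e2' := (mul_eq_zero.1 e2).resolve_left (sub_ne_zero.2 hac)
  have e3 : A * (b - c) = 0 := by linear_combination e1' - e2'
  exact hbc (sub_eq_zero.1 ((mul_eq_zero.1 e3).resolve_left hA))

/-- Two families of traces cover every fixed value. -/
theorem exists_two_trace {A B : F} (hA : A ≠ 0) (hB : B ≠ 0) {s : F} (hs : σ s = s) :
    ∃ c d : F, c * σ c = 1 ∧ d * σ d = 1 ∧ c * A + σ (c * A) + (d * B + σ (d * B)) = s := by
  classical
  have hfix : ∀ x : F, σ (x + σ x) = x + σ x := fun x => by rw [map_add, h2, add_comm]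
  set S := (circle σ).image fun c => c * A + σ (c * A)
  set T := (circle σ).image fun d => s - (d * B + σ (d * B))
  have hS : (circle σ).card ≤ 2 * S.card := by
    refine Finset.card_le_mul_card_image_of_maps_to (f := fun c => c * A + σ (c * A)) (fun c hc => Finset.mem_image_of_mem _ hc) _ fun b _ =>
      fibre_le_two hne h2 hA b
  have hT : (circle σ).card ≤ 2 * T.card := by
    refine Finset.card_le_mul_card_image_of_maps_to (f := fun d => s - (d * B + σ (d * B)))
      (fun c hc => Finset.mem_image_of_mem (fun d => s - (d * B + σ (d * B))) hc) _ fun b _ => ?_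
    refine (Finset.card_le_card fun d hd => ?_).trans (fibre_le_two hne h2 hB (s - b))
    rw [Finset.mem_filter] at hd ⊢
    exact ⟨hd.1, by linear_combination -hd.2⟩
  have hsub : S ∪ T ⊆ fixSet σ := by
    intro x hx
    rw [Finset.mem_union, Finset.mem_image, Finset.mem_image] at hx
    rcases hx with ⟨c, -, rfl⟩ | ⟨c, -, rfl⟩
    · exact mem_fixSet.2 (hfix _)
    · rw [mem_fixSet, map_sub, hs, hfix]
  obtain ⟨x, hx⟩ : (S ∩ T).Nonempty := by
    rw [← Finset.card_pos]
    have h1 := Finset.card_union_add_card_inter S T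
    have h3 := Finset.card_le_card hsub
    have h4 := card_circle hne h2
    omega
  obtain ⟨hxS, hxT⟩ := Finset.mem_inter.1 hx
  obtain ⟨c, hc, rfl⟩ := Finset.mem_image.1 hxS
  obtain ⟨d, hd, hd'⟩ := Finset.mem_image.1 hxT
  exact ⟨c, d, mem_circle.1 hc, mem_circle.1 hd, by linear_combination -hd'⟩

/-- The trace with a non-zero multiplier avoids any given value. -/
theorem exists_trace_avoid {A : F} (hA : A ≠ 0) (s : F) :
    ∃ c : F, c * σ c = 1 ∧ c * A + σ (c * A) ≠ s := by
  classical
  by_contra h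
  push Not at h
  have h1 := fibre_le_two hne h2 hA s
  rw [Finset.filter_true_of_mem fun c hc => h c (mem_circle.1 hc)] at h1
  have := three_le_circle hne h2
  omega

/-- An element of norm one which is not fixed. -/
theorem exists_nonreal : ∃ ε : F, ε * σ ε = 1 ∧ σ ε ≠ ε := by
  classical
  by_contra h
  push Not at h
  have hsub : circle σ ⊆ ({1, -1} : Finset F) := by
    intro x hx
    have hx1 := mem_circle.1 hx
    rw [h x hx1] at hx1
    rcases mul_self_eq_one_iff.1 hx1 with rfl | rfl <;> simp
  have h1 := Finset.card_le_card hsub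
  have := three_le_circle hne h2
  have := Finset.card_le_two (a := (1 : F)) (b := -1)
  omega

/-- Two scaled values cover every fixed value. -/
theorem exists_two_nv {a b T : F} (ha : a ≠ 0) (hb : b ≠ 0) (hσa : σ a = a) (hσb : σ b = b) (hT : σ T = T) :
    ∃ η ζ : F, η * σ η = 1 ∧ ζ * σ ζ = 1 ∧ a * nv σ η + b * nv σ ζ = T := by
  obtain ⟨c, d, hc, hd, h⟩ := exists_two_trace hne h2 ha hb
    (show σ (2 * a + 2 * b - T) = 2 * a + 2 * b - T by simp [map_ofNat, hσa, hσb, hT])
  refine ⟨c, d, hc, hd, ?_⟩
  rw [map_mul, map_mul, hσa, hσb] at h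
  rw [nv_eq hc, nv_eq hd]
  linear_combination -h

theorem card_nv_image [DecidableEq F] :
    (fixSet σ).card ≤ 2 * (((circle σ).erase 1).image (nv σ)).card := by
  have h1 : ((circle σ).erase 1).card = (fixSet σ).card := by
    rw [Finset.card_erase_of_mem (mem_circle.2 (by simp)), card_circle hne h2, Nat.add_sub_cancel]
  rw [← h1]
  refine Finset.card_le_mul_card_image_of_maps_to (f := nv σ) (fun c hc => Finset.mem_image_of_mem _ hc) _
    fun b _ => ?_
  refine (Finset.card_le_card fun d hd => ?_).trans (fibre_le_two hne h2 one_ne_zero (2 - b))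
  rw [Finset.mem_filter, Finset.mem_erase] at hd
  rw [Finset.mem_filter]
  refine ⟨hd.1.2, ?_⟩
  rw [mul_one]
  have e := nv_eq (mem_circle.1 hd.1.2)
  linear_combination -hd.2 + e

/-- Every non-zero fixed value is a product of two values. -/
theorem exists_nv_mul {T : F} (hT : σ T = T) (hT0 : T ≠ 0) :
    ∃ η ζ : F, η * σ η = 1 ∧ ζ * σ ζ = 1 ∧ η ≠ 1 ∧ ζ ≠ 1 ∧ nv σ η * nv σ ζ = T := by
  classical
  set S := ((circle σ).erase 1).image (nv σ) with hS
  have hS0 : ∀ x ∈ S, x ≠ 0 ∧ σ x = x := by
    intro x hx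
    obtain ⟨η, hη, rfl⟩ := Finset.mem_image.1 hx
    exact ⟨nv_ne_zero (Finset.mem_erase.1 hη).1, nv_fixed h2 η⟩
  set S' := S.image fun x => T / x with hS'
  have hcard : S'.card = S.card := Finset.card_image_of_injOn fun x hx y hy h => by
    have hx0 := (hS0 x hx).1
    have hy0 := (hS0 y hy).1
    field_simp at h
    exact h.symm
  have hsub : S ∪ S' ⊆ (fixSet σ).erase 0 := by
    intro x hx
    rw [Finset.mem_erase, mem_fixSet]
    rcases Finset.mem_union.1 hx with hx | hx
    · exact hS0 x hx
    · obtain ⟨y, hy, rfl⟩ := Finset.mem_image.1 hx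
      exact ⟨div_ne_zero hT0 (hS0 y hy).1, by rw [map_div₀, hT, (hS0 y hy).2]⟩
  obtain ⟨x, hx⟩ : (S ∩ S').Nonempty := by
    rw [← Finset.card_pos]
    have h1 := Finset.card_union_add_card_inter S S'
    have h3 := Finset.card_le_card hsub
    have h4 := card_nv_image hne h2
    have h5 : 0 < (fixSet σ).card := Finset.card_pos.2 ⟨0, mem_fixSet.2 (map_zero σ)⟩
    rw [Finset.card_erase_of_mem (mem_fixSet.2 (map_zero σ))] at h3
    rw [← hS] at h4
    omega
  obtain ⟨hxS, hxT⟩ := Finset.mem_inter.1 hx
  obtain ⟨y, hy, hy'⟩ := Finset.mem_image.1 hxT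
  obtain ⟨η, hη, rfl⟩ := Finset.mem_image.1 hxS
  obtain ⟨ζ, hζ, rfl⟩ := Finset.mem_image.1 hy
  obtain ⟨hη1, hη⟩ := Finset.mem_erase.1 hη
  obtain ⟨hζ1, hζ⟩ := Finset.mem_erase.1 hζ
  exact ⟨η, ζ, mem_circle.1 hη, mem_circle.1 hζ, hη1, hζ1, by rw [← hy', div_mul_cancel₀ _ (nv_ne_zero hζ1)]⟩

/-- A non-zero scaled value avoiding a given value. -/
theorem exists_nv_avoid (hB : UnitQr.Big σ) {a : F} (ha : a ≠ 0) (T : F) :
    ∃ η : F, η * σ η = 1 ∧ η ≠ 1 ∧ a * nv σ η ≠ T := by
  classical
  by_contra h
  push Not at h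
  have hsub : ((circle σ).erase 1).image (nv σ) ⊆ {T / a} := by
    intro x hx
    obtain ⟨η, hη, rfl⟩ := Finset.mem_image.1 hx
    rw [Finset.mem_singleton, eq_div_iff ha, mul_comm]
    exact h η (mem_circle.1 (Finset.mem_erase.1 hη).2) (Finset.mem_erase.1 hη).1
  have h1 := Finset.card_le_card hsub
  rw [Finset.card_singleton] at h1
  have h3 := card_nv_image hne h2
  obtain ⟨b, hb, hb0, hb1⟩ := hB
  have h4 := Finset.card_le_card (show ({0, 1, b} : Finset F) ⊆ fixSet σ by
    intro x hx
    simp only [Finset.mem_insert, Finset.mem_singleton] at hx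
    rcases hx with rfl | rfl | rfl <;> simp [mem_fixSet, hb])
  rw [Finset.card_insert_of_notMem (by simp [Ne.symm hb0]), Finset.card_pair (Ne.symm hb1)] at h4
  omega

/-- Two families of traces cover a value with the first one avoiding a given value, if the first has a double root. -/
theorem exists_two_trace_avoid {A B : F} (hA : A ≠ 0) (hB : B ≠ 0) {c₀ : F} (hc₀ : c₀ * σ c₀ = 1)
    (hdbl : c₀ * c₀ * A = σ A) {s : F} (hs : σ s = s) (s₀ : F) :
    ∃ c d : F, c * σ c = 1 ∧ d * σ d = 1 ∧ c * A + σ (c * A) + (d * B + σ (d * B)) = s ∧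
      c * A + σ (c * A) ≠ s₀ := by
  classical
  set g : F → F := fun c => c * A + σ (c * A) with hg
  have hfix : ∀ x : F, σ (x + σ x) = x + σ x := fun x => by rw [map_add, h2, add_comm]
  have hone : ∀ c ∈ circle σ, g c = g c₀ → c = c₀ := by
    intro c hc h
    rw [mem_circle] at hc
    simp only [hg, map_mul] at h
    have e : A * ((c - c₀) * (c - c₀)) = 0 := by
      linear_combination c * h - σ A * hc - (c * σ c₀ - 1) * hdbl + (c * c₀ * A) * hc₀
    exact sub_eq_zero.1 ((mul_self_eq_zero).1 ((mul_eq_zero.1 e).resolve_left hA))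
  set S := ((circle σ).erase c₀).image g with hSdef
  have hS : ((circle σ).erase c₀).card ≤ 2 * S.card := by
    refine Finset.card_le_mul_card_image_of_maps_to (f := g) (fun c hc => Finset.mem_image_of_mem _ hc) _
      fun b _ => (Finset.card_le_card fun c hc => ?_).trans (fibre_le_two hne h2 hA b)
    rw [Finset.mem_filter] at hc ⊢
    exact ⟨(Finset.mem_erase.1 hc.1).2, hc.2⟩
  have hSn : g c₀ ∉ S := fun h => by
    obtain ⟨c, hc, hcg⟩ := Finset.mem_image.1 h
    exact (Finset.mem_erase.1 hc).1 (hone c (Finset.mem_erase.1 hc).2 hcg)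
  set S' := insert (g c₀) S with hS'
  set T := (circle σ).image fun d => s - (d * B + σ (d * B))
  have hT : (circle σ).card ≤ 2 * T.card := by
    refine Finset.card_le_mul_card_image_of_maps_to (f := fun d => s - (d * B + σ (d * B)))
      (fun c hc => Finset.mem_image_of_mem (fun d => s - (d * B + σ (d * B))) hc) _ fun b _ => ?_
    refine (Finset.card_le_card fun d hd => ?_).trans (fibre_le_two hne h2 hB (s - b))
    rw [Finset.mem_filter] at hd ⊢
    exact ⟨hd.1, by linear_combination -hd.2⟩
  have hS'mem : ∀ x ∈ S', ∃ c ∈ circle σ, g c = x := by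
    intro x hx
    rcases Finset.mem_insert.1 hx with rfl | hx
    · exact ⟨c₀, mem_circle.2 hc₀, rfl⟩
    · obtain ⟨c, hc, hcg⟩ := Finset.mem_image.1 hx
      exact ⟨c, (Finset.mem_erase.1 hc).2, hcg⟩
  have hsub : S' ∪ T ⊆ fixSet σ := by
    intro x hx
    rcases Finset.mem_union.1 hx with hx | hx
    · obtain ⟨c, -, rfl⟩ := hS'mem x hx
      exact mem_fixSet.2 (hfix _)
    · obtain ⟨d, -, rfl⟩ := Finset.mem_image.1 hx
      rw [mem_fixSet, map_sub, hs, hfix]
  obtain ⟨x, hx⟩ : ((S' ∩ T).erase s₀).Nonempty := by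
    rw [← Finset.card_pos]
    have h1 := Finset.card_union_add_card_inter S' T
    have h3 := Finset.card_le_card hsub
    have h4 := card_circle hne h2
    have h5 : S'.card = S.card + 1 := Finset.card_insert_of_notMem hSn
    have h6 := Finset.pred_card_le_card_erase (a := s₀) (s := S' ∩ T)
    rw [Finset.card_erase_of_mem (mem_circle.2 hc₀)] at hS
    omega
  obtain ⟨hx0, hx⟩ := Finset.mem_erase.1 hx
  obtain ⟨hxS, hxT⟩ := Finset.mem_inter.1 hx
  obtain ⟨c, hc, rfl⟩ := hS'mem x hxS
  obtain ⟨d, hd, hd'⟩ := Finset.mem_image.1 hxT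
  refine ⟨c, d, mem_circle.1 hc, mem_circle.1 hd, ?_, hx0⟩
  simp only [hg] at hd' ⊢
  linear_combination -hd'

/-- Of three elements of norm one, two differ by the square of one. -/
theorem exists_square_ratio {u : Fin 3 → F} (hu : ∀ i, u i * σ (u i) = 1) :
    ∃ i j : Fin 3, i ≠ j ∧ ∃ c, c * σ c = 1 ∧ c * c * u j = u i := by
  classical
  set Q := (circle σ).image fun c => c * c with hQ
  have hQc : (circle σ).card ≤ 2 * Q.card := by
    refine Finset.card_le_mul_card_image_of_maps_to (f := fun c : F => c * c)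
      (fun c hc => Finset.mem_image_of_mem (fun c : F => c * c) hc) _ fun b hb => ?_
    obtain ⟨a, -, rfl⟩ := Finset.mem_image.1 hb
    refine (Finset.card_le_card (t := {a, -a}) fun c hc => ?_).trans Finset.card_le_two
    rw [Finset.mem_filter] at hc
    simp only [Finset.mem_insert, Finset.mem_singleton]
    exact mul_self_eq_mul_self_iff.1 hc.2
  have h0 : ∀ i, u i ≠ 0 := fun i h => by have := hu i; rw [h, zero_mul] at this; exact zero_ne_one this
  by_contra hcon
  push Not at hcon
  let V : Fin 3 → Finset F := fun i => Q.image fun x => x * u i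
  have hVc : ∀ i, (V i).card = Q.card := fun i =>
    Finset.card_image_of_injective _ (mul_left_injective₀ (h0 i))
  have hdis : ∀ i j, i ≠ j → Disjoint (V i) (V j) := by
    intro i j hij
    rw [Finset.disjoint_left]
    intro x hx hx'
    obtain ⟨_, hy, rfl⟩ := Finset.mem_image.1 hx
    obtain ⟨a, ha, rfl⟩ := Finset.mem_image.1 hy
    obtain ⟨_, hz, hz'⟩ := Finset.mem_image.1 hx'
    obtain ⟨b, hb, rfl⟩ := Finset.mem_image.1 hz
    rw [mem_circle] at ha hb
    have hr : b * σ a * σ (b * σ a) = 1 := by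
      rw [map_mul, h2]; linear_combination (a * σ a) * hb + ha
    refine hcon i j hij (b * σ a) hr ?_
    linear_combination (σ a * σ a) * hz' + (a * σ a + 1) * u i * ha
  have hsub : V 0 ∪ V 1 ∪ V 2 ⊆ circle σ := by
    intro x hx
    have : ∀ i, x ∈ V i → x ∈ circle σ := fun i hx => by
      obtain ⟨_, hy, rfl⟩ := Finset.mem_image.1 hx
      obtain ⟨a, ha, rfl⟩ := Finset.mem_image.1 hy
      rw [mem_circle] at ha ⊢
      rw [map_mul, map_mul]
      linear_combination (u i * σ (u i)) * (a * σ a + 1) * ha + hu i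
    simp only [Finset.mem_union] at hx
    rcases hx with (h | h) | h <;> exact this _ h
  have h1 := Finset.card_le_card hsub
  rw [Finset.card_union_of_disjoint (Finset.disjoint_union_left.2 ⟨hdis 0 2 (by decide), hdis 1 2 (by decide)⟩),
    Finset.card_union_of_disjoint (hdis 0 1 (by decide)), hVc, hVc, hVc] at h1
  have := three_le_circle hne h2
  omega

end CfsgLib.GeomClasses.UnitCircle
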