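import Cfsg.Agent.Lib.GeomClasses.UnitQr
import Cfsg.Agent.Lib.GeomClasses.Decomp

/-!
Non-degenerate decompositions of unitary spaces: elements of the stabilizer, orthonormal families, exchanging
two members, and the reduction of centres to those of small support.
-/

set_option autoImplicit false
set_option linter.unusedSectionVars false
set_option linter.unusedSimpArgs false

namespace CfsgLib.GeomClasses.UnitDecomp

open Matrix CfsgLib.GeomClasses.UnitQr CfsgLib.GeomClasses.UnitSymp

variable {n : ℕ} {F : Type*} [Field F] [Fintype F] {σ : F ≃+* F} {f : (Fin n → F) → (Fin n → F) → F}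
  {t k : ℕ} {D : Fin t → Submodule F (Fin n → F)}

/-- A non-degenerate decomposition of a unitary space of dimension at least five. -/
structure Base (σ : F ≃+* F) (f : (Fin n → F) → (Fin n → F) → F) (D : Fin t → Submodule F (Fin n → F))
    (k : ℕ) : Prop where
  unit : Cfsg.Geo.IsUnitaryForm σ f
  five : 5 ≤ n
  nd : Cfsg.Geo.IsNondegenerateMDecomposition f k D

/-- The stabilizer of the decomposition among the isometries of determinant one. -/
def hGrp (f : (Fin n → F) → (Fin n → F) → F) (D : Fin t → Submodule F (Fin n → F)) : Subgroup (GL (Fin n) F) :=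
  Cfsg.Geo.decompositionStabilizer D ⊓ kGrp f

variable (B : Base σ f D k)
include B

/-- The component map. -/
noncomputable abbrev Base.cmp (i : Fin t) : (Fin n → F) →ₗ[F] (Fin n → F) := Decomp.comp B.nd.decomp i

theorem Base.orth {i j : Fin t} (h : i ≠ j) {u v : Fin n → F} (hu : u ∈ D i) (hv : v ∈ D j) : f u v = 0 :=
  B.nd.orthogonal i j h u hu v hv

theorem Base.rank (i : Fin t) : Module.finrank F (D i) = k := B.nd.decomp.finrank_eq i

theorem Base.card_eq : n = t * k := by
  have e := (LinearEquiv.ofBijective (DirectSum.coeLinearMap D) (Decomp.isInternal B.nd.decomp)).finrank_eq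
  rw [Module.finrank_directSum, Module.finrank_fintype_fun_eq_card, Fintype.card_fin] at e
  simpa [B.rank] using e.symm

theorem Base.cmp_mem (i : Fin t) (x : Fin n → F) : B.cmp i x ∈ D i := Decomp.comp_mem _ i x

theorem Base.cmp_self {i : Fin t} {x : Fin n → F} (hx : x ∈ D i) : B.cmp i x = x := Decomp.comp_of_mem _ hx

theorem Base.cmp_ne {i j : Fin t} (h : j ≠ i) {x : Fin n → F} (hx : x ∈ D j) : B.cmp i x = 0 :=
  Decomp.comp_of_mem_ne _ h hx

theorem Base.form_cmp (x : Fin n → F) {i : Fin t} {y : Fin n → F} (hy : y ∈ D i) : f x y = f (B.cmp i x) y :=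
  Decomp.form_comp_left B.nd.decomp (Unit.sesq B.unit) B.nd.orthogonal x hy

theorem Base.form_cmp' {i : Fin t} {y : Fin n → F} (hy : y ∈ D i) (x : Fin n → F) : f y x = f y (B.cmp i x) := by
  rw [B.unit.herm y x, B.form_cmp x hy, ← B.unit.herm]

theorem Base.form_sum (x y : Fin n → F) : f x y = ∑ i, f (B.cmp i x) (B.cmp i y) :=
  Decomp.form_eq_sum B.nd.decomp (Unit.sesq B.unit) B.nd.orthogonal x y

theorem Base.mem_stab {g : GL (Fin n) F} (h : ∀ i, ∃ j, ∀ v ∈ D i, (g : Matrix (Fin n) (Fin n) F) *ᵥ v ∈ D j) :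
    g ∈ Cfsg.Geo.decompositionStabilizer D :=
  Decomp.mem_stabilizer_of_image B.nd.decomp h

theorem Base.exists_image {g : GL (Fin n) F} (hg : g ∈ Cfsg.Geo.decompositionStabilizer D) (i : Fin t) :
    ∃ j, ∀ v ∈ D i, (g : Matrix (Fin n) (Fin n) F) *ᵥ v ∈ D j := by
  obtain ⟨π, hπ⟩ := hg
  refine ⟨π i, fun v hv => ?_⟩
  rw [← hπ i]
  exact ⟨v, hv, by rw [Matrix.toLin'_apply]⟩

theorem Base.qr_stab {s : F} {d : Fin n → F} (h : QCond σ f s d) {i : Fin t} (hd : d ∈ D i) :
    qr f s d ∈ Cfsg.Geo.decompositionStabilizer D := by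
  refine B.mem_stab fun l => ⟨l, fun v hv => ?_⟩
  rw [qr_mulVec B.unit h]
  by_cases hl : l = i
  · exact (D l).add_mem hv ((D l).smul_mem _ (hl ▸ hd))
  · rw [B.orth hl hv hd, mul_zero, zero_smul, add_zero]
    exact hv

theorem Base.formTv_mem_H {i : Fin t} {v : Fin n → F} (hv : v ∈ D i) (hvv : f v v = 0) {c : F}
    (hc : c + σ c = 0) : formTv f v c ∈ hGrp f D := by
  refine ⟨B.mem_stab fun l => ⟨l, fun x hx => ?_⟩, formTv_iso B.unit hvv hc⟩
  rw [Unit.formTv_mulVec B.unit hvv]
  by_cases hl : l = i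
  · exact (D l).add_mem hx ((D l).smul_mem _ (hl ▸ hv))
  · rw [B.orth hl hx hv, mul_zero, zero_smul, add_zero]
    exact hx

theorem Base.cen_block {M : Subgroup (GL (Fin n) F)} (hle : hGrp f D ≤ M) {i : Fin t} {v : Fin n → F}
    (hv : v ∈ D i) (hvv : f v v = 0) : v ∈ Cen σ f M :=
  ⟨hvv, fun _ hc => hle (B.formTv_mem_H hv hvv hc)⟩

/-- Correcting the determinant by a rank-one isometry in a member. -/
theorem Base.det_fix {g : GL (Fin n) F} (hg : g ∈ isoGroup f) (hgs : g ∈ Cfsg.Geo.decompositionStabilizer D)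
    {i : Fin t} {e : Fin n → F} (he : e ∈ D i) (hee : f e e ≠ 0) :
    ∃ r : GL (Fin n) F, r * g ∈ hGrp f D ∧ ∀ x, f x e = 0 → (r : Matrix (Fin n) (Fin n) F) *ᵥ x = x := by
  have hf := B.unit
  set δ := (g : Matrix (Fin n) (Fin n) F).det with hδ
  have hδ0 : δ ≠ 0 := (Matrix.GeneralLinearGroup.det g).ne_zero
  have hN : δ * σ δ = 1 := by
    classical
    let J : Matrix (Fin n) (Fin n) F := Matrix.of fun a b => f (Pi.single a 1) (Pi.single b 1)
    have hG : (g : Matrix (Fin n) (Fin n) F)ᵀ * J * (g : Matrix (Fin n) (Fin n) F).map σ = J := by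
      have hcol : ∀ b, (g : Matrix (Fin n) (Fin n) F) *ᵥ Pi.single b 1
          = ∑ c, (g : Matrix (Fin n) (Fin n) F) c b • Pi.single c (1 : F) := fun b => by
        rw [mulVec_single_one]
        exact pi_eq_sum_univ' _
      ext a b
      change _ = f (Pi.single a 1) (Pi.single b 1)
      rw [← hg (Pi.single a 1) (Pi.single b 1), hcol, hcol, (Unit.sesq hf).sum_left]
      simp only [Matrix.mul_apply, Matrix.transpose_apply, Matrix.map_apply, J, Matrix.of_apply, Finset.sum_mul]
      rw [Finset.sum_comm]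
      refine Finset.sum_congr rfl fun c _ => ?_
      rw [(Unit.sesq hf).sum_right]
      refine Finset.sum_congr rfl fun c' _ => ?_
      rw [Unit.smul_left hf, Unit.smul_right hf]
      ring
    have hJ : J.det ≠ 0 := by
      rw [← isUnit_iff_ne_zero, ← Matrix.isUnit_iff_isUnit_det, ← Matrix.mulVec_injective_iff_isUnit]
      intro x y hxy
      have hzero : ∀ z : Fin n → F, J *ᵥ z = 0 → z = 0 := by
        intro z hz
        by_contra hne
        obtain ⟨p, hp⟩ := (hf.nondegenerate (fun a => σ (z a)) (fun h => hne (funext fun a =>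
          σ.injective ((congrFun h a).trans (map_zero σ).symm)))).1
        apply hp
        rw [pi_eq_sum_univ' p, (Unit.sesq hf).sum_left]
        refine Finset.sum_eq_zero fun a _ => ?_
        rw [Unit.smul_left hf, pi_eq_sum_univ' fun a => σ (z a), (Unit.sesq hf).sum_right]
        simp only [Unit.smul_right hf, hf.involutive]
        have := congrFun hz a
        simp only [mulVec, dotProduct, J, Matrix.of_apply, Pi.zero_apply] at this
        rw [show (∑ c, z c * f (Pi.single a 1) (Pi.single c 1)) = 0 by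
          rw [← this]; exact Finset.sum_congr rfl fun c _ => mul_comm _ _, mul_zero]
      exact sub_eq_zero.1 (hzero _ (by rw [mulVec_sub]; exact sub_eq_zero.2 hxy))
    have h := congrArg Matrix.det hG
    rw [det_mul, det_mul, det_transpose, show ((g : Matrix (Fin n) (Fin n) F).map σ).det = σ δ from
      ((σ : F →+* F).map_det (g : Matrix (Fin n) (Fin n) F)).symm] at h
    exact mul_left_cancel₀ hJ (by linear_combination h)
  set s := (δ⁻¹ - 1) / f e e with hs
  have hse : s * f e e = δ⁻¹ - 1 := div_mul_cancel₀ _ hee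
  have hq : QCond σ f s e := by
    refine mul_right_cancel₀ hee ?_
    have h1 : σ s * f e e = σ δ⁻¹ - 1 := by
      rw [← Unit.self_fixed hf e, ← map_mul, hse, map_sub, map_one]
    have h2 : δ⁻¹ * σ δ⁻¹ = 1 := by rw [map_inv₀, ← mul_inv, hN, inv_one]
    rw [zero_mul]
    linear_combination (1 + σ s * f e e) * hse + δ⁻¹ * h1 + h2
  refine ⟨qr f s e, ⟨(Cfsg.Geo.decompositionStabilizer D).mul_mem (B.qr_stab hq he) hgs,
    kGrp_of hf ((isoGroup f).mul_mem (qr_iso hf hq) hg) ?_⟩, fun x hx => qr_fix hf hq hx⟩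
  rw [Units.val_mul, det_mul, qr_det hf hq, hse, ← hδ, add_sub_cancel, inv_mul_cancel₀ hδ0]

/-- A member has a non-isotropic vector. -/
theorem Base.exists_aniso (i : Fin t) : ∃ e ∈ D i, f e e ≠ 0 := by
  obtain ⟨v, hv, hv0⟩ := Decomp.exists_ne_zero B.nd.decomp i
  exact UnitPow.exists_nonisotropic B.unit (B.nd.nondegenerate i) hv hv0

/-- An orthonormal basis of a member. -/
theorem Base.exists_onb (i : Fin t) :
    ∃ e : Fin k → Fin n → F, (∀ r, e r ∈ D i) ∧ (∀ r r', f (e r) (e r') = if r = r' then 1 else 0) ∧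
      ∀ x ∈ D i, x = ∑ r, f x (e r) • e r := by
  classical
  have hf := B.unit
  suffices key : ∀ d (X : Submodule F (Fin n → F)), Cfsg.Geo.IsNondegenerateOn f X → Module.finrank F X = d →
      ∃ e : Fin d → Fin n → F, (∀ r, e r ∈ X) ∧ (∀ r r', f (e r) (e r') = if r = r' then 1 else 0) ∧
        ∀ x ∈ X, x = ∑ r, f x (e r) • e r from key k _ (B.nd.nondegenerate i) (B.rank i)
  intro d
  induction d with
  | zero =>
    intro X _ hd
    refine ⟨fun r => r.elim0, fun r => r.elim0, fun r => r.elim0, fun x hx => ?_⟩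
    rw [Submodule.finrank_eq_zero.1 hd, Submodule.mem_bot] at hx
    simp [hx]
  | succ d ih =>
    intro X hX hd
    obtain ⟨v, hv, hv0⟩ := Submodule.exists_mem_ne_zero_of_ne_bot (p := X) fun h => by
      rw [h, finrank_bot] at hd; omega
    obtain ⟨a, ha, haa⟩ := exists_value hf hX hv hv0 (map_one σ)
    have ha0 : a ≠ 0 := fun h => by rw [h, Unit.zero_left hf] at haa; exact zero_ne_one haa
    set Y := X ⊓ Unit.perp hf (Submodule.span F {a}) with hYdef
    have hmem : ∀ y, y ∈ Y ↔ y ∈ X ∧ f y a = 0 := fun y => by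
      rw [hYdef, Submodule.mem_inf, Unit.mem_perp hf]
      refine ⟨fun h => ⟨h.1, h.2 a (Submodule.mem_span_singleton_self a)⟩, fun h => ⟨h.1, fun w hw => ?_⟩⟩
      obtain ⟨r, rfl⟩ := Submodule.mem_span_singleton.1 hw
      rw [Unit.smul_right hf, h.2, mul_zero]
    have hproj : ∀ x ∈ X, x - f x a • a ∈ Y := fun x hx => (hmem _).2
      ⟨X.sub_mem hx (X.smul_mem _ ha), by rw [Unit.sub_left hf, Unit.smul_left hf, haa, mul_one, sub_self]⟩
    have hY : Cfsg.Geo.IsNondegenerateOn f Y := by
      intro y hy hy0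
      obtain ⟨x, hx, hxy⟩ := (hX y hy.1 hy0).1
      have e : f (x - f x a • a) y = f x y := by
        rw [Unit.sub_left hf, Unit.smul_left hf, Unit.eq_zero_comm hf ((hmem y).1 hy).2, mul_zero, sub_zero]
      exact ⟨⟨_, hproj x hx, by rwa [e]⟩, ⟨_, hproj x hx, Unit.ne_zero_comm hf (by rwa [e])⟩⟩
    have hsup : Y ⊔ Submodule.span F {a} = X := by
      refine le_antisymm (sup_le inf_le_left ((Submodule.span_singleton_le_iff_mem _ _).2 ha)) fun x hx => ?_
      rw [show x = (x - f x a • a) + f x a • a by abel]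
      exact Submodule.add_mem_sup (hproj x hx) (Submodule.smul_mem _ _ (Submodule.mem_span_singleton_self a))
    have hYd : Module.finrank F Y = d := by
      have h1 := Submodule.finrank_sup_add_finrank_inf_eq Y (Submodule.span F {a})
      have h2 : Y ⊓ Submodule.span F {a} = ⊥ := by
        rw [Submodule.eq_bot_iff]
        rintro y ⟨hy, hys⟩
        obtain ⟨r, rfl⟩ := Submodule.mem_span_singleton.1 hys
        have := ((hmem _).1 hy).2
        rw [Unit.smul_left hf, haa, mul_one] at this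
        rw [this, zero_smul]
      rw [hsup, h2, finrank_bot, finrank_span_singleton ha0, hd] at h1
      omega
    obtain ⟨e, he, hee, hex⟩ := ih Y hY hYd
    have hea : ∀ r, f (e r) a = 0 := fun r => ((hmem _).1 (he r)).2
    refine ⟨Fin.cons a e, fun r => ?_, fun r r' => ?_, fun x hx => ?_⟩
    · cases r using Fin.cases
      · simpa using ha
      · simpa using (he _).1
    · cases r using Fin.cases <;> cases r' using Fin.cases <;>
        simp [haa, hea, Unit.eq_zero_comm hf (hea _), hee, Fin.succ_ne_zero, Ne.symm (Fin.succ_ne_zero _)]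
    · rw [Fin.sum_univ_succ]
      simp only [Fin.cons_zero, Fin.cons_succ]
      have h := hex _ (hproj x hx)
      have h' : ∀ r, f (x - f x a • a) (e r) = f x (e r) := fun r => by
        rw [Unit.sub_left hf, Unit.smul_left hf, Unit.eq_zero_comm hf (hea r), mul_zero, sub_zero]
      simp only [h'] at h
      rw [← h]
      abel

/-- An isometry exchanging two members and fixing the other members. -/
theorem Base.exists_exchange {j l : Fin t} (hjl : j ≠ l) :
    ∃ g ∈ isoGroup f, g ∈ Cfsg.Geo.decompositionStabilizer D ∧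
      (∀ v ∈ D j, (g : Matrix (Fin n) (Fin n) F) *ᵥ v ∈ D l) ∧
      ∀ m, m ≠ j → m ≠ l → ∀ v ∈ D m, (g : Matrix (Fin n) (Fin n) F) *ᵥ v = v := by
  classical
  have hf := B.unit
  obtain ⟨a, ha, haa, hax⟩ := B.exists_onb j
  obtain ⟨b, hb, hbb, hbx⟩ := B.exists_onb l
  have hab : ∀ r r', f (a r) (b r') = 0 := fun r r' => B.orth hjl (ha r) (hb r')
  have hba : ∀ r r', f (b r) (a r') = 0 := fun r r' => Unit.eq_zero_comm hf (hab r' r)
  have hq : ∀ r, QCond σ f (-1) (a r - b r) := fun r => by
    simp [QCond, Unit.sub_left hf, Unit.sub_right hf, haa, hbb, hab, hba]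
  have key : ∀ S : Finset (Fin k), ∃ g ∈ isoGroup f,
      (∀ r ∈ S, (g : Matrix (Fin n) (Fin n) F) *ᵥ a r = b r ∧ (g : Matrix (Fin n) (Fin n) F) *ᵥ b r = a r) ∧
      ∀ x, (∀ r ∈ S, f x (a r) = 0 ∧ f x (b r) = 0) → (g : Matrix (Fin n) (Fin n) F) *ᵥ x = x := by
    intro S
    induction S using Finset.induction_on with
    | empty => exact ⟨1, (isoGroup f).one_mem, by simp, fun x _ => by simp⟩
    | insert r S hr ih =>
      obtain ⟨g, hg, hgS, hfix⟩ := ih
      have hfa : (g : Matrix (Fin n) (Fin n) F) *ᵥ a r = a r := hfix _ fun r' hr' => by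
        rw [haa, if_neg (fun h : r = r' => hr (h ▸ hr'))]; exact ⟨rfl, hab _ _⟩
      have hfb : (g : Matrix (Fin n) (Fin n) F) *ᵥ b r = b r := hfix _ fun r' hr' => by
        rw [hbb, if_neg (fun h : r = r' => hr (h ▸ hr'))]; exact ⟨hba _ _, rfl⟩
      refine ⟨qr f (-1) (a r - b r) * g, (isoGroup f).mul_mem (qr_iso hf (hq r)) hg, fun r' hr' => ?_,
        fun x hx => ?_⟩
      · rcases Finset.mem_insert.1 hr' with rfl | hr'
        · rw [gl_mul_mulVec, gl_mul_mulVec, hfa, hfb, qr_mulVec hf (hq r'), qr_mulVec hf (hq r'),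
            Unit.sub_right hf, Unit.sub_right hf, haa, hbb, hab, hba, if_pos rfl]
          constructor <;> module
        · have hne : r' ≠ r := fun h => hr (h ▸ hr')
          rw [gl_mul_mulVec, gl_mul_mulVec, (hgS r' hr').1, (hgS r' hr').2,
            qr_fix hf (hq r) (by rw [Unit.sub_right hf, hbb, hba, if_neg hne, sub_zero]),
            qr_fix hf (hq r) (by rw [Unit.sub_right hf, haa, hab, if_neg hne, sub_zero])]
          exact ⟨rfl, rfl⟩
      · rw [gl_mul_mulVec, hfix x fun r' hr' => hx r' (Finset.mem_insert_of_mem hr'),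
          qr_fix hf (hq r) (by
            rw [Unit.sub_right hf, (hx r (Finset.mem_insert_self r S)).1, (hx r (Finset.mem_insert_self r S)).2,
              sub_zero])]
  obtain ⟨g, hg, hgS, hfix⟩ := key Finset.univ
  have hj : ∀ v ∈ D j, (g : Matrix (Fin n) (Fin n) F) *ᵥ v ∈ D l := fun v hv => by
    rw [hax v hv, mulVec_sum]
    refine Submodule.sum_mem _ fun r _ => ?_
    rw [mulVec_smul, (hgS r (Finset.mem_univ r)).1]
    exact (D l).smul_mem _ (hb r)
  have hl : ∀ v ∈ D l, (g : Matrix (Fin n) (Fin n) F) *ᵥ v ∈ D j := fun v hv => by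
    rw [hbx v hv, mulVec_sum]
    refine Submodule.sum_mem _ fun r _ => ?_
    rw [mulVec_smul, (hgS r (Finset.mem_univ r)).2]
    exact (D j).smul_mem _ (ha r)
  have ho : ∀ m, m ≠ j → m ≠ l → ∀ v ∈ D m, (g : Matrix (Fin n) (Fin n) F) *ᵥ v = v := fun m h1 h2 v hv =>
    hfix v fun r _ => ⟨B.orth h1 hv (ha r), B.orth h2 hv (hb r)⟩
  refine ⟨g, hg, B.mem_stab fun m => ?_, hj, ho⟩
  by_cases h1 : m = j
  · subst h1; exact ⟨l, hj⟩
  by_cases h2 : m = l
  · subst h2; exact ⟨j, hl⟩
  exact ⟨m, fun v hv => by rw [ho m h1 h2 v hv]; exact hv⟩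

/-! ### Reduction to small support -/

theorem Base.supp_le_of_cmp {S : Finset (Fin t)} {x : Fin n → F} (h : ∀ i, i ∉ S → B.cmp i x = 0) :
    Decomp.supp B.nd.decomp x ⊆ S := fun i hi => by
  by_contra hn
  exact (Decomp.mem_supp B.nd.decomp).1 hi (h i hn)

theorem Base.sup_mem_iff (J : Finset (Fin t)) (x : Fin n → F) :
    x ∈ J.sup D ↔ ∀ i, i ∉ J → B.cmp i x = 0 := by
  classical
  refine ⟨fun hx i hi => ?_, fun h => ?_⟩
  · have hle : J.sup D ≤ LinearMap.ker (B.cmp i) :=
      Finset.sup_le fun j hj y hy => LinearMap.mem_ker.2 (B.cmp_ne (fun h : j = i => hi (h ▸ hj)) hy)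
    exact LinearMap.mem_ker.1 (hle hx)
  · rw [← Decomp.sum_comp B.nd.decomp x]
    refine Submodule.sum_mem _ fun i _ => ?_
    by_cases hi : i ∈ J
    · exact Finset.le_sup (f := D) hi (B.cmp_mem i x)
    · rw [show Decomp.comp B.nd.decomp i x = 0 from h i hi]
      exact Submodule.zero_mem _

theorem Base.sup_finrank (J : Finset (Fin t)) : Module.finrank F ↥(J.sup D) = J.card * k := by
  classical
  induction J using Finset.induction_on with
  | empty => rw [Finset.sup_empty, finrank_bot]; simp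
  | insert a J ha ih =>
    have h := Submodule.finrank_sup_add_finrank_inf_eq (D a) (J.sup D)
    have hb : D a ⊓ J.sup D = ⊥ := by
      rw [Submodule.eq_bot_iff]
      rintro x ⟨hx, hxJ⟩
      rw [← B.cmp_self hx]
      exact (B.sup_mem_iff J x).1 hxJ a ha
    rw [hb, finrank_bot, B.rank, ih] at h
    rw [Finset.sup_insert, Finset.card_insert_of_notMem ha, Nat.add_mul, one_mul]
    omega

theorem Base.sup_nondeg (J : Finset (Fin t)) : Cfsg.Geo.IsNondegenerateOn f (J.sup D) := by
  classical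
  intro x hx hx0
  obtain ⟨i, hi⟩ : ∃ i, B.cmp i x ≠ 0 := by
    by_contra h
    push Not at h
    exact hx0 (Decomp.eq_of_comp B.nd.decomp fun l => by rw [show Decomp.comp B.nd.decomp l x = 0 from h l, map_zero])
  have hiJ : i ∈ J := by_contra fun h => hi ((B.sup_mem_iff J x).1 hx i h)
  obtain ⟨⟨y, hy, hyx⟩, -⟩ := B.nd.nondegenerate i _ (B.cmp_mem i x) hi
  rw [← B.form_cmp' hy x] at hyx
  exact ⟨⟨y, Finset.le_sup (f := D) hiJ hy, hyx⟩,
    ⟨y, Finset.le_sup (f := D) hiJ hy, Unit.ne_zero_comm B.unit hyx⟩⟩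

/-- All isotropic vectors are centres once those of small support are. -/
theorem Base.cen_of_small {M : Subgroup (GL (Fin n) F)} {r : ℕ} (hr : 2 ≤ r) (h2 : 2 ≤ (r - 1) * k)
    (hbig : 3 ≤ (r - 1) * k ∨ Big σ)
    (hbase : ∀ v, f v v = 0 → (Decomp.supp B.nd.decomp v).card ≤ r → v ∈ Cen σ f M) :
    ∀ v, f v v = 0 → v ∈ Cen σ f M := by
  classical
  have hf := B.unit
  suffices key : ∀ N v, f v v = 0 → (Decomp.supp B.nd.decomp v).card ≤ N → v ∈ Cen σ f M from
    fun v hv => key _ v hv le_rfl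
  intro N
  induction N with
  | zero => intro v hv h; exact hbase v hv (by omega)
  | succ N ih =>
    intro x hx hN
    by_cases hs : (Decomp.supp B.nd.decomp x).card ≤ r
    · exact hbase x hx hs
    obtain ⟨i, hi⟩ := Finset.card_pos.1 (show 0 < (Decomp.supp B.nd.decomp x).card by omega)
    obtain ⟨J, hJ, hJc⟩ := Finset.exists_subset_card_eq (s := (Decomp.supp B.nd.decomp x).erase i) (n := r - 1)
      (by rw [Finset.card_erase_of_mem hi]; omega)
    have hiJ : i ∉ J := fun h => (Finset.mem_erase.1 (hJ h)).1 rfl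
    obtain ⟨j, hj⟩ := Finset.card_pos.1 (show 0 < J.card by omega)
    have hJS : ∀ l ∈ J, l ∈ Decomp.supp B.nd.decomp x := fun l hl => (Finset.mem_erase.1 (hJ hl)).2
    obtain ⟨y, hy, hxy⟩ := (B.nd.nondegenerate j _ (B.cmp_mem j x) ((Decomp.mem_supp B.nd.decomp).1 (hJS j hj))).2
    rw [← B.form_cmp x hy] at hxy
    set a := f (B.cmp i x) (B.cmp i x) with ha
    obtain ⟨w, hw, hww, hw0, hws⟩ := exists_part hf (B.sup_nondeg J) (by rw [B.sup_finrank, hJc]; exact h2)
      (by rw [B.sup_finrank, hJc]; exact hbig) ⟨y, Finset.le_sup (f := D) hj hy, hxy⟩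
      (show σ a = a from Unit.self_fixed hf _)
    set u := B.cmp i x + w with hu
    have hwi : B.cmp i w = 0 := (B.sup_mem_iff J w).1 hw i hiJ
    have hiw : f (B.cmp i x) w = 0 := by rw [B.form_cmp' (B.cmp_mem i x), hwi, Unit.zero_right hf]
    have hwi' := Unit.eq_zero_comm hf hiw
    have huu : f u u = 0 := by
      rw [hu, Unit.add_left hf, Unit.add_right hf, Unit.add_right hf, hiw, hwi', hww]
      ring
    have hux : f u x = f w x + a := by
      rw [hu, Unit.add_left hf, B.form_cmp' (B.cmp_mem i x) x, add_comm]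
    have huv : f u (x - u) = f w x + a := by rw [Unit.sub_right hf, huu, sub_zero, hux]
    have hvv : f (x - u) (x - u) = 0 := by
      rw [Unit.sub_left hf, Unit.sub_right hf x, huv, hx, hf.herm x u, hux]
      linear_combination -hws
    have hu' : u ∈ Cen σ f M := by
      refine hbase u huu ((Finset.card_le_card (B.supp_le_of_cmp (S := insert i J) fun l hl => ?_)).trans ?_)
      · rw [Finset.mem_insert, not_or] at hl
        rw [hu, map_add, B.cmp_ne (Ne.symm hl.1) (B.cmp_mem i x), (B.sup_mem_iff J w).1 hw l hl.2, add_zero]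
      · rw [Finset.card_insert_of_notMem hiJ, hJc]; omega
    have hv' : x - u ∈ Cen σ f M := by
      refine ih _ hvv ((Finset.card_le_card (B.supp_le_of_cmp
        (S := (Decomp.supp B.nd.decomp x).erase i) fun l hl => ?_)).trans ?_)
      · by_cases hli : l = i
        · subst hli
          rw [map_sub, hu, map_add, B.cmp_self (B.cmp_mem l x), hwi, add_zero, sub_self]
        · have hlS : l ∉ Decomp.supp B.nd.decomp x := fun h => hl (Finset.mem_erase.2 ⟨hli, h⟩)
          rw [Decomp.mem_supp B.nd.decomp, not_not] at hlS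
          rw [map_sub, show B.cmp l x = 0 from hlS, hu, map_add, B.cmp_ne (Ne.symm hli) (B.cmp_mem i x),
            (B.sup_mem_iff J w).1 hw l (fun h => hl (hJ h)), add_zero, sub_zero]
      · rw [Finset.card_erase_of_mem hi]; omega
    have h := cen_add hf hu' hv' (by rw [huv]; exact hw0) (by rw [huv]; exact hws)
    rwa [add_sub_cancel] at h

end CfsgLib.GeomClasses.UnitDecomp
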