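import Cfsg.Agent.Lib.GeomClasses.UnitDecomp

/-!
Maximality of stabilizers of non-degenerate decompositions of unitary spaces into members of dimension at least two.
-/

set_option autoImplicit false
set_option linter.unusedSectionVars false
set_option linter.unusedSimpArgs false

namespace CfsgLib.GeomClasses.UnitDecomp

open Matrix CfsgLib.GeomClasses.UnitQr CfsgLib.GeomClasses.UnitSymp

variable {n : ℕ} {F : Type*} [Field F] [Fintype F] {σ : F ≃+* F} {f : (Fin n → F) → (Fin n → F) → F}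
  {t k : ℕ} {D : Fin t → Submodule F (Fin n → F)}

/-- All sums of two isotropic vectors of different members are centres. -/
def Mixed (σ : F ≃+* F) (f : (Fin n → F) → (Fin n → F) → F) (D : Fin t → Submodule F (Fin n → F))
    (M : Subgroup (GL (Fin n) F)) : Prop :=
  ∀ i j, i ≠ j → ∀ a ∈ D i, ∀ b ∈ D j, a ≠ 0 → b ≠ 0 → f a a = 0 → f b b = 0 → a + b ∈ Cen σ f M

variable (B : Base σ f D k)
include B

theorem Base.two_dim (hk : 2 ≤ k) (i : Fin t) : 2 ≤ Module.finrank F (D i) := by rw [B.rank]; exact hk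

theorem Base.isometry_of_mem {g : GL (Fin n) F} (hg : g ∈ hGrp f D) : Symp.IsIsometry f g := hg.2.1

/-- A non-isotropic vector of some member fixed by the moves of `b`. -/
theorem Base.exists_compensator (hk : 2 ≤ k) {i j : Fin t} (hij : i ≠ j) {a : Fin n → F} (ha : a ∈ D i)
    (ha0 : a ≠ 0) (haa : f a a = 0) :
    ∃ l, ∃ e ∈ D l, f e e ≠ 0 ∧ f a e = 0 ∧ ∀ b ∈ D j, f b e = 0 := by
  classical
  have hf := B.unit
  by_cases h3 : 3 ≤ k
  · obtain ⟨y, hy, hay⟩ := (B.nd.nondegenerate i a ha ha0).2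
    obtain ⟨z, hz, hzz, haz⟩ := UnitCentres.exists_iso_nonorth hf (B.nd.nondegenerate i) (B.two_dim hk i) hy hay
    obtain ⟨Y, hY, hYn, ⟨w, hw, hw0⟩, hYo⟩ := pair_compl hf (B.nd.nondegenerate i) ha hz haa hzz haz
      (by rw [B.rank]; exact h3)
    obtain ⟨e, he, hee⟩ := UnitPow.exists_nonisotropic hf hYn hw hw0
    exact ⟨i, e, hY he, hee, Unit.eq_zero_comm hf (hYo e he).1, fun b hb => B.orth (Ne.symm hij) hb (hY he)⟩
  · have ht : 3 ≤ t := by
      have h1 := B.card_eq
      have h2 := B.five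
      by_contra h
      have : t * k ≤ 2 * 2 := Nat.mul_le_mul (by omega) (by omega)
      omega
    obtain ⟨l, hl⟩ := Finset.card_pos.1 (show 0 < ((Finset.univ : Finset (Fin t)) \ {i, j}).card by
      have := Finset.le_card_sdiff ({i, j} : Finset (Fin t)) Finset.univ
      have := Finset.card_le_two (a := i) (b := j)
      simp only [Finset.card_univ, Fintype.card_fin] at *
      omega)
    simp only [Finset.mem_sdiff, Finset.mem_univ, Finset.mem_insert, Finset.mem_singleton, not_or, true_and] at hl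
    obtain ⟨e, he, hee⟩ := B.exists_aniso l
    exact ⟨l, e, he, hee, B.orth (Ne.symm hl.1) ha he, fun b hb => B.orth (Ne.symm hl.2) hb he⟩

variable {M : Subgroup (GL (Fin n) F)} (hle : hGrp f D ≤ M)
include hle

theorem Base.move_mate (hk : 2 ≤ k) {i j : Fin t} (hij : i ≠ j) {a b b' : Fin n → F} (ha : a ∈ D i)
    (ha0 : a ≠ 0) (haa : f a a = 0) (hb : b ∈ D j) (hb' : b' ∈ D j) (hbb : f b b = 0) (hbb' : f b' b' = 0)
    (h : f b b' ≠ 0) (hx : a + b ∈ Cen σ f M) : a + b' ∈ Cen σ f M := by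
  have hf := B.unit
  have hdD : b' - b ∈ D j := (D j).sub_mem hb' hb
  have hbd : f b (b' - b) = f b b' := by rw [Unit.sub_right hf, hbb, sub_zero]
  have h' : σ (f b b') ≠ 0 := (RingEquiv.map_ne_zero_iff σ).2 h
  have hq : QCond σ f (f b b')⁻¹ (b' - b) := by
    unfold QCond
    rw [Unit.sub_left hf, Unit.sub_right hf b', Unit.sub_right hf b, hbb, hbb', hf.herm b' b, map_inv₀]
    field_simp
    ring
  obtain ⟨l, e, he, hee, hae, hbe⟩ := B.exists_compensator hk hij ha ha0 haa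
  obtain ⟨r, hr, hfix⟩ := B.det_fix (qr_iso hf hq) (B.qr_stab hq hdD) he hee
  have hc := cen_map hf (hle hr) (B.isometry_of_mem hr) hx
  rwa [gl_mul_mulVec, mulVec_add, mulVec_add, qr_fix hf hq (B.orth hij ha hdD), qr_mulVec hf hq, hbd,
    inv_mul_cancel₀ h, one_smul, add_sub_cancel, hfix a hae, hfix b' (hbe b' hb')] at hc

theorem Base.mate_all (hk : 2 ≤ k) {i j : Fin t} (hij : i ≠ j) {a b b' : Fin n → F} (ha : a ∈ D i)
    (ha0 : a ≠ 0) (haa : f a a = 0) (hb : b ∈ D j) (hb0 : b ≠ 0) (hbb : f b b = 0) (hb' : b' ∈ D j)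
    (hb'0 : b' ≠ 0) (hbb' : f b' b' = 0) (hx : a + b ∈ Cen σ f M) : a + b' ∈ Cen σ f M := by
  have hf := B.unit
  by_cases h : f b b' = 0
  · obtain ⟨z, hz, hzz, hbz, hb'z⟩ := UnitCentres.exists_iso_both hf (B.nd.nondegenerate j) (B.two_dim hk j)
      (B.nd.nondegenerate j b hb hb0).2 (B.nd.nondegenerate j b' hb' hb'0).2
    exact B.move_mate hle hk hij ha ha0 haa hz hb' hzz hbb' (Unit.ne_zero_comm hf hb'z)
      (B.move_mate hle hk hij ha ha0 haa hb hz hbb hzz hbz hx)
  · exact B.move_mate hle hk hij ha ha0 haa hb hb' hbb hbb' h hx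

omit hle in
theorem Base.exists_null (hk : 2 ≤ k) (i : Fin t) : ∃ a ∈ D i, a ≠ 0 ∧ f a a = 0 :=
  UnitCentres.exists_iso B.unit (B.nd.nondegenerate i) (B.two_dim hk i)

theorem Base.pair_all (hk : 2 ≤ k) {i j : Fin t} (hij : i ≠ j) {a b : Fin n → F} (ha : a ∈ D i) (ha0 : a ≠ 0)
    (haa : f a a = 0) (hb : b ∈ D j) (hb0 : b ≠ 0) (hbb : f b b = 0) (hx : a + b ∈ Cen σ f M)
    {a' : Fin n → F} (ha' : a' ∈ D i) (ha'0 : a' ≠ 0) (haa' : f a' a' = 0) {b' : Fin n → F} (hb' : b' ∈ D j)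
    (hb'0 : b' ≠ 0) (hbb' : f b' b' = 0) : a' + b' ∈ Cen σ f M := by
  have h1 := B.mate_all hle hk hij ha ha0 haa hb hb0 hbb hb' hb'0 hbb' hx
  rw [add_comm] at h1 ⊢
  exact B.mate_all hle hk (Ne.symm hij) hb' hb'0 hbb' ha ha0 haa ha' ha'0 haa' h1

theorem Base.shift (hk : 2 ≤ k) {i j l : Fin t} (hij : i ≠ j) (hil : i ≠ l) {a b : Fin n → F} (ha : a ∈ D i)
    (ha0 : a ≠ 0) (haa : f a a = 0) (hb : b ∈ D j) (hb0 : b ≠ 0) (hbb : f b b = 0) (hx : a + b ∈ Cen σ f M) :
    ∀ a' ∈ D i, ∀ b' ∈ D l, a' ≠ 0 → b' ≠ 0 → f a' a' = 0 → f b' b' = 0 → a' + b' ∈ Cen σ f M := by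
  intro a' ha' b' hb' ha'0 hb'0 haa' hbb'
  by_cases hjl : j = l
  · subst hjl
    exact B.pair_all hle hk hij ha ha0 haa hb hb0 hbb hx ha' ha'0 haa' hb' hb'0 hbb'
  obtain ⟨g, hgi, hgs, hgj, hgo⟩ := B.exists_exchange hjl
  obtain ⟨e, he, hee⟩ := B.exists_aniso i
  obtain ⟨r, hr, hfix⟩ := B.det_fix hgi hgs he hee
  have hga : (g : Matrix (Fin n) (Fin n) F) *ᵥ a = a := hgo i hij hil a ha
  have hrD : ∀ {x}, x ∈ D l → (r : Matrix (Fin n) (Fin n) F) *ᵥ x = x := fun hx =>
    hfix _ (B.orth (Ne.symm hil) hx he)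
  have hc := cen_map B.unit (hle hr) (B.isometry_of_mem hr) hx
  rw [gl_mul_mulVec, mulVec_add, mulVec_add, hga, hrD (hgj b hb)] at hc
  have hb2 : (g : Matrix (Fin n) (Fin n) F) *ᵥ b ≠ 0 := gl_mulVec_ne_zero g hb0
  have hr2 : Symp.IsIsometry f (r * g) := B.isometry_of_mem hr
  have hra : (r : Matrix (Fin n) (Fin n) F) *ᵥ a ∈ D i := by
    obtain ⟨j', hj'⟩ := B.exists_image hr.1 i
    have h := hj' a ha
    rw [gl_mul_mulVec, hga] at h
    by_contra hne
    have hne' : j' ≠ i := fun h' => hne (h' ▸ h)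
    obtain ⟨e', he', hae'⟩ := (B.nd.nondegenerate i a ha ha0).2
    obtain ⟨l', e'', he'', hee'', hae'', -⟩ := B.exists_compensator hk hij ha ha0 haa
    have hrv : ∀ x ∈ D j', f x e = 0 := fun x hx => B.orth hne' hx he
    have := hfix _ (hrv _ h)
    have hra' : (r : Matrix (Fin n) (Fin n) F) *ᵥ a = a := gl_mulVec_injective r this
    rw [hra'] at h
    exact ha0 (by rw [← B.cmp_self ha, B.cmp_ne hne' h])
  refine B.pair_all hle hk hil hra (gl_mulVec_ne_zero r ha0) ?_ (hgj b hb) hb2 (by rw [hgi]; exact hbb) hc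
    ha' ha'0 haa' hb' hb'0 hbb'
  have h := hr2 a a
  rwa [gl_mul_mulVec, hga, haa] at h

theorem Base.mixed_of_one (hk : 2 ≤ k) {i j : Fin t} (hij : i ≠ j) {a b : Fin n → F} (ha : a ∈ D i) (ha0 : a ≠ 0)
    (haa : f a a = 0) (hb : b ∈ D j) (hb0 : b ≠ 0) (hbb : f b b = 0) (hx : a + b ∈ Cen σ f M) :
    Mixed σ f D M := by
  have flip : ∀ {p q : Fin t}, (∀ a ∈ D p, ∀ b ∈ D q, a ≠ 0 → b ≠ 0 → f a a = 0 → f b b = 0 → a + b ∈ Cen σ f M) →
      ∀ a ∈ D q, ∀ b ∈ D p, a ≠ 0 → b ≠ 0 → f a a = 0 → f b b = 0 → a + b ∈ Cen σ f M :=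
    fun h a ha b hb h1 h2 h3 h4 => by rw [add_comm]; exact h b hb a ha h2 h1 h4 h3
  intro p q hpq
  obtain ⟨a', ha', ha'0, haa'⟩ := B.exists_null hk p
  have hbase : ∀ a ∈ D i, ∀ b ∈ D j, a ≠ 0 → b ≠ 0 → f a a = 0 → f b b = 0 → a + b ∈ Cen σ f M :=
    B.shift hle hk hij hij ha ha0 haa hb hb0 hbb hx
  by_cases hpi : p = i
  · subst hpi
    exact B.shift hle hk hij hpq ha ha0 haa hb hb0 hbb hx
  have h1 : ∀ a ∈ D p, ∀ b ∈ D i, a ≠ 0 → b ≠ 0 → f a a = 0 → f b b = 0 → a + b ∈ Cen σ f M :=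
    flip (B.shift hle hk hij (Ne.symm hpi) ha ha0 haa hb hb0 hbb hx)
  exact B.shift hle hk hpi hpq ha' ha'0 haa' ha ha0 haa (h1 a' ha' a ha ha'0 ha0 haa' haa)

theorem Base.cen_two (hk : 2 ≤ k) (hP : Mixed σ f D M) {x : Fin n → F} (hx : f x x = 0)
    (hc : (Decomp.supp B.nd.decomp x).card ≤ 2) : x ∈ Cen σ f M := by
  classical
  have hf := B.unit
  obtain ⟨i, j, hij, hS⟩ : ∃ i j, i ≠ j ∧ Decomp.supp B.nd.decomp x ⊆ {i, j} := by
    obtain ⟨T, hT, -, hTc⟩ := Finset.exists_subsuperset_card_eq (Finset.subset_univ (Decomp.supp B.nd.decomp x))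
      hc (by rw [Finset.card_univ, Fintype.card_fin]; exact B.nd.decomp.two_le)
    obtain ⟨i, j, hij, rfl⟩ := Finset.card_eq_two.1 hTc
    exact ⟨i, j, hij, hT⟩
  have hzero : ∀ l, l ≠ i → l ≠ j → B.cmp l x = 0 := fun l h1 h2 => by
    by_contra h
    have := hS ((Decomp.mem_supp B.nd.decomp).2 h)
    simp [h1, h2] at this
  set p := B.cmp i x with hp
  set r := B.cmp j x with hr
  have hxe : x = p + r := Decomp.eq_of_comp B.nd.decomp fun l => by
    show B.cmp l x = B.cmp l (p + r)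
    rw [map_add]
    by_cases h1 : l = i
    · subst h1; rw [B.cmp_self (B.cmp_mem l x), B.cmp_ne (Ne.symm hij) (B.cmp_mem j x), add_zero]
    by_cases h2 : l = j
    · subst h2; rw [B.cmp_ne hij (B.cmp_mem i x), B.cmp_self (B.cmp_mem l x), zero_add]
    rw [hzero l h1 h2, B.cmp_ne (Ne.symm h1) (B.cmp_mem i x), B.cmp_ne (Ne.symm h2) (B.cmp_mem j x), add_zero]
  have hpr : f p r = 0 := B.orth hij (B.cmp_mem i x) (B.cmp_mem j x)
  have hsum : f p p + f r r = 0 := by
    rw [hxe, Unit.add_left hf, Unit.add_right hf, Unit.add_right hf, hpr, Unit.eq_zero_comm hf hpr] at hx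
    linear_combination hx
  rw [hxe]
  by_cases hn : f p p = 0
  · have hn' : f r r = 0 := by linear_combination hsum - hn
    by_cases hp0 : p = 0
    · rw [hp0, zero_add]; exact B.cen_block hle (B.cmp_mem j x) hn'
    by_cases hr0 : r = 0
    · rw [hr0, add_zero]; exact B.cen_block hle (B.cmp_mem i x) hn
    exact hP i j hij p (B.cmp_mem i x) r (B.cmp_mem j x) hp0 hr0 hn hn'
  have hn' : f r r ≠ 0 := fun h => hn (by linear_combination hsum - h)
  have hget : ∀ (l : Fin t) (y : Fin n → F), y ∈ D l → f y y ≠ 0 → ∀ T : F, T + σ T = f y y →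
      ∃ a ∈ D l, a ≠ 0 ∧ f a a = 0 ∧ f a y = T ∧ f (y - a) (y - a) = 0 ∧ y - a ≠ 0 := by
    intro l y hy hyy T hT
    obtain ⟨z, hz, hzz, hyz⟩ := UnitCentres.exists_iso_nonorth hf (B.nd.nondegenerate l) (B.two_dim hk l) hy hyy
    have hzy := Unit.ne_zero_comm hf hyz
    set a := (T / f z y) • z with ha
    have haa : f a a = 0 := by rw [ha, Unit.smul_left hf, Unit.smul_right hf, hzz, mul_zero, mul_zero]
    have hay : f a y = T := by rw [ha, Unit.smul_left hf, div_mul_cancel₀ _ hzy]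
    refine ⟨a, (D l).smul_mem _ hz, fun h => ?_, haa, hay, ?_, fun h => hyy ?_⟩
    · rw [h, Unit.zero_left hf] at hay
      exact hyy (by rw [← hT, ← hay, map_zero, add_zero])
    · rw [Unit.sub_left hf, Unit.sub_right hf, Unit.sub_right hf, haa, hay, hf.herm y a, hay]
      linear_combination -hT
    · rw [sub_eq_zero.1 h]; exact haa
  obtain ⟨T, hT⟩ := Unit.exists_trace hf.ne_refl hf.involutive (Unit.self_fixed hf p)
  obtain ⟨T', hT', hTT⟩ : ∃ T', T' + σ T' = f r r ∧ T + T' ≠ 0 := by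
    obtain ⟨l, hl⟩ := Unit.exists_trace hf.ne_refl hf.involutive (Unit.self_fixed hf r)
    by_cases h : T + l = 0
    · obtain ⟨c, hc0, hc⟩ := Unit.exists_skew hf.ne_refl hf.involutive
      exact ⟨l + c, by rw [map_add]; linear_combination hl + hc, fun h' => hc0 (by linear_combination h' - h)⟩
    · exact ⟨l, hl, h⟩
  obtain ⟨a, ha, ha0, haa, hap, hpa, hpa0⟩ := hget i p (B.cmp_mem i x) hn T hT
  obtain ⟨b, hb, hb0, hbb, hbr, hrb, hrb0⟩ := hget j r (B.cmp_mem j x) hn' T' hT'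
  have hv := hP i j hij _ ((D i).sub_mem (B.cmp_mem i x) ha) _ ((D j).sub_mem (B.cmp_mem j x) hb) hpa0 hrb0 hpa hrb
  have hu := hP i j hij a ha b hb ha0 hb0 haa hbb
  have har : f a r = 0 := B.orth hij ha (B.cmp_mem j x)
  have hbp : f b p = 0 := B.orth (Ne.symm hij) hb (B.cmp_mem i x)
  have e : f (a + b) (p - a + (r - b)) = T + T' := by
    simp only [Unit.add_left hf, Unit.add_right hf, Unit.sub_right hf, haa, hbb, hap, hbr,
      har, hbp, B.orth hij ha hb, B.orth (Ne.symm hij) hb ha]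
    ring
  have h := cen_add hf hu hv (by rwa [e]) (by rw [e, map_add]; linear_combination hT + hT' + hsum)
  rwa [show a + b + (p - a + (r - b)) = p + r by abel] at h

/-- A centre with two components gives a mixed pair, for more than two fixed elements. -/
theorem Base.mixed_big (hk : 2 ≤ k) (hB : Big σ) {x : Fin n → F} (hx : x ∈ Cen σ f M) {i j : Fin t} (hij : i ≠ j)
    (hi : B.cmp i x ≠ 0) (hj : B.cmp j x ≠ 0) : Mixed σ f D M := by
  have hf := B.unit
  obtain ⟨y, hy, hxy⟩ := (B.nd.nondegenerate i _ (B.cmp_mem i x) hi).2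
  obtain ⟨b, hb, hbb, hxb⟩ := UnitCentres.exists_iso_nonorth hf (B.nd.nondegenerate i) (B.two_dim hk i) hy hxy
  obtain ⟨y', hy', hxy'⟩ := (B.nd.nondegenerate j _ (B.cmp_mem j x) hj).2
  obtain ⟨b', hb', hbb', hxb'⟩ := UnitCentres.exists_iso_nonorth hf (B.nd.nondegenerate j) (B.two_dim hk j) hy' hxy'
  rw [← B.form_cmp x hb] at hxb
  rw [← B.form_cmp x hb'] at hxb'
  set N := f x b * f b x with hNdef
  set N' := f x b' * f b' x with hN'def
  have hN : σ N = N := by rw [hNdef, map_mul, Unit.conj_form hf, Unit.conj_form hf, mul_comm]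
  have hN' : σ N' = N' := by rw [hN'def, map_mul, Unit.conj_form hf, Unit.conj_form hf, mul_comm]
  have hN0 : N' ≠ 0 := mul_ne_zero hxb' (Unit.ne_zero_comm hf hxb')
  obtain ⟨c, hc0, hc⟩ := Unit.exists_skew hf.ne_refl hf.involutive
  obtain ⟨c', hc'0, hc', hcc⟩ := exists_skew_ne hf hB (-(c * N) / N')
  have hsum : c * N + c' * N' ≠ 0 := fun h => hcc (by rw [eq_div_iff hN0]; linear_combination h)
  have hbo : f b' b = 0 := B.orth (Ne.symm hij) hb' hb
  have hy1 := cen_map hf (hle (B.formTv_mem_H hb hbb hc)) (Unit.formTv_isometry hf hbb hc) hx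
  have hy2 := cen_map hf (hle (B.formTv_mem_H hb' hbb' hc')) (Unit.formTv_isometry hf hbb' hc') hy1
  rw [Unit.formTv_mulVec hf hbb', Unit.formTv_mulVec hf hbb, Unit.add_left hf, Unit.smul_left hf,
    Unit.eq_zero_comm hf hbo, mul_zero, add_zero] at hy2
  have hm : -x ∈ Cen σ f M := by rw [← neg_one_smul F x]; exact cen_smul hf hx _
  have e : f (x + (c * f x b) • b + (c' * f x b') • b') (-x) = -(c * N + c' * N') := by
    rw [neg_right hf, Unit.add_left hf, Unit.add_left hf, Unit.smul_left hf, Unit.smul_left hf, hx.1,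
      hNdef, hN'def]
    ring
  have h := cen_add hf hy2 hm (by rw [e]; exact neg_ne_zero.2 hsum) (by
    rw [e, map_neg, map_add, map_mul σ c, map_mul σ c', hN, hN']
    linear_combination -N * hc - N' * hc')
  rw [show x + (c * f x b) • b + (c' * f x b') • b' + -x = (c * f x b) • b + (c' * f x b') • b' by abel] at h
  have hb0 : b ≠ 0 := fun h => hxb (by rw [h, Unit.zero_right hf])
  have hb'0 : b' ≠ 0 := fun h => hxb' (by rw [h, Unit.zero_right hf])
  exact B.mixed_of_one hle hk hij ((D i).smul_mem _ hb) (smul_ne_zero (mul_ne_zero hc0 hxb) hb0)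
    (by rw [Unit.smul_left hf, Unit.smul_right hf, hbb, mul_zero, mul_zero])
    ((D j).smul_mem _ hb') (smul_ne_zero (mul_ne_zero hc'0 hxb') hb'0)
    (by rw [Unit.smul_left hf, Unit.smul_right hf, hbb', mul_zero, mul_zero]) h

omit hle in
/-- An element of the stabilizer moving a component by an isotropic vector orthogonal to it. -/
theorem Base.exists_slide (hk : 3 ≤ k) (hB : ¬ Big σ) {x : Fin n → F} {j : Fin t} (hj : B.cmp j x ≠ 0) :
    ∃ g ∈ hGrp f D, ∃ d ∈ D j, d ≠ 0 ∧ f d d = 0 ∧ f d x = 0 ∧ (g : Matrix (Fin n) (Fin n) F) *ᵥ x = x + d := by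
  classical
  have hf := B.unit
  set p := B.cmp j x with hp
  have hpD : p ∈ D j := B.cmp_mem j x
  have hfix : ∀ {a : F}, σ a = a → a ≠ 0 → a = 1 := fun {a} h1 h2 =>
    by_contra fun h3 => hB ⟨a, h1, h2, h3⟩
  by_cases hcase : f p p = 0 ∧ k = 3
  · obtain ⟨hpp, hk3⟩ := hcase
    obtain ⟨z, hz⟩ := Unit.exists_moved hf.ne_refl
    have hz0 : z ≠ 0 := fun h => hz (by rw [h, map_zero])
    have hN : z * σ z = 1 := hfix (by rw [map_mul, hf.involutive, mul_comm])
      (mul_ne_zero hz0 ((RingEquiv.map_ne_zero_iff σ).2 hz0))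
    have hm1 : (-1 : F) = 1 := hfix (by rw [map_neg, map_one]) (neg_ne_zero.2 one_ne_zero)
    have hT : z + σ z = 1 := hfix (by rw [map_add, hf.involutive, add_comm]) fun h => hz (by
      linear_combination h + z * hm1)
    have hz1 : z ≠ 1 := fun h => hz (by rw [h, map_one])
    have hz3 : z ^ 3 = 1 := by linear_combination -(z + 1) * hN + (z ^ 2 + z) * hT + hm1
    obtain ⟨e, he, hee, hex⟩ := B.exists_onb j
    have hq : ∀ r, QCond σ f (z - 1) (e r) := fun r => by
      simp only [QCond, hee, ↓reduceIte, map_sub, map_one]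
      linear_combination hN
    have key : ∀ S : Finset (Fin k), ∃ g ∈ isoGroup f, g ∈ Cfsg.Geo.decompositionStabilizer D ∧
        (g : Matrix (Fin n) (Fin n) F).det = z ^ S.card ∧
        ∀ y, (g : Matrix (Fin n) (Fin n) F) *ᵥ y = y + ∑ r ∈ S, ((z - 1) * f y (e r)) • e r := by
      intro S
      induction S using Finset.induction_on with
      | empty => exact ⟨1, (isoGroup f).one_mem, (Cfsg.Geo.decompositionStabilizer D).one_mem, by simp, by simp⟩
      | insert r S hr ih =>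
        obtain ⟨g, hg, hgs, hgd, hgm⟩ := ih
        refine ⟨qr f (z - 1) (e r) * g, (isoGroup f).mul_mem (qr_iso hf (hq r)) hg,
          (Cfsg.Geo.decompositionStabilizer D).mul_mem (B.qr_stab (hq r) (he r)) hgs, ?_, fun y => ?_⟩
        · rw [Units.val_mul, det_mul, qr_det hf (hq r), hgd, Finset.card_insert_of_notMem hr, pow_succ, hee,
            if_pos rfl]
          ring
        · have hz0' : f (∑ r' ∈ S, ((z - 1) * f y (e r')) • e r') (e r) = 0 := by
            rw [(Unit.sesq hf).sum_left]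
            refine Finset.sum_eq_zero fun r' hr' => ?_
            rw [Unit.smul_left hf, hee, if_neg (fun h : r' = r => hr (h ▸ hr')), mul_zero]
          rw [gl_mul_mulVec, hgm, qr_mulVec hf (hq r), Finset.sum_insert hr, Unit.add_left hf, hz0', add_zero]
          abel
    obtain ⟨g, hg, hgs, hgd, hgm⟩ := key Finset.univ
    refine ⟨g, ⟨hgs, kGrp_of hf hg (by rw [hgd, Finset.card_univ, Fintype.card_fin, hk3, hz3])⟩, (z - 1) • p,
      (D j).smul_mem _ hpD, smul_ne_zero (sub_ne_zero.2 hz1) hj, ?_, ?_, ?_⟩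
    · rw [Unit.smul_left hf, Unit.smul_right hf, hpp, mul_zero, mul_zero]
    · rw [Unit.smul_left hf, B.form_cmp' hpD x, hpp, mul_zero]
    · rw [hgm]
      congr 1
      simp only [mul_smul, ← Finset.smul_sum]
      congr 1
      rw [hex p hpD]
      exact Finset.sum_congr rfl fun r _ => by rw [B.form_cmp x (he r)]
  · obtain ⟨u, hu, hu0, huu, hup, hpu⟩ : ∃ u ∈ D j, u ≠ 0 ∧ f u u = 0 ∧ f u p = 0 ∧
        p ∉ Submodule.span F {u} := by
      set Z := D j ⊓ Unit.perp hf (Submodule.span F {p}) with hZ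
      have hmem : ∀ y ∈ Z, f y p = 0 := fun y hy =>
        (Unit.mem_perp hf).1 hy.2 p (Submodule.mem_span_singleton_self p)
      have hZd : k - 1 ≤ Module.finrank F Z := by
        have h1 := Submodule.finrank_sup_add_finrank_inf_eq (D j) (Unit.perp hf (Submodule.span F {p}))
        have h2 := Unit.finrank_perp hf (Submodule.span F {p})
        have h3 := Submodule.finrank_le (D j ⊔ Unit.perp hf (Submodule.span F {p}))
        rw [finrank_span_singleton hj, Fintype.card_fin] at h2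
        rw [Module.finrank_fintype_fun_eq_card, Fintype.card_fin] at h3
        rw [B.rank, ← hZ] at h1
        omega
      obtain ⟨W, hWZ, hW, hpW⟩ : ∃ W ≤ Z, 2 ≤ Module.finrank F W ∧ Disjoint W (Submodule.span F {p}) := by
        by_cases hpZ : p ∈ Z
        · obtain ⟨C, hC⟩ := Submodule.exists_isCompl (Submodule.span F {p})
          refine ⟨Z ⊓ C, inf_le_left, ?_, hC.disjoint.symm.mono_left inf_le_right⟩
          have h1 := Submodule.finrank_sup_add_finrank_inf_eq Z C
          have h2 := Submodule.finrank_add_eq_of_isCompl hC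
          have h3 := Submodule.finrank_le (Z ⊔ C)
          have h4 : k ≠ 3 := fun h => hcase ⟨hmem p hpZ, h⟩
          rw [finrank_span_singleton hj] at h2
          omega
        · refine ⟨Z, le_rfl, by omega, (Submodule.disjoint_span_singleton' hj).2 hpZ⟩
      obtain ⟨u, hu, hu0, huu⟩ := UnitCentres.exists_iso_any hf hW
      refine ⟨u, (hWZ hu).1, hu0, huu, hmem u (hWZ hu), fun hin => ?_⟩
      obtain ⟨r, hr⟩ := Submodule.mem_span_singleton.1 hin
      exact hj ((Submodule.disjoint_def.1 hpW) p (hr ▸ W.smul_mem r hu) (Submodule.mem_span_singleton_self p))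
    obtain ⟨w, hw, hwu, hwp⟩ : ∃ w ∈ D j, f u w = 0 ∧ f p w ≠ 0 := by
      by_contra hcon
      push Not at hcon
      obtain ⟨⟨q, hq, hqu⟩, -⟩ := B.nd.nondegenerate j u hu hu0
      set μ := f p q / f u q with hμ
      have huq : f u q ≠ 0 := Unit.ne_zero_comm hf hqu
      have hall : ∀ y ∈ D j, f (p - μ • u) y = 0 := by
        intro y hy
        have hy' : f u (y - σ (f u y / f u q) • q) = 0 := by
          rw [Unit.sub_right hf, Unit.smul_right hf, hf.involutive, div_mul_cancel₀ _ huq, sub_self]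
        have h := hcon _ ((D j).sub_mem hy ((D j).smul_mem _ hq)) hy'
        rw [Unit.sub_right hf, Unit.smul_right hf, hf.involutive, sub_eq_zero] at h
        rw [Unit.sub_left hf, Unit.smul_left hf, h, hμ]
        field_simp
        ring
      by_cases h0 : p - μ • u = 0
      · exact hpu (Submodule.mem_span_singleton.2 ⟨μ, (sub_eq_zero.1 h0).symm⟩)
      obtain ⟨y, hy, hne⟩ := (B.nd.nondegenerate j _ ((D j).sub_mem hpD ((D j).smul_mem _ hu)) h0).2
      exact hne (hall y hy)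
    obtain ⟨γ, hγ⟩ := Unit.exists_trace hf.ne_refl hf.involutive
      (show σ (- f w w) = - f w w by rw [map_neg, Unit.self_fixed hf])
    have hxu : f x u = 0 := by rw [B.form_cmp x hu]; exact Unit.eq_zero_comm hf hup
    refine ⟨UnitOrth.root f u w γ, ⟨B.mem_stab fun l => ⟨l, fun v hv => ?_⟩,
      UnitOrth.root_isometry hf huu hwu hγ, UnitCentres.root_det hf⟩, -(f p w) • u, (D j).smul_mem _ hu,
      smul_ne_zero (neg_ne_zero.2 hwp) hu0, ?_, ?_, ?_⟩
    · rw [UnitOrth.root_mulVec hf huu hwu]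
      by_cases hl : l = j
      · subst hl
        exact (D l).add_mem ((D l).add_mem hv ((D l).smul_mem _ hw)) ((D l).smul_mem _ hu)
      · rw [B.orth hl hv hu, B.orth hl hv hw, mul_zero, sub_zero, zero_smul, zero_smul, add_zero, add_zero]
        exact hv
    · rw [Unit.smul_left hf, Unit.smul_right hf, huu, mul_zero, mul_zero]
    · rw [Unit.smul_left hf, Unit.eq_zero_comm hf hxu, mul_zero]
    · rw [UnitOrth.root_mulVec hf huu hwu, hxu, zero_smul, add_zero, mul_zero, zero_sub, B.form_cmp x hw]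

/-- A centre with two components gives a mixed pair, for two fixed elements. -/
theorem Base.mixed_small (hk : 3 ≤ k) (hB : ¬ Big σ) {x : Fin n → F} (hx : x ∈ Cen σ f M) {i j : Fin t}
    (hij : i ≠ j) (hi : B.cmp i x ≠ 0) (hj : B.cmp j x ≠ 0) : Mixed σ f D M := by
  have hf := B.unit
  obtain ⟨y, hy, hxy⟩ := (B.nd.nondegenerate i _ (B.cmp_mem i x) hi).2
  obtain ⟨b, hb, hbb, hxb⟩ := UnitCentres.exists_iso_nonorth hf (B.nd.nondegenerate i) (B.two_dim (by omega) i) hy hxy
  rw [← B.form_cmp x hb] at hxb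
  obtain ⟨g, hg, d, hd, hd0, hdd, hdx, hgx⟩ := B.exists_slide hk hB hj
  obtain ⟨c, hc0, hc⟩ := Unit.exists_skew hf.ne_refl hf.involutive
  have hy1 := cen_map hf (hle hg) (B.isometry_of_mem hg) hx
  rw [hgx] at hy1
  have hy2 := cen_map hf (hle (B.formTv_mem_H hb hbb hc)) (Unit.formTv_isometry hf hbb hc) hy1
  rw [Unit.formTv_mulVec hf hbb, Unit.add_left hf, B.orth (Ne.symm hij) hd hb, add_zero] at hy2
  have hm : -x ∈ Cen σ f M := by rw [← neg_one_smul F x]; exact cen_smul hf hx _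
  have e : f (x + d + (c * f x b) • b) (-x) = -(c * (f x b * f b x)) := by
    rw [neg_right hf, Unit.add_left hf, Unit.add_left hf, Unit.smul_left hf, hx.1, hdx]
    ring
  have hN : σ (f x b * f b x) = f x b * f b x := by rw [map_mul, Unit.conj_form hf, Unit.conj_form hf, mul_comm]
  have h := cen_add hf hy2 hm (by
    rw [e]; exact neg_ne_zero.2 (mul_ne_zero hc0 (mul_ne_zero hxb (Unit.ne_zero_comm hf hxb)))) (by
    rw [e, map_neg, map_mul σ c, hN]; linear_combination -(f x b * f b x) * hc)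
  rw [show x + d + (c * f x b) • b + -x = (c * f x b) • b + d by abel] at h
  exact B.mixed_of_one hle (by omega) hij ((D i).smul_mem _ hb)
    (smul_ne_zero (mul_ne_zero hc0 hxb) fun h => hxb (by rw [h, Unit.zero_right hf]))
    (by rw [Unit.smul_left hf, Unit.smul_right hf, hbb, mul_zero, mul_zero]) hd hd0 hdd h

/-- A larger group contains all transvections. -/
theorem Base.cen_all_block (hk : 2 ≤ k) (hex : 3 ≤ k ∨ Big σ) (hMK : M ≤ kGrp f) (hne : M ≠ hGrp f D) :
    ∀ v, f v v = 0 → v ∈ Cen σ f M := by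
  classical
  have hf := B.unit
  obtain ⟨g, hg, hgs⟩ : ∃ g ∈ M, g ∉ Cfsg.Geo.decompositionStabilizer D := by
    by_contra h
    push Not at h
    exact hne (le_antisymm (fun g hg => ⟨h g hg, hMK hg⟩) hle)
  have hgi : Symp.IsIsometry f g := (hMK hg).1
  obtain ⟨i, v, hv, hvv, p, q, hpq, hp, hq⟩ : ∃ i, ∃ v ∈ D i, f v v = 0 ∧ ∃ p q, p ≠ q ∧
      B.cmp p ((g : Matrix (Fin n) (Fin n) F) *ᵥ v) ≠ 0 ∧ B.cmp q ((g : Matrix (Fin n) (Fin n) F) *ᵥ v) ≠ 0 := by
    by_contra hcon
    push Not at hcon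
    refine hgs (B.mem_stab fun i => ?_)
    have hone : ∀ v ∈ D i, f v v = 0 → ∀ a, B.cmp a ((g : Matrix (Fin n) (Fin n) F) *ᵥ v) ≠ 0 →
        (g : Matrix (Fin n) (Fin n) F) *ᵥ v ∈ D a := fun v hv hvv a ha =>
      Decomp.mem_of_comp_eq_zero B.nd.decomp fun l hl => hcon i v hv hvv a l (Ne.symm hl) ha
    obtain ⟨u, hu, hu0, huu⟩ := B.exists_null hk i
    obtain ⟨a, ha⟩ : ∃ a, B.cmp a ((g : Matrix (Fin n) (Fin n) F) *ᵥ u) ≠ 0 := by
      by_contra h
      push Not at h
      exact gl_mulVec_ne_zero g hu0 (Decomp.eq_of_comp B.nd.decomp fun l => by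
        rw [show Decomp.comp B.nd.decomp l ((g : Matrix (Fin n) (Fin n) F) *ᵥ u) = 0 from h l, map_zero])
    have hua := hone u hu huu a ha
    have hsame : ∀ w ∈ D i, f w w = 0 → ∀ z ∈ D i, f z z = 0 → f w z ≠ 0 → ∀ b,
        (g : Matrix (Fin n) (Fin n) F) *ᵥ w ∈ D b → (g : Matrix (Fin n) (Fin n) F) *ᵥ z ∈ D b := by
      intro w hw hww z hz hzz hwz b hb
      refine hone z hz hzz b fun h => hwz ?_
      rw [← hgi, B.form_cmp' hb, h, Unit.zero_right hf]
    refine ⟨a, fun x hx => ?_⟩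
    have hle' := UnitCentres.le_of_iso hf (B.nd.nondegenerate i) (B.two_dim hk i)
      (Y := (D a).comap (Matrix.toLin' (g : Matrix (Fin n) (Fin n) F))) (fun w hw hww => ?_) hx
    · simpa using hle'
    · rw [Submodule.mem_comap, Matrix.toLin'_apply]
      by_cases hw0 : w = 0
      · simp [hw0]
      obtain ⟨z, hz, hzz, huz, hwz⟩ := UnitCentres.exists_iso_both hf (B.nd.nondegenerate i) (B.two_dim hk i)
        (B.nd.nondegenerate i u hu hu0).2 (B.nd.nondegenerate i w hw hw0).2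
      exact hsame z hz hzz w hw hww (Unit.ne_zero_comm hf hwz) a (hsame u hu huu z hz hzz huz a hua)
  have hx := cen_map hf hg hgi (B.cen_block hle hv hvv)
  have hP : Mixed σ f D M := by
    by_cases hB : Big σ
    · exact B.mixed_big hle hk hB hx hpq hp hq
    · exact B.mixed_small hle (hex.resolve_right hB) hB hx hpq hp hq
  refine B.cen_of_small (r := 2) le_rfl (by simpa using hk) ?_ fun v hv hc => B.cen_two hle hk hP hv hc
  rcases hex with h | h
  · exact Or.inl (by simpa using h)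
  · exact Or.inr h

omit hle in
/-- Some transvection does not permute the members. -/
theorem Base.proper_block (hk : 2 ≤ k) : hGrp f D < kGrp f := by
  classical
  have hf := B.unit
  refine lt_of_le_of_ne inf_le_right fun he => ?_
  have h2 := B.nd.decomp.two_le
  set i : Fin t := ⟨0, by omega⟩
  set j : Fin t := ⟨1, by omega⟩
  have hij : i ≠ j := by simp [i, j, Fin.ext_iff]
  obtain ⟨a, ha, ha0, haa⟩ := B.exists_null hk i
  obtain ⟨b, hb, hb0, hbb⟩ := B.exists_null hk j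
  obtain ⟨y, hy, hay⟩ := (B.nd.nondegenerate i a ha ha0).2
  obtain ⟨p, hp, hpp, hap⟩ := UnitCentres.exists_iso_nonorth hf (B.nd.nondegenerate i) (B.two_dim hk i) hy hay
  have hpa := Unit.ne_zero_comm hf hap
  have hvv : f (a + b) (a + b) = 0 := by
    rw [Unit.add_left hf, Unit.add_right hf, Unit.add_right hf, haa, hbb, B.orth hij ha hb,
      B.orth (Ne.symm hij) hb ha]
    ring
  obtain ⟨c, hc0, hc⟩ := Unit.exists_skew hf.ne_refl hf.involutive
  obtain ⟨l, hl⟩ := B.exists_image (he.ge (formTv_iso hf hvv hc)).1 i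
  have h := hl p hp
  rw [Unit.formTv_mulVec hf hvv, Unit.add_right hf, B.orth hij hp hb, add_zero] at h
  set κ := c * f p a with hκ
  have hκ0 : κ ≠ 0 := mul_ne_zero hc0 hpa
  by_cases hli : l = i
  · subst hli
    have h1 := B.cmp_ne hij h
    rw [map_add, map_smul, map_add, B.cmp_ne hij hp, B.cmp_ne hij ha, B.cmp_self hb, zero_add, zero_add,
      smul_eq_zero] at h1
    exact hb0 (h1.resolve_left hκ0)
  · have h1 := B.cmp_ne hli h
    rw [map_add, map_smul, map_add, B.cmp_self hp, B.cmp_self ha, B.cmp_ne (Ne.symm hij) hb, add_zero] at h1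
    have := congrArg (fun z => f z a) h1
    simp only [Unit.add_left hf, Unit.smul_left hf, Unit.zero_left hf, haa, mul_zero, add_zero] at this
    exact hpa this

end CfsgLib.GeomClasses.UnitDecomp
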