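import Cfsg.Agent.Lib.GeomClasses.UnitDecomp
import Cfsg.Agent.Lib.GeomClasses.UnitCircle

/-!
Orthonormal frames of unitary spaces: coordinates, monomial isometries, diagonal elements and permutations.
-/

set_option autoImplicit false
set_option linter.unusedSectionVars false
set_option linter.unusedSimpArgs false

namespace CfsgLib.GeomClasses.UnitFrame

open Matrix CfsgLib.GeomClasses.UnitQr CfsgLib.GeomClasses.UnitSymp CfsgLib.GeomClasses.UnitDecomp
  CfsgLib.GeomClasses.UnitCircle

variable {n : ℕ} {F : Type*} [Field F] [Fintype F] {σ : F ≃+* F} {f : (Fin n → F) → (Fin n → F) → F}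
  {t : ℕ} {D : Fin t → Submodule F (Fin n → F)} {e : Fin t → Fin n → F}

/-- A decomposition into lines with a chosen unit vector in each. -/
structure Frame (σ : F ≃+* F) (f : (Fin n → F) → (Fin n → F) → F) (D : Fin t → Submodule F (Fin n → F))
    (e : Fin t → Fin n → F) : Prop where
  base : Base σ f D 1
  mem : ∀ a, e a ∈ D a
  norm : ∀ a, f (e a) (e a) = 1
  six : 6 ≤ n

/-- The indices of the non-zero coordinates. -/
noncomputable def sp (f : (Fin n → F) → (Fin n → F) → F) (e : Fin t → Fin n → F) (x : Fin n → F) : Finset (Fin t) := by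
  classical exact Finset.univ.filter fun a => f x (e a) ≠ 0

/-- The rank-one isometry multiplying a unit vector by a scalar. -/
noncomputable def rho (f : (Fin n → F) → (Fin n → F) → F) (u : Fin n → F) (ε : F) : GL (Fin n) F :=
  qr f (ε - 1) u

theorem mem_sp {x : Fin n → F} {a : Fin t} : a ∈ sp f e x ↔ f x (e a) ≠ 0 := by simp [sp]

theorem _root_.CfsgLib.GeomClasses.UnitDecomp.Base.exists_frame (B : Base σ f D 1) (hn : 6 ≤ n) :
    ∃ e : Fin t → Fin n → F, Frame σ f D e := by
  choose o ho hoo _ using fun a => B.exists_onb a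
  exact ⟨fun a => o a 0, B, fun a => ho a 0, fun a => by rw [hoo]; simp, hn⟩

variable (P : Frame σ f D e)
include P

theorem Frame.unit : Cfsg.Geo.IsUnitaryForm σ f := P.base.unit

theorem Frame.t_eq : t = n := by have := P.base.card_eq; omega

theorem Frame.six_le : 6 ≤ t := by have := P.t_eq; have := P.six; omega

theorem Frame.orth {a b : Fin t} (h : a ≠ b) : f (e a) (e b) = 0 := P.base.orth h (P.mem a) (P.mem b)

theorem Frame.form_e [DecidableEq (Fin t)] (a b : Fin t) : f (e a) (e b) = if a = b then 1 else 0 := by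
  split_ifs with h
  · subst h; exact P.norm a
  · exact P.orth h

theorem Frame.e_ne (a : Fin t) : e a ≠ 0 := fun h => by
  have := P.norm a
  rw [h, Unit.zero_left P.unit] at this
  exact zero_ne_one this

theorem Frame.line (a : Fin t) : D a = Submodule.span F {e a} :=
  (Submodule.eq_of_le_of_finrank_eq ((Submodule.span_singleton_le_iff_mem _ _).2 (P.mem a))
    (by rw [finrank_span_singleton (P.e_ne a), P.base.rank])).symm

theorem Frame.cmp_eq (a : Fin t) (x : Fin n → F) : P.base.cmp a x = f x (e a) • e a := by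
  obtain ⟨r, hr⟩ := Submodule.mem_span_singleton.1 (P.line a ▸ P.base.cmp_mem a x)
  have h : f x (e a) = r := by
    rw [P.base.form_cmp x (P.mem a), ← hr, Unit.smul_left P.unit, P.norm, mul_one]
  rw [h, hr]

theorem Frame.expand (x : Fin n → F) : ∑ a, f x (e a) • e a = x := by
  conv_rhs => rw [← Decomp.sum_comp P.base.nd.decomp x]
  exact Finset.sum_congr rfl fun a _ => (P.cmp_eq a x).symm

theorem Frame.ext {x y : Fin n → F} (h : ∀ a, f x (e a) = f y (e a)) : x = y := by
  rw [← P.expand x, ← P.expand y]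
  exact Finset.sum_congr rfl fun a _ => by rw [h a]

theorem Frame.form_coord (x y : Fin n → F) : f x y = ∑ a, f x (e a) * σ (f y (e a)) := by
  conv_lhs => rw [← P.expand x, (Unit.sesq P.unit).sum_left]
  refine Finset.sum_congr rfl fun a _ => ?_
  rw [Unit.smul_left P.unit, Unit.conj_form P.unit]

theorem Frame.coord_sum (S : Finset (Fin t)) (c : Fin t → F) (b : Fin t) :
    f (∑ a ∈ S, c a • e a) (e b) = if b ∈ S then c b else 0 := by
  classical
  rw [(Unit.sesq P.unit).sum_left]
  simp only [Unit.smul_left P.unit, P.form_e, mul_ite, mul_one, mul_zero, Finset.sum_ite_eq']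

theorem Frame.supp_eq (x : Fin n → F) : Decomp.supp P.base.nd.decomp x = sp f e x := by
  ext a
  rw [Decomp.mem_supp, mem_sp, show Decomp.comp P.base.nd.decomp a x = f x (e a) • e a from P.cmp_eq a x,
    smul_ne_zero_iff]
  exact ⟨fun h => h.1, fun h => ⟨h, P.e_ne a⟩⟩

theorem Frame.stab_of {g : GL (Fin n) F}
    (h : ∀ a, ∃ (b : Fin t) (c : F), (g : Matrix (Fin n) (Fin n) F) *ᵥ e a = c • e b) :
    g ∈ Cfsg.Geo.decompositionStabilizer D := by
  refine P.base.mem_stab fun a => ?_
  obtain ⟨b, c, hbc⟩ := h a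
  refine ⟨b, fun v hv => ?_⟩
  rw [P.line a] at hv
  obtain ⟨r, rfl⟩ := Submodule.mem_span_singleton.1 hv
  rw [mulVec_smul, hbc]
  exact (D b).smul_mem _ ((D b).smul_mem _ (P.mem b))

theorem Frame.mono {g : GL (Fin n) F} (hgi : g ∈ isoGroup f) (hg : g ∈ Cfsg.Geo.decompositionStabilizer D) :
    ∃ (π : Equiv.Perm (Fin t)) (c : Fin t → F),
      ∀ a, (g : Matrix (Fin n) (Fin n) F) *ᵥ e a = c a • e (π a) ∧ c a * σ (c a) = 1 := by
  obtain ⟨π, hπ⟩ := hg
  have key : ∀ a, ∃ c, (g : Matrix (Fin n) (Fin n) F) *ᵥ e a = c • e (π a) ∧ c * σ c = 1 := fun a => by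
    have h : (g : Matrix (Fin n) (Fin n) F) *ᵥ e a ∈ D (π a) := by
      rw [← hπ a]
      exact ⟨e a, P.mem a, by rw [Matrix.toLin'_apply]⟩
    rw [P.line] at h
    obtain ⟨c, hc⟩ := Submodule.mem_span_singleton.1 h
    refine ⟨c, hc.symm, ?_⟩
    have := hgi (e a) (e a)
    rwa [← hc, Unit.smul_left P.unit, Unit.smul_right P.unit, P.norm, P.norm, mul_one] at this
  choose c hc using key
  exact ⟨π, c, hc⟩

theorem Frame.mono_coord {g : GL (Fin n) F} (hgi : g ∈ isoGroup f) {a b : Fin t} {c : F}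
    (hc : (g : Matrix (Fin n) (Fin n) F) *ᵥ e a = c • e b) (hN : c * σ c = 1) (x : Fin n → F) :
    f ((g : Matrix (Fin n) (Fin n) F) *ᵥ x) (e b) = c * f x (e a) := by
  have h := hgi x (e a)
  rw [hc, Unit.smul_right P.unit] at h
  rw [← h, ← mul_assoc, hN, one_mul]

omit P

section unit

variable (hf : Cfsg.Geo.IsUnitaryForm σ f) {u v : Fin n → F} {ε : F}
include hf

theorem rho_cond (hu : f u u = 1) (hε : ε * σ ε = 1) : QCond σ f (ε - 1) u := by
  simp only [QCond, hu, map_sub, map_one]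
  linear_combination hε

theorem rho_mulVec (hu : f u u = 1) (hε : ε * σ ε = 1) (x : Fin n → F) :
    (rho f u ε : Matrix (Fin n) (Fin n) F) *ᵥ x = x + ((ε - 1) * f x u) • u :=
  qr_mulVec hf (rho_cond hf hu hε) x

theorem rho_iso (hu : f u u = 1) (hε : ε * σ ε = 1) : rho f u ε ∈ isoGroup f := qr_iso hf (rho_cond hf hu hε)

theorem rho_det (hu : f u u = 1) (hε : ε * σ ε = 1) : (rho f u ε : Matrix (Fin n) (Fin n) F).det = ε := by
  rw [rho, qr_det hf (rho_cond hf hu hε), hu]
  ring

theorem rho_inv (hu : f u u = 1) (hε : ε * σ ε = 1) : (rho f u ε)⁻¹ = rho f u (σ ε) := by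
  rw [rho, rho, qr_inv hf (rho_cond hf hu hε), map_sub, map_one]

theorem rho_conj {g : GL (Fin n) F} (hg : Symp.IsIsometry f g) (hu : f u u = 1) (hε : ε * σ ε = 1) :
    g * rho f u ε * g⁻¹ = rho f ((g : Matrix (Fin n) (Fin n) F) *ᵥ u) ε :=
  qr_conj hf hg (rho_cond hf hu hε)

theorem rho_smul {c : F} (hc : c * σ c = 1) (hu : f u u = 1) (hε : ε * σ ε = 1) :
    rho f (c • u) ε = rho f u ε := by
  have h : f (c • u) (c • u) = 1 := by rw [Unit.smul_left hf, Unit.smul_right hf, hu, mul_one, hc]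
  rw [rho, (qr_smul hf (rho_cond hf h hε)).2, hc, mul_one, rho]

theorem rho_fix (hu : f u u = 1) (hε : ε * σ ε = 1) {x : Fin n → F} (hx : f x u = 0) :
    (rho f u ε : Matrix (Fin n) (Fin n) F) *ᵥ x = x :=
  qr_fix hf (rho_cond hf hu hε) hx

theorem rho_self (hu : f u u = 1) (hε : ε * σ ε = 1) :
    (rho f u ε : Matrix (Fin n) (Fin n) F) *ᵥ u = ε • u := by
  rw [rho, qr_self hf (rho_cond hf hu hε), hu]
  congr 1
  ring

end unit

include P

theorem Frame.rho_stab (a : Fin t) {ε : F} (hε : ε * σ ε = 1) :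
    rho f (e a) ε ∈ Cfsg.Geo.decompositionStabilizer D :=
  P.base.qr_stab (rho_cond P.unit (P.norm a) hε) (P.mem a)

/-- The diagonal element with prescribed entries of norm one. -/
theorem Frame.exists_diag (η : Fin t → F) (hη : ∀ a, η a * σ (η a) = 1) :
    ∃ g ∈ isoGroup f, g ∈ Cfsg.Geo.decompositionStabilizer D ∧
      ∀ a, (g : Matrix (Fin n) (Fin n) F) *ᵥ e a = η a • e a := by
  classical
  have key : ∀ S : Finset (Fin t), ∃ g ∈ isoGroup f, g ∈ Cfsg.Geo.decompositionStabilizer D ∧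
      ∀ a, (g : Matrix (Fin n) (Fin n) F) *ᵥ e a = (if a ∈ S then η a else 1) • e a := by
    intro S
    induction S using Finset.induction_on with
    | empty => exact ⟨1, (isoGroup f).one_mem, (Cfsg.Geo.decompositionStabilizer D).one_mem, by simp⟩
    | insert b S hb ih =>
      obtain ⟨g, hg, hgs, hgm⟩ := ih
      refine ⟨rho f (e b) (η b) * g, (isoGroup f).mul_mem (rho_iso P.unit (P.norm b) (hη b)) hg,
        (Cfsg.Geo.decompositionStabilizer D).mul_mem (P.rho_stab b (hη b)) hgs, fun a => ?_⟩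
      rw [gl_mul_mulVec, hgm, mulVec_smul]
      by_cases hab : a = b
      · subst hab
        rw [rho_self P.unit (P.norm a) (hη a), if_neg hb, one_smul, if_pos (Finset.mem_insert_self a S)]
      · rw [rho_fix P.unit (P.norm b) (hη b) (P.orth hab)]
        simp only [Finset.mem_insert, hab, false_or]
  obtain ⟨g, hg, hgs, hgm⟩ := key Finset.univ
  exact ⟨g, hg, hgs, fun a => by rw [hgm, if_pos (Finset.mem_univ a)]⟩

/-- The element exchanging two frame vectors up to a scalar. -/
theorem Frame.swap_vec {a b : Fin t} (h : a ≠ b) {c : F} (hc : c * σ c = 1) :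
    QCond σ f (-1) (e a - c • e b) ∧
      (qr f (-1) (e a - c • e b) : Matrix (Fin n) (Fin n) F) *ᵥ e a = c • e b ∧
      (qr f (-1) (e a - c • e b) : Matrix (Fin n) (Fin n) F) *ᵥ e b = σ c • e a ∧
      (∀ l, l ≠ a → l ≠ b → (qr f (-1) (e a - c • e b) : Matrix (Fin n) (Fin n) F) *ᵥ e l = e l) ∧
      (qr f (-1) (e a - c • e b) : Matrix (Fin n) (Fin n) F).det = -1 := by
  have hf := P.unit
  have hdd : f (e a - c • e b) (e a - c • e b) = 2 := by
    simp only [Unit.sub_left hf, Unit.sub_right hf, Unit.smul_left hf, Unit.smul_right hf, P.norm, P.orth h,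
      P.orth (Ne.symm h)]
    linear_combination hc
  have hq : QCond σ f (-1) (e a - c • e b) := by
    simp [QCond, hdd]
    ring
  refine ⟨hq, ?_, ?_, fun l hla hlb => qr_fix hf hq ?_, ?_⟩
  · rw [qr_mulVec hf hq, Unit.sub_right hf, Unit.smul_right hf, P.norm, P.orth h, mul_zero, sub_zero, mul_one,
      neg_one_smul]
    abel
  · rw [qr_mulVec hf hq, Unit.sub_right hf, Unit.smul_right hf, P.norm, P.orth (Ne.symm h), mul_one, zero_sub,
      neg_mul_neg, one_mul, smul_sub, smul_smul, mul_comm (σ c), hc, one_smul]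
    abel
  · rw [Unit.sub_right hf, Unit.smul_right hf, P.orth hla, P.orth hlb, mul_zero, sub_zero]
  · rw [qr_det hf hq, hdd]
    ring

theorem Frame.swap_stab {a b : Fin t} (h : a ≠ b) {c : F} (hc : c * σ c = 1) :
    qr f (-1) (e a - c • e b) ∈ Cfsg.Geo.decompositionStabilizer D := by
  obtain ⟨-, ha, hb, ho, -⟩ := P.swap_vec h hc
  refine P.stab_of fun l => ?_
  by_cases hla : l = a
  · subst hla; exact ⟨b, c, ha⟩
  by_cases hlb : l = b
  · subst hlb; exact ⟨a, σ c, hb⟩
  exact ⟨l, 1, by rw [ho l hla hlb, one_smul]⟩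

/-- The element permuting the frame vectors. -/
theorem Frame.exists_perm (π : Equiv.Perm (Fin t)) :
    ∃ g ∈ isoGroup f, g ∈ Cfsg.Geo.decompositionStabilizer D ∧
      ∀ a, (g : Matrix (Fin n) (Fin n) F) *ᵥ e a = e (π a) := by
  induction π using Equiv.Perm.swap_induction_on with
  | one => exact ⟨1, (isoGroup f).one_mem, (Cfsg.Geo.decompositionStabilizer D).one_mem, by simp⟩
  | swap_mul π x y hxy ih =>
    obtain ⟨g, hg, hgs, hgm⟩ := ih
    obtain ⟨hq, hx, hy, ho, -⟩ := P.swap_vec hxy (c := 1) (by simp)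
    refine ⟨qr f (-1) (e x - (1 : F) • e y) * g, (isoGroup f).mul_mem (qr_iso P.unit hq) hg,
      (Cfsg.Geo.decompositionStabilizer D).mul_mem (P.swap_stab hxy (by simp)) hgs, fun a => ?_⟩
    rw [gl_mul_mulVec, hgm, Equiv.Perm.mul_apply]
    by_cases h1 : π a = x
    · rw [h1, hx, one_smul, Equiv.swap_apply_left]
    by_cases h2 : π a = y
    · rw [h2, hy, map_one, one_smul, Equiv.swap_apply_right]
    rw [ho _ h1 h2, Equiv.swap_apply_of_ne_of_ne h1 h2]

/-- Some index avoids a small set. -/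
theorem Frame.exists_notMem {S : Finset (Fin t)} (h : S.card < t) : ∃ a, a ∉ S := by
  by_contra hc
  push Not at hc
  rw [Finset.eq_univ_iff_forall.2 hc, Finset.card_univ, Fintype.card_fin] at h
  omega

end CfsgLib.GeomClasses.UnitFrame
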