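import Cfsg.Agent.Lib.GeomClasses.UnitFrame

/-!
Unit vectors whose quasi-reflection is congruent to those of a frame modulo an overgroup of the monomial group.
-/

set_option autoImplicit false
set_option linter.unusedSectionVars false
set_option linter.unusedSimpArgs false

namespace CfsgLib.GeomClasses.UnitFrame

open Matrix CfsgLib.GeomClasses.UnitQr CfsgLib.GeomClasses.UnitSymp CfsgLib.GeomClasses.UnitDecomp
  CfsgLib.GeomClasses.UnitCircle

variable {n : ℕ} {F : Type*} [Field F] [Fintype F] {σ : F ≃+* F} {f : (Fin n → F) → (Fin n → F) → F}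
  {t : ℕ} {D : Fin t → Submodule F (Fin n → F)} {e : Fin t → Fin n → F}

/-- The product of two quasi-reflections with inverse scalars. -/
noncomputable def duo (σ : F ≃+* F) (f : (Fin n → F) → (Fin n → F) → F) (u v : Fin n → F) (ε : F) : GL (Fin n) F :=
  rho f u ε * rho f v (σ ε)

/-- The class of the frame, with a vanishing coordinate. -/
def cls (σ : F ≃+* F) (f : (Fin n → F) → (Fin n → F) → F) (e : Fin t → Fin n → F) (M : Subgroup (GL (Fin n) F)) :
    Set (Fin n → F) :=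
  {x | f x x = 1 ∧ (∀ a ε, ε * σ ε = 1 → duo σ f x (e a) ε ∈ M) ∧ ∃ b, f x (e b) = 0}

theorem norm_conj (hf : Cfsg.Geo.IsUnitaryForm σ f) {ε : F} (h : ε * σ ε = 1) : σ ε * σ (σ ε) = 1 := by
  rw [hf.involutive, mul_comm, h]

theorem duo_mem (hf : Cfsg.Geo.IsUnitaryForm σ f) {u v : Fin n → F} (hu : f u u = 1) (hv : f v v = 1) {ε : F}
    (hε : ε * σ ε = 1) : duo σ f u v ε ∈ kGrp f := by
  refine kGrp_of hf ((isoGroup f).mul_mem (rho_iso hf hu hε) (rho_iso hf hv (norm_conj hf hε))) ?_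
  rw [duo, Units.val_mul, det_mul, rho_det hf hu hε, rho_det hf hv (norm_conj hf hε), hε]

theorem duo_conj (hf : Cfsg.Geo.IsUnitaryForm σ f) {g : GL (Fin n) F} (hg : Symp.IsIsometry f g) {u v : Fin n → F}
    (hu : f u u = 1) (hv : f v v = 1) {ε : F} (hε : ε * σ ε = 1) :
    g * duo σ f u v ε * g⁻¹ =
      duo σ f ((g : Matrix (Fin n) (Fin n) F) *ᵥ u) ((g : Matrix (Fin n) (Fin n) F) *ᵥ v) ε := by
  rw [duo, duo, ← rho_conj hf hg hu hε, ← rho_conj hf hg hv (norm_conj hf hε)]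
  group

theorem duo_trans (hf : Cfsg.Geo.IsUnitaryForm σ f) {u v w : Fin n → F} (hu : f u u = 1) (hv : f v v = 1)
    (hw : f w w = 1) {ε : F} (hε : ε * σ ε = 1) : duo σ f u w ε * (duo σ f v w ε)⁻¹ = duo σ f u v ε := by
  rw [duo, duo, duo, _root_.mul_inv_rev, rho_inv hf hw (norm_conj hf hε), rho_inv hf hv hε, hf.involutive,
    mul_assoc, ← mul_assoc (rho f w (σ ε)), ← rho_inv hf hw hε, inv_mul_cancel, one_mul]

variable (P : Frame σ f D e)
include P

theorem Frame.duo_H (a b : Fin t) {ε : F} (hε : ε * σ ε = 1) : duo σ f (e a) (e b) ε ∈ hGrp f D :=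
  ⟨(Cfsg.Geo.decompositionStabilizer D).mul_mem (P.rho_stab a hε) (P.rho_stab b (norm_conj P.unit hε)),
    duo_mem P.unit (P.norm a) (P.norm b) hε⟩

variable {M : Subgroup (GL (Fin n) F)} (hle : hGrp f D ≤ M)
include hle

theorem Frame.cls_frame (a : Fin t) : e a ∈ cls σ f e M := by
  refine ⟨P.norm a, fun b ε hε => hle (P.duo_H a b hε), ?_⟩
  have := P.six_le
  obtain ⟨b, hb⟩ := P.exists_notMem (S := {a}) (by rw [Finset.card_singleton]; omega)
  exact ⟨b, P.orth (fun h : a = b => hb (by simp [h]))⟩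

theorem Frame.cls_duo {x y : Fin n → F} (hx : x ∈ cls σ f e M) (hy : y ∈ cls σ f e M) {ε : F} (hε : ε * σ ε = 1) :
    duo σ f x y ε ∈ M := by
  have := P.six_le
  let a : Fin t := ⟨0, by omega⟩
  rw [← duo_trans P.unit hx.1 hy.1 (P.norm a) hε]
  exact M.mul_mem (hx.2.1 a ε hε) (M.inv_mem (hy.2.1 a ε hε))

theorem Frame.cls_map {g : GL (Fin n) F} (hg : g ∈ M) (hgi : Symp.IsIsometry f g) {x₀ : Fin n → F}
    (hx₀ : x₀ ∈ cls σ f e M) {b' : Fin t} {c' : F} (hc' : c' * σ c' = 1)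
    (hgx₀ : (g : Matrix (Fin n) (Fin n) F) *ᵥ x₀ = c' • e b') {x : Fin n → F} (hx : x ∈ cls σ f e M)
    (hz : ∃ b, f ((g : Matrix (Fin n) (Fin n) F) *ᵥ x) (e b) = 0) :
    (g : Matrix (Fin n) (Fin n) F) *ᵥ x ∈ cls σ f e M := by
  have hf := P.unit
  have hgxx : f ((g : Matrix (Fin n) (Fin n) F) *ᵥ x) ((g : Matrix (Fin n) (Fin n) F) *ᵥ x) = 1 := by
    rw [hgi]; exact hx.1
  refine ⟨hgxx, fun a ε hε => ?_, hz⟩
  have h1 := M.mul_mem (M.mul_mem hg (P.cls_duo hle hx hx₀ hε)) (M.inv_mem hg)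
  rw [duo_conj hf hgi hx.1 hx₀.1 hε, hgx₀] at h1
  have h2 : duo σ f (c' • e b') (e a) ε ∈ M := by
    rw [duo, rho_smul hf hc' (P.norm b') hε, ← duo]
    exact hle (P.duo_H b' a hε)
  have hc1 : f (c' • e b') (c' • e b') = 1 := by
    rw [Unit.smul_left hf, Unit.smul_right hf, P.norm, mul_one, hc']
  rw [← duo_trans hf hgxx (P.norm a) hc1 hε]
  refine M.mul_mem h1 (M.inv_mem ?_)
  have h3 := duo_trans hf (P.norm a) hc1 (P.norm a) hε
  rw [duo, rho_smul hf hc' (P.norm b') (norm_conj hf hε), ← duo]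
  exact hle (P.duo_H a b' hε)

/-- Monomial isometries preserve the class. -/
theorem Frame.cls_mono {g : GL (Fin n) F} (hgi : g ∈ isoGroup f) (hgs : g ∈ Cfsg.Geo.decompositionStabilizer D)
    {x : Fin n → F} (hx : x ∈ cls σ f e M) : (g : Matrix (Fin n) (Fin n) F) *ᵥ x ∈ cls σ f e M := by
  have hf := P.unit
  obtain ⟨z, hz⟩ := hx.2.2
  obtain ⟨π, c, hc⟩ := P.mono hgi hgs
  have hzero : f ((g : Matrix (Fin n) (Fin n) F) *ᵥ x) (e (π z)) = 0 := by
    rw [P.mono_coord hgi (hc z).1 (hc z).2, hz, mul_zero]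
  obtain ⟨r, hr, hfix⟩ := P.base.det_fix hgi hgs (P.mem (π z)) (by rw [P.norm]; exact one_ne_zero)
  have hgx : ((r * g : GL (Fin n) F) : Matrix (Fin n) (Fin n) F) *ᵥ x = (g : Matrix (Fin n) (Fin n) F) *ᵥ x := by
    rw [gl_mul_mulVec, hfix _ hzero]
  obtain ⟨π', c', hc'⟩ := P.mono hr.2.1 hr.1
  rw [← hgx]
  exact P.cls_map hle (hle hr) hr.2.1 (P.cls_frame hle z) (hc' z).2 (hc' z).1 hx ⟨π z, by rw [hgx]; exact hzero⟩

/-- A quasi-reflection of a member preserves the class. -/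
theorem Frame.cls_rho {x y : Fin n → F} (hx : x ∈ cls σ f e M) (hy : y ∈ cls σ f e M) {b : Fin t}
    (hxb : f x (e b) = 0) (hyb : f y (e b) = 0) {ε : F} (hε : ε * σ ε = 1) :
    (rho f y ε : Matrix (Fin n) (Fin n) F) *ᵥ x ∈ cls σ f e M := by
  have hf := P.unit
  have he : (duo σ f y (e b) ε : Matrix (Fin n) (Fin n) F) *ᵥ x = (rho f y ε : Matrix (Fin n) (Fin n) F) *ᵥ x := by
    rw [duo, gl_mul_mulVec, rho_fix hf (P.norm b) (norm_conj hf hε) hxb]
  have hb : (duo σ f y (e b) ε : Matrix (Fin n) (Fin n) F) *ᵥ e b = σ ε • e b := by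
    rw [duo, gl_mul_mulVec, rho_self hf (P.norm b) (norm_conj hf hε), mulVec_smul,
      rho_fix hf hy.1 hε (Unit.eq_zero_comm hf hyb)]
  rw [← he]
  refine P.cls_map hle (hy.2.1 b ε hε) (duo_mem hf hy.1 (P.norm b) hε).1 (P.cls_frame hle b) (norm_conj hf hε) hb hx
    ⟨b, ?_⟩
  rw [he, rho_mulVec hf hy.1 hε, Unit.add_left hf, Unit.smul_left hf, hxb, hyb, mul_zero, add_zero]

/-- The basic move: rescaled coordinate differences of a member are members. -/
theorem Frame.cls_diff {x : Fin n → F} (hx : x ∈ cls σ f e M) (η : Fin t → F) (hη : ∀ a, η a * σ (η a) = 1)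
    (hsum : ∑ a, nv σ (η a) * (f x (e a) * σ (f x (e a))) = 1) :
    ∃ z ∈ cls σ f e M, ∀ a, f z (e a) = (η a - 1) * f x (e a) := by
  have hf := P.unit
  obtain ⟨g, hgi, hgs, hgm⟩ := P.exists_diag η hη
  obtain ⟨b, hb⟩ := hx.2.2
  have hco : ∀ a, f ((g : Matrix (Fin n) (Fin n) F) *ᵥ x) (e a) = η a * f x (e a) := fun a =>
    P.mono_coord hgi (hgm a) (hη a) x
  have hy := P.cls_mono hle hgi hgs hx
  set y := (g : Matrix (Fin n) (Fin n) F) *ᵥ x with hydef
  set Q := f y x with hQ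
  have hQe : Q = ∑ a, η a * (f x (e a) * σ (f x (e a))) := by
    rw [hQ, P.form_coord]
    exact Finset.sum_congr rfl fun a _ => by rw [hco]; ring
  have h1 : ∑ a, f x (e a) * σ (f x (e a)) = 1 := by rw [← P.form_coord]; exact hx.1
  have hTr : Q + σ Q = 1 := by
    have e1 : ∀ a, nv σ (η a) * (f x (e a) * σ (f x (e a))) =
        2 * (f x (e a) * σ (f x (e a))) - (η a * (f x (e a) * σ (f x (e a))) + σ (η a * (f x (e a) * σ (f x (e a))))) := by
      intro a
      rw [nv_eq (hη a), map_mul σ (η a), map_mul σ (f x (e a)), hf.involutive]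
      ring
    rw [Finset.sum_congr rfl fun a _ => e1 a, Finset.sum_sub_distrib, Finset.sum_add_distrib, ← Finset.mul_sum, h1,
      ← map_sum, ← hQe] at hsum
    linear_combination -hsum
  have hQ0 : Q ≠ 0 := fun h => by rw [h, map_zero, add_zero] at hTr; exact zero_ne_one hTr
  have hσQ : σ Q ≠ 0 := (RingEquiv.map_ne_zero_iff σ).2 hQ0
  set ε := 1 - 1 / Q with hεdef
  have hε : ε * σ ε = 1 := by
    rw [hεdef, map_sub, map_one, map_div₀, map_one]
    field_simp
    linear_combination -hTr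
  refine ⟨_, P.cls_rho hle hy hx (by rw [hco, hb, mul_zero]) hb hε, fun a => ?_⟩
  rw [rho_mulVec hf hx.1 hε, Unit.add_left hf, Unit.smul_left hf, hco, ← hQ,
    show (ε - 1) * Q = -1 by rw [hεdef]; field_simp; ring]
  ring

/-- From a member with few coordinates, one with almost twice as many. -/
theorem Frame.cls_grow {x : Fin n → F} (hx : x ∈ cls σ f e M) (h2 : 2 ≤ (sp f e x).card)
    (h5 : 2 * (sp f e x).card ≤ t) :
    ∃ y ∈ cls σ f e M, (sp f e y).card + 1 = 2 * (sp f e x).card := by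
  classical
  have hf := P.unit
  set S := sp f e x with hS
  obtain ⟨a₀, ha₀⟩ := Finset.card_pos.1 (show 0 < S.card by omega)
  obtain ⟨T₀, hT₀, hT₀c⟩ := Finset.exists_subset_card_eq (s := Sᶜ) (n := S.card - 1)
    (by rw [Finset.card_compl, Fintype.card_fin]; omega)
  have ha₀T : a₀ ∉ T₀ := fun h => Finset.mem_compl.1 (hT₀ h) ha₀
  set T := insert a₀ T₀ with hT
  have hTc : T.card = S.card := by rw [hT, Finset.card_insert_of_notMem ha₀T, hT₀c]; omega
  obtain ⟨π, hπ⟩ : ∃ π : Equiv.Perm (Fin t), ∀ a, π a ∈ T ↔ a ∈ S := by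
    have E : {a // a ∈ S} ≃ {a // a ∈ T} := Fintype.equivOfCardEq (by simp [hTc])
    refine ⟨E.extendSubtype, fun a => ⟨fun h => by_contra fun hn => ?_, fun h => E.extendSubtype_mem a h⟩⟩
    exact E.extendSubtype_not_mem a hn h
  obtain ⟨g, hgi, hgs, hgm⟩ := P.exists_perm π
  set y := (g : Matrix (Fin n) (Fin n) F) *ᵥ x with hy
  have hyC : y ∈ cls σ f e M := P.cls_mono hle hgi hgs hx
  have hco : ∀ a, f y (e (π a)) = f x (e a) := fun a => by
    rw [P.mono_coord hgi (c := 1) (a := a) (by rw [hgm, one_smul]) (by simp), one_mul]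
  have hyS : ∀ b, f y (e b) ≠ 0 ↔ b ∈ T := fun b => by
    obtain ⟨a, rfl⟩ := π.surjective b
    rw [hco, hπ, hS, mem_sp]
  have hxy : f x y = f x (e a₀) * σ (f y (e a₀)) := by
    rw [P.form_coord, Finset.sum_eq_single a₀ (fun b _ hb => ?_) (by simp)]
    by_cases hbS : b ∈ S
    · have : f y (e b) = 0 := by
        by_contra h
        rcases Finset.mem_insert.1 ((hyS b).1 h) with h' | h'
        · exact hb h'
        · exact Finset.mem_compl.1 (hT₀ h') hbS
      rw [this, map_zero, mul_zero]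
    · rw [show f x (e b) = 0 from by_contra fun h => hbS (mem_sp.2 h), zero_mul]
  obtain ⟨z, hz⟩ := P.exists_notMem (S := S ∪ T) (by
    rw [hT, Finset.union_insert, Finset.insert_eq_of_mem (Finset.mem_union_left _ ha₀)]
    have := Finset.card_union_le S T₀; omega)
  rw [Finset.mem_union, not_or] at hz
  have hxz : f x (e z) = 0 := by_contra fun h => hz.1 (mem_sp.2 h)
  have hyz : f y (e z) = 0 := by_contra fun h => hz.2 ((hyS z).1 h)
  obtain ⟨ε, hε, hεr⟩ := exists_nonreal hf.ne_refl hf.involutive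
  have hmem := P.cls_rho hle hx hyC hxz hyz hε
  refine ⟨_, hmem, ?_⟩
  have hsub : S ∪ T₀ ⊆ sp f e ((rho f y ε : Matrix (Fin n) (Fin n) F) *ᵥ x) := by
    intro b hb
    rw [mem_sp, rho_mulVec hf hyC.1 hε, Unit.add_left hf, Unit.smul_left hf, hxy]
    have hA : f x (e a₀) ≠ 0 := mem_sp.1 ha₀
    have hY : f y (e a₀) ≠ 0 := (hyS a₀).2 (Finset.mem_insert_self _ _)
    have hκ : (ε - 1) * (f x (e a₀) * σ (f y (e a₀))) ≠ 0 :=
      mul_ne_zero (sub_ne_zero.2 fun h => hεr (by rw [h, map_one]))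
        (mul_ne_zero hA ((RingEquiv.map_ne_zero_iff σ).2 hY))
    rcases Finset.mem_union.1 hb with hb | hb
    · by_cases hba : b = a₀
      · subst hba
        intro h0
        set N := σ (f y (e b)) * f y (e b) with hN
        have hNr : σ N = N := by rw [hN, map_mul, hf.involutive, mul_comm]
        have h1 : f x (e b) * (1 + (ε - 1) * N) = 0 := by rw [hN]; linear_combination h0
        have h3 := (mul_eq_zero.1 h1).resolve_left hA
        have hN0 : N ≠ 0 := fun h => by rw [h, mul_zero, add_zero] at h3; exact one_ne_zero h3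
        have h4 : ε = 1 - 1 / N := by field_simp; linear_combination h3
        exact hεr (by rw [h4, map_sub, map_one, map_div₀, map_one, hNr])
      · have : f y (e b) = 0 := by
          by_contra h
          rcases Finset.mem_insert.1 ((hyS b).1 h) with h' | h'
          · exact hba h'
          · exact Finset.mem_compl.1 (hT₀ h') hb
        rw [this, mul_zero, add_zero]
        exact mem_sp.1 hb
    · have : f x (e b) = 0 := by_contra fun h => Finset.mem_compl.1 (hT₀ hb) (mem_sp.2 h)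
      rw [this, zero_add]
      exact mul_ne_zero hκ ((hyS b).2 (Finset.mem_insert_of_mem hb))
  have hsup : sp f e ((rho f y ε : Matrix (Fin n) (Fin n) F) *ᵥ x) ⊆ S ∪ T₀ := by
    intro b hb
    rw [mem_sp, rho_mulVec hf hyC.1 hε, Unit.add_left hf, Unit.smul_left hf] at hb
    by_contra hn
    rw [Finset.mem_union, not_or] at hn
    refine hb ?_
    rw [show f x (e b) = 0 from by_contra fun h => hn.1 (mem_sp.2 h), show f y (e b) = 0 from by_contra fun h => ?_,
      mul_zero, add_zero]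
    rcases Finset.mem_insert.1 ((hyS b).1 h) with h' | h'
    · exact hn.1 (h' ▸ ha₀)
    · exact hn.2 h'
  rw [Finset.Subset.antisymm hsup hsub,
    Finset.card_union_of_disjoint (Finset.disjoint_left.2 fun b hb hb' => Finset.mem_compl.1 (hT₀ hb') hb), hT₀c]
  omega

omit hle in
theorem Frame.norm_fixed (x : Fin n → F) (a : Fin t) :
    σ (f x (e a) * σ (f x (e a))) = f x (e a) * σ (f x (e a)) := by rw [map_mul, P.unit.involutive, mul_comm]

/-- Adjusting the phases. -/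
theorem Frame.cls_phase {z w : Fin n → F} (hz : z ∈ cls σ f e M)
    (h : ∀ a, f w (e a) * σ (f w (e a)) = f z (e a) * σ (f z (e a))) : w ∈ cls σ f e M := by
  classical
  have hf := P.unit
  have hz0 : ∀ a, f z (e a) = 0 → f w (e a) = 0 := fun a ha => by
    have := h a
    rw [ha, zero_mul] at this
    exact (mul_eq_zero.1 this).elim id fun h' => (RingEquiv.map_eq_zero_iff σ).1 h'
  set η : Fin t → F := fun a => if f z (e a) = 0 then 1 else f w (e a) / f z (e a) with hηdef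
  have hη : ∀ a, η a * σ (η a) = 1 := fun a => by
    simp only [hηdef]
    split_ifs with ha
    · simp
    · rw [map_div₀, div_mul_div_comm, h a, div_self (mul_ne_zero ha ((RingEquiv.map_ne_zero_iff σ).2 ha))]
  obtain ⟨g, hgi, hgs, hgm⟩ := P.exists_diag η hη
  have : w = (g : Matrix (Fin n) (Fin n) F) *ᵥ z := P.ext fun a => by
    rw [P.mono_coord hgi (hgm a) (hη a)]
    simp only [hηdef]
    split_ifs with ha
    · rw [hz0 a ha, ha, mul_zero]
    · rw [div_mul_cancel₀ _ ha]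
  rw [this]
  exact P.cls_mono hle hgi hgs hz

/-- The basic move with coordinates changed on a given set. -/
theorem Frame.cls_step {x : Fin n → F} (hx : x ∈ cls σ f e M) (S : Finset (Fin t)) (η : Fin t → F)
    (hη : ∀ a, a ∈ S → η a * σ (η a) = 1)
    (hsum : ∑ a ∈ S, nv σ (η a) * (f x (e a) * σ (f x (e a))) = 1) :
    ∃ z ∈ cls σ f e M, (∀ a, a ∈ S → f z (e a) * σ (f z (e a)) = nv σ (η a) * (f x (e a) * σ (f x (e a)))) ∧
      ∀ a, a ∉ S → f z (e a) = 0 := by
  classical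
  obtain ⟨z, hz, hzc⟩ := P.cls_diff hle hx (fun a => if a ∈ S then η a else 1)
    (fun a => by split_ifs with h; exacts [hη a h, by simp]) (by
      rw [← Finset.sum_subset (Finset.subset_univ S) fun a _ ha => by rw [if_neg ha, nv_one, zero_mul]]
      exact (Finset.sum_congr rfl fun a ha => by rw [if_pos ha]).trans hsum)
  refine ⟨z, hz, fun a ha => ?_, fun a ha => by rw [hzc, if_neg ha, sub_self, zero_mul]⟩
  rw [hzc, if_pos ha, map_mul, nv, map_sub, map_sub, map_one]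
  ring

theorem Frame.cls_exact {x : Fin n → F} (hx : x ∈ cls σ f e M) {J : Finset (Fin t)} (hJ : J ⊆ sp f e x)
    {r : Fin t → F} (hr : ∀ a ∈ J, σ (r a) = r a ∧ r a ≠ 0) (hsum : ∑ a ∈ J, r a = 1)
    {d g h : Fin t} (hd : d ∈ sp f e x) (hg : g ∈ sp f e x) (hh : h ∈ sp f e x) (hdJ : d ∉ J) (hgJ : g ∉ J)
    (hhJ : h ∉ J) (hdg : d ≠ g) (hdh : d ≠ h) (hgh : g ≠ h) (hB : Big σ) :
    ∃ z ∈ cls σ f e M, (∀ a ∈ J, f z (e a) * σ (f z (e a)) = r a) ∧ ∀ a, a ∉ J → f z (e a) = 0 := by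
  classical
  have hf := P.unit
  set N : Fin t → F := fun a => f x (e a) * σ (f x (e a)) with hNdef
  have hNf : ∀ a, σ (N a) = N a := P.norm_fixed x
  have hN0 : ∀ a ∈ sp f e x, N a ≠ 0 := fun a ha =>
    mul_ne_zero (mem_sp.1 ha) ((RingEquiv.map_ne_zero_iff σ).2 (mem_sp.1 ha))
  obtain ⟨η₀, hη₀, hη₀1⟩ : ∃ η₀ : F, η₀ * σ η₀ = 1 ∧ η₀ ≠ 1 := by
    obtain ⟨ε, hε, hεr⟩ := exists_nonreal hf.ne_refl hf.involutive
    exact ⟨ε, hε, fun h => hεr (by rw [h, map_one])⟩
  set ν₀ := nv σ η₀ with hν₀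
  have hν00 : ν₀ ≠ 0 := nv_ne_zero hη₀1
  have hν0f : σ ν₀ = ν₀ := nv_fixed hf.involutive _
  have key : ∀ a, ∃ η ζ : F, η * σ η = 1 ∧ ζ * σ ζ = 1 ∧
      (a ∈ J → nv σ η ≠ 0 ∧ nv σ ζ * (nv σ η * N a) = r a / ν₀) := by
    intro a
    by_cases ha : a ∈ J
    · obtain ⟨η, ζ, hη, hζ, hη1, -, he⟩ := exists_nv_mul hf.ne_refl hf.involutive
        (T := r a / ν₀ / N a) (by rw [map_div₀, map_div₀, (hr a ha).1, hν0f, hNf])
        (div_ne_zero (div_ne_zero (hr a ha).2 hν00) (hN0 a (hJ ha)))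
      refine ⟨η, ζ, hη, hζ, fun _ => ⟨nv_ne_zero hη1, ?_⟩⟩
      rw [← mul_assoc, mul_comm (nv σ ζ), he, div_mul_cancel₀ _ (hN0 a (hJ ha))]
    · exact ⟨1, 1, by simp, by simp, fun h => absurd h ha⟩
  choose η₁ η₂ hη₁ hη₂ hkey using key
  set T := 1 - ∑ a ∈ J, nv σ (η₁ a) * N a with hTdef
  have hTf : σ T = T := by
    rw [hTdef, map_sub, map_one, map_sum]
    congr 1
    exact Finset.sum_congr rfl fun a _ => by rw [map_mul, nv_fixed hf.involutive, hNf]
  obtain ⟨ηd, hηd, hηd1, hTd⟩ := exists_nv_avoid hf.ne_refl hf.involutive hB (hN0 d hd) T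
  obtain ⟨ηg, ηh, hηg, hηh, hgh'⟩ := exists_two_nv hf.ne_refl hf.involutive (hN0 g hg) (hN0 h hh) (hNf g) (hNf h)
    (show σ (T - N d * nv σ ηd) = T - N d * nv σ ηd by rw [map_sub, map_mul, hTf, hNf, nv_fixed hf.involutive])
  let E₁ : Fin t → F := fun a => if a ∈ J then η₁ a else if a = d then ηd else if a = g then ηg else ηh
  have hE₁ : ∀ a, E₁ a * σ (E₁ a) = 1 := fun a => by
    simp only [E₁]
    split_ifs
    exacts [hη₁ a, hηd, hηg, hηh]
  have hd' : d ∉ insert g (insert h J) := by simp [hdg, hdh, hdJ]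
  have hg' : g ∉ insert h J := by simp [hgh, hgJ]
  obtain ⟨x₁, hx₁, hx₁J, hx₁0⟩ := P.cls_step hle hx (insert d (insert g (insert h J))) E₁ (fun a _ => hE₁ a) (by
    rw [Finset.sum_insert hd', Finset.sum_insert hg', Finset.sum_insert hhJ,
      Finset.sum_congr rfl fun a ha => show _ = nv σ (η₁ a) * N a by simp only [E₁, if_pos ha, hNdef]]
    simp only [E₁, hdJ, hgJ, hhJ, Ne.symm hdg, Ne.symm hdh, Ne.symm hgh, if_false, if_true, if_pos, ↓reduceIte]
    linear_combination hgh' + hTdef)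
  set N₁ : Fin t → F := fun a => f x₁ (e a) * σ (f x₁ (e a)) with hN₁def
  have hN1J : ∀ a ∈ J, N₁ a = nv σ (η₁ a) * N a := fun a ha => by
    rw [hN₁def]
    simp only [hx₁J a (by simp [ha]), E₁, if_pos ha, hNdef]
  have hN1d : N₁ d ≠ 0 := by
    rw [hN₁def]
    simp only [hx₁J d (by simp), E₁, if_neg hdJ, if_pos]
    exact mul_ne_zero (nv_ne_zero hηd1) (hN0 d hd)
  obtain ⟨p, hpJ, hpd, hN1p⟩ : ∃ p, p ∉ J ∧ p ≠ d ∧ N₁ p ≠ 0 := by
    by_cases hg0 : nv σ ηg = 0
    · refine ⟨h, hhJ, Ne.symm hdh, ?_⟩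
      rw [hN₁def]
      simp only [hx₁J h (by simp), E₁, if_neg hhJ, if_neg (Ne.symm hdh), if_neg (Ne.symm hgh)]
      refine mul_ne_zero (fun h0 => hTd ?_) (hN0 h hh)
      rw [hg0, h0, mul_zero, mul_zero, add_zero] at hgh'
      linear_combination hgh'
    · refine ⟨g, hgJ, Ne.symm hdg, ?_⟩
      rw [hN₁def]
      simp only [hx₁J g (by simp), E₁, if_neg hgJ, if_neg (Ne.symm hdg), if_pos]
      exact mul_ne_zero hg0 (hN0 g hg)
  obtain ⟨ζd, ζp, hζd, hζp, hdp⟩ := exists_two_nv hf.ne_refl hf.involutive hN1d hN1p (P.norm_fixed x₁ d)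
    (P.norm_fixed x₁ p) (show σ (1 - ∑ a ∈ J, r a / ν₀) = 1 - ∑ a ∈ J, r a / ν₀ by
      rw [map_sub, map_one, map_sum]
      congr 1
      exact Finset.sum_congr rfl fun a ha => by rw [map_div₀, (hr a ha).1, hν0f])
  let E₂ : Fin t → F := fun a => if a ∈ J then η₂ a else if a = d then ζd else ζp
  have hE₂ : ∀ a, E₂ a * σ (E₂ a) = 1 := fun a => by
    simp only [E₂]
    split_ifs
    exacts [hη₂ a, hζd, hζp]
  have hJ2 : ∀ a ∈ J, nv σ (E₂ a) * N₁ a = r a / ν₀ := fun a ha => by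
    simp only [E₂, if_pos ha]
    rw [hN1J a ha]
    exact (hkey a ha).2
  have hd'' : d ∉ insert p J := by simp [Ne.symm hpd, hdJ]
  obtain ⟨x₂, hx₂, hx₂J, -⟩ := P.cls_step hle hx₁ (insert d (insert p J)) E₂ (fun a _ => hE₂ a) (by
    rw [Finset.sum_insert hd'', Finset.sum_insert hpJ, Finset.sum_congr rfl fun a ha => hJ2 a ha]
    simp only [E₂, hdJ, hpJ, hpd, if_false, ↓reduceIte]
    linear_combination hdp)
  have hN2J : ∀ a ∈ J, f x₂ (e a) * σ (f x₂ (e a)) = r a / ν₀ := fun a ha => by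
    rw [hx₂J a (by simp [ha])]
    exact hJ2 a ha
  have hJ3 : ∀ a ∈ J, nv σ η₀ * (f x₂ (e a) * σ (f x₂ (e a))) = r a := fun a ha => by
    rw [hN2J a ha, ← hν₀, mul_div_cancel₀ _ hν00]
  obtain ⟨z, hz, hzJ, hz0⟩ := P.cls_step hle hx₂ J (fun _ => η₀) (fun _ _ => hη₀)
    (by rw [Finset.sum_congr rfl hJ3, hsum])
  exact ⟨z, hz, fun a ha => by rw [hzJ a ha, hJ3 a ha], hz0⟩

/-- From a member with six coordinates, one with exactly three. -/
theorem Frame.cls_three {x : Fin n → F} (hx : x ∈ cls σ f e M) (h6 : 6 ≤ (sp f e x).card) :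
    ∃ z ∈ cls σ f e M, (sp f e z).card = 3 := by
  classical
  have hf := P.unit
  obtain ⟨J, hJ, hJc⟩ := Finset.exists_subset_card_eq (s := sp f e x) (n := 3) (by omega)
  obtain ⟨a₀, ha₀⟩ := Finset.card_pos.1 (show 0 < J.card by omega)
  obtain ⟨b₀, hb₀, hab₀⟩ := Finset.exists_mem_ne (show 1 < J.card by omega) a₀
  set r : Fin t → F := fun a => if a = b₀ then -1 else 1 with hr
  have hr1 : ∀ a ∈ J, σ (r a) = r a ∧ r a ≠ 0 := fun a _ => by
    simp only [hr]; split_ifs <;> simp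
  have hsum : ∑ a ∈ J, r a = 1 := by
    rw [← Finset.add_sum_erase J r hb₀, Finset.sum_congr rfl fun a ha => (show r a = 1 by
      simp only [hr, if_neg (Finset.mem_erase.1 ha).1]), Finset.sum_const, Finset.card_erase_of_mem hb₀, hJc]
    simp [hr]
    ring
  obtain ⟨z, hz, hzJ, hz0⟩ : ∃ z ∈ cls σ f e M,
      (∀ a ∈ J, f z (e a) * σ (f z (e a)) ≠ 0) ∧ ∀ a, a ∉ J → f z (e a) = 0 := by
    by_cases hB : Big σ
    · obtain ⟨d, g, h, hd, hg, hh, hdg, hdh, hgh⟩ := Finset.two_lt_card_iff.1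
        (show 2 < (sp f e x \ J).card by have := Finset.le_card_sdiff J (sp f e x); omega)
      rw [Finset.mem_sdiff] at hd hg hh
      obtain ⟨z, hz, hzJ, hz0⟩ := P.cls_exact hle hx hJ hr1 hsum hd.1 hg.1 hh.1 hd.2 hg.2 hh.2 hdg hdh hgh hB
      exact ⟨z, hz, fun a ha => by rw [hzJ a ha]; exact (hr1 a ha).2, hz0⟩
    · have hone : ∀ v : F, σ v = v → v ≠ 0 → v = 1 := fun v h1 h0 => by_contra fun h => hB ⟨v, h1, h0, h⟩
      obtain ⟨η, hη, hηr⟩ := exists_nonreal hf.ne_refl hf.involutive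
      have hη1 : η ≠ 1 := fun h => hηr (by rw [h, map_one])
      have hval : ∀ a ∈ J, nv σ η * (f x (e a) * σ (f x (e a))) = r a := fun a ha => by
        rw [hone _ (hr1 a ha).1 (hr1 a ha).2]
        refine hone _ (by rw [map_mul, nv_fixed hf.involutive, P.norm_fixed]) ?_
        exact mul_ne_zero (nv_ne_zero hη1)
          (mul_ne_zero (mem_sp.1 (hJ ha)) ((RingEquiv.map_ne_zero_iff σ).2 (mem_sp.1 (hJ ha))))
      obtain ⟨z, hz, hzJ, hz0⟩ := P.cls_step hle hx J (fun _ => η) (fun _ _ => hη)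
        (by rw [Finset.sum_congr rfl hval, hsum])
      exact ⟨z, hz, fun a ha => by rw [hzJ a ha, hval a ha]; exact (hr1 a ha).2, hz0⟩
  refine ⟨z, hz, ?_⟩
  rw [show sp f e z = J from Finset.ext fun a => ⟨fun h => by_contra fun hn => mem_sp.1 h (hz0 a hn),
    fun h => mem_sp.2 (left_ne_zero_of_mul (hzJ a h))⟩, hJc]

/-- A member with at least seven coordinates. -/
theorem Frame.cls_large (ht : 10 ≤ t) {x : Fin n → F} (hx : x ∈ cls σ f e M) (h2 : 2 ≤ (sp f e x).card) :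
    ∃ y ∈ cls σ f e M, 7 ≤ (sp f e y).card := by
  classical
  suffices key : ∀ d, ∀ x ∈ cls σ f e M, 2 ≤ (sp f e x).card → 7 - (sp f e x).card ≤ d →
      ∃ y ∈ cls σ f e M, 7 ≤ (sp f e y).card from key 7 x hx h2 (by omega)
  intro d
  induction d with
  | zero => intro x hx _ h; exact ⟨x, hx, by omega⟩
  | succ d ih =>
    intro x hx h2 hd
    by_cases h7 : 7 ≤ (sp f e x).card
    · exact ⟨x, hx, h7⟩
    by_cases h6 : 6 ≤ (sp f e x).card
    · obtain ⟨x', hx', h3⟩ := P.cls_three hle hx h6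
      obtain ⟨y, hy, hy5⟩ := P.cls_grow hle hx' (by omega) (by omega)
      obtain ⟨z, hz, hz7⟩ := P.cls_grow hle hy (by omega) (by omega)
      exact ⟨z, hz, by omega⟩
    obtain ⟨y, hy, hyc⟩ := P.cls_grow hle hx h2 (by omega)
    exact ih y hy (by omega) (by omega)

/-- Unit vectors with few coordinates are in the class once a non-frame vector is. -/
theorem Frame.cls_small (ht : 10 ≤ t) {x₀ : Fin n → F} (hx₀ : x₀ ∈ cls σ f e M) (h2 : 2 ≤ (sp f e x₀).card) {w : Fin n → F}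
    (hw : f w w = 1) (hc : (sp f e w).card ≤ 4 ∨ (¬ Big σ ∧ (sp f e w).card ≤ 5)) : w ∈ cls σ f e M := by
  classical
  have hf := P.unit
  obtain ⟨x, hx, h7⟩ := P.cls_large hle ht hx₀ h2
  set J := sp f e w with hJdef
  have hJc : J.card ≤ 5 := hc.elim (fun h => by omega) fun h => h.2
  have hout : ∀ a, a ∉ J → f w (e a) = 0 := fun a ha => by_contra fun h => ha (mem_sp.2 h)
  obtain ⟨π, hπ⟩ : ∃ π : Equiv.Perm (Fin t), ∀ a ∈ J, π.symm a ∈ sp f e x := by
    obtain ⟨U, hU, hUc⟩ := Finset.exists_subset_card_eq (s := sp f e x) (n := J.card) (by omega)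
    have E : {a // a ∈ J} ≃ {a // a ∈ U} := Fintype.equivOfCardEq (by simp [hUc])
    exact ⟨E.extendSubtype.symm, fun a ha => hU (by simpa using E.extendSubtype_mem a ha)⟩
  obtain ⟨g, hgi, hgs, hgm⟩ := P.exists_perm π
  set y := (g : Matrix (Fin n) (Fin n) F) *ᵥ x with hy
  have hyC : y ∈ cls σ f e M := P.cls_mono hle hgi hgs hx
  have hco : ∀ a, f y (e (π a)) = f x (e a) := fun a => by
    rw [P.mono_coord hgi (c := 1) (a := a) (by rw [hgm, one_smul]) (by simp), one_mul]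
  have hJy : J ⊆ sp f e y := fun a ha => by
    rw [mem_sp, ← π.apply_symm_apply a, hco]
    exact mem_sp.1 (hπ a ha)
  have hcard : 7 ≤ (sp f e y).card := by
    refine h7.trans (le_of_le_of_eq (Finset.card_le_card_of_injOn (fun a => π a) (fun a ha => ?_)
      π.injective.injOn) rfl)
    rw [Finset.mem_coe, mem_sp, hco]
    exact mem_sp.1 ha
  set r : Fin t → F := fun a => f w (e a) * σ (f w (e a)) with hrdef
  have hr : ∀ a ∈ J, σ (r a) = r a ∧ r a ≠ 0 := fun a ha =>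
    ⟨P.norm_fixed w a, mul_ne_zero (mem_sp.1 ha) ((RingEquiv.map_ne_zero_iff σ).2 (mem_sp.1 ha))⟩
  have hsum : ∑ a ∈ J, r a = 1 := by
    rw [← hw, P.form_coord w w]
    exact Finset.sum_subset (Finset.subset_univ J) fun a _ ha => by simp only [hrdef, hout a ha, zero_mul]
  suffices ∃ z ∈ cls σ f e M, (∀ a ∈ J, f z (e a) * σ (f z (e a)) = r a) ∧ ∀ a, a ∉ J → f z (e a) = 0 by
    obtain ⟨z, hz, hzJ, hz0⟩ := this
    refine P.cls_phase hle hz fun a => ?_
    by_cases ha : a ∈ J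
    · rw [hzJ a ha]
    · rw [hout a ha, hz0 a ha]
  by_cases hB : Big σ
  · have hJ4 : J.card ≤ 4 := hc.resolve_right fun h => h.1 hB
    obtain ⟨d, g', h, hd, hg, hh, hdg, hdh, hgh⟩ := Finset.two_lt_card_iff.1
      (show 2 < (sp f e y \ J).card by have := Finset.le_card_sdiff J (sp f e y); omega)
    rw [Finset.mem_sdiff] at hd hg hh
    exact P.cls_exact hle hyC hJy hr hsum hd.1 hg.1 hh.1 hd.2 hg.2 hh.2 hdg hdh hgh hB
  · have hone : ∀ v : F, σ v = v → v ≠ 0 → v = 1 := fun v h1 h0 => by_contra fun h => hB ⟨v, h1, h0, h⟩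
    obtain ⟨η, hη, hηr⟩ := exists_nonreal hf.ne_refl hf.involutive
    have hη1 : η ≠ 1 := fun h => hηr (by rw [h, map_one])
    have hval : ∀ a ∈ J, nv σ η * (f y (e a) * σ (f y (e a))) = r a := fun a ha => by
      rw [hone _ (hr a ha).1 (hr a ha).2]
      refine hone _ (by rw [map_mul, nv_fixed hf.involutive, P.norm_fixed]) ?_
      exact mul_ne_zero (nv_ne_zero hη1)
        (mul_ne_zero (mem_sp.1 (hJy ha)) ((RingEquiv.map_ne_zero_iff σ).2 (mem_sp.1 (hJy ha))))
    obtain ⟨z, hz, hzJ, hz0⟩ := P.cls_step hle hyC J (fun _ => η) (fun _ _ => hη)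
      (by rw [Finset.sum_congr rfl hval, hsum])
    exact ⟨z, hz, fun a ha => by rw [hzJ a ha, hval a ha], hz0⟩

end CfsgLib.GeomClasses.UnitFrame
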