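import Cfsg.Agent.Lib.GeomClasses.UnitFrameSix

/-!
No rigid overgroup of a monomial unitary group in odd characteristic, in dimension at least eight.
-/

set_option autoImplicit false
set_option linter.unusedSectionVars false
set_option linter.unusedSimpArgs false

namespace CfsgLib.GeomClasses.UnitFrame

open Matrix CfsgLib.GeomClasses.UnitQr CfsgLib.GeomClasses.UnitSymp CfsgLib.GeomClasses.UnitDecomp
  CfsgLib.GeomClasses.UnitCircle

/-- Two disjoint pairs outside a given set, the first pair given, and any further index. -/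
theorem exists_duad_free {t : ℕ} {S : Finset (Fin t)} (h : S.card + 4 ≤ t) (h5 : 5 ≤ t) {a b : Fin t} (ha : a ∉ S)
    (hb : b ∉ S) (hab : a ≠ b) :
    ∃ Q : Quad 2 t (∅ : Finset (Fin t)), Q.p 0 = a ∧ Q.r 0 = b ∧ ∀ i, Q.p i ∉ S ∧ Q.r i ∉ S := by
  classical
  obtain ⟨p, q, hp, hq, hpq⟩ := Finset.one_lt_card_iff.1 (show 1 < (insert a (insert b S))ᶜ.card by
    rw [Finset.card_compl, Fintype.card_fin]
    have h1 := Finset.card_insert_le a (insert b S)
    have h2 := Finset.card_insert_le b S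
    omega)
  simp only [Finset.mem_compl, Finset.mem_insert, not_or] at hp hq
  obtain ⟨m, hm⟩ := Finset.card_pos.1 (show 0 < ({a, b, p, q} : Finset (Fin t))ᶜ.card by
    rw [Finset.card_compl, Fintype.card_fin]
    have := Finset.card_le_four (a := a) (b := b) (c := p) (d := q)
    omega)
  simp only [Finset.mem_compl, Finset.mem_insert, Finset.mem_singleton, not_or] at hm
  refine ⟨⟨![a, p], ![b, q], m, ?_, ?_, ?_, ?_, fun _ => Finset.notMem_empty _, fun _ => Finset.notMem_empty _,
    Finset.notMem_empty _⟩, rfl, rfl, ?_⟩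
  · intro i j hij
    fin_cases i <;> fin_cases j <;> simp_all [Ne.symm hp.1]
  · intro i j hij
    fin_cases i <;> fin_cases j <;> simp_all [Ne.symm hq.2.1]
  · intro i j
    fin_cases i <;> fin_cases j <;> simp [hab, hpq, Ne.symm hq.1, hp.2.1]
  · intro i
    fin_cases i <;> simp [hm.1, hm.2.1, hm.2.2.1, hm.2.2.2]
  · intro i
    fin_cases i <;> simp [ha, hb, hp.2.2, hq.2.2]

variable {n : ℕ} {F : Type*} [Field F] [Fintype F] {σ : F ≃+* F} {f : (Fin n → F) → (Fin n → F) → F}
  {t : ℕ} {D : Fin t → Submodule F (Fin n → F)} {e : Fin t → Fin n → F}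

/-- Four indices moved out of themselves by a fixed-point-free involution. -/
theorem exists_four {π : Equiv.Perm (Fin t)} (hπ : ∀ a, π a ≠ a) (hinv : ∀ a, π (π a) = a) (ht : 7 ≤ t) :
    ∃ A : Finset (Fin t), A.card = 4 ∧ ∀ a ∈ A, π a ∉ A := by
  classical
  suffices key : ∀ j, j ≤ 4 → ∃ A : Finset (Fin t), A.card = j ∧ ∀ a ∈ A, π a ∉ A from key 4 le_rfl
  intro j
  induction j with
  | zero => exact fun _ => ⟨∅, rfl, by simp⟩
  | succ j ih =>
    intro hj
    obtain ⟨A, hA, hAπ⟩ := ih (by omega)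
    obtain ⟨b, hb⟩ : ∃ b, b ∉ A ∪ A.image π := by
      by_contra hc
      push Not at hc
      have h2 := Finset.card_union_le A (A.image π)
      have h3 := Finset.card_image_le (s := A) (f := π)
      rw [Finset.eq_univ_iff_forall.2 hc, Finset.card_univ, Fintype.card_fin] at h2
      omega
    simp only [Finset.mem_union, Finset.mem_image, not_or, not_exists, not_and] at hb
    refine ⟨insert b A, by rw [Finset.card_insert_of_notMem hb.1, hA], fun a ha => ?_⟩
    rcases Finset.mem_insert.1 ha with rfl | ha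
    · rw [Finset.mem_insert, not_or]
      exact ⟨hπ a, fun h => hb.2 _ h (hinv a)⟩
    · rw [Finset.mem_insert, not_or]
      exact ⟨hb.2 a ha, hAπ a ha⟩

variable {M : Subgroup (GL (Fin n) F)} (R : Rig σ f D e M)
include R

/-- Two columns with a sparse combination do not occur outside the stabilizer, with one coordinate fewer to spare. -/
theorem Rig.sparse_mid (ht : 8 ≤ t) {g : GL (Fin n) F} (hg : g ∈ M) (hgs : g ∉ Cfsg.Geo.decompositionStabilizer D) {a b : Fin t}
    (hab : a ≠ b) (ζ : F)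
    (hd : (sp f e ((g : Matrix (Fin n) (Fin n) F) *ᵥ e a - ζ • ((g : Matrix (Fin n) (Fin n) F) *ᵥ e b))).card ≤ 4) :
    False := by
  classical
  have P := R.frame
  have hf := P.unit
  have hgi := R.isometry hg
  set x := (g : Matrix (Fin n) (Fin n) F) *ᵥ e a with hx
  set y := (g : Matrix (Fin n) (Fin n) F) *ᵥ e b with hy
  set d := x - ζ • y with hd'
  have hxx : f x x = 1 := by rw [hx, hgi, P.norm]
  have hyy : f y y = 1 := by rw [hy, hgi, P.norm]
  have hxy : f x y = 0 := by rw [hx, hy, hgi, P.orth hab]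
  obtain ⟨ε₀, hε₀, hεr⟩ := exists_nonreal hf.ne_refl hf.involutive
  have hε₀1 : ε₀ ≠ 1 := fun h => hεr (by rw [h, map_one])
  have hboth : ∀ l, f x (e l) = 0 → f y (e l) = 0 → False := fun l hxl hyl => by
    refine R.conj_notMem hg hgs hab hε₀ hε₀1
      (R.fix_stab (M.mul_mem (M.mul_mem hg (R.duo_mem a b hε₀)) (M.inv_mem hg)) (a := l) ?_)
    rw [duo_conj hf hgi (P.norm a) (P.norm b) hε₀, ← hx, ← hy, duo, gl_mul_mulVec,
      rho_fix hf hyy (norm_conj hf hε₀) (Unit.eq_zero_comm hf hyl), rho_fix hf hxx hε₀ (Unit.eq_zero_comm hf hxl)]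
  have hζ : ζ ≠ 0 := by
    intro h0
    have hdx : d = x := by rw [hd', h0, zero_smul, sub_zero]
    rw [hdx] at hd
    obtain ⟨l, l', hl, hl', hll⟩ := Finset.one_lt_card_iff.1 (show 1 < (sp f e x)ᶜ.card by
      rw [Finset.card_compl, Fintype.card_fin]; omega)
    rw [Finset.mem_compl, mem_sp, not_not] at hl hl'
    exact R.two_zero hg hgs hll hl hl'
  have hdout : ∀ l, l ∉ sp f e d → f d (e l) = 0 := fun l hl => by_contra fun h => hl (mem_sp.2 h)
  have hxl : ∀ l, l ∉ sp f e d → f x (e l) = ζ * f y (e l) := fun l hl => by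
    have := hdout l hl
    rw [hd', Unit.sub_left hf, Unit.smul_left hf, sub_eq_zero] at this
    exact this
  have hyl : ∀ l, l ∉ sp f e d → f y (e l) ≠ 0 := fun l hl h => hboth l (by rw [hxl l hl, h, mul_zero]) h
  obtain ⟨E⟩ : Nonempty (Fin 3 ↪ ↥(sp f e d)ᶜ) := Function.Embedding.nonempty_of_card_le (by
    rw [Fintype.card_fin, Fintype.card_coe, Finset.card_compl, Fintype.card_fin]; omega)
  have hEy : ∀ i, f y (e (E i : Fin t)) ≠ 0 := fun i => hyl _ (Finset.mem_compl.1 (E i).2)
  obtain ⟨i, j, hij, c₀, hc₀, hsq⟩ := exists_square_ratio hf.ne_refl hf.involutive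
    (u := fun i => σ (f y (e (E i : Fin t))) / f y (e (E i : Fin t))) (fun i => by
      have h1 := hEy i
      have h2 := (RingEquiv.map_ne_zero_iff σ).2 h1
      rw [map_div₀, hf.involutive]; field_simp)
  obtain ⟨Q, hQp, hQr, hQo⟩ := exists_duad_free (S := sp f e d) (by omega) (by omega) (Finset.mem_compl.1 (E i).2)
    (Finset.mem_compl.1 (E j).2) (fun h => hij (E.injective (Subtype.ext h)))
  obtain ⟨c, hc, hc0, hsum⟩ := P.exists_weights_two Q (y := y) (fun i => ⟨hyl _ (hQo i).1, hyl _ (hQo i).2⟩)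
    hc₀ (by
      rw [hQp, hQr, map_mul, hf.involutive]
      have h1 := hEy i
      have h2 := hEy j
      field_simp at hsq
      linear_combination hsq)
  -- the scalar of the pair
  obtain ⟨ε, hε, hε1, hεm⟩ : ∃ ε : F, ε * σ ε = 1 ∧ ε ≠ 1 ∧
      ε * f (e Q.m) y ≠ ζ * f (e Q.m) x := by
    by_contra hn
    push Not at hn
    have hsub : circle σ ⊆ ({1, ζ * f (e Q.m) x / f (e Q.m) y} : Finset F) := by
      intro z hz
      simp only [Finset.mem_insert, Finset.mem_singleton]
      by_cases hz1 : z = 1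
      · exact Or.inl hz1
      have h := hn z (mem_circle.1 hz) hz1
      by_cases hy0 : f (e Q.m) y = 0
      · rw [hy0, mul_zero] at h
        exact (hboth Q.m (Unit.eq_zero_comm hf ((mul_eq_zero.1 h.symm).resolve_left hζ))
          (Unit.eq_zero_comm hf hy0)).elim
      · refine Or.inr ?_
        rw [eq_div_iff hy0, h]
    have h1 := (Finset.card_le_card hsub).trans Finset.card_le_two
    have := three_le_circle hf.ne_refl hf.involutive
    omega
  set K := g * duo σ f (e a) (e b) ε * g⁻¹ with hKdef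
  have hKM : K ∈ M := M.mul_mem (M.mul_mem hg (R.duo_mem a b hε)) (M.inv_mem hg)
  have hKeq : K = duo σ f x y ε := duo_conj hf hgi (P.norm a) (P.norm b) hε
  obtain ⟨δ, hδ, hδm⟩ := P.exists_delta Q hc even_two
  set sy := ∑ i, f y (pv e Q c i) • pv e Q c i with hs0
  have hdp : ∀ i, f d (pv e Q c i) = 0 := fun i => by
    rw [pv, Unit.sub_right hf, Unit.smul_right hf, hdout _ (hQo i).1, hdout _ (hQo i).2, mul_zero, sub_zero]
  have hxp : ∀ i, f x (pv e Q c i) = ζ * f y (pv e Q c i) := fun i => by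
    have := hdp i
    simp only [hd', Unit.sub_left hf, Unit.smul_left hf, sub_eq_zero] at this
    exact this
  have hsy : f sy y = 0 := by
    rw [hs0, (Unit.sesq hf).sum_left, ← hsum]
    exact Finset.sum_congr rfl fun i _ => Unit.smul_left hf _ _ _
  have hsx : f sy x = 0 := by
    have h1 : f sy d = 0 := by
      rw [hs0, (Unit.sesq hf).sum_left]
      exact Finset.sum_eq_zero fun i _ => by rw [Unit.smul_left hf, Unit.eq_zero_comm hf (hdp i), mul_zero]
    rw [hd', Unit.sub_right hf, Unit.smul_right hf, hsy, mul_zero, sub_zero] at h1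
    exact h1
  have hδy : (δ : Matrix (Fin n) (Fin n) F) *ᵥ y = y - sy := hδm y
  have hδx : (δ : Matrix (Fin n) (Fin n) F) *ᵥ x = x - ζ • sy := by
    rw [hδm, hs0, Finset.smul_sum]
    congr 1
    exact Finset.sum_congr rfl fun i _ => by rw [hxp, smul_smul]
  set m := Q.m with hm
  have hδe : (δ : Matrix (Fin n) (Fin n) F) *ᵥ e m = e m := by
    rw [hδm, Finset.sum_eq_zero fun i _ => ?_, sub_zero]
    rw [pv, Unit.sub_right hf, Unit.smul_right hf, P.orth (Q.m_ne i).1, P.orth (Q.m_ne i).2, mul_zero, sub_zero,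
      zero_smul]
  have hδi : ((δ⁻¹ : GL (Fin n) F) : Matrix (Fin n) (Fin n) F) *ᵥ e m = e m := by
    conv_lhs => rw [← hδe]
    exact gl_inv_mulVec_mulVec δ _
  set α := (σ ε - 1) * f (e m) x with hα
  set β := (ε - 1) * f (e m) y with hβ
  have hKi : ((K⁻¹ : GL (Fin n) F) : Matrix (Fin n) (Fin n) F) *ᵥ e m = e m + β • y + α • x := by
    rw [hKeq, duo, _root_.mul_inv_rev, rho_inv hf hyy (norm_conj hf hε), rho_inv hf hxx hε, hf.involutive,
      gl_mul_mulVec, rho_mulVec hf hxx (norm_conj hf hε), rho_mulVec hf hyy hε, Unit.add_left hf,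
      Unit.smul_left hf, hxy, mul_zero, add_zero, hα, hβ]
    abel
  set L := K * δ * K⁻¹ * δ⁻¹ with hL
  have hLM : L ∈ M :=
    M.mul_mem (M.mul_mem (M.mul_mem hKM (R.le hδ)) (M.inv_mem hKM)) (M.inv_mem (R.le hδ))
  have hLm : (L : Matrix (Fin n) (Fin n) F) *ᵥ e m = e m - (β + α * ζ) • sy := by
    have hδK : (δ : Matrix (Fin n) (Fin n) F) *ᵥ (((K⁻¹ : GL (Fin n) F) : Matrix (Fin n) (Fin n) F) *ᵥ e m) =
        ((K⁻¹ : GL (Fin n) F) : Matrix (Fin n) (Fin n) F) *ᵥ e m - (β + α * ζ) • sy := by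
      rw [hKi]
      simp only [mulVec_add, mulVec_smul, hδe, hδx, hδy]
      module
    rw [hL, gl_mul_mulVec, gl_mul_mulVec, gl_mul_mulVec, hδi, hδK, mulVec_sub, gl_mulVec_inv_mulVec, mulVec_smul]
    congr 2
    rw [hKeq, duo, gl_mul_mulVec, rho_fix hf hyy (norm_conj hf hε) hsy, rho_fix hf hxx hε hsx]
  have hA : β + α * ζ ≠ 0 := by
    rw [hα, hβ]
    intro h
    have h3 : (ε - 1) * (ε * f (e m) y - ζ * f (e m) x) = 0 := by
      linear_combination ε * h - (ζ * f (e m) x) * hε
    exact hεm (sub_eq_zero.1 ((mul_eq_zero.1 h3).resolve_left (sub_ne_zero.2 hε1)))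
  have hLc : ∀ l, f ((L : Matrix (Fin n) (Fin n) F) *ᵥ e m) (e l) = f (e m) (e l) - (β + α * ζ) * f sy (e l) :=
    fun l => by rw [hLm, Unit.sub_left hf, Unit.smul_left hf]
  have hLns : L ∉ Cfsg.Geo.decompositionStabilizer D := by
    intro hs
    obtain ⟨π, κ, hκ⟩ := P.mono (R.le_k hLM).1 hs
    have hz : ∀ l, f ((L : Matrix (Fin n) (Fin n) F) *ᵥ e m) (e l) ≠ 0 → π m = l := fun l hl => by
      by_contra hne
      rw [(hκ m).1, Unit.smul_left hf, P.orth hne, mul_zero] at hl
      exact hl rfl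
    have h1 := hz m (by rw [hLc, P.norm, hs0, P.delta_zero Q y Q.m_ne, mul_zero, sub_zero]; exact one_ne_zero)
    have h2 := hz (Q.p 0) (by
      rw [hLc, P.orth (Q.m_ne 0).1, hs0, (P.delta_coord Q hc y 0).1, zero_sub, neg_ne_zero]
      exact mul_ne_zero hA hc0)
    exact (Q.m_ne 0).1 (h1.symm.trans h2)
  obtain ⟨l, l', hl, hl', hll⟩ := Finset.one_lt_card_iff.1
    (show 1 < (insert m (Finset.univ.image Q.p ∪ Finset.univ.image Q.r))ᶜ.card by
      rw [Finset.card_compl, Fintype.card_fin]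
      have h1 := Finset.card_insert_le m (Finset.univ.image Q.p ∪ Finset.univ.image Q.r)
      have h2 := Finset.card_union_le (Finset.univ.image Q.p) (Finset.univ.image Q.r)
      have h3 := Finset.card_image_le (s := (Finset.univ : Finset (Fin 2))) (f := Q.p)
      have h4 := Finset.card_image_le (s := (Finset.univ : Finset (Fin 2))) (f := Q.r)
      simp only [Finset.card_univ, Fintype.card_fin] at h3 h4
      omega)
  have hzero : ∀ l, l ∈ (insert m (Finset.univ.image Q.p ∪ Finset.univ.image Q.r))ᶜ →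
      f ((L : Matrix (Fin n) (Fin n) F) *ᵥ e m) (e l) = 0 := by
    intro l hl
    simp only [Finset.mem_compl, Finset.mem_insert, Finset.mem_union, Finset.mem_image, Finset.mem_univ, true_and,
      not_or, not_exists] at hl
    rw [hLc, P.orth (Ne.symm hl.1), hs0, P.delta_zero Q y fun i => ⟨Ne.symm (hl.2.1 i), Ne.symm (hl.2.2 i)⟩, mul_zero,
      sub_zero]
  exact R.two_zero hLM hLns hll (hzero l hl) (hzero l' hl')

/-- A monomial involution commuting with an element outside the stabilizer moves all lines, unless it is scalar. -/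
theorem Rig.inv_cases_mid (ht : 8 ≤ t) (h2 : (2 : F) ≠ 0) {v k : GL (Fin n) F} (hv : v ∈ M)
    (hvs : v ∈ Cfsg.Geo.decompositionStabilizer D) (hv2 : v * v = 1) (hk : k ∈ M)
    (hks : k ∉ Cfsg.Geo.decompositionStabilizer D) (hvk : v * k = k * v) :
    (v = 1 ∨ v = -1) ∨ ∃ (π : Equiv.Perm (Fin t)) (c : Fin t → F),
      (∀ a, (v : Matrix (Fin n) (Fin n) F) *ᵥ e a = c a • e (π a) ∧ c a * σ (c a) = 1) ∧ (∀ a, π a ≠ a) ∧
        ∀ a, π (π a) = a := by
  classical
  have P := R.frame
  have hf := P.unit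
  obtain ⟨π, c, hc⟩ := P.mono (R.le_k hv).1 hvs
  have hinv : ∀ a, c a * c (π a) = 1 ∧ π (π a) = a := by
    intro a
    have h : (v : Matrix (Fin n) (Fin n) F) *ᵥ ((v : Matrix (Fin n) (Fin n) F) *ᵥ e a) = e a := by
      rw [← gl_mul_mulVec, hv2, Units.val_one, one_mulVec]
    rw [(hc a).1, mulVec_smul, (hc (π a)).1, smul_smul] at h
    have h1 := congrArg (fun z => f z (e a)) h
    simp only [Unit.smul_left hf, P.form_e, P.norm] at h1
    by_cases hp : π (π a) = a
    · rw [if_pos hp, mul_one] at h1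
      exact ⟨h1, hp⟩
    · rw [if_neg hp, mul_zero] at h1
      exact absurd h1 zero_ne_one
  by_cases hall : ∀ a, π a ≠ a
  · exact Or.inr ⟨π, c, hc, hall, fun a => (hinv a).2⟩
  push Not at hall
  obtain ⟨m, hm⟩ := hall
  by_cases hdiag : ∀ a, π a = a
  · refine Or.inl ?_
    have hμ : ∀ a, (v : Matrix (Fin n) (Fin n) F) *ᵥ e a = c a • e a := fun a => by rw [(hc a).1, hdiag a]
    have hconst : ∀ a, c a = c m := fun a => by_contra fun h => hks (R.diag_cent hv hk hvk hμ h)
    have hv' : ∀ x, (v : Matrix (Fin n) (Fin n) F) *ᵥ x = c m • x := fun x => by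
      conv_lhs => rw [← P.expand x]
      conv_rhs => rw [← P.expand x]
      simp only [mulVec_sum, mulVec_smul, Finset.smul_sum]
      exact Finset.sum_congr rfl fun a _ => by rw [hμ, hconst a, smul_smul, smul_smul, mul_comm]
    have hcc : c m * c m = 1 := by
      have := (hinv m).1
      rwa [hdiag m] at this
    rcases mul_self_eq_one_iff.1 hcc with h | h
    · exact Or.inl (gl_ext fun x => by rw [hv', h, one_smul, Units.val_one, one_mulVec])
    · exact Or.inr (gl_ext fun x => by rw [hv', h, neg_one_smul, Units.val_neg, Units.val_one, neg_mulVec, one_mulVec])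
  push Not at hdiag
  obtain ⟨a, ha⟩ := hdiag
  exfalso
  set ν := c m with hν
  have hνν : ν * ν = 1 := by
    have := (hinv m).1
    rwa [hm] at this
  have hνσ : σ ν = ν := mul_left_cancel₀ (fun h : ν = 0 => by simp [h] at hνν) ((hc m).2.trans hνν.symm)
  have hki := R.isometry hk
  set x := (k : Matrix (Fin n) (Fin n) F) *ᵥ e m with hx
  have heig : (v : Matrix (Fin n) (Fin n) F) *ᵥ x = ν • x := by
    rw [hx, ← gl_mul_mulVec, hvk, gl_mul_mulVec, (hc m).1, hm, mulVec_smul]
  have hco : ∀ l, ν * f x (e (π l)) = c l * f x (e l) := fun l => by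
    rw [← P.mono_coord (R.le_k hv).1 (hc l).1 (hc l).2 x, heig, Unit.smul_left hf]
  set dv : Fin t → Fin n → F := fun l => e l - (ν * c l) • e (π l) with hdv
  have hκ : ∀ l, ν * c l * σ (ν * c l) = 1 := fun l => by
    rw [map_mul, hνσ]; linear_combination (c l * σ (c l)) * hνν + (hc l).2
  have hxd : ∀ l, f x (dv l) = 0 := fun l => by
    simp only [hdv, Unit.sub_right hf, Unit.smul_right hf, map_mul, hνσ]
    linear_combination -(σ (c l)) * hco l - f x (e l) * (hc l).2
  by_cases htwo : ∃ b, π b ≠ b ∧ b ≠ a ∧ b ≠ π a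
  · obtain ⟨b, hb, hba, hbπa⟩ := htwo
    obtain ⟨hqa, -, -, -, hda⟩ := P.swap_vec (Ne.symm ha) (hκ a)
    obtain ⟨hqb, -, -, -, hdb⟩ := P.swap_vec (Ne.symm hb) (hκ b)
    set h := qr f (-1) (dv a) * qr f (-1) (dv b) with hh
    have hhH : h ∈ hGrp f D := by
      refine ⟨(Cfsg.Geo.decompositionStabilizer D).mul_mem (P.swap_stab (Ne.symm ha) (hκ a))
        (P.swap_stab (Ne.symm hb) (hκ b)), kGrp_of hf ((isoGroup f).mul_mem (qr_iso hf hqa) (qr_iso hf hqb)) ?_⟩
      rw [hh, Units.val_mul, det_mul]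
      simp only [hdv, hda, hdb]
      norm_num
    set u := ((k⁻¹ : GL (Fin n) F) : Matrix (Fin n) (Fin n) F) *ᵥ dv a with hu
    set u' := ((k⁻¹ : GL (Fin n) F) : Matrix (Fin n) (Fin n) F) *ᵥ dv b with hu'
    have hki' := R.isometry (M.inv_mem hk)
    have hKeq : k⁻¹ * h * k = qr f (-1) u * qr f (-1) u' := by
      have e1 := qr_conj hf hki' (show QCond σ f (-1) (dv a) from hqa)
      have e2 := qr_conj hf hki' (show QCond σ f (-1) (dv b) from hqb)
      rw [inv_inv] at e1 e2
      rw [hh, hu, hu', ← e1, ← e2]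
      group
    have hKM : qr f (-1) u * qr f (-1) u' ∈ M := hKeq ▸ M.mul_mem (M.mul_mem (M.inv_mem hk) (R.le hhH)) hk
    have hKfix : ((qr f (-1) u * qr f (-1) u' : GL (Fin n) F) : Matrix (Fin n) (Fin n) F) *ᵥ e m = e m := by
      rw [← hKeq, gl_mul_mulVec, gl_mul_mulVec, ← hx]
      have : (h : Matrix (Fin n) (Fin n) F) *ᵥ x = x := by
        rw [hh, gl_mul_mulVec, qr_fix hf (show QCond σ f (-1) (dv b) from hqb) (hxd b),
          qr_fix hf (show QCond σ f (-1) (dv a) from hqa) (hxd a)]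
      rw [this, hx, gl_inv_mulVec_mulVec]
    have hdd : ∀ l, π l ≠ l → f (dv l) (dv l) = 2 := fun l hl => by
      simp only [hdv, Unit.sub_left hf, Unit.sub_right hf, Unit.smul_left hf, Unit.smul_right hf, P.norm,
        P.orth hl, P.orth (Ne.symm hl)]
      linear_combination hκ l
    have hpp : π b ≠ a := fun h => hbπa (by rw [← h, (hinv b).2])
    have hdo : f (dv a) (dv b) = 0 := by
      simp only [hdv, Unit.sub_left hf, Unit.sub_right hf, Unit.smul_left hf, Unit.smul_right hf,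
        P.orth (Ne.symm hba), P.orth (Ne.symm hpp), P.orth (show π a ≠ b from Ne.symm hbπa),
        P.orth (show π a ≠ π b from fun h => hba (π.injective h).symm)]
      ring
    obtain ⟨B, hB, hout, -⟩ := P.supp_two (by rw [hki']; exact fun h => h2 ((hdd a ha).symm.trans h))
      (by rw [hki']; exact fun h => h2 ((hdd b hb).symm.trans h)) (by rw [hki']; exact hdo) (qcond_map hf hki' hqa)
      (qcond_map hf hki' hqb) (neg_ne_zero.2 one_ne_zero) (neg_ne_zero.2 one_ne_zero) (R.fix_stab hKM hKfix)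
    refine R.sparse_mid ht (M.inv_mem hk) (fun h' => hks (by simpa using (Cfsg.Geo.decompositionStabilizer D).inv_mem h'))
      (Ne.symm ha) (ν * c a) ((Finset.card_le_card fun l hl => ?_).trans hB)
    rw [mem_sp, ← mulVec_smul, ← mulVec_sub] at hl
    exact by_contra fun hlB => hl (hout l hlB).1
  push Not at htwo
  have hfix : ∀ l, l ≠ a → l ≠ π a → π l = l := fun l h1 h3 => by_contra fun hl => h3 (htwo l hl h1)
  obtain ⟨l₁, l₂, hl₁, hl₂, hll⟩ := Finset.one_lt_card_iff.1 (show 1 < ({a, π a, m}ᶜ : Finset (Fin t)).card by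
    rw [Finset.card_compl, Fintype.card_fin]
    have := Finset.card_le_three (a := a) (b := π a) (c := m)
    omega)
  have hsame : ∀ l, π l = l → c l = ν := by
    intro b hb
    by_contra hne
    have hbb : c b * c b = 1 := by
      have := (hinv b).1
      rwa [hb] at this
    -- every other fixed line with the sign of `m` vanishes on the column of `b`
    have hzero : ∀ l, π l = l → c l ≠ ν → f x (e l) = 0 := fun l hl hl' => by
      have := hco l
      rw [hl] at this
      exact (mul_eq_zero.1 (show (ν - c l) * f x (e l) = 0 by linear_combination this)).resolve_left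
        (sub_ne_zero.2 (Ne.symm hl'))
    have hothers : ∀ l, π l = l → l ≠ b → c l = ν := fun l hl hlb => by_contra fun hl' =>
      R.two_zero hk hks hlb (hzero l hl hl') (hzero b hb hne)
    have heigb : (v : Matrix (Fin n) (Fin n) F) *ᵥ ((k : Matrix (Fin n) (Fin n) F) *ᵥ e b) =
        c b • ((k : Matrix (Fin n) (Fin n) F) *ᵥ e b) := by
      rw [← gl_mul_mulVec, hvk, gl_mul_mulVec, (hc b).1, hb, mulVec_smul]
    obtain ⟨p, q, hp, hq, hpq⟩ := Finset.one_lt_card_iff.1 (show 1 < ({a, π a, b}ᶜ : Finset (Fin t)).card by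
      rw [Finset.card_compl, Fintype.card_fin]
      have := Finset.card_le_three (a := a) (b := π a) (c := b)
      omega)
    simp only [Finset.mem_compl, Finset.mem_insert, Finset.mem_singleton, not_or] at hp hq
    have hz : ∀ l, π l = l → l ≠ b → f ((k : Matrix (Fin n) (Fin n) F) *ᵥ e b) (e l) = 0 := fun l hl hlb => by
      have h := P.mono_coord (R.le_k hv).1 (hc l).1 (hc l).2 ((k : Matrix (Fin n) (Fin n) F) *ᵥ e b)
      rw [hl, heigb, Unit.smul_left hf, hothers l hl hlb] at h
      exact (mul_eq_zero.1 (show (c b - ν) * f ((k : Matrix (Fin n) (Fin n) F) *ᵥ e b) (e l) = 0 by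
        linear_combination h)).resolve_left (sub_ne_zero.2 hne)
    exact R.two_zero hk hks hpq (hz p (hfix p hp.1 hp.2.1) hp.2.2) (hz q (hfix q hq.1 hq.2.1) hq.2.2)
  have hπd : (v : Matrix (Fin n) (Fin n) F) *ᵥ dv a = -(ν • dv a) := by
    simp only [hdv, mulVec_sub, mulVec_smul]
    rw [(hc a).1, (hc (π a)).1, (hinv a).2, smul_sub, smul_smul, smul_smul, mul_assoc, (hinv a).1, ← mul_assoc, hνν,
      one_mul, mul_one]
    abel
  refine R.sparse_mid ht hk hks (Ne.symm ha) (ν * c a) ((Finset.card_le_card (t := {a, π a}) fun l hl => ?_).trans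
    (Finset.card_le_two.trans (by omega)))
  rw [mem_sp, ← mulVec_smul, ← mulVec_sub] at hl
  by_contra hn
  simp only [Finset.mem_insert, Finset.mem_singleton, not_or] at hn
  have hl' := hfix l hn.1 hn.2
  have h := P.mono_coord (R.le_k hv).1 (hc l).1 (hc l).2 ((k : Matrix (Fin n) (Fin n) F) *ᵥ dv a)
  rw [hl', ← gl_mul_mulVec, hvk, gl_mul_mulVec, hπd, mulVec_neg, mulVec_smul, (Unit.sesq hf).neg_left,
    Unit.smul_left hf, hsame l hl'] at h
  have h' : (2 * ν) * f ((k : Matrix (Fin n) (Fin n) F) *ᵥ dv a) (e l) = 0 := by linear_combination -h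
  exact hl ((mul_eq_zero.1 h').resolve_left (mul_ne_zero h2 fun h0 => by simp [h0] at hνν))

/-- Conjugates of four-line involutions by elements outside the stabilizer lie outside it. -/
theorem Rig.four_notMem_mid (ht : 8 ≤ t) (h2 : (2 : F) ≠ 0) {g : GL (Fin n) F} (hg : g ∈ M)
    (hgs : g ∉ Cfsg.Geo.decompositionStabilizer D) {a b p q : Fin t} (hab : a ≠ b) (hpq : p ≠ q) (hap : a ≠ p)
    (haq : a ≠ q) (hbp : b ≠ p) (hbq : b ≠ q) :
    g * (duo σ f (e a) (e b) (-1) * duo σ f (e p) (e q) (-1)) * g⁻¹ ∉ Cfsg.Geo.decompositionStabilizer D := by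
  classical
  obtain ⟨hM, hsq, hline4, h4, h4', hcomm⟩ := R.four_facts hab hpq hap haq hbp hbq h2
  set t4 := duo σ f (e a) (e b) (-1) * duo σ f (e p) (e q) (-1) with ht4
  intro hs
  have P := R.frame
  have hf := P.unit
  have hgi := R.isometry hg
  have hε : (-1 : F) * σ (-1) = 1 := by simp
  have hm1 : (-1 : F) ≠ 1 := fun h => h2 (by linear_combination -h)
  have hK := R.conj_notMem hg hgs hab hε hm1
  set v := g * t4 * g⁻¹ with hv
  set k := g * duo σ f (e a) (e b) (-1) * g⁻¹ with hk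
  have hvM : v ∈ M := M.mul_mem (M.mul_mem hg hM) (M.inv_mem hg)
  have hkM : k ∈ M := M.mul_mem (M.mul_mem hg (R.duo_mem a b hε)) (M.inv_mem hg)
  have hcase := R.inv_cases_mid ht h2 hvM hs
    (by rw [hv, show g * t4 * g⁻¹ * (g * t4 * g⁻¹) = g * (t4 * t4) * g⁻¹ by group, hsq]; group)
    hkM hK
    (by
      rw [hv, hk, show g * t4 * g⁻¹ * (g * duo σ f (e a) (e b) (-1) * g⁻¹) =
        g * (t4 * duo σ f (e a) (e b) (-1)) * g⁻¹ by group, ← hcomm]
      group)
  have hr : res v = res t4 := res_conj t4 g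
  rcases hcase with (h | h) | ⟨π, c, hc, hπ, hππ⟩
  · rw [h] at hr
    have : res (1 : GL (Fin n) F) = 0 := by simp [res]
    omega
  · rw [h] at hr
    have : (Finset.univ : Finset (Fin t)).card ≤ res (-1 : GL (Fin n) F) := by
      refine res_ge P _ fun l _ => ⟨e l, ?_, fun l' _ hne => ?_⟩
      · rw [Units.val_neg, Units.val_one, neg_mulVec, one_mulVec, Unit.sub_left hf,
          (Unit.sesq hf).neg_left, P.norm]
        exact fun h => h2 (by linear_combination -h)
      · rw [Units.val_neg, Units.val_one, neg_mulVec, one_mulVec, Unit.sub_left hf,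
          (Unit.sesq hf).neg_left, P.orth (Ne.symm hne), neg_zero, sub_zero]
    rw [Finset.card_univ, Fintype.card_fin] at this
    omega
  -- the columns of `g` at `a` and `b` are negated, so two exchanges fix them
  set x := (g : Matrix (Fin n) (Fin n) F) *ᵥ e a with hx
  set y := (g : Matrix (Fin n) (Fin n) F) *ᵥ e b with hy
  have hneg : ∀ {l : Fin t}, (l = a ∨ l = b ∨ l = p ∨ l = q) →
      (v : Matrix (Fin n) (Fin n) F) *ᵥ ((g : Matrix (Fin n) (Fin n) F) *ᵥ e l) =
        (-1 : F) • ((g : Matrix (Fin n) (Fin n) F) *ᵥ e l) := fun {l} hl => by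
    rw [hv, gl_mul_mulVec, gl_mul_mulVec, gl_inv_mulVec_mulVec, hline4, if_pos hl, mulVec_smul]
  have hnc : ∀ l, -c l * σ (-c l) = 1 := fun l => by rw [map_neg, neg_mul_neg]; exact (hc l).2
  have hperp : ∀ (z : Fin n → F), (v : Matrix (Fin n) (Fin n) F) *ᵥ z = (-1 : F) • z →
      ∀ l, f z (e l - (-c l) • e (π l)) = 0 := fun z hz l => by
    have h := P.mono_coord (R.le_k hvM).1 (hc l).1 (hc l).2 z
    rw [hz, Unit.smul_left hf] at h
    rw [Unit.sub_right hf, Unit.smul_right hf, map_neg]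
    linear_combination -(σ (c l)) * h - f z (e l) * (hc l).2
  let i : Fin t := ⟨0, by omega⟩
  obtain ⟨j, hj⟩ := P.exists_notMem (S := {i, π i}) (by have := Finset.card_le_two (a := i) (b := π i); omega)
  simp only [Finset.mem_insert, Finset.mem_singleton, not_or] at hj
  have hji' : π j ≠ i := fun h => hj.2 (by rw [← h, hππ])
  have hjj' : π i ≠ π j := fun h => hj.1 (π.injective h).symm
  obtain ⟨m, hm⟩ := P.exists_notMem (S := {i, π i, j, π j}) (by
    have := Finset.card_le_four (a := i) (b := π i) (c := j) (d := π j); omega)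
  simp only [Finset.mem_insert, Finset.mem_singleton, not_or] at hm
  obtain ⟨hqi, hai, hbi, hoi, hdi⟩ := P.swap_vec (Ne.symm (hπ i)) (hnc i)
  obtain ⟨hqj, haj, hbj, hoj, hdj⟩ := P.swap_vec (Ne.symm (hπ j)) (hnc j)
  set di := e i - (-c i) • e (π i) with hdid
  set dj := e j - (-c j) • e (π j) with hdjd
  set δ := qr f (-1) di * qr f (-1) dj with hδ
  have hδH : δ ∈ hGrp f D := by
    refine ⟨(Cfsg.Geo.decompositionStabilizer D).mul_mem (P.swap_stab (Ne.symm (hπ i)) (hnc i))
      (P.swap_stab (Ne.symm (hπ j)) (hnc j)), kGrp_of hf ((isoGroup f).mul_mem (qr_iso hf hqi) (qr_iso hf hqj)) ?_⟩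
    rw [hδ, Units.val_mul, det_mul, hdi, hdj]
    norm_num
  have hfix : ∀ z, f z di = 0 → f z dj = 0 → (δ : Matrix (Fin n) (Fin n) F) *ᵥ z = z := fun z h1 h3 => by
    rw [hδ, gl_mul_mulVec, qr_fix hf hqj h3, qr_fix hf hqi h1]
  have hδk : δ * k = k * δ := by
    have hδi : Symp.IsIsometry f δ := R.isometry (R.le hδH)
    have hkeq : k = duo σ f x y (-1) := duo_conj hf hgi (P.norm a) (P.norm b) hε
    have h := duo_conj hf hδi (u := x) (v := y) (by rw [hx, hgi, P.norm]) (by rw [hy, hgi, P.norm]) hε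
    rw [hfix x (hperp x (hneg (Or.inl rfl)) i) (hperp x (hneg (Or.inl rfl)) j),
      hfix y (hperp y (hneg (Or.inr (Or.inl rfl))) i) (hperp y (hneg (Or.inr (Or.inl rfl))) j), ← hkeq] at h
    exact mul_inv_eq_iff_eq_mul.1 h
  have hsq1 : ∀ d, QCond σ f (-1) d → qr f (-1) d * qr f (-1) d = 1 := fun d hd => by
    have h := qr_inv hf hd
    rw [show σ (-1 : F) = -1 by simp] at h
    calc qr f (-1) d * qr f (-1) d = qr f (-1) d * (qr f (-1) d)⁻¹ := by rw [h]
      _ = 1 := mul_inv_cancel _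
  have hδ2 : δ * δ = 1 := by
    have hcm : qr f (-1) dj * qr f (-1) di = qr f (-1) di * qr f (-1) dj := (qr_comm hf hqi hqj (by
      simp only [hdid, hdjd, Unit.sub_left hf, Unit.sub_right hf, Unit.smul_left hf, Unit.smul_right hf,
        P.orth (Ne.symm hj.1), P.orth (Ne.symm hji'), P.orth (show π i ≠ j from Ne.symm hj.2), P.orth hjj']
      ring)).symm
    rw [hδ, mul_assoc, ← mul_assoc (qr f (-1) dj), hcm, mul_assoc, hsq1 dj hqj, mul_one, hsq1 di hqi]
  have hδm : (δ : Matrix (Fin n) (Fin n) F) *ᵥ e m = e m := by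
    rw [hδ, gl_mul_mulVec, hoj m hm.2.2.1 hm.2.2.2, hoi m hm.1 hm.2.1]
  have hδi' : (δ : Matrix (Fin n) (Fin n) F) *ᵥ e i = (-c i) • e (π i) := by
    rw [hδ, gl_mul_mulVec, hoj i (Ne.symm hj.1) (Ne.symm hji'), hai]
  rcases R.inv_cases_mid ht h2 (R.le hδH) hδH.1 hδ2 hkM hK hδk with (h | h) | ⟨π', c', hc', hπ', -⟩
  · rw [h, Units.val_one, one_mulVec] at hδi'
    have := congrArg (fun z => f z (e i)) hδi'
    simp only [P.norm, Unit.smul_left hf, P.orth (hπ i), mul_zero] at this
    exact one_ne_zero this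
  · rw [h, Units.val_neg, Units.val_one, neg_mulVec, one_mulVec] at hδm
    have := congrArg (fun z => f z (e m)) hδm
    simp only [(Unit.sesq hf).neg_left, P.norm] at this
    exact hm1 this
  · have := congrArg (fun z => f z (e m)) (hδm.symm.trans (hc' m).1)
    simp only [P.norm, Unit.smul_left hf, P.orth (hπ' m), mul_zero] at this
    exact one_ne_zero this

/-- In odd characteristic there is no rigid overgroup. -/
theorem Rig.false_of_odd_mid (ht : 8 ≤ t) (h2 : (2 : F) ≠ 0) {g : GL (Fin n) F} (hg : g ∈ M)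
    (hgs : g ∉ Cfsg.Geo.decompositionStabilizer D) : False := by
  classical
  have P := R.frame
  have hf := P.unit
  have hε : (-1 : F) * σ (-1) = 1 := by simp
  let i : Fin 6 → Fin t := fun j => ⟨j.val, by omega⟩
  have hi : ∀ {j l}, j ≠ l → i j ≠ i l := fun h h' => h (Fin.ext (by simpa [i] using congrArg Fin.val h'))
  have h23 := hi (show (2 : Fin 6) ≠ 3 by decide)
  have h45 := hi (show (4 : Fin 6) ≠ 5 by decide)
  have h24 := hi (show (2 : Fin 6) ≠ 4 by decide)
  have h25 := hi (show (2 : Fin 6) ≠ 5 by decide)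
  have h34 := hi (show (3 : Fin 6) ≠ 4 by decide)
  have h35 := hi (show (3 : Fin 6) ≠ 5 by decide)
  have h01 := hi (show (0 : Fin 6) ≠ 1 by decide)
  obtain ⟨hM4, hsq4, -, h4, h4', -⟩ := R.four_facts h23 h45 h24 h25 h34 h35 h2
  set t4 := duo σ f (e (i 2)) (e (i 3)) (-1) * duo σ f (e (i 4)) (e (i 5)) (-1)
  set s := g * t4 * g⁻¹ with hs
  have hsM : s ∈ M := M.mul_mem (M.mul_mem hg hM4) (M.inv_mem hg)
  have hsns : s ∉ Cfsg.Geo.decompositionStabilizer D := R.four_notMem_mid ht h2 hg hgs h23 h45 h24 h25 h34 h35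
  have hssq : s * s = 1 := by rw [hs, show g * t4 * g⁻¹ * (g * t4 * g⁻¹) = g * (t4 * t4) * g⁻¹ by group, hsq4]; group
  have hres2 : ∀ {a b : Fin t}, a ≠ b → res (duo σ f (e a) (e b) (-1)) ≤ 2 := fun {a b} hab => by
    refine (res_le (W := Submodule.span F (({e a, e b} : Finset (Fin n → F)) : Set (Fin n → F))) fun x => ?_).trans
      ((finrank_span_finset_le_card _).trans Finset.card_le_two)
    rw [duo, show σ (-1 : F) = -1 by simp, gl_mul_mulVec, rho_mulVec hf (P.norm b) hε, rho_mulVec hf (P.norm a) hε,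
      add_assoc, add_sub_cancel_left]
    exact Submodule.add_mem _ (Submodule.smul_mem _ _ (Submodule.subset_span (by simp)))
      (Submodule.smul_mem _ _ (Submodule.subset_span (by simp)))
  have hfix1 : ∀ {a b : Fin t}, a ≠ b → ∀ l, l ≠ a → l ≠ b →
      (duo σ f (e a) (e b) (-1) : Matrix (Fin n) (Fin n) F) *ᵥ e l = e l := fun {a b} hab l h1 h3 => by
    rw [duo, show σ (-1 : F) = -1 by simp, gl_mul_mulVec, rho_fix hf (P.norm b) hε (P.orth h3),
      rho_fix hf (P.norm a) hε (P.orth h1)]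
  have hneg : ∀ {a b : Fin t}, a ≠ b → 5 ≤ res (duo σ f (e a) (e b) (-1) * -1) := fun {a b} hab => by
    have hc5 : 5 ≤ ({a, b}ᶜ : Finset (Fin t)).card := by
      rw [Finset.card_compl, Fintype.card_fin]
      have := Finset.card_le_two (a := a) (b := b)
      omega
    refine hc5.trans (res_ge P _ fun l hl => ⟨e l, ?_, fun l' _ hne => ?_⟩)
    · simp only [Finset.mem_compl, Finset.mem_insert, Finset.mem_singleton, not_or] at hl
      rw [gl_mul_mulVec, Units.val_neg, Units.val_one, neg_mulVec, one_mulVec, mulVec_neg, hfix1 hab l hl.1 hl.2,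
        Unit.sub_left hf, (Unit.sesq hf).neg_left, P.norm]
      exact fun h => h2 (by linear_combination -h)
    · simp only [Finset.mem_compl, Finset.mem_insert, Finset.mem_singleton, not_or] at hl
      rw [gl_mul_mulVec, Units.val_neg, Units.val_one, neg_mulVec, one_mulVec, mulVec_neg, hfix1 hab l hl.1 hl.2,
        Unit.sub_left hf, (Unit.sesq hf).neg_left, P.orth (Ne.symm hne), neg_zero, sub_zero]
  set t2 := duo σ f (e (i 0)) (e (i 1)) (-1) with ht2
  obtain ⟨w, hwM, hw2, hw1, hwE, hwt, hws⟩ := exists_central_involution (M := M) (R.duo_mem (i 0) (i 1) hε) hsM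
    (duo_sq hf (P.norm _) (P.norm _) (P.orth h01)) hssq (E := {1, -1})
    (fun u _ h => by
      have := congrArg res h
      rw [res_conj, hs, res_conj] at this
      have := hres2 h01
      omega)
    (fun e' he' hne u _ => by
      obtain rfl : e' = -1 := by simpa [hne] using he'
      constructor <;> intro h <;> have h1 := congrArg res h <;> rw [res_conj] at h1 <;>
        have := hneg h01 <;> have := hres2 h01
      · rw [hs, res_conj] at h1; omega
      · omega)
  obtain ⟨hwst, -⟩ := R.pair_stab h2 h01 hwM hwt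
  rcases R.inv_cases_mid ht h2 hwM hwst hw2 hsM hsns hws with (h | h) | ⟨π, c, hc, hπ, -⟩
  · exact hw1 h
  · exact hwE (by simp [h])
  -- second step, inside the centralizer of `w`
  have hππ : ∀ l, π (π l) = l := by
    intro l
    by_contra hne
    have h : (w : Matrix (Fin n) (Fin n) F) *ᵥ ((w : Matrix (Fin n) (Fin n) F) *ᵥ e l) = e l := by
      rw [← gl_mul_mulVec, hw2, Units.val_one, one_mulVec]
    rw [(hc l).1, mulVec_smul, (hc (π l)).1] at h
    have h1 := congrArg (fun z => f z (e l)) h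
    simp only [Unit.smul_left hf, P.orth hne, P.norm, mul_zero] at h1
    exact zero_ne_one h1
  let a : Fin t := ⟨0, by omega⟩
  set b := π a with hb
  have hab : a ≠ b := Ne.symm (hπ a)
  obtain ⟨A, hA, hAπ⟩ := exists_four hπ hππ (by omega)
  obtain ⟨p, q, hp, hq, hpq⟩ := Finset.one_lt_card_iff.1 (show 1 < (A \ {a, b}).card by
    have := Finset.le_card_sdiff ({a, b} : Finset (Fin t)) A
    have := Finset.card_le_two (a := a) (b := b)
    omega)
  simp only [Finset.mem_sdiff, Finset.mem_insert, Finset.mem_singleton, not_or] at hp hq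
  have hp1 : p ≠ π p := Ne.symm (hπ p)
  have hq1 : q ≠ π q := Ne.symm (hπ q)
  have hpq' : p ≠ π q := fun h => hAπ q hq.1 (h ▸ hp.1)
  have hp'q : π p ≠ q := fun h => hAπ p hp.1 (h.symm ▸ hq.1)
  have hp'q' : π p ≠ π q := fun h => hpq (π.injective h)
  obtain ⟨hM4', hsq4', hline4', h4a, h4b, -⟩ := R.four_facts hp1 hq1 hpq hpq' hp'q hp'q' h2
  set t4' := duo σ f (e p) (e (π p)) (-1) * duo σ f (e q) (e (π q)) (-1) with ht4'
  have hwi := R.isometry hwM
  have hwpair : ∀ l, duo σ f (e l) (e (π l)) (-1) * w = w * duo σ f (e l) (e (π l)) (-1) := by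
    intro l
    have hσ : σ (-1 : F) = -1 := by simp
    have h := duo_conj hf hwi (P.norm l) (P.norm (π l)) hε
    rw [(hc l).1, (hc (π l)).1, hππ, duo, duo, hσ, rho_smul hf (hc l).2 (P.norm (π l)) hε,
      rho_smul hf (hc (π l)).2 (P.norm l) hε, show rho f (e (π l)) (-1) * rho f (e l) (-1) =
        rho f (e l) (-1) * rho f (e (π l)) (-1) from
        qr_comm hf (rho_cond hf (P.norm (π l)) hε) (rho_cond hf (P.norm l) hε) (P.orth (hπ l))] at h
    rw [duo, hσ]
    exact (eq_mul_inv_iff_mul_eq.1 h.symm)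
  have hw4 : t4' * w = w * t4' := by
    rw [ht4', mul_assoc, hwpair q, ← mul_assoc, hwpair p, mul_assoc]
  set C := M ⊓ Subgroup.centralizer {w} with hC
  have hmemC : ∀ {x}, x ∈ M → x * w = w * x → x ∈ C := fun hx hxw =>
    ⟨hx, Subgroup.mem_centralizer_singleton_iff.2 hxw⟩
  set s' := s * t4' * s⁻¹ with hs'
  have hs'w : s' * w = w * s' := by
    have h1 : s⁻¹ * w = w * s⁻¹ := by
      rw [inv_eq_of_mul_eq_one_right hssq]
      exact hws.symm
    exact (((show Commute s w from hws.symm).mul_left hw4).mul_left h1)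
  have hs'ns : s' ∉ Cfsg.Geo.decompositionStabilizer D :=
    R.four_notMem_mid ht h2 hsM hsns hp1 hq1 hpq hpq' hp'q hp'q'
  have hs'M : s' ∈ M := M.mul_mem (M.mul_mem hsM hM4') (M.inv_mem hsM)
  have hs'sq : s' * s' = 1 := by
    rw [hs', show s * t4' * s⁻¹ * (s * t4' * s⁻¹) = s * (t4' * t4') * s⁻¹ by group, hsq4']; group
  set t2' := duo σ f (e a) (e b) (-1) with ht2'
  have hbig : ∀ d : GL (Fin n) F, (∀ l, ∃ κ : F, (d : Matrix (Fin n) (Fin n) F) *ᵥ e l = κ • e l) →
      ∀ z : GL (Fin n) F, (z = w ∨ z = -w) → 4 ≤ res (d * z) := by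
    intro d hd z hz
    rw [← hA]
    refine res_ge P A fun l hl => ?_
    obtain ⟨κ, hκ⟩ : ∃ κ : F, ((d * z : GL (Fin n) F) : Matrix (Fin n) (Fin n) F) *ᵥ e l = κ • e (π l) := by
      obtain ⟨κ, hκ⟩ := hd (π l)
      rcases hz with rfl | rfl
      · exact ⟨c l * κ, by rw [gl_mul_mulVec, (hc l).1, mulVec_smul, hκ, smul_smul]⟩
      · exact ⟨-(c l * κ), by
          rw [gl_mul_mulVec, Units.val_neg, neg_mulVec, (hc l).1, mulVec_neg, mulVec_smul, hκ, smul_smul, neg_smul]⟩
    refine ⟨e l, ?_, fun l' hl' hne => ?_⟩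
    · rw [hκ, Unit.sub_left hf, Unit.smul_left hf, P.orth (hπ l), P.norm, mul_zero, zero_sub]
      exact neg_ne_zero.2 one_ne_zero
    · rw [hκ, Unit.sub_left hf, Unit.smul_left hf, P.orth (Ne.symm hne),
        P.orth (fun h : π l = l' => hAπ l hl (h ▸ hl')), mul_zero, sub_zero]
  have hab' : t2' * w = w * t2' := hwpair a
  obtain ⟨w₂, hw₂C, hw₂2, hw₂1, hw₂E, hw₂t, hw₂s⟩ := exists_central_involution (M := C)
    (hmemC (R.duo_mem a b hε) hab') (hmemC hs'M hs'w) (duo_sq hf (P.norm _) (P.norm _) (P.orth hab)) hs'sq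
    (E := {1, -1, w, -w})
    (fun u _ h => by
      have := congrArg res h
      rw [res_conj, hs', res_conj] at this
      have := hres2 hab
      omega)
    (fun e' he' hne u hu => by
      simp only [Set.mem_insert_iff, Set.mem_singleton_iff, hne, false_or] at he'
      have h6 : res (duo σ f (e a) (e b) (-1)) ≤ 2 := hres2 hab
      have hd2 : ∀ l, ∃ κ : F, (t2' : Matrix (Fin n) (Fin n) F) *ᵥ e l = κ • e l := fun l =>
        ⟨_, P.duo_line hab l⟩
      have hd4 : ∀ l, ∃ κ : F, (t4' : Matrix (Fin n) (Fin n) F) *ᵥ e l = κ • e l := fun l =>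
        ⟨_, hline4' l⟩
      rcases he' with rfl | hz
      · have h5 : 5 ≤ res (duo σ f (e a) (e b) (-1) * -1) := hneg hab
        constructor <;> intro h <;> have h1 := congrArg res h <;> rw [res_conj] at h1
        · rw [hs', res_conj] at h1; omega
        · change res (duo σ f (e a) (e b) (-1)) = res (duo σ f (e a) (e b) (-1) * -1) at h1
          omega
      · have hz2 : e' * e' = 1 := by rcases hz with rfl | rfl <;> simp [hw2]
        have hze : ∀ {x : GL (Fin n) F}, x * w = w * x → x * e' = e' * x := fun {x} hx => by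
          rcases hz with rfl | rfl
          · exact hx
          · rw [mul_neg, neg_mul, hx]
        constructor <;> intro h
        · -- multiply by the central element `e'`
          have hue : u * e' = e' * u := hze (Subgroup.mem_centralizer_singleton_iff.1 hu.2)
          have h3 : u * t2' * u⁻¹ = s * (t4' * e') * s⁻¹ := by
            have hse : s⁻¹ * e' = e' * s⁻¹ := (show Commute s e' from hze hws.symm).inv_left
            calc u * t2' * u⁻¹ = u * (t2' * e') * u⁻¹ * e' := by
                  rw [mul_assoc _ u⁻¹, (show Commute u e' from hue).inv_left.eq, mul_assoc u, mul_assoc u,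
                    mul_assoc t2', ← mul_assoc e', hz2, one_mul]
              _ = s * t4' * s⁻¹ * e' := by rw [h, hs']
              _ = s * (t4' * e') * s⁻¹ := by rw [mul_assoc _ s⁻¹, hse, ← mul_assoc, mul_assoc s]
          have h1 := congrArg res h3
          rw [res_conj, res_conj] at h1
          have := hbig t4' hd4 e' hz
          change res (duo σ f (e a) (e b) (-1)) = _ at h1
          omega
        · have h1 := congrArg res h
          rw [res_conj] at h1
          have := hbig t2' hd2 e' hz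
          change res (duo σ f (e a) (e b) (-1)) = res (duo σ f (e a) (e b) (-1) * e') at h1
          change 4 ≤ res (duo σ f (e a) (e b) (-1) * e') at this
          omega)
  have hw₂M : w₂ ∈ M := hw₂C.1
  have hw₂w : w₂ * w = w * w₂ := Subgroup.mem_centralizer_singleton_iff.1 hw₂C.2
  obtain ⟨hw₂st, hπ₂⟩ := R.pair_stab h2 hab hw₂M hw₂t
  rcases R.inv_cases_mid ht h2 hw₂M hw₂st hw₂2 hs'M hs'ns hw₂s with (h | h) | ⟨π₂, c₂, hc₂, hfpf, -⟩
  · exact hw₂1 h
  · exact hw₂E (by simp [h])
  have hπ₂a : π₂ a = b := (hπ₂ π₂ c₂ hc₂).resolve_left (hfpf a)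
  have hva : ((w * w₂ : GL (Fin n) F) : Matrix (Fin n) (Fin n) F) *ᵥ e a = (c₂ a * c b) • e a := by
    rw [gl_mul_mulVec, (hc₂ a).1, hπ₂a, mulVec_smul, (hc b).1, hb, hππ, smul_smul]
  have hvsq : w * w₂ * (w * w₂) = 1 := by
    rw [mul_assoc, ← mul_assoc w₂, hw₂w, mul_assoc w, hw₂2, mul_one, hw2]
  rcases R.inv_cases_mid ht h2 (M.mul_mem hwM hw₂M) ((Cfsg.Geo.decompositionStabilizer D).mul_mem hwst hw₂st) hvsq hs'M hs'ns
    (by rw [mul_assoc, hw₂s, ← mul_assoc, ← hs'w, mul_assoc]) with (h | h) | ⟨π₃, c₃, hc₃, hfpf₃, -⟩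
  · have : w₂ = w := by rw [← one_mul w₂, ← hw2, mul_assoc, h, mul_one]
    exact hw₂E (by simp [this])
  · have : w₂ = -w := by rw [← one_mul w₂, ← hw2, mul_assoc, h, mul_neg, mul_one]
    exact hw₂E (by simp [this])
  · have h1 := congrArg (fun z => f z (e (π₃ a))) (hva.symm.trans (hc₃ a).1)
    simp only [Unit.smul_left hf, P.orth (Ne.symm (hfpf₃ a)), P.norm, mul_zero, mul_one] at h1
    have hN := (hc₃ a).2
    rw [← h1, zero_mul] at hN
    exact zero_ne_one hN

end CfsgLib.GeomClasses.UnitFrame
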