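import Cfsg.Agent.Lib.GeomClasses.UnitFrameMidClass
import Cfsg.Agent.Lib.GeomClasses.UnitFrameMidOdd
import Cfsg.Agent.Lib.GeomClasses.UnitDecompMax

/-!
Stabilizers of orthonormal frames are maximal in special unitary groups of dimension at least eight.
-/

set_option autoImplicit false
set_option linter.unusedSectionVars false
set_option linter.unusedSimpArgs false

namespace CfsgLib.GeomClasses.UnitFrame

open Matrix CfsgLib.GeomClasses.UnitQr CfsgLib.GeomClasses.UnitSymp CfsgLib.GeomClasses.UnitDecomp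
  CfsgLib.GeomClasses.UnitCircle

variable {n : ℕ} {F : Type*} [Field F] [Fintype F] {σ : F ≃+* F} {f : (Fin n → F) → (Fin n → F) → F}
  {t : ℕ} {D : Fin t → Submodule F (Fin n → F)} {e : Fin t → Fin n → F} (P : Frame σ f D e)
include P

/-- Weights of three pairs: the total is one and two of them are non-zero. -/
theorem Frame.exists_weights_three (h2 : (2 : F) = 0) {u : Fin n → F} (hfull : ∀ l, f u (e l) ≠ 0)
    (p r : Fin 3 → Fin t) :
    ∃ c : Fin 3 → F, (∀ i, c i * σ (c i) = 1) ∧
      f u (e (p 0) - c 0 • e (r 0)) ≠ 0 ∧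
      (f u (e (p 1) - c 1 • e (r 1)) ≠ 0 ∨ f u (e (p 2) - c 2 • e (r 2)) ≠ 0) ∧
      ∑ i, f u (e (p i) - c i • e (r i)) * σ (f u (e (p i) - c i • e (r i))) = 1 := by
  classical
  have hf := P.unit
  set A : Fin 3 → F := fun i => f u (e (p i)) * σ (f u (e (r i))) with hA
  set N : Fin 3 → F := fun i =>
    f u (e (p i)) * σ (f u (e (p i))) + f u (e (r i)) * σ (f u (e (r i))) with hN
  have hA0 : ∀ i, A i ≠ 0 := fun i => mul_ne_zero (hfull _) ((RingEquiv.map_ne_zero_iff σ).2 (hfull _))
  have hNf : ∀ i, σ (N i) = N i := fun i => by simp only [hN, map_add, P.norm_fixed]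
  have hval : ∀ i (c : F), c * σ c = 1 →
      f u (e (p i) - c • e (r i)) * σ (f u (e (p i) - c • e (r i))) = N i - (c * A i + σ (c * A i)) := by
    intro i c hc
    simp only [Unit.sub_right hf, Unit.smul_right hf, map_sub, map_mul, hf.involutive, hN, hA]
    linear_combination (f u (e (r i)) * σ (f u (e (r i)))) * hc
  by_cases hB : Big σ
  · -- avoid two values of the first weight
    obtain ⟨c₀, hc₀, h00, h01⟩ : ∃ c : F, c * σ c = 1 ∧ c * A 0 + σ (c * A 0) ≠ N 0 ∧
        c * A 0 + σ (c * A 0) ≠ N 0 - 1 := by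
      by_contra h
      push Not at h
      have h5 := Finset.card_le_card (show circle σ ⊆ ((circle σ).filter fun c => c * A 0 + σ (c * A 0) = N 0) ∪
          ((circle σ).filter fun c => c * A 0 + σ (c * A 0) = N 0 - 1) from fun c hc => by
        simp only [Finset.mem_union, Finset.mem_filter, hc, true_and]
        by_cases h0 : c * A 0 + σ (c * A 0) = N 0
        · exact Or.inl h0
        · exact Or.inr (h c (mem_circle.1 hc) h0))
      have h6 := Finset.card_union_le ((circle σ).filter fun c => c * A 0 + σ (c * A 0) = N 0)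
        ((circle σ).filter fun c => c * A 0 + σ (c * A 0) = N 0 - 1)
      have h7 := fibre_le_two hf.ne_refl hf.involutive (hA0 0) (N 0)
      have h8 := fibre_le_two hf.ne_refl hf.involutive (hA0 0) (N 0 - 1)
      rw [card_circle hf.ne_refl hf.involutive] at h5
      obtain ⟨z, hz, hz0, hz1⟩ := hB
      have h9 := Finset.card_le_card (show ({0, 1, z, z + 1} : Finset F) ⊆ fixSet σ by
        intro w hw
        simp only [Finset.mem_insert, Finset.mem_singleton] at hw
        rcases hw with rfl | rfl | rfl | rfl <;> simp [mem_fixSet, hz])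
      rw [Finset.card_insert_of_notMem, Finset.card_insert_of_notMem, Finset.card_pair] at h9
      · omega
      · exact fun h => one_ne_zero (by linear_combination -h : (1 : F) = 0)
      · simp [Ne.symm hz1, hz0]
      · simp only [Finset.mem_insert, Finset.mem_singleton, not_or]
        exact ⟨zero_ne_one, Ne.symm hz0, fun h => hz1 (by linear_combination -h - h2)⟩
    set X := c₀ * A 0 + σ (c₀ * A 0) with hX
    obtain ⟨c₁, c₂, hc₁, hc₂, hs⟩ := exists_two_trace hf.ne_refl hf.involutive (hA0 1) (hA0 2)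
      (s := N 0 - X + N 1 + N 2 - 1) (by
        simp only [hX, map_sub, map_add, map_one, hNf, hf.involutive]; ring)
    refine ⟨![c₀, c₁, c₂], fun i => by fin_cases i <;> assumption, ?_, ?_, ?_⟩
    · intro h
      have := hval 0 c₀ hc₀
      simp only [Matrix.cons_val] at h
      rw [h, zero_mul] at this
      exact h00 (by linear_combination this)
    · by_contra h
      rw [not_or, not_not, not_not] at h
      simp only [Matrix.cons_val] at h
      have e1 := hval 1 c₁ hc₁
      have e2 := hval 2 c₂ hc₂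
      rw [h.1, zero_mul] at e1
      rw [h.2, zero_mul] at e2
      exact h01 (by linear_combination -e1 - e2 + hs)
    · simp only [Fin.sum_univ_three, Matrix.cons_val]
      rw [hval 0 c₀ hc₀, hval 1 c₁ hc₁, hval 2 c₂ hc₂]
      linear_combination -hs
  · -- each weight can be made one
    have hone : ∀ v : F, σ v = v → v ≠ 0 → v = 1 := fun v h1 h0 => by_contra fun h => hB ⟨v, h1, h0, h⟩
    have key : ∀ i, ∃ c : F, c * σ c = 1 ∧ f u (e (p i) - c • e (r i)) * σ (f u (e (p i) - c • e (r i))) = 1 := by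
      intro i
      obtain ⟨c, hc, hne⟩ := exists_trace_avoid hf.ne_refl hf.involutive (hA0 i) (N i)
      refine ⟨c, hc, hone _ (by rw [map_mul, hf.involutive, mul_comm]) fun h => hne ?_⟩
      have := hval i c hc
      linear_combination this - h
    choose c hc hc1 using key
    refine ⟨c, hc, fun h => ?_, Or.inl fun h => ?_, ?_⟩
    · have := hc1 0; rw [h, zero_mul] at this; exact zero_ne_one this
    · have := hc1 1; rw [h, zero_mul] at this; exact zero_ne_one this
    · simp only [Fin.sum_univ_three, hc1]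
      linear_combination h2

/-- The product of three exchanges in characteristic two. -/
theorem Frame.exists_delta_three (h2 : (2 : F) = 0) (p r : Fin 3 → Fin t) (hp : Function.Injective p)
    (hr : Function.Injective r) (hpr : ∀ i j, p i ≠ r j) {c : Fin 3 → F} (hc : ∀ i, c i * σ (c i) = 1) :
    ∃ δ ∈ hGrp f D, ∀ x, (δ : Matrix (Fin n) (Fin n) F) *ᵥ x =
      x - ∑ i, f x (e (p i) - c i • e (r i)) • (e (p i) - c i • e (r i)) := by
  have hf := P.unit
  set d : Fin 3 → Fin n → F := fun i => e (p i) - c i • e (r i) with hd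
  have hq : ∀ i, QCond σ f (-1) (d i) := fun i => (P.swap_vec (hpr i i) (hc i)).1
  have hdet : ∀ i, (qr f (-1) (d i) : Matrix (Fin n) (Fin n) F).det = -1 := fun i =>
    (P.swap_vec (hpr i i) (hc i)).2.2.2.2
  have hs : ∀ i, qr f (-1) (d i) ∈ Cfsg.Geo.decompositionStabilizer D := fun i => P.swap_stab (hpr i i) (hc i)
  have ho : ∀ i j, i ≠ j → f (d i) (d j) = 0 := fun i j h => by
    simp only [hd, Unit.sub_left hf, Unit.sub_right hf, Unit.smul_left hf, Unit.smul_right hf,
      P.orth (hp.ne h), P.orth (hr.ne h), P.orth (hpr i j), P.orth (Ne.symm (hpr j i))]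
    ring
  refine ⟨qr f (-1) (d 0) * (qr f (-1) (d 1) * qr f (-1) (d 2)), ⟨?_, kGrp_of hf ?_ ?_⟩, fun x => ?_⟩
  · exact (Cfsg.Geo.decompositionStabilizer D).mul_mem (hs 0)
      ((Cfsg.Geo.decompositionStabilizer D).mul_mem (hs 1) (hs 2))
  · exact (isoGroup f).mul_mem (qr_iso hf (hq 0)) ((isoGroup f).mul_mem (qr_iso hf (hq 1)) (qr_iso hf (hq 2)))
  · rw [Units.val_mul, Units.val_mul, det_mul, det_mul, hdet, hdet, hdet]
    linear_combination -h2
  · rw [gl_mul_mulVec, gl_mul_mulVec, qr_mulVec hf (hq 2), qr_mulVec hf (hq 1), qr_mulVec hf (hq 0)]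
    simp only [Unit.add_left hf, Unit.smul_left hf, ho 2 1 (by decide), ho 2 0 (by decide), ho 1 0 (by decide),
      mul_zero, add_zero, Fin.sum_univ_three]
    simp only [hd]
    module

/-- In characteristic two there is no rigid overgroup, in dimension at least seven. -/
theorem Frame.no_rigid_two (ht : 7 ≤ t) (h2 : (2 : F) = 0) {M : Subgroup (GL (Fin n) F)} (hle : hGrp f D ≤ M)
    (hMK : M ≤ kGrp f)
    (hfix : ∀ g ∈ M, ∀ (a b : Fin t) (c : F), (g : Matrix (Fin n) (Fin n) F) *ᵥ e a = c • e b →
      g ∈ Cfsg.Geo.decompositionStabilizer D)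
    {g : GL (Fin n) F} (hg : g ∈ M) (hgs : g ∉ Cfsg.Geo.decompositionStabilizer D) : False := by
  classical
  have hf := P.unit
  have hgi : Symp.IsIsometry f g := (hMK hg).1
  have hneg : (-1 : F) = 1 := by linear_combination -h2
  set x : Fin t → Fin n → F := fun a => (g : Matrix (Fin n) (Fin n) F) *ᵥ e a with hx
  have hsmall : ∀ {v : Fin n → F} {l : Fin t}, QCond σ f (-1) v → qr f (-1) v ∈ M → f v (e l) = 0 →
      (sp f e v).card ≤ 2 := fun {v l} hq hT hl =>
    P.supp_one hq (by simp) (hfix _ hT l l 1 (by rw [qr_fix hf hq (Unit.eq_zero_comm hf hl), one_smul]))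
  have himg : ∀ {a b : Fin t}, a ≠ b → ∀ {c : F}, c * σ c = 1 →
      QCond σ f (-1) (x a - c • x b) ∧ qr f (-1) (x a - c • x b) ∈ M ∧ f (x a - c • x b) (x a - c • x b) = 0 := by
    intro a b hab c hc
    obtain ⟨hq, -, -, -, hdet⟩ := P.swap_vec hab hc
    have hTM : qr f (-1) (e a - c • e b) ∈ M :=
      hle ⟨P.swap_stab hab hc, kGrp_of hf (qr_iso hf hq) (hdet.trans hneg)⟩
    have heq : x a - c • x b = (g : Matrix (Fin n) (Fin n) F) *ᵥ (e a - c • e b) := by
      rw [mulVec_sub, mulVec_smul]
    rw [heq]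
    refine ⟨qcond_map hf hgi hq, ?_, ?_⟩
    · rw [← qr_conj hf hgi hq]
      exact M.mul_mem (M.mul_mem hg hTM) (M.inv_mem hg)
    · rw [hgi]
      simp only [Unit.sub_left hf, Unit.sub_right hf, Unit.smul_left hf, Unit.smul_right hf, P.norm, P.orth hab,
        P.orth (Ne.symm hab)]
      linear_combination hc + h2
  by_cases hall : ∀ a b : Fin t, a ≠ b → ∀ c : F, c * σ c = 1 → ∃ l, f (x a - c • x b) (e l) = 0
  · -- all these centres are small, so all columns have the same small support
    set S : Fin t → Finset (Fin t) := fun a => sp f e (x a) with hS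
    have hS2 : ∀ a, 2 ≤ (S a).card := by
      intro a
      by_contra h
      obtain ⟨b, hb⟩ : ∃ b, S a ⊆ {b} := by
        rcases Finset.eq_empty_or_nonempty (S a) with h' | ⟨b, hb⟩
        · exact ⟨a, by simp [h']⟩
        · exact ⟨b, fun x hx => Finset.mem_singleton.2 (Finset.card_le_one.1 (by omega) x hx b hb)⟩
      refine hgs (hfix g hg a b (f (x a) (e b)) (P.ext fun c => ?_))
      rw [Unit.smul_left hf, P.form_e]
      by_cases hcb : b = c
      · subst hcb; simp [hx]
      · rw [if_neg hcb, mul_zero]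
        by_contra hne
        exact hcb (Finset.mem_singleton.1 (hb (mem_sp.2 hne))).symm
    have hsame : ∀ a b, a ≠ b → S a = S b ∧ (S a).card ≤ 3 := by
      intro a b hab
      obtain ⟨C, hC, hCc⟩ := Finset.exists_subset_card_eq (s := circle σ) (n := 3)
        (three_le_circle hf.ne_refl hf.involutive)
      set U := S a ∪ S b with hU
      set I := S a ∩ S b with hI
      set Z : F → Finset (Fin t) := fun c => U.filter fun l => f (x a - c • x b) (e l) = 0 with hZ
      have hco : ∀ c l, f (x a - c • x b) (e l) = f (x a) (e l) - c * f (x b) (e l) := fun c l => by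
        rw [Unit.sub_left hf, Unit.smul_left hf]
      have hle2 : ∀ c ∈ C, U.card ≤ (Z c).card + 2 := by
        intro c hc
        have hc1 := mem_circle.1 (hC hc)
        obtain ⟨l, hl⟩ := hall a b hab c hc1
        obtain ⟨hq, hT, -⟩ := himg hab hc1
        have h := hsmall hq hT hl
        have hsub : U \ Z c ⊆ sp f e (x a - c • x b) := fun l hl => by
          rw [Finset.mem_sdiff, hZ, Finset.mem_filter, not_and] at hl
          exact mem_sp.2 (hl.2 hl.1)
        have h3 := Finset.card_le_card hsub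
        have h4 := Finset.le_card_sdiff (Z c) U
        omega
      have hZI : ∀ c ∈ C, Z c ⊆ I := by
        intro c hc l hl
        have hc1 := mem_circle.1 (hC hc)
        have hc0 : c ≠ 0 := fun h => by rw [h, zero_mul] at hc1; exact zero_ne_one hc1
        rw [hZ, Finset.mem_filter, hco, sub_eq_zero, hU, Finset.mem_union, hS, mem_sp, mem_sp] at hl
        rw [hI, Finset.mem_inter, hS, mem_sp, mem_sp]
        refine ⟨fun h => ?_, fun h => ?_⟩
        · rw [h, eq_comm, mul_eq_zero] at hl
          rcases hl.1 with h' | h'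
          · exact h' rfl
          · exact h' (hl.2.resolve_left hc0)
        · rw [h, mul_zero] at hl
          rcases hl.1 with h' | h'
          · exact h' hl.2
          · exact h' rfl
      have hdis : (C : Set F).PairwiseDisjoint Z := by
        intro c hc d hd hcd
        refine Finset.disjoint_left.2 fun l hl hl' => hcd ?_
        have hlI := hZI c hc hl
        rw [hI, Finset.mem_inter, hS, mem_sp, mem_sp] at hlI
        rw [hZ, Finset.mem_filter, hco, sub_eq_zero] at hl hl'
        exact mul_right_cancel₀ hlI.2 (hl.2.symm.trans hl'.2)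
      have hsum : ∑ c ∈ C, (Z c).card ≤ I.card := by
        rw [← Finset.card_biUnion hdis]
        exact Finset.card_le_card (Finset.biUnion_subset.2 hZI)
      have h6 : 3 * U.card ≤ I.card + 6 := by
        have := Finset.sum_le_sum hle2
        rw [Finset.sum_const, Finset.sum_add_distrib, Finset.sum_const, hCc, smul_eq_mul, smul_eq_mul] at this
        omega
      have h7 := Finset.card_union_add_card_inter (S a) (S b)
      have h8 : I ⊆ U := Finset.inter_subset_union
      have h9 := Finset.card_le_card h8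
      have := hS2 a
      have := hS2 b
      rw [← hU, ← hI] at h7
      have hIU : I = U := Finset.eq_of_subset_of_card_le h8 (by omega)
      refine ⟨le_antisymm ?_ ?_, ?_⟩
      · exact fun l hl => Finset.mem_of_mem_inter_right (hIU ▸ Finset.mem_union_left _ hl : l ∈ I)
      · exact fun l hl => Finset.mem_of_mem_inter_left (hIU ▸ Finset.mem_union_right _ hl : l ∈ I)
      · have := Finset.card_le_card (show S a ⊆ U from Finset.subset_union_left)
        omega
    let a₀ : Fin t := ⟨0, by omega⟩
    let a₁ : Fin t := ⟨1, by omega⟩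
    have h3 := (hsame a₀ a₁ (by simp [a₀, a₁, Fin.ext_iff])).2
    have hli : LinearIndependent F x := by
      rw [Fintype.linearIndependent_iff]
      intro c hc a
      have h := congrArg (fun z => f z (x a)) hc
      simp only [Unit.zero_left hf, (Unit.sesq hf).sum_left, Unit.smul_left hf, hx, hgi] at h
      rw [Finset.sum_eq_single a (fun b _ hb => by rw [hgi, P.orth hb, mul_zero]) (by simp),
        hgi, P.norm, mul_one] at h
      exact h
    have h7 : Submodule.span F (Set.range x) ≤ (S a₀).sup D := by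
      rw [Submodule.span_le]
      rintro _ ⟨a, rfl⟩
      refine (P.base.sup_mem_iff (S a₀) _).2 fun b hb => ?_
      rw [P.cmp_eq]
      have hab : S a = S a₀ := by
        by_cases h : a = a₀
        · rw [h]
        · exact (hsame a a₀ h).1
      rw [show f (x a) (e b) = 0 from by_contra fun h => hb (hab ▸ mem_sp.2 h), zero_smul]
    have h8 := Submodule.finrank_mono h7
    rw [finrank_span_eq_card hli, Fintype.card_fin, P.base.sup_finrank] at h8
    omega
  -- a centre with all coordinates non-zero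
  push Not at hall
  obtain ⟨a, b, hab, c, hc, hfull⟩ := hall
  obtain ⟨hqu, hTu, huu⟩ := himg hab hc
  set u := x a - c • x b with hu
  let p : Fin 3 → Fin t := fun i => ⟨2 * i.val, by omega⟩
  let r : Fin 3 → Fin t := fun i => ⟨2 * i.val + 1, by omega⟩
  have hp : Function.Injective p := fun i j h => Fin.ext (by simp [p] at h; omega)
  have hr : Function.Injective r := fun i j h => Fin.ext (by simp [r] at h; omega)
  have hpr : ∀ i j, p i ≠ r j := fun i j h => by simp [p, r] at h; omega
  obtain ⟨γ, hγ, h0, h12, hsum⟩ := P.exists_weights_three h2 hfull p r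
  obtain ⟨δ, hδ, hδm⟩ := P.exists_delta_three h2 p r hp hr hpr hγ
  set d : Fin 3 → Fin n → F := fun i => e (p i) - γ i • e (r i) with hd
  set su := ∑ i, f u (d i) • d i with hs0
  have hδu : (δ : Matrix (Fin n) (Fin n) F) *ᵥ u = u - su := hδm u
  have hpair : f ((δ : Matrix (Fin n) (Fin n) F) *ᵥ u) u = -1 := by
    rw [hδu, Unit.sub_left hf, huu, hs0, (Unit.sesq hf).sum_left, ← hsum, zero_sub]
    congr 1
    refine Finset.sum_congr rfl fun i _ => ?_
    rw [Unit.smul_left hf, Unit.conj_form hf u (d i)]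
  have hδi : Symp.IsIsometry f δ := (hMK (hle hδ)).1
  have hqδ : QCond σ f (-1) ((δ : Matrix (Fin n) (Fin n) F) *ᵥ u) := qcond_map hf hδi hqu
  have hTd : qr f (-1) ((δ : Matrix (Fin n) (Fin n) F) *ᵥ u) ∈ M := by
    rw [← qr_conj hf hδi hqu]
    exact M.mul_mem (M.mul_mem (hle hδ) hTu) (M.inv_mem (hle hδ))
  have hnew : (qr f (-1) u : Matrix (Fin n) (Fin n) F) *ᵥ ((δ : Matrix (Fin n) (Fin n) F) *ᵥ u) = -su := by
    rw [qr_mulVec hf hqu, hpair, neg_mul_neg, one_mul, one_smul, hδu, show u - su + u = (2 : F) • u - su by module,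
      h2, zero_smul, zero_sub]
  have hqn : QCond σ f (-1) (-su) := by rw [← hnew]; exact qcond_map hf (qr_iso hf hqu) hqδ
  have hTn : qr f (-1) (-su) ∈ M := by
    rw [← hnew, ← qr_conj hf (qr_iso hf hqu) hqδ]
    exact M.mul_mem (M.mul_mem hTu hTd) (M.inv_mem hTu)
  have hco : ∀ l, f (-su) (e l) = -∑ i, f u (d i) * f (d i) (e l) := fun l => by
    rw [(Unit.sesq hf).neg_left, hs0, (Unit.sesq hf).sum_left]
    simp only [Unit.smul_left hf]
  have hdp : ∀ i j, f (d i) (e (p j)) = if i = j then 1 else 0 := fun i j => by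
    rw [hd]
    simp only [Unit.sub_left hf, Unit.smul_left hf, P.orth (Ne.symm (hpr j i)), mul_zero, sub_zero]
    split_ifs with h
    · rw [h, P.norm]
    · exact P.orth (hp.ne h)
  have hdr : ∀ i j, f (d i) (e (r j)) = if i = j then -γ i else 0 := fun i j => by
    rw [hd]
    simp only [Unit.sub_left hf, Unit.smul_left hf, P.orth (hpr i j), zero_sub]
    split_ifs with h
    · rw [h, P.norm, mul_one]
    · rw [P.orth (hr.ne h), mul_zero, neg_zero]
  obtain ⟨m, hm⟩ := P.exists_notMem (S := Finset.univ.image p ∪ Finset.univ.image r) (by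
    have h2 := Finset.card_union_le (Finset.univ.image p) (Finset.univ.image r)
    have h3 := Finset.card_image_le (s := (Finset.univ : Finset (Fin 3))) (f := p)
    have h4 := Finset.card_image_le (s := (Finset.univ : Finset (Fin 3))) (f := r)
    simp only [Finset.card_univ, Fintype.card_fin] at h3 h4
    omega)
  simp only [Finset.mem_union, Finset.mem_image, Finset.mem_univ, true_and, not_or, not_exists] at hm
  have hsupp := hsmall hqn hTn (l := m) (by
    rw [hco, neg_eq_zero]
    refine Finset.sum_eq_zero fun i _ => ?_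
    rw [hd]
    simp only [Unit.sub_left hf, Unit.smul_left hf, P.orth (hm.1 i), P.orth (hm.2 i), mul_zero, sub_zero])
  have hin : ∀ i, f u (d i) ≠ 0 → p i ∈ sp f e (-su) ∧ r i ∈ sp f e (-su) := fun i hi => by
    constructor <;> rw [mem_sp, hco, neg_ne_zero, Finset.sum_eq_single i (fun j _ hj => by
      simp only [hdp, hdr, if_neg hj, mul_zero]) (by simp)]
    · rw [hdp, if_pos rfl, mul_one]; exact hi
    · rw [hdr, if_pos rfl]
      exact mul_ne_zero hi (neg_ne_zero.2 fun h => by simpa [h] using hγ i)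
  obtain ⟨j, hj0, hj⟩ : ∃ j, j ≠ (0 : Fin 3) ∧ f u (d j) ≠ 0 := by
    rcases h12 with h | h
    · exact ⟨1, by decide, h⟩
    · exact ⟨2, by decide, h⟩
  have h3 : ({p 0, r 0, p j} : Finset (Fin t)) ⊆ sp f e (-su) := by
    intro z hz
    simp only [Finset.mem_insert, Finset.mem_singleton] at hz
    rcases hz with rfl | rfl | rfl
    · exact (hin 0 h0).1
    · exact (hin 0 h0).2
    · exact (hin j hj).1
  have h4 := Finset.card_le_card h3
  rw [Finset.card_insert_of_notMem (by simp [hpr, hp.ne (Ne.symm hj0)]),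
    Finset.card_pair (Ne.symm (hpr j 0))] at h4
  omega

/-- A proper overgroup of the frame stabilizer has every isotropic vector as a centre, in dimension at least eight. -/
theorem Frame.cen_all_frame (ht : 8 ≤ t) {M : Subgroup (GL (Fin n) F)} (hle : hGrp f D ≤ M) (hMK : M ≤ kGrp f)
    (hne : M ≠ hGrp f D) : ∀ v, f v v = 0 → v ∈ Cen σ f M := by
  classical
  have hf := P.unit
  obtain ⟨g₀, hg₀, hg₀s⟩ : ∃ g ∈ M, g ∉ Cfsg.Geo.decompositionStabilizer D := by
    by_contra h
    push Not at h
    exact hne (le_antisymm (fun g hg => ⟨h g hg, hMK hg⟩) hle)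
  by_cases hfix : ∀ g ∈ M, ∀ (a b : Fin t) (c : F), (g : Matrix (Fin n) (Fin n) F) *ᵥ e a = c • e b →
      g ∈ Cfsg.Geo.decompositionStabilizer D
  · by_cases h2 : (2 : F) = 0
    · exact (P.no_rigid_two (by omega) h2 hle hMK hfix hg₀ hg₀s).elim
    · have hB : Big σ := ⟨-1, by simp, neg_ne_zero.2 one_ne_zero, fun h => h2 (by linear_combination -h)⟩
      have R : Rig σ f D e M :=
        ⟨P, hle, hMK, Or.inr (exists_order_gt_three hf.ne_refl hf.involutive hB), hfix⟩
      exact (R.false_of_odd_mid ht h2 hg₀ hg₀s).elim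
  push Not at hfix
  obtain ⟨g, hg, a, b, c, hgab, hgs⟩ := hfix
  have hgi : Symp.IsIsometry f g := (hMK hg).1
  have hc : c * σ c = 1 := by
    have := hgi (e a) (e a)
    rwa [hgab, Unit.smul_left hf, Unit.smul_right hf, P.norm, P.norm, mul_one] at this
  obtain ⟨p, hp⟩ : ∃ p, ∀ (l : Fin t) (κ : F), (g : Matrix (Fin n) (Fin n) F) *ᵥ e p ≠ κ • e l := by
    by_contra h
    push Not at h
    exact hgs (P.stab_of h)
  have hpa : p ≠ a := fun h => hp b c (h ▸ hgab)
  have hzero : f ((g : Matrix (Fin n) (Fin n) F) *ᵥ e p) (e b) = 0 := by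
    rw [P.mono_coord (hMK hg).1 hgab hc, P.orth hpa, mul_zero]
  have hx₀ := P.cls_map hle hg hgi (P.cls_frame hle a) hc hgab (P.cls_frame hle p) ⟨b, hzero⟩
  suffices h2' : 2 ≤ (sp f e ((g : Matrix (Fin n) (Fin n) F) *ᵥ e p)).card from P.cen_all_mid hle ht hx₀ h2'
  by_contra h
  have h1 : (sp f e ((g : Matrix (Fin n) (Fin n) F) *ᵥ e p)).card ≤ 1 := by omega
  obtain ⟨l, hl⟩ : ∃ l, sp f e ((g : Matrix (Fin n) (Fin n) F) *ᵥ e p) ⊆ {l} := by
    rcases Finset.eq_empty_or_nonempty (sp f e ((g : Matrix (Fin n) (Fin n) F) *ᵥ e p)) with h' | ⟨l, hl⟩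
    · exact ⟨b, by simp [h']⟩
    · exact ⟨l, fun x hx => Finset.mem_singleton.2 (Finset.card_le_one.1 h1 x hx l hl)⟩
  refine hp l (f ((g : Matrix (Fin n) (Fin n) F) *ᵥ e p) (e l)) (P.ext fun i => ?_)
  rw [Unit.smul_left hf]
  by_cases hil : l = i
  · subst hil; rw [P.norm, mul_one]
  · rw [P.orth hil, mul_zero]
    exact by_contra fun h => hil (Finset.mem_singleton.1 (hl (mem_sp.2 h))).symm

end CfsgLib.GeomClasses.UnitFrame

namespace CfsgLib.GeomClasses.UnitDecomp

open Matrix CfsgLib.GeomClasses.UnitQr CfsgLib.GeomClasses.UnitSymp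

variable {n t : ℕ} {F : Type*} [Field F] [Fintype F] {q : ℕ}

/-- The stabilizer of an orthonormal frame is maximal in the special unitary group of dimension at least eight. -/
theorem maximal_frame_mid (hF : Fintype.card F = q ^ 2) (hn : 8 ≤ n) {D : Fin t → Submodule F (Fin n → F)}
    (hD : Cfsg.Geo.IsNondegenerateMDecomposition (Cfsg.hermForm n F q) 1 D) :
    Cfsg.Geo.IsMaximalIn (kGrp (Cfsg.hermForm n F q)) (hGrp (Cfsg.hermForm n F q) D) := by
  classical
  have B : Base (UnitPow.conj hF) (Cfsg.hermForm n F q) D 1 :=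
    ⟨UnitPow.isUnitaryForm_hermForm hF n, by omega, hD⟩
  obtain ⟨e, P⟩ := B.exists_frame (by omega)
  refine ⟨P.proper_line, fun M hle hMK => ?_⟩
  by_cases hne : M = hGrp (Cfsg.hermForm n F q) D
  · exact Or.inl hne
  · refine Or.inr (le_antisymm hMK fun g hg => ?_)
    have hM := P.cen_all_frame (by have := P.t_eq; omega) hle hMK hne
    exact UnitGen.specialUnitary_le_of_formTv_mem hF (by omega) (by omega) (fun v hv c hc => (hM v hv).2 c hc)
      ⟨UnitPow.mem_GU.2 hg.1, hg.2⟩

/-- Clause of the unitary maximality lists for orthonormal frames, dimension at least eight. -/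
theorem frame_maximal_mid (n q : ℕ) {F : Type*} [Field F] [Fintype F] (hF : Fintype.card F = q ^ 2) (hn : 8 ≤ n)
    {t : ℕ} (D : Fin t → Submodule F (Fin n → F))
    (hD : Cfsg.Geo.IsNondegenerateMDecomposition (Cfsg.hermForm n F q) 1 D) :
    Cfsg.Geo.IsMaximalIn (Cfsg.GU n F q ⊓ Cfsg.Geo.specialLinear (Fin n) F)
      (Cfsg.Geo.decompositionStabilizer D ⊓ (Cfsg.GU n F q ⊓ Cfsg.Geo.specialLinear (Fin n) F)) := by
  have h : kGrp (Cfsg.hermForm n F q) = Cfsg.GU n F q ⊓ Cfsg.Geo.specialLinear (Fin n) F := rfl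
  rw [← h]
  exact maximal_frame_mid hF hn hD

end CfsgLib.GeomClasses.UnitDecomp
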