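import Cfsg.Agent.Lib.GeomClasses.UnitFrameCen

/-!
Climbing in the class of a frame in dimension at least eight.
-/

set_option autoImplicit false
set_option linter.unusedSectionVars false
set_option linter.unusedSimpArgs false

namespace CfsgLib.GeomClasses.UnitFrame

open Matrix CfsgLib.GeomClasses.UnitQr CfsgLib.GeomClasses.UnitSymp CfsgLib.GeomClasses.UnitDecomp
  CfsgLib.GeomClasses.UnitCircle

variable {n : ℕ} {F : Type*} [Field F] [Fintype F] {σ : F ≃+* F} {f : (Fin n → F) → (Fin n → F) → F}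
  {t : ℕ} {D : Fin t → Submodule F (Fin n → F)} {e : Fin t → Fin n → F}

variable (P : Frame σ f D e) {M : Subgroup (GL (Fin n) F)} (hle : hGrp f D ≤ M)
include P hle

/-- From two members with few coordinates, one with almost as many as both together. -/
theorem Frame.cls_grow_two {x x' : Fin n → F} (hx : x ∈ cls σ f e M) (hx' : x' ∈ cls σ f e M)
    (h1 : 1 ≤ (sp f e x).card) (h1' : 1 ≤ (sp f e x').card) (h5 : (sp f e x).card + (sp f e x').card ≤ t) :
    ∃ y ∈ cls σ f e M, (sp f e y).card + 1 = (sp f e x).card + (sp f e x').card := by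
  classical
  have hf := P.unit
  set S := sp f e x with hS
  set S' := sp f e x' with hS'
  obtain ⟨a₀, ha₀⟩ := Finset.card_pos.1 (show 0 < S.card by omega)
  obtain ⟨T₀, hT₀, hT₀c⟩ := Finset.exists_subset_card_eq (s := Sᶜ) (n := S'.card - 1)
    (by rw [Finset.card_compl, Fintype.card_fin]; omega)
  have ha₀T : a₀ ∉ T₀ := fun h => Finset.mem_compl.1 (hT₀ h) ha₀
  set T := insert a₀ T₀ with hT
  have hTc : T.card = S'.card := by rw [hT, Finset.card_insert_of_notMem ha₀T, hT₀c]; omega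
  obtain ⟨π, hπ⟩ : ∃ π : Equiv.Perm (Fin t), ∀ a, π a ∈ T ↔ a ∈ S' := by
    have E : {a // a ∈ S'} ≃ {a // a ∈ T} := Fintype.equivOfCardEq (by simp [hTc])
    refine ⟨E.extendSubtype, fun a => ⟨fun h => by_contra fun hn => ?_, fun h => E.extendSubtype_mem a h⟩⟩
    exact E.extendSubtype_not_mem a hn h
  obtain ⟨g, hgi, hgs, hgm⟩ := P.exists_perm π
  set y := (g : Matrix (Fin n) (Fin n) F) *ᵥ x' with hy
  have hyC : y ∈ cls σ f e M := P.cls_mono hle hgi hgs hx'
  have hco : ∀ a, f y (e (π a)) = f x' (e a) := fun a => by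
    rw [P.mono_coord hgi (c := 1) (a := a) (by rw [hgm, one_smul]) (by simp), one_mul]
  have hyS : ∀ b, f y (e b) ≠ 0 ↔ b ∈ T := fun b => by
    obtain ⟨a, rfl⟩ := π.surjective b
    rw [hco, hπ, hS', mem_sp]
  have hxy : f x y = f x (e a₀) * σ (f y (e a₀)) := by
    rw [P.form_coord, Finset.sum_eq_single a₀ (fun b _ hb => ?_) (by simp)]
    by_cases hbS : b ∈ S
    · have : f y (e b) = 0 := by
        by_contra h
        rcases Finset.mem_insert.1 ((hyS b).1 h) with h' | h'
        · exact hb h'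
        · exact Finset.mem_compl.1 (hT₀ h') hbS
      rw [this, map_zero, mul_zero]
    · rw [show f x (e b) = 0 from by_contra fun h => hbS (mem_sp.2 h), zero_mul]
  obtain ⟨z, hz⟩ := P.exists_notMem (S := S ∪ T) (by
    rw [hT, Finset.union_insert, Finset.insert_eq_of_mem (Finset.mem_union_left _ ha₀)]
    have := Finset.card_union_le S T₀; omega)
  rw [Finset.mem_union, not_or] at hz
  have hxz : f x (e z) = 0 := by_contra fun h => hz.1 (mem_sp.2 h)
  have hyz : f y (e z) = 0 := by_contra fun h => hz.2 ((hyS z).1 h)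
  obtain ⟨ε, hε, hεr⟩ := exists_nonreal hf.ne_refl hf.involutive
  have hmem := P.cls_rho hle hx hyC hxz hyz hε
  refine ⟨_, hmem, ?_⟩
  have hsub : S ∪ T₀ ⊆ sp f e ((rho f y ε : Matrix (Fin n) (Fin n) F) *ᵥ x) := by
    intro b hb
    rw [mem_sp, rho_mulVec hf hyC.1 hε, Unit.add_left hf, Unit.smul_left hf, hxy]
    have hA : f x (e a₀) ≠ 0 := mem_sp.1 ha₀
    have hY : f y (e a₀) ≠ 0 := (hyS a₀).2 (Finset.mem_insert_self _ _)
    have hκ : (ε - 1) * (f x (e a₀) * σ (f y (e a₀))) ≠ 0 :=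
      mul_ne_zero (sub_ne_zero.2 fun h => hεr (by rw [h, map_one]))
        (mul_ne_zero hA ((RingEquiv.map_ne_zero_iff σ).2 hY))
    rcases Finset.mem_union.1 hb with hb | hb
    · by_cases hba : b = a₀
      · subst hba
        intro h0
        set N := σ (f y (e b)) * f y (e b) with hN
        have hNr : σ N = N := by rw [hN, map_mul, hf.involutive, mul_comm]
        have h1 : f x (e b) * (1 + (ε - 1) * N) = 0 := by rw [hN]; linear_combination h0
        have h3 := (mul_eq_zero.1 h1).resolve_left hA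
        have hN0 : N ≠ 0 := fun h => by rw [h, mul_zero, add_zero] at h3; exact one_ne_zero h3
        have h4 : ε = 1 - 1 / N := by field_simp; linear_combination h3
        exact hεr (by rw [h4, map_sub, map_one, map_div₀, map_one, hNr])
      · have : f y (e b) = 0 := by
          by_contra h
          rcases Finset.mem_insert.1 ((hyS b).1 h) with h' | h'
          · exact hba h'
          · exact Finset.mem_compl.1 (hT₀ h') hb
        rw [this, mul_zero, add_zero]
        exact mem_sp.1 hb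
    · have : f x (e b) = 0 := by_contra fun h => Finset.mem_compl.1 (hT₀ hb) (mem_sp.2 h)
      rw [this, zero_add]
      exact mul_ne_zero hκ ((hyS b).2 (Finset.mem_insert_of_mem hb))
  have hsup : sp f e ((rho f y ε : Matrix (Fin n) (Fin n) F) *ᵥ x) ⊆ S ∪ T₀ := by
    intro b hb
    rw [mem_sp, rho_mulVec hf hyC.1 hε, Unit.add_left hf, Unit.smul_left hf] at hb
    by_contra hn
    rw [Finset.mem_union, not_or] at hn
    refine hb ?_
    rw [show f x (e b) = 0 from by_contra fun h => hn.1 (mem_sp.2 h), show f y (e b) = 0 from by_contra fun h => ?_,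
      mul_zero, add_zero]
    rcases Finset.mem_insert.1 ((hyS b).1 h) with h' | h'
    · exact hn.1 (h' ▸ ha₀)
    · exact hn.2 h'
  rw [Finset.Subset.antisymm hsup hsub,
    Finset.card_union_of_disjoint (Finset.disjoint_left.2 fun b hb hb' => Finset.mem_compl.1 (hT₀ hb') hb), hT₀c]
  omega

/-- From a member with at least three coordinates, one with two or three. -/
theorem Frame.cls_down {x : Fin n → F} (hx : x ∈ cls σ f e M) (h3 : 3 ≤ (sp f e x).card) :
    ∃ z ∈ cls σ f e M, 2 ≤ (sp f e z).card ∧ (sp f e z).card ≤ 3 := by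
  classical
  have hf := P.unit
  obtain ⟨a, b, c, ha, hb, hc, hab, hac, hbc⟩ := Finset.two_lt_card_iff.1 (show 2 < (sp f e x).card by omega)
  set N : Fin t → F := fun l => f x (e l) * σ (f x (e l)) with hN
  have hN0 : ∀ l ∈ sp f e x, N l ≠ 0 := fun l hl =>
    mul_ne_zero (mem_sp.1 hl) ((RingEquiv.map_ne_zero_iff σ).2 (mem_sp.1 hl))
  obtain ⟨η', hη', hsum, hη1, hNa⟩ : ∃ η' : Fin t → F, (∀ l, η' l * σ (η' l) = 1) ∧
      ∑ l ∈ ({a, b, c} : Finset (Fin t)), nv σ (η' l) * N l = 1 ∧ η' a ≠ 1 ∧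
      (nv σ (η' a) * N a ≠ 1 ∨ η' b ≠ 1) := by
    by_cases hB : Big σ
    · obtain ⟨η, hη, hη1, hηT⟩ := exists_nv_avoid hf.ne_refl hf.involutive hB (hN0 a ha) 1
      obtain ⟨ζ, ξ, hζ, hξ, hsum⟩ := exists_two_nv hf.ne_refl hf.involutive (hN0 b hb) (hN0 c hc)
        (P.norm_fixed x b) (P.norm_fixed x c) (show σ (1 - N a * nv σ η) = 1 - N a * nv σ η by
          rw [map_sub, map_one, map_mul, P.norm_fixed, nv_fixed hf.involutive])
      refine ⟨fun l => if l = a then η else if l = b then ζ else ξ, fun l => ?_, ?_, ?_, ?_⟩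
      · dsimp only; split_ifs <;> assumption
      · rw [Finset.sum_insert (by simp [hab, hac]), Finset.sum_pair hbc]
        simp only [if_pos, if_neg (Ne.symm hab), if_neg (Ne.symm hac), if_neg (Ne.symm hbc), ↓reduceIte]
        linear_combination hsum
      · simpa using hη1
      · refine Or.inl ?_
        simp only [if_pos, ↓reduceIte]
        rwa [mul_comm]
    · have hone : ∀ v : F, σ v = v → v ≠ 0 → v = 1 := fun v h1 h0 => by_contra fun h => hB ⟨v, h1, h0, h⟩
      have h2 : (2 : F) = 0 := by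
        by_contra h
        exact one_ne_zero (show (1 : F) = 0 by linear_combination hone 2 (by simp [map_ofNat]) h)
      obtain ⟨η, hη, hηr⟩ := exists_nonreal hf.ne_refl hf.involutive
      have hη1 : η ≠ 1 := fun h => hηr (by rw [h, map_one])
      have hval : ∀ l ∈ sp f e x, nv σ η * N l = 1 := fun l hl =>
        hone _ (by rw [map_mul, nv_fixed hf.involutive, P.norm_fixed]) (mul_ne_zero (nv_ne_zero hη1) (hN0 l hl))
      refine ⟨fun _ => η, fun _ => hη, ?_, hη1, Or.inr hη1⟩
      rw [Finset.sum_insert (by simp [hab, hac]), Finset.sum_pair hbc, hval a ha, hval b hb, hval c hc]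
      linear_combination h2
  obtain ⟨z, hz, hzS, hz0⟩ := P.cls_step hle hx {a, b, c} η' (fun l _ => hη' l) hsum
  refine ⟨z, hz, ?_, (Finset.card_le_card fun l hl => by_contra fun h => mem_sp.1 hl (hz0 l h)).trans
    Finset.card_le_three⟩
  have hin : ∀ l, l ∈ ({a, b, c} : Finset (Fin t)) → l ∈ sp f e x → η' l ≠ 1 → l ∈ sp f e z := fun l hl hlx h1 => by
    rw [mem_sp]
    intro h
    have := hzS l hl
    rw [h, zero_mul] at this
    exact mul_ne_zero (nv_ne_zero h1) (hN0 l hlx) this.symm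
  have hza := hin a (by simp) ha hη1
  by_contra h
  have h1 : ∀ l, l ≠ a → f z (e l) = 0 := fun l hl => by_contra fun hne =>
    hl (Finset.card_le_one.1 (by omega) l (mem_sp.2 hne) a hza)
  rcases hNa with hne | hb1
  · have hzz := hz.1
    rw [P.form_coord, Finset.sum_eq_single a (fun m _ hm => by rw [h1 m hm, zero_mul]) (by simp),
      hzS a (by simp)] at hzz
    exact hne hzz
  · exact mem_sp.1 (hin b (by simp) hb hb1) (h1 b (Ne.symm hab))

/-- A member with at least seven coordinates, in dimension at least eight. -/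
theorem Frame.cls_reach (ht : 8 ≤ t) {x : Fin n → F} (hx : x ∈ cls σ f e M) (h2 : 2 ≤ (sp f e x).card) :
    ∃ y ∈ cls σ f e M, 7 ≤ (sp f e y).card := by
  obtain ⟨z, hz, hz2, hz3⟩ : ∃ z ∈ cls σ f e M, 2 ≤ (sp f e z).card ∧ (sp f e z).card ≤ 3 := by
    by_cases h : (sp f e x).card ≤ 3
    · exact ⟨x, hx, h2, h⟩
    · exact P.cls_down hle hx (by omega)
  obtain ⟨w, hw, hw3⟩ : ∃ w ∈ cls σ f e M, (sp f e w).card = 3 := by
    by_cases h : (sp f e z).card = 3
    · exact ⟨z, hz, h⟩
    · obtain ⟨w, hw, hwc⟩ := P.cls_grow_two hle hz hz (by omega) (by omega) (by omega)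
      exact ⟨w, hw, by omega⟩
  obtain ⟨u, hu, huc⟩ := P.cls_grow_two hle hw hw (by omega) (by omega) (by omega)
  obtain ⟨y, hy, hyc⟩ := P.cls_grow_two hle hw hu (by omega) (by omega) (by omega)
  exact ⟨y, hy, by omega⟩

/-- Unit vectors with few coordinates are in the class once a non-frame vector is. -/
theorem Frame.cls_small_mid (ht : 8 ≤ t) {x₀ : Fin n → F} (hx₀ : x₀ ∈ cls σ f e M) (h2 : 2 ≤ (sp f e x₀).card) {w : Fin n → F}
    (hw : f w w = 1) (hc : (sp f e w).card ≤ 4 ∨ (¬ Big σ ∧ (sp f e w).card ≤ 5)) : w ∈ cls σ f e M := by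
  classical
  have hf := P.unit
  obtain ⟨x, hx, h7⟩ := P.cls_reach hle ht hx₀ h2
  set J := sp f e w with hJdef
  have hJc : J.card ≤ 5 := hc.elim (fun h => by omega) fun h => h.2
  have hout : ∀ a, a ∉ J → f w (e a) = 0 := fun a ha => by_contra fun h => ha (mem_sp.2 h)
  obtain ⟨π, hπ⟩ : ∃ π : Equiv.Perm (Fin t), ∀ a ∈ J, π.symm a ∈ sp f e x := by
    obtain ⟨U, hU, hUc⟩ := Finset.exists_subset_card_eq (s := sp f e x) (n := J.card) (by omega)
    have E : {a // a ∈ J} ≃ {a // a ∈ U} := Fintype.equivOfCardEq (by simp [hUc])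
    exact ⟨E.extendSubtype.symm, fun a ha => hU (by simpa using E.extendSubtype_mem a ha)⟩
  obtain ⟨g, hgi, hgs, hgm⟩ := P.exists_perm π
  set y := (g : Matrix (Fin n) (Fin n) F) *ᵥ x with hy
  have hyC : y ∈ cls σ f e M := P.cls_mono hle hgi hgs hx
  have hco : ∀ a, f y (e (π a)) = f x (e a) := fun a => by
    rw [P.mono_coord hgi (c := 1) (a := a) (by rw [hgm, one_smul]) (by simp), one_mul]
  have hJy : J ⊆ sp f e y := fun a ha => by
    rw [mem_sp, ← π.apply_symm_apply a, hco]
    exact mem_sp.1 (hπ a ha)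
  have hcard : 7 ≤ (sp f e y).card := by
    refine h7.trans (le_of_le_of_eq (Finset.card_le_card_of_injOn (fun a => π a) (fun a ha => ?_)
      π.injective.injOn) rfl)
    rw [Finset.mem_coe, mem_sp, hco]
    exact mem_sp.1 ha
  set r : Fin t → F := fun a => f w (e a) * σ (f w (e a)) with hrdef
  have hr : ∀ a ∈ J, σ (r a) = r a ∧ r a ≠ 0 := fun a ha =>
    ⟨P.norm_fixed w a, mul_ne_zero (mem_sp.1 ha) ((RingEquiv.map_ne_zero_iff σ).2 (mem_sp.1 ha))⟩
  have hsum : ∑ a ∈ J, r a = 1 := by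
    rw [← hw, P.form_coord w w]
    exact Finset.sum_subset (Finset.subset_univ J) fun a _ ha => by simp only [hrdef, hout a ha, zero_mul]
  suffices ∃ z ∈ cls σ f e M, (∀ a ∈ J, f z (e a) * σ (f z (e a)) = r a) ∧ ∀ a, a ∉ J → f z (e a) = 0 by
    obtain ⟨z, hz, hzJ, hz0⟩ := this
    refine P.cls_phase hle hz fun a => ?_
    by_cases ha : a ∈ J
    · rw [hzJ a ha]
    · rw [hout a ha, hz0 a ha]
  by_cases hB : Big σ
  · have hJ4 : J.card ≤ 4 := hc.resolve_right fun h => h.1 hB
    obtain ⟨d, g', h, hd, hg, hh, hdg, hdh, hgh⟩ := Finset.two_lt_card_iff.1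
      (show 2 < (sp f e y \ J).card by have := Finset.le_card_sdiff J (sp f e y); omega)
    rw [Finset.mem_sdiff] at hd hg hh
    exact P.cls_exact hle hyC hJy hr hsum hd.1 hg.1 hh.1 hd.2 hg.2 hh.2 hdg hdh hgh hB
  · have hone : ∀ v : F, σ v = v → v ≠ 0 → v = 1 := fun v h1 h0 => by_contra fun h => hB ⟨v, h1, h0, h⟩
    obtain ⟨η, hη, hηr⟩ := exists_nonreal hf.ne_refl hf.involutive
    have hη1 : η ≠ 1 := fun h => hηr (by rw [h, map_one])
    have hval : ∀ a ∈ J, nv σ η * (f y (e a) * σ (f y (e a))) = r a := fun a ha => by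
      rw [hone _ (hr a ha).1 (hr a ha).2]
      refine hone _ (by rw [map_mul, nv_fixed hf.involutive, P.norm_fixed]) ?_
      exact mul_ne_zero (nv_ne_zero hη1)
        (mul_ne_zero (mem_sp.1 (hJy ha)) ((RingEquiv.map_ne_zero_iff σ).2 (mem_sp.1 (hJy ha))))
    obtain ⟨z, hz, hzJ, hz0⟩ := P.cls_step hle hyC J (fun _ => η) (fun _ _ => hη)
      (by rw [Finset.sum_congr rfl hval, hsum])
    exact ⟨z, hz, fun a ha => by rw [hzJ a ha, hval a ha], hz0⟩

/-- A class member with several coordinates makes every isotropic vector a centre, in dimension at least eight. -/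
theorem Frame.cen_all_mid (ht : 8 ≤ t) {x₀ : Fin n → F} (hx₀ : x₀ ∈ cls σ f e M) (h2 : 2 ≤ (sp f e x₀).card) :
    ∀ v, f v v = 0 → v ∈ Cen σ f M := by
  by_cases hB : Big σ
  · refine P.base.cen_of_small (r := 3) (by omega) (by omega) (Or.inr hB) fun v hv hc =>
      P.cen_base hle (fun w h hc => P.cls_small_mid hle ht hx₀ h2 h hc) hv (Or.inl ?_)
    rwa [P.supp_eq] at hc
  · refine P.base.cen_of_small (r := 4) (by omega) (by omega) (Or.inl (by omega)) fun v hv hc =>
      P.cen_base hle (fun w h hc => P.cls_small_mid hle ht hx₀ h2 h hc) hv (Or.inr ⟨hB, ?_⟩)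
    rwa [P.supp_eq] at hc

end CfsgLib.GeomClasses.UnitFrame
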