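import Cfsg.Agent.Lib.GeomClasses.UnitFrameSparse

/-!
No rigid overgroup of a monomial unitary group in odd characteristic, by an involution argument.
-/

set_option autoImplicit false
set_option linter.unusedSectionVars false
set_option linter.unusedSimpArgs false

namespace CfsgLib.GeomClasses.UnitFrame

open Matrix CfsgLib.GeomClasses.UnitQr CfsgLib.GeomClasses.UnitSymp CfsgLib.GeomClasses.UnitDecomp
  CfsgLib.GeomClasses.UnitCircle

/-- Two non-conjugate involutions centralise a further involution outside a given set. -/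
theorem exists_central_involution {G : Type*} [Group G] [Finite G] {M : Subgroup G} {t s : G} (ht : t ∈ M)
    (hs : s ∈ M) (ht2 : t * t = 1) (hs2 : s * s = 1) {E : Set G} (hts : ∀ u ∈ M, u * t * u⁻¹ ≠ s)
    (hE : ∀ e ∈ E, e ≠ 1 → ∀ u ∈ M, u * (t * e) * u⁻¹ ≠ s ∧ u * t * u⁻¹ ≠ t * e) :
    ∃ w ∈ M, w * w = 1 ∧ w ≠ 1 ∧ w ∉ E ∧ w * t = t * w ∧ w * s = s * w := by
  set p := t * s with hp
  have hpM : p ∈ M := M.mul_mem ht hs
  have htp : t * p = p⁻¹ * t := by
    rw [hp, _root_.mul_inv_rev, inv_eq_of_mul_eq_one_right ht2, inv_eq_of_mul_eq_one_right hs2, ← mul_assoc, ht2,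
      one_mul, mul_assoc, ht2, mul_one]
  have hmove : ∀ j : ℕ, p ^ j * t = t * (p ^ j)⁻¹ := by
    intro j
    induction j with
    | zero => simp
    | succ j ih =>
      have h1 : p * t = t * p⁻¹ := by
        calc p * t = p * (t * p) * p⁻¹ := by group
          _ = t * p⁻¹ := by rw [htp]; group
      calc p ^ (j + 1) * t = p ^ j * (p * t) := by rw [pow_succ]; group
        _ = p ^ j * t * p⁻¹ := by rw [h1]; group
        _ = t * (p ^ j)⁻¹ * p⁻¹ := by rw [ih]
        _ = t * (p ^ (j + 1))⁻¹ := by rw [pow_succ']; group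
  have hst : s = t * p := by rw [hp, ← mul_assoc, ht2, one_mul]
  have hk0 : 0 < orderOf p := orderOf_pos p
  rcases Nat.even_or_odd (orderOf p) with ⟨m, hm⟩ | ⟨m, hm⟩
  · set w := p ^ m with hw
    have hw2 : w * w = 1 := by rw [hw, ← pow_add, ← hm, pow_orderOf_eq_one]
    have hw1 : w ≠ 1 := fun h => by
      have := Nat.le_of_dvd (by omega) (orderOf_dvd_of_pow_eq_one (hw ▸ h))
      omega
    have hwinv : w⁻¹ = w := inv_eq_of_mul_eq_one_right hw2
    have hwt : w * t = t * w := by rw [hw, hmove, ← hw, hwinv]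
    have hwp : w * p = p * w := by rw [hw, ← pow_succ, ← pow_succ']
    have hws : w * s = s * w := by rw [hst, ← mul_assoc, hwt, mul_assoc, hwp, ← mul_assoc]
    refine ⟨w, M.pow_mem hpM m, hw2, hw1, fun hwE => ?_, hwt, hws⟩
    rcases Nat.even_or_odd m with ⟨j, hj⟩ | ⟨j, hj⟩
    · refine (hE w hwE hw1 (p ^ j) (M.pow_mem hpM j)).2 ?_
      rw [hmove, mul_assoc, ← _root_.mul_inv_rev, ← pow_add, ← hj, ← hw, hwinv]
    · refine (hE w hwE hw1 (p ^ j) (M.pow_mem hpM j)).1 ?_
      have e : p ^ m = p ^ (j + j) * p := by rw [← pow_succ, hj]; congr 1; omega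
      rw [hst, ← mul_assoc, hmove, hw, mul_assoc t, mul_assoc t, e, pow_add]
      group
  · exfalso
    refine hts (p ^ m) (M.pow_mem hpM m) ?_
    rw [hst, hmove, mul_assoc, ← _root_.mul_inv_rev, ← pow_add]
    congr 1
    refine inv_eq_of_mul_eq_one_right ?_
    rw [← pow_succ, show m + m + 1 = orderOf p by omega, pow_orderOf_eq_one]

variable {n : ℕ} {F : Type*} [Field F] [Fintype F] {σ : F ≃+* F} {f : (Fin n → F) → (Fin n → F) → F}
  {t : ℕ} {D : Fin t → Submodule F (Fin n → F)} {e : Fin t → Fin n → F}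

/-- The rank of the residual map. -/
noncomputable def res (g : GL (Fin n) F) : ℕ := ((g : Matrix (Fin n) (Fin n) F) - 1).rank

theorem res_conj (g u : GL (Fin n) F) : res (u * g * u⁻¹) = res g := by
  have hd : ∀ h : GL (Fin n) F, IsUnit (h : Matrix (Fin n) (Fin n) F).det := fun h =>
    (Matrix.isUnit_iff_isUnit_det _).1 h.isUnit
  have h1 : ((u * g * u⁻¹ : GL (Fin n) F) : Matrix (Fin n) (Fin n) F) - 1 =
      (u : Matrix (Fin n) (Fin n) F) * ((g : Matrix (Fin n) (Fin n) F) - 1) *
        ((u⁻¹ : GL (Fin n) F) : Matrix (Fin n) (Fin n) F) := by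
    rw [Units.val_mul, Units.val_mul, Matrix.mul_sub, Matrix.sub_mul, mul_one, ← Units.val_mul u u⁻¹, mul_inv_cancel,
      Units.val_one]
  rw [res, res, h1, rank_mul_eq_left_of_isUnit_det _ _ (hd u⁻¹), rank_mul_eq_right_of_isUnit_det _ _ (hd u)]

theorem res_le {g : GL (Fin n) F} {W : Submodule F (Fin n → F)}
    (h : ∀ x, (g : Matrix (Fin n) (Fin n) F) *ᵥ x - x ∈ W) : res g ≤ Module.finrank F W := by
  refine Submodule.finrank_mono ?_
  rintro _ ⟨x, rfl⟩
  rw [mulVecLin_apply, sub_mulVec, one_mulVec]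
  exact h x

theorem res_ge (P : Frame σ f D e) {g : GL (Fin n) F} (A : Finset (Fin t))
    (h : ∀ a ∈ A, ∃ x, f ((g : Matrix (Fin n) (Fin n) F) *ᵥ x - x) (e a) ≠ 0 ∧
      ∀ b ∈ A, b ≠ a → f ((g : Matrix (Fin n) (Fin n) F) *ᵥ x - x) (e b) = 0) : A.card ≤ res g := by
  classical
  have hf := P.unit
  choose x hx0 hx using h
  let d : A → Fin n → F := fun a => (g : Matrix (Fin n) (Fin n) F) *ᵥ x a a.2 - x a a.2
  have hli : LinearIndependent F d := by
    rw [Fintype.linearIndependent_iff]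
    intro c hc a
    have h := congrArg (fun z => f z (e a.1)) hc
    simp only [Unit.zero_left hf, (Unit.sesq hf).sum_left, Unit.smul_left hf] at h
    rw [Finset.sum_eq_single a (fun b _ hb => by
      simp only [d]
      rw [hx b.1 b.2 a.1 a.2 (fun h => hb (Subtype.ext h).symm), mul_zero]) (by simp)] at h
    exact (mul_eq_zero.1 h).resolve_right (hx0 a.1 a.2)
  have h6 := finrank_span_eq_card hli
  rw [Fintype.card_coe] at h6
  rw [← h6]
  refine Submodule.finrank_mono ?_
  rw [Submodule.span_le]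
  rintro _ ⟨a, rfl⟩
  exact ⟨x a a.2, by rw [mulVecLin_apply, sub_mulVec, one_mulVec]⟩

theorem exists_five {π : Equiv.Perm (Fin t)} (hπ : ∀ a, π a ≠ a) (hinv : ∀ a, π (π a) = a) (ht : 9 ≤ t) :
    ∃ A : Finset (Fin t), A.card = 5 ∧ ∀ a ∈ A, π a ∉ A := by
  classical
  suffices key : ∀ j, j ≤ 5 → ∃ A : Finset (Fin t), A.card = j ∧ ∀ a ∈ A, π a ∉ A from key 5 le_rfl
  intro j
  induction j with
  | zero => exact fun _ => ⟨∅, rfl, by simp⟩
  | succ j ih =>
    intro hj
    obtain ⟨A, hA, hAπ⟩ := ih (by omega)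
    obtain ⟨b, hb⟩ : ∃ b, b ∉ A ∪ A.image π := by
      by_contra hc
      push Not at hc
      have h2 := Finset.card_union_le A (A.image π)
      have h3 := Finset.card_image_le (s := A) (f := π)
      rw [Finset.eq_univ_iff_forall.2 hc, Finset.card_univ, Fintype.card_fin] at h2
      omega
    simp only [Finset.mem_union, Finset.mem_image, not_or, not_exists, not_and] at hb
    refine ⟨insert b A, by rw [Finset.card_insert_of_notMem hb.1, hA], fun a ha => ?_⟩
    rcases Finset.mem_insert.1 ha with rfl | ha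
    · rw [Finset.mem_insert, not_or]
      exact ⟨hπ a, fun h => hb.2 _ h (hinv a)⟩
    · rw [Finset.mem_insert, not_or]
      exact ⟨hb.2 a ha, hAπ a ha⟩

variable {M : Subgroup (GL (Fin n) F)} (R : Rig σ f D e M)
include R

/-- An element of `M` commuting with a non-scalar diagonal one is in the stabilizer. -/
theorem Rig.diag_cent {v g : GL (Fin n) F} (hv : v ∈ M) (hg : g ∈ M) (hc : v * g = g * v) {μ : Fin t → F}
    (hμ : ∀ a, (v : Matrix (Fin n) (Fin n) F) *ᵥ e a = μ a • e a) {a b : Fin t} (hab : μ a ≠ μ b) :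
    g ∈ Cfsg.Geo.decompositionStabilizer D := by
  classical
  by_contra hgs
  have P := R.frame
  have hf := P.unit
  have ht6 := P.six_le
  have hN : ∀ l, μ l * σ (μ l) = 1 := fun l => by
    have := R.isometry hv (e l) (e l)
    rwa [hμ, Unit.smul_left hf, Unit.smul_right hf, P.norm, mul_one] at this
  obtain ⟨i, hi⟩ : ∃ i, 1 < (Finset.univ.filter fun l => μ l ≠ μ i).card := by
    by_contra h
    push Not at h
    have h1 := h a
    have h2 := h b
    obtain ⟨z, hz⟩ := P.exists_notMem (S := (Finset.univ.filter fun l => μ l ≠ μ a) ∪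
      (Finset.univ.filter fun l => μ l ≠ μ b)) (by
        have := Finset.card_union_le (Finset.univ.filter fun l => μ l ≠ μ a) (Finset.univ.filter fun l => μ l ≠ μ b)
        omega)
    simp only [Finset.mem_union, Finset.mem_filter, Finset.mem_univ, true_and, not_or, not_not] at hz
    exact hab (hz.1.symm.trans hz.2)
  obtain ⟨l, l', hl, hl', hll⟩ := Finset.one_lt_card_iff.1 hi
  simp only [Finset.mem_filter, Finset.mem_univ, true_and] at hl hl'
  have heig : (v : Matrix (Fin n) (Fin n) F) *ᵥ ((g : Matrix (Fin n) (Fin n) F) *ᵥ e i) =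
      μ i • ((g : Matrix (Fin n) (Fin n) F) *ᵥ e i) := by
    rw [← gl_mul_mulVec, hc, gl_mul_mulVec, hμ, mulVec_smul]
  have key : ∀ l, μ l ≠ μ i → f ((g : Matrix (Fin n) (Fin n) F) *ᵥ e i) (e l) = 0 := by
    intro l hl
    have h := P.mono_coord (R.le_k hv).1 (hμ l) (hN l) ((g : Matrix (Fin n) (Fin n) F) *ᵥ e i)
    rw [heig, Unit.smul_left hf] at h
    have h' : (μ i - μ l) * f ((g : Matrix (Fin n) (Fin n) F) *ᵥ e i) (e l) = 0 := by linear_combination h
    exact (mul_eq_zero.1 h').resolve_left (sub_ne_zero.2 (Ne.symm hl))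
  exact R.two_zero hg hgs hll (key l hl) (key l' hl')

/-- A monomial involution commuting with an element outside the stabilizer moves all lines, unless it is scalar. -/
theorem Rig.inv_cases (ht : 10 ≤ t) (h2 : (2 : F) ≠ 0) {v k : GL (Fin n) F} (hv : v ∈ M)
    (hvs : v ∈ Cfsg.Geo.decompositionStabilizer D) (hv2 : v * v = 1) (hk : k ∈ M)
    (hks : k ∉ Cfsg.Geo.decompositionStabilizer D) (hvk : v * k = k * v) :
    (v = 1 ∨ v = -1) ∨ ∃ (π : Equiv.Perm (Fin t)) (c : Fin t → F),
      (∀ a, (v : Matrix (Fin n) (Fin n) F) *ᵥ e a = c a • e (π a) ∧ c a * σ (c a) = 1) ∧ (∀ a, π a ≠ a) ∧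
        ∀ a, π (π a) = a := by
  classical
  have P := R.frame
  have hf := P.unit
  obtain ⟨π, c, hc⟩ := P.mono (R.le_k hv).1 hvs
  have hinv : ∀ a, c a * c (π a) = 1 ∧ π (π a) = a := by
    intro a
    have h : (v : Matrix (Fin n) (Fin n) F) *ᵥ ((v : Matrix (Fin n) (Fin n) F) *ᵥ e a) = e a := by
      rw [← gl_mul_mulVec, hv2, Units.val_one, one_mulVec]
    rw [(hc a).1, mulVec_smul, (hc (π a)).1, smul_smul] at h
    have h1 := congrArg (fun z => f z (e a)) h
    simp only [Unit.smul_left hf, P.form_e, P.norm] at h1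
    by_cases hp : π (π a) = a
    · rw [if_pos hp, mul_one] at h1
      exact ⟨h1, hp⟩
    · rw [if_neg hp, mul_zero] at h1
      exact absurd h1 zero_ne_one
  by_cases hall : ∀ a, π a ≠ a
  · exact Or.inr ⟨π, c, hc, hall, fun a => (hinv a).2⟩
  push Not at hall
  obtain ⟨m, hm⟩ := hall
  by_cases hdiag : ∀ a, π a = a
  · refine Or.inl ?_
    have hμ : ∀ a, (v : Matrix (Fin n) (Fin n) F) *ᵥ e a = c a • e a := fun a => by rw [(hc a).1, hdiag a]
    have hconst : ∀ a, c a = c m := fun a => by_contra fun h => hks (R.diag_cent hv hk hvk hμ h)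
    have hv' : ∀ x, (v : Matrix (Fin n) (Fin n) F) *ᵥ x = c m • x := fun x => by
      conv_lhs => rw [← P.expand x]
      conv_rhs => rw [← P.expand x]
      simp only [mulVec_sum, mulVec_smul, Finset.smul_sum]
      exact Finset.sum_congr rfl fun a _ => by rw [hμ, hconst a, smul_smul, smul_smul, mul_comm]
    have hcc : c m * c m = 1 := by
      have := (hinv m).1
      rwa [hdiag m] at this
    rcases mul_self_eq_one_iff.1 hcc with h | h
    · exact Or.inl (gl_ext fun x => by rw [hv', h, one_smul, Units.val_one, one_mulVec])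
    · exact Or.inr (gl_ext fun x => by rw [hv', h, neg_one_smul, Units.val_neg, Units.val_one, neg_mulVec, one_mulVec])
  push Not at hdiag
  obtain ⟨a, ha⟩ := hdiag
  exfalso
  set ν := c m with hν
  have hνν : ν * ν = 1 := by
    have := (hinv m).1
    rwa [hm] at this
  have hνσ : σ ν = ν := mul_left_cancel₀ (fun h : ν = 0 => by simp [h] at hνν) ((hc m).2.trans hνν.symm)
  have hki := R.isometry hk
  set x := (k : Matrix (Fin n) (Fin n) F) *ᵥ e m with hx
  have heig : (v : Matrix (Fin n) (Fin n) F) *ᵥ x = ν • x := by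
    rw [hx, ← gl_mul_mulVec, hvk, gl_mul_mulVec, (hc m).1, hm, mulVec_smul]
  have hco : ∀ l, ν * f x (e (π l)) = c l * f x (e l) := fun l => by
    rw [← P.mono_coord (R.le_k hv).1 (hc l).1 (hc l).2 x, heig, Unit.smul_left hf]
  set dv : Fin t → Fin n → F := fun l => e l - (ν * c l) • e (π l) with hdv
  have hκ : ∀ l, ν * c l * σ (ν * c l) = 1 := fun l => by
    rw [map_mul, hνσ]; linear_combination (c l * σ (c l)) * hνν + (hc l).2
  have hxd : ∀ l, f x (dv l) = 0 := fun l => by
    simp only [hdv, Unit.sub_right hf, Unit.smul_right hf, map_mul, hνσ]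
    linear_combination -(σ (c l)) * hco l - f x (e l) * (hc l).2
  by_cases htwo : ∃ b, π b ≠ b ∧ b ≠ a ∧ b ≠ π a
  · obtain ⟨b, hb, hba, hbπa⟩ := htwo
    obtain ⟨hqa, -, -, -, hda⟩ := P.swap_vec (Ne.symm ha) (hκ a)
    obtain ⟨hqb, -, -, -, hdb⟩ := P.swap_vec (Ne.symm hb) (hκ b)
    set h := qr f (-1) (dv a) * qr f (-1) (dv b) with hh
    have hhH : h ∈ hGrp f D := by
      refine ⟨(Cfsg.Geo.decompositionStabilizer D).mul_mem (P.swap_stab (Ne.symm ha) (hκ a))
        (P.swap_stab (Ne.symm hb) (hκ b)), kGrp_of hf ((isoGroup f).mul_mem (qr_iso hf hqa) (qr_iso hf hqb)) ?_⟩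
      rw [hh, Units.val_mul, det_mul]
      simp only [hdv, hda, hdb]
      norm_num
    set u := ((k⁻¹ : GL (Fin n) F) : Matrix (Fin n) (Fin n) F) *ᵥ dv a with hu
    set u' := ((k⁻¹ : GL (Fin n) F) : Matrix (Fin n) (Fin n) F) *ᵥ dv b with hu'
    have hki' := R.isometry (M.inv_mem hk)
    have hKeq : k⁻¹ * h * k = qr f (-1) u * qr f (-1) u' := by
      have e1 := qr_conj hf hki' (show QCond σ f (-1) (dv a) from hqa)
      have e2 := qr_conj hf hki' (show QCond σ f (-1) (dv b) from hqb)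
      rw [inv_inv] at e1 e2
      rw [hh, hu, hu', ← e1, ← e2]
      group
    have hKM : qr f (-1) u * qr f (-1) u' ∈ M := hKeq ▸ M.mul_mem (M.mul_mem (M.inv_mem hk) (R.le hhH)) hk
    have hKfix : ((qr f (-1) u * qr f (-1) u' : GL (Fin n) F) : Matrix (Fin n) (Fin n) F) *ᵥ e m = e m := by
      rw [← hKeq, gl_mul_mulVec, gl_mul_mulVec, ← hx]
      have : (h : Matrix (Fin n) (Fin n) F) *ᵥ x = x := by
        rw [hh, gl_mul_mulVec, qr_fix hf (show QCond σ f (-1) (dv b) from hqb) (hxd b),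
          qr_fix hf (show QCond σ f (-1) (dv a) from hqa) (hxd a)]
      rw [this, hx, gl_inv_mulVec_mulVec]
    have hdd : ∀ l, π l ≠ l → f (dv l) (dv l) = 2 := fun l hl => by
      simp only [hdv, Unit.sub_left hf, Unit.sub_right hf, Unit.smul_left hf, Unit.smul_right hf, P.norm,
        P.orth hl, P.orth (Ne.symm hl)]
      linear_combination hκ l
    have hpp : π b ≠ a := fun h => hbπa (by rw [← h, (hinv b).2])
    have hdo : f (dv a) (dv b) = 0 := by
      simp only [hdv, Unit.sub_left hf, Unit.sub_right hf, Unit.smul_left hf, Unit.smul_right hf,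
        P.orth (Ne.symm hba), P.orth (Ne.symm hpp), P.orth (show π a ≠ b from Ne.symm hbπa),
        P.orth (show π a ≠ π b from fun h => hba (π.injective h).symm)]
      ring
    obtain ⟨B, hB, hout, -⟩ := P.supp_two (by rw [hki']; exact fun h => h2 ((hdd a ha).symm.trans h))
      (by rw [hki']; exact fun h => h2 ((hdd b hb).symm.trans h)) (by rw [hki']; exact hdo) (qcond_map hf hki' hqa)
      (qcond_map hf hki' hqb) (neg_ne_zero.2 one_ne_zero) (neg_ne_zero.2 one_ne_zero) (R.fix_stab hKM hKfix)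
    refine R.sparse ht (M.inv_mem hk) (fun h' => hks (by simpa using (Cfsg.Geo.decompositionStabilizer D).inv_mem h'))
      (Ne.symm ha) (ν * c a) ((Finset.card_le_card fun l hl => ?_).trans hB)
    rw [mem_sp, ← mulVec_smul, ← mulVec_sub] at hl
    exact by_contra fun hlB => hl (hout l hlB).1
  push Not at htwo
  have hfix : ∀ l, l ≠ a → l ≠ π a → π l = l := fun l h1 h3 => by_contra fun hl => h3 (htwo l hl h1)
  obtain ⟨l₁, l₂, hl₁, hl₂, hll⟩ := Finset.one_lt_card_iff.1 (show 1 < ({a, π a, m}ᶜ : Finset (Fin t)).card by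
    rw [Finset.card_compl, Fintype.card_fin]
    have := Finset.card_le_three (a := a) (b := π a) (c := m)
    omega)
  have hsame : ∀ l, π l = l → c l = ν := by
    intro b hb
    by_contra hne
    have hbb : c b * c b = 1 := by
      have := (hinv b).1
      rwa [hb] at this
    -- every other fixed line with the sign of `m` vanishes on the column of `b`
    have hzero : ∀ l, π l = l → c l ≠ ν → f x (e l) = 0 := fun l hl hl' => by
      have := hco l
      rw [hl] at this
      exact (mul_eq_zero.1 (show (ν - c l) * f x (e l) = 0 by linear_combination this)).resolve_left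
        (sub_ne_zero.2 (Ne.symm hl'))
    have hothers : ∀ l, π l = l → l ≠ b → c l = ν := fun l hl hlb => by_contra fun hl' =>
      R.two_zero hk hks hlb (hzero l hl hl') (hzero b hb hne)
    have heigb : (v : Matrix (Fin n) (Fin n) F) *ᵥ ((k : Matrix (Fin n) (Fin n) F) *ᵥ e b) =
        c b • ((k : Matrix (Fin n) (Fin n) F) *ᵥ e b) := by
      rw [← gl_mul_mulVec, hvk, gl_mul_mulVec, (hc b).1, hb, mulVec_smul]
    obtain ⟨p, q, hp, hq, hpq⟩ := Finset.one_lt_card_iff.1 (show 1 < ({a, π a, b}ᶜ : Finset (Fin t)).card by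
      rw [Finset.card_compl, Fintype.card_fin]
      have := Finset.card_le_three (a := a) (b := π a) (c := b)
      omega)
    simp only [Finset.mem_compl, Finset.mem_insert, Finset.mem_singleton, not_or] at hp hq
    have hz : ∀ l, π l = l → l ≠ b → f ((k : Matrix (Fin n) (Fin n) F) *ᵥ e b) (e l) = 0 := fun l hl hlb => by
      have h := P.mono_coord (R.le_k hv).1 (hc l).1 (hc l).2 ((k : Matrix (Fin n) (Fin n) F) *ᵥ e b)
      rw [hl, heigb, Unit.smul_left hf, hothers l hl hlb] at h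
      exact (mul_eq_zero.1 (show (c b - ν) * f ((k : Matrix (Fin n) (Fin n) F) *ᵥ e b) (e l) = 0 by
        linear_combination h)).resolve_left (sub_ne_zero.2 hne)
    exact R.two_zero hk hks hpq (hz p (hfix p hp.1 hp.2.1) hp.2.2) (hz q (hfix q hq.1 hq.2.1) hq.2.2)
  have hπd : (v : Matrix (Fin n) (Fin n) F) *ᵥ dv a = -(ν • dv a) := by
    simp only [hdv, mulVec_sub, mulVec_smul]
    rw [(hc a).1, (hc (π a)).1, (hinv a).2, smul_sub, smul_smul, smul_smul, mul_assoc, (hinv a).1, ← mul_assoc, hνν,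
      one_mul, mul_one]
    abel
  refine R.sparse ht hk hks (Ne.symm ha) (ν * c a) ((Finset.card_le_card (t := {a, π a}) fun l hl => ?_).trans
    (Finset.card_le_two.trans (by omega)))
  rw [mem_sp, ← mulVec_smul, ← mulVec_sub] at hl
  by_contra hn
  simp only [Finset.mem_insert, Finset.mem_singleton, not_or] at hn
  have hl' := hfix l hn.1 hn.2
  have h := P.mono_coord (R.le_k hv).1 (hc l).1 (hc l).2 ((k : Matrix (Fin n) (Fin n) F) *ᵥ dv a)
  rw [hl', ← gl_mul_mulVec, hvk, gl_mul_mulVec, hπd, mulVec_neg, mulVec_smul, (Unit.sesq hf).neg_left,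
    Unit.smul_left hf, hsame l hl'] at h
  have h' : (2 * ν) * f ((k : Matrix (Fin n) (Fin n) F) *ᵥ dv a) (e l) = 0 := by linear_combination -h
  exact hl ((mul_eq_zero.1 h').resolve_left (mul_ne_zero h2 fun h0 => by simp [h0] at hνν))

omit R in
theorem duo_sq (hf : Cfsg.Geo.IsUnitaryForm σ f) {u v : Fin n → F} (hu : f u u = 1) (hv : f v v = 1)
    (huv : f u v = 0) : duo σ f u v (-1) * duo σ f u v (-1) = 1 := by
  have hε : (-1 : F) * σ (-1) = 1 := by simp
  have hσ : σ (-1 : F) = -1 := by simp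
  have hs : ∀ {w : Fin n → F}, f w w = 1 → rho f w (-1) * rho f w (-1) = 1 := fun hw => by
    conv_lhs => arg 2; rw [← hσ]
    rw [← rho_inv hf hw hε, mul_inv_cancel]
  have hcm : rho f v (-1) * rho f u (-1) = rho f u (-1) * rho f v (-1) :=
    (qr_comm hf (rho_cond hf hu hε) (rho_cond hf hv hε) huv).symm
  rw [duo, hσ, mul_assoc, ← mul_assoc (rho f v (-1)), hcm, mul_assoc, hs hv, mul_one, hs hu]

/-- The product of two frame pairs with scalar minus one. -/
theorem Rig.four_facts {a b p q : Fin t} (hab : a ≠ b) (hpq : p ≠ q) (hap : a ≠ p) (haq : a ≠ q) (hbp : b ≠ p)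
    (hbq : b ≠ q) (h2 : (2 : F) ≠ 0) :
    duo σ f (e a) (e b) (-1) * duo σ f (e p) (e q) (-1) ∈ M ∧
    (duo σ f (e a) (e b) (-1) * duo σ f (e p) (e q) (-1)) *
      (duo σ f (e a) (e b) (-1) * duo σ f (e p) (e q) (-1)) = 1 ∧
    (∀ l, (duo σ f (e a) (e b) (-1) * duo σ f (e p) (e q) (-1) : GL (Fin n) F).1 *ᵥ e l =
      (if l = a ∨ l = b ∨ l = p ∨ l = q then (-1 : F) else 1) • e l) ∧
    4 ≤ res (duo σ f (e a) (e b) (-1) * duo σ f (e p) (e q) (-1)) ∧
    res (duo σ f (e a) (e b) (-1) * duo σ f (e p) (e q) (-1)) ≤ 4 ∧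
    duo σ f (e a) (e b) (-1) * (duo σ f (e a) (e b) (-1) * duo σ f (e p) (e q) (-1)) =
      (duo σ f (e a) (e b) (-1) * duo σ f (e p) (e q) (-1)) * duo σ f (e a) (e b) (-1) := by
  classical
  have P := R.frame
  have hf := P.unit
  have hε : (-1 : F) * σ (-1) = 1 := by simp
  have hval : ∀ {u v : Fin t}, u ≠ v → ∀ x, (duo σ f (e u) (e v) (-1) : Matrix (Fin n) (Fin n) F) *ᵥ x =
      x - (2 * f x (e v)) • e v - (2 * f x (e u)) • e u := fun {u v} huv x => by
    rw [duo, show σ (-1 : F) = -1 by simp, gl_mul_mulVec, rho_mulVec hf (P.norm v) hε, rho_mulVec hf (P.norm u) hε,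
      Unit.add_left hf, Unit.smul_left hf, P.orth (Ne.symm huv)]
    module
  have hline : ∀ {u v : Fin t}, u ≠ v → ∀ l, (duo σ f (e u) (e v) (-1) : Matrix (Fin n) (Fin n) F) *ᵥ e l =
      (if l = u ∨ l = v then (-1 : F) else 1) • e l := fun {u v} huv l => by
    rw [hval huv]
    by_cases h1 : l = u
    · subst h1
      rw [if_pos (Or.inl rfl), P.norm, P.orth huv]
      module
    by_cases h3 : l = v
    · subst h3
      rw [if_pos (Or.inr rfl), P.norm, P.orth (Ne.symm huv)]
      module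
    rw [if_neg (by simp [h1, h3]), P.orth h1, P.orth h3]
    module
  have hM := M.mul_mem (R.duo_mem a b hε) (R.duo_mem p q hε)
  have hline4 : ∀ l, (duo σ f (e a) (e b) (-1) * duo σ f (e p) (e q) (-1) : GL (Fin n) F).1 *ᵥ e l =
      (if l = a ∨ l = b ∨ l = p ∨ l = q then (-1 : F) else 1) • e l := fun l => by
    rw [gl_mul_mulVec, hline hpq, mulVec_smul, hline hab, smul_smul]
    congr 1
    by_cases h1 : l = a ∨ l = b
    · have h3 : ¬ (l = p ∨ l = q) := by rcases h1 with rfl | rfl <;> simp [hap, haq, hbp, hbq]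
      rw [if_neg h3, if_pos h1, if_pos (by tauto), one_mul]
    · rw [if_neg h1, mul_one]
      by_cases h3 : l = p ∨ l = q
      · rw [if_pos h3, if_pos (by tauto)]
      · rw [if_neg h3, if_neg (by tauto)]
  have hext : ∀ {g h : GL (Fin n) F}, (∀ l, (g : Matrix (Fin n) (Fin n) F) *ᵥ e l =
      (h : Matrix (Fin n) (Fin n) F) *ᵥ e l) → g = h := fun {g h} he => gl_ext fun x => by
    rw [← P.expand x, mulVec_sum, mulVec_sum]
    exact Finset.sum_congr rfl fun l _ => by rw [mulVec_smul, mulVec_smul, he]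
  refine ⟨hM, hext fun l => ?_, hline4, ?_, ?_, hext fun l => ?_⟩
  · rw [gl_mul_mulVec, hline4, mulVec_smul, hline4, smul_smul, Units.val_one, one_mulVec]
    split_ifs <;> simp
  · have hcard : ({a, b, p, q} : Finset (Fin t)).card = 4 := by
      rw [Finset.card_insert_of_notMem (by simp [hab, hap, haq]),
        Finset.card_insert_of_notMem (by simp [hbp, hbq]), Finset.card_pair hpq]
    rw [← hcard]
    refine res_ge P _ fun l hl => ⟨e l, ?_, fun l' _ hne => ?_⟩
    · simp only [Finset.mem_insert, Finset.mem_singleton] at hl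
      rw [hline4, if_pos hl, Unit.sub_left hf, Unit.smul_left hf, P.norm, mul_one]
      exact fun h => h2 (by linear_combination -h)
    · rw [hline4, Unit.sub_left hf, Unit.smul_left hf, P.orth (Ne.symm hne), mul_zero, sub_zero]
  · refine (res_le (W := Submodule.span F (({e a, e b, e p, e q} : Finset (Fin n → F)) : Set (Fin n → F)))
      fun x => ?_).trans ((finrank_span_finset_le_card _).trans Finset.card_le_four)
    rw [← P.expand x, mulVec_sum, ← Finset.sum_sub_distrib]
    refine Submodule.sum_mem _ fun l _ => ?_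
    rw [mulVec_smul, hline4]
    by_cases hl : l = a ∨ l = b ∨ l = p ∨ l = q
    · rw [if_pos hl, smul_smul, ← sub_smul]
      refine Submodule.smul_mem _ _ (Submodule.subset_span ?_)
      rcases hl with rfl | rfl | rfl | rfl <;> simp
    · rw [if_neg hl, one_smul, sub_self]
      exact Submodule.zero_mem _
  · rw [gl_mul_mulVec, hline4, mulVec_smul, hline hab, gl_mul_mulVec _ (duo σ f (e a) (e b) (-1)), hline hab,
      mulVec_smul, hline4, smul_smul, smul_smul, mul_comm]

/-- Conjugates of four-line involutions by elements outside the stabilizer lie outside it. -/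
theorem Rig.four_notMem (ht : 10 ≤ t) (h2 : (2 : F) ≠ 0) {g : GL (Fin n) F} (hg : g ∈ M)
    (hgs : g ∉ Cfsg.Geo.decompositionStabilizer D) {a b p q : Fin t} (hab : a ≠ b) (hpq : p ≠ q) (hap : a ≠ p)
    (haq : a ≠ q) (hbp : b ≠ p) (hbq : b ≠ q) :
    g * (duo σ f (e a) (e b) (-1) * duo σ f (e p) (e q) (-1)) * g⁻¹ ∉ Cfsg.Geo.decompositionStabilizer D := by
  classical
  obtain ⟨hM, hsq, -, h4, h4', hcomm⟩ := R.four_facts hab hpq hap haq hbp hbq h2
  set t4 := duo σ f (e a) (e b) (-1) * duo σ f (e p) (e q) (-1) with ht4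
  intro hs
  have P := R.frame
  have hε : (-1 : F) * σ (-1) = 1 := by simp
  have hm1 : (-1 : F) ≠ 1 := fun h => h2 (by linear_combination -h)
  have hK := R.conj_notMem hg hgs hab hε hm1
  have hcase := R.inv_cases ht h2 (M.mul_mem (M.mul_mem hg hM) (M.inv_mem hg)) hs
    (by rw [show g * t4 * g⁻¹ * (g * t4 * g⁻¹) = g * (t4 * t4) * g⁻¹ by group, hsq]; group)
    (M.mul_mem (M.mul_mem hg (R.duo_mem a b hε)) (M.inv_mem hg)) hK
    (by
      rw [show g * t4 * g⁻¹ * (g * duo σ f (e a) (e b) (-1) * g⁻¹) = g * (t4 * duo σ f (e a) (e b) (-1)) * g⁻¹ by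
        group, ← hcomm]
      group)
  have hr := res_conj t4 g
  rcases hcase with (h | h) | ⟨π, c, hc, hπ, hπ2⟩
  · rw [h] at hr
    have : res (1 : GL (Fin n) F) = 0 := by simp [res]
    omega
  · rw [h] at hr
    have : (Finset.univ : Finset (Fin t)).card ≤ res (-1 : GL (Fin n) F) := by
      refine res_ge P _ fun l _ => ⟨e l, ?_, fun l' _ hne => ?_⟩
      · rw [Units.val_neg, Units.val_one, neg_mulVec, one_mulVec, Unit.sub_left P.unit,
          (Unit.sesq P.unit).neg_left, P.norm]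
        exact fun h => h2 (by linear_combination -h)
      · rw [Units.val_neg, Units.val_one, neg_mulVec, one_mulVec, Unit.sub_left P.unit,
          (Unit.sesq P.unit).neg_left, P.orth (Ne.symm hne), neg_zero, sub_zero]
    rw [Finset.card_univ, Fintype.card_fin] at this
    omega
  · obtain ⟨A, hA, hAπ⟩ := exists_five hπ hπ2 (by omega)
    have : A.card ≤ res (g * t4 * g⁻¹) := by
      refine res_ge P A fun l hl => ⟨e l, ?_, fun l' hl' hne => ?_⟩
      · rw [(hc l).1, Unit.sub_left P.unit, Unit.smul_left P.unit, P.orth (hπ l), P.norm, mul_zero, zero_sub]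
        exact neg_ne_zero.2 one_ne_zero
      · rw [(hc l).1, Unit.sub_left P.unit, Unit.smul_left P.unit, P.orth (Ne.symm hne),
          P.orth (fun h : π l = l' => hAπ l hl (h ▸ hl')), mul_zero, sub_zero]
    omega

theorem Rig.pair_stab (h2 : (2 : F) ≠ 0) {a b : Fin t} (hab : a ≠ b) {w : GL (Fin n) F} (hw : w ∈ M)
    (hc : w * duo σ f (e a) (e b) (-1) = duo σ f (e a) (e b) (-1) * w) :
    w ∈ Cfsg.Geo.decompositionStabilizer D ∧
      ∀ (π : Equiv.Perm (Fin t)) (c : Fin t → F),
        (∀ l, (w : Matrix (Fin n) (Fin n) F) *ᵥ e l = c l • e (π l) ∧ c l * σ (c l) = 1) → π a = a ∨ π a = b := by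
  classical
  have P := R.frame
  have hf := P.unit
  have hε : (-1 : F) * σ (-1) = 1 := by simp
  have hm1 : (-1 : F) ≠ 1 := fun h => h2 (by linear_combination -h)
  have hline : ∀ l, (duo σ f (e a) (e b) (-1) : Matrix (Fin n) (Fin n) F) *ᵥ e l =
      (if l = a ∨ l = b then (-1 : F) else 1) • e l := fun l => by
    rw [duo, show σ (-1 : F) = -1 by simp, gl_mul_mulVec]
    by_cases h1 : l = a
    · subst h1
      rw [if_pos (Or.inl rfl), rho_fix hf (P.norm b) hε (P.orth hab), rho_self hf (P.norm l) hε]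
    by_cases h3 : l = b
    · subst h3
      rw [if_pos (Or.inr rfl), rho_self hf (P.norm l) hε, mulVec_smul,
        rho_fix hf (P.norm a) hε (P.orth (Ne.symm hab))]
    rw [if_neg (by simp [h1, h3]), rho_fix hf (P.norm b) hε (P.orth h3), rho_fix hf (P.norm a) hε (P.orth h1),
      one_smul]
  obtain ⟨z, hz⟩ := P.exists_notMem (S := {a, b}) (by
    have := Finset.card_le_two (a := a) (b := b); have := P.six_le; omega)
  simp only [Finset.mem_insert, Finset.mem_singleton] at hz
  refine ⟨R.diag_cent (R.duo_mem a b hε) hw hc.symm hline (a := a) (b := z)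
    (by simp only [if_pos (Or.inl rfl : a = a ∨ a = b), if_neg hz]; exact hm1), fun π c hπ => ?_⟩
  by_contra hn
  have h := congrArg (fun g : GL (Fin n) F => f ((g : Matrix (Fin n) (Fin n) F) *ᵥ e a) (e (π a))) hc
  simp only [gl_mul_mulVec, hline, mulVec_smul, (hπ a).1, Unit.smul_left hf, P.norm, if_pos (Or.inl rfl : a = a ∨ a = b),
    if_neg hn, mul_one, smul_smul] at h
  have hc0 : c a ≠ 0 := fun h0 => by have := (hπ a).2; rw [h0, zero_mul] at this; exact zero_ne_one this
  simp only [true_or, if_true, ↓reduceIte] at h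
  exact hm1 (mul_right_cancel₀ hc0 (by linear_combination h))

/-- In odd characteristic there is no rigid overgroup. -/
theorem Rig.false_of_odd (ht : 10 ≤ t) (h2 : (2 : F) ≠ 0) {g : GL (Fin n) F} (hg : g ∈ M)
    (hgs : g ∉ Cfsg.Geo.decompositionStabilizer D) : False := by
  classical
  have P := R.frame
  have hf := P.unit
  have hε : (-1 : F) * σ (-1) = 1 := by simp
  let i : Fin 6 → Fin t := fun j => ⟨j.val, by omega⟩
  have hi : ∀ {j l}, j ≠ l → i j ≠ i l := fun h h' => h (Fin.ext (by simpa [i] using congrArg Fin.val h'))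
  have h23 := hi (show (2 : Fin 6) ≠ 3 by decide)
  have h45 := hi (show (4 : Fin 6) ≠ 5 by decide)
  have h24 := hi (show (2 : Fin 6) ≠ 4 by decide)
  have h25 := hi (show (2 : Fin 6) ≠ 5 by decide)
  have h34 := hi (show (3 : Fin 6) ≠ 4 by decide)
  have h35 := hi (show (3 : Fin 6) ≠ 5 by decide)
  have h01 := hi (show (0 : Fin 6) ≠ 1 by decide)
  obtain ⟨hM4, hsq4, -, h4, h4', -⟩ := R.four_facts h23 h45 h24 h25 h34 h35 h2
  set t4 := duo σ f (e (i 2)) (e (i 3)) (-1) * duo σ f (e (i 4)) (e (i 5)) (-1)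
  set s := g * t4 * g⁻¹ with hs
  have hsM : s ∈ M := M.mul_mem (M.mul_mem hg hM4) (M.inv_mem hg)
  have hsns : s ∉ Cfsg.Geo.decompositionStabilizer D := R.four_notMem ht h2 hg hgs h23 h45 h24 h25 h34 h35
  have hssq : s * s = 1 := by rw [hs, show g * t4 * g⁻¹ * (g * t4 * g⁻¹) = g * (t4 * t4) * g⁻¹ by group, hsq4]; group
  have hres2 : ∀ {a b : Fin t}, a ≠ b → res (duo σ f (e a) (e b) (-1)) ≤ 2 := fun {a b} hab => by
    refine (res_le (W := Submodule.span F (({e a, e b} : Finset (Fin n → F)) : Set (Fin n → F))) fun x => ?_).trans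
      ((finrank_span_finset_le_card _).trans Finset.card_le_two)
    rw [duo, show σ (-1 : F) = -1 by simp, gl_mul_mulVec, rho_mulVec hf (P.norm b) hε, rho_mulVec hf (P.norm a) hε,
      add_assoc, add_sub_cancel_left]
    exact Submodule.add_mem _ (Submodule.smul_mem _ _ (Submodule.subset_span (by simp)))
      (Submodule.smul_mem _ _ (Submodule.subset_span (by simp)))
  have hfix1 : ∀ {a b : Fin t}, a ≠ b → ∀ l, l ≠ a → l ≠ b →
      (duo σ f (e a) (e b) (-1) : Matrix (Fin n) (Fin n) F) *ᵥ e l = e l := fun {a b} hab l h1 h3 => by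
    rw [duo, show σ (-1 : F) = -1 by simp, gl_mul_mulVec, rho_fix hf (P.norm b) hε (P.orth h3),
      rho_fix hf (P.norm a) hε (P.orth h1)]
  have hneg : ∀ {a b : Fin t}, a ≠ b → 5 ≤ res (duo σ f (e a) (e b) (-1) * -1) := fun {a b} hab => by
    have hc5 : 5 ≤ ({a, b}ᶜ : Finset (Fin t)).card := by
      rw [Finset.card_compl, Fintype.card_fin]
      have := Finset.card_le_two (a := a) (b := b)
      omega
    refine hc5.trans (res_ge P _ fun l hl => ⟨e l, ?_, fun l' _ hne => ?_⟩)
    · simp only [Finset.mem_compl, Finset.mem_insert, Finset.mem_singleton, not_or] at hl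
      rw [gl_mul_mulVec, Units.val_neg, Units.val_one, neg_mulVec, one_mulVec, mulVec_neg, hfix1 hab l hl.1 hl.2,
        Unit.sub_left hf, (Unit.sesq hf).neg_left, P.norm]
      exact fun h => h2 (by linear_combination -h)
    · simp only [Finset.mem_compl, Finset.mem_insert, Finset.mem_singleton, not_or] at hl
      rw [gl_mul_mulVec, Units.val_neg, Units.val_one, neg_mulVec, one_mulVec, mulVec_neg, hfix1 hab l hl.1 hl.2,
        Unit.sub_left hf, (Unit.sesq hf).neg_left, P.orth (Ne.symm hne), neg_zero, sub_zero]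
  set t2 := duo σ f (e (i 0)) (e (i 1)) (-1) with ht2
  obtain ⟨w, hwM, hw2, hw1, hwE, hwt, hws⟩ := exists_central_involution (M := M) (R.duo_mem (i 0) (i 1) hε) hsM
    (duo_sq hf (P.norm _) (P.norm _) (P.orth h01)) hssq (E := {1, -1})
    (fun u _ h => by
      have := congrArg res h
      rw [res_conj, hs, res_conj] at this
      have := hres2 h01
      omega)
    (fun e' he' hne u _ => by
      obtain rfl : e' = -1 := by simpa [hne] using he'
      constructor <;> intro h <;> have h1 := congrArg res h <;> rw [res_conj] at h1 <;>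
        have := hneg h01 <;> have := hres2 h01
      · rw [hs, res_conj] at h1; omega
      · omega)
  obtain ⟨hwst, -⟩ := R.pair_stab h2 h01 hwM hwt
  rcases R.inv_cases ht h2 hwM hwst hw2 hsM hsns hws with (h | h) | ⟨π, c, hc, hπ, -⟩
  · exact hw1 h
  · exact hwE (by simp [h])
  -- second step, inside the centralizer of `w`
  have hππ : ∀ l, π (π l) = l := by
    intro l
    by_contra hne
    have h : (w : Matrix (Fin n) (Fin n) F) *ᵥ ((w : Matrix (Fin n) (Fin n) F) *ᵥ e l) = e l := by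
      rw [← gl_mul_mulVec, hw2, Units.val_one, one_mulVec]
    rw [(hc l).1, mulVec_smul, (hc (π l)).1] at h
    have h1 := congrArg (fun z => f z (e l)) h
    simp only [Unit.smul_left hf, P.orth hne, P.norm, mul_zero] at h1
    exact zero_ne_one h1
  let a : Fin t := ⟨0, by omega⟩
  set b := π a with hb
  have hab : a ≠ b := Ne.symm (hπ a)
  obtain ⟨A, hA, hAπ⟩ := exists_five hπ hππ (by omega)
  obtain ⟨p, q, hp, hq, hpq⟩ := Finset.one_lt_card_iff.1 (show 1 < (A \ {a, b}).card by
    have := Finset.le_card_sdiff ({a, b} : Finset (Fin t)) A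
    have := Finset.card_le_two (a := a) (b := b)
    omega)
  simp only [Finset.mem_sdiff, Finset.mem_insert, Finset.mem_singleton, not_or] at hp hq
  have hp1 : p ≠ π p := Ne.symm (hπ p)
  have hq1 : q ≠ π q := Ne.symm (hπ q)
  have hpq' : p ≠ π q := fun h => hAπ q hq.1 (h ▸ hp.1)
  have hp'q : π p ≠ q := fun h => hAπ p hp.1 (h.symm ▸ hq.1)
  have hp'q' : π p ≠ π q := fun h => hpq (π.injective h)
  obtain ⟨hM4', hsq4', -, h4a, h4b, -⟩ := R.four_facts hp1 hq1 hpq hpq' hp'q hp'q' h2
  set t4' := duo σ f (e p) (e (π p)) (-1) * duo σ f (e q) (e (π q)) (-1) with ht4'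
  have hwi := R.isometry hwM
  have hwpair : ∀ l, duo σ f (e l) (e (π l)) (-1) * w = w * duo σ f (e l) (e (π l)) (-1) := by
    intro l
    have hσ : σ (-1 : F) = -1 := by simp
    have h := duo_conj hf hwi (P.norm l) (P.norm (π l)) hε
    rw [(hc l).1, (hc (π l)).1, hππ, duo, duo, hσ, rho_smul hf (hc l).2 (P.norm (π l)) hε,
      rho_smul hf (hc (π l)).2 (P.norm l) hε, show rho f (e (π l)) (-1) * rho f (e l) (-1) =
        rho f (e l) (-1) * rho f (e (π l)) (-1) from
        qr_comm hf (rho_cond hf (P.norm (π l)) hε) (rho_cond hf (P.norm l) hε) (P.orth (hπ l))] at h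
    rw [duo, hσ]
    exact (eq_mul_inv_iff_mul_eq.1 h.symm)
  have hw4 : t4' * w = w * t4' := by
    rw [ht4', mul_assoc, hwpair q, ← mul_assoc, hwpair p, mul_assoc]
  set C := M ⊓ Subgroup.centralizer {w} with hC
  have hmemC : ∀ {x}, x ∈ M → x * w = w * x → x ∈ C := fun hx hxw =>
    ⟨hx, Subgroup.mem_centralizer_singleton_iff.2 hxw⟩
  set s' := s * t4' * s⁻¹ with hs'
  have hs'w : s' * w = w * s' := by
    have h1 : s⁻¹ * w = w * s⁻¹ := by
      rw [inv_eq_of_mul_eq_one_right hssq]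
      exact hws.symm
    exact (((show Commute s w from hws.symm).mul_left hw4).mul_left h1)
  have hs'ns : s' ∉ Cfsg.Geo.decompositionStabilizer D :=
    R.four_notMem ht h2 hsM hsns hp1 hq1 hpq hpq' hp'q hp'q'
  have hs'M : s' ∈ M := M.mul_mem (M.mul_mem hsM hM4') (M.inv_mem hsM)
  have hs'sq : s' * s' = 1 := by
    rw [hs', show s * t4' * s⁻¹ * (s * t4' * s⁻¹) = s * (t4' * t4') * s⁻¹ by group, hsq4']; group
  set t2' := duo σ f (e a) (e b) (-1) with ht2'
  have hbig : ∀ z : GL (Fin n) F, (z = w ∨ z = -w) → 5 ≤ res (t2' * z) := by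
    intro z hz
    rw [← hA]
    refine res_ge P A fun l hl => ?_
    obtain ⟨κ, hκ⟩ : ∃ κ : F, ((t2' * z : GL (Fin n) F) : Matrix (Fin n) (Fin n) F) *ᵥ e l = κ • e (π l) := by
      have hd : ∃ κ : F, (t2' : Matrix (Fin n) (Fin n) F) *ᵥ e (π l) = κ • e (π l) := by
        rw [ht2', duo, show σ (-1 : F) = -1 by simp, gl_mul_mulVec]
        by_cases h1 : π l = a
        · rw [h1, rho_fix hf (P.norm b) hε (P.orth hab), rho_self hf (P.norm a) hε]
          exact ⟨_, rfl⟩
        by_cases h3 : π l = b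
        · rw [h3, rho_self hf (P.norm b) hε, mulVec_smul, rho_fix hf (P.norm a) hε (P.orth (Ne.symm hab))]
          exact ⟨_, rfl⟩
        exact ⟨1, by rw [rho_fix hf (P.norm b) hε (P.orth h3), rho_fix hf (P.norm a) hε (P.orth h1), one_smul]⟩
      obtain ⟨κ, hκ⟩ := hd
      rcases hz with rfl | rfl
      · exact ⟨c l * κ, by rw [gl_mul_mulVec, (hc l).1, mulVec_smul, hκ, smul_smul]⟩
      · exact ⟨-(c l * κ), by
          rw [gl_mul_mulVec, Units.val_neg, neg_mulVec, (hc l).1, mulVec_neg, mulVec_smul, hκ, smul_smul, neg_smul]⟩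
    refine ⟨e l, ?_, fun l' hl' hne => ?_⟩
    · rw [hκ, Unit.sub_left hf, Unit.smul_left hf, P.orth (hπ l), P.norm, mul_zero, zero_sub]
      exact neg_ne_zero.2 one_ne_zero
    · rw [hκ, Unit.sub_left hf, Unit.smul_left hf, P.orth (Ne.symm hne),
        P.orth (fun h : π l = l' => hAπ l hl (h ▸ hl')), mul_zero, sub_zero]
  have hab' : t2' * w = w * t2' := hwpair a
  obtain ⟨w₂, hw₂C, hw₂2, hw₂1, hw₂E, hw₂t, hw₂s⟩ := exists_central_involution (M := C)
    (hmemC (R.duo_mem a b hε) hab') (hmemC hs'M hs'w) (duo_sq hf (P.norm _) (P.norm _) (P.orth hab)) hs'sq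
    (E := {1, -1, w, -w})
    (fun u _ h => by
      have := congrArg res h
      rw [res_conj, hs', res_conj] at this
      have := hres2 hab
      omega)
    (fun e' he' hne u _ => by
      simp only [Set.mem_insert_iff, Set.mem_singleton_iff, hne, false_or] at he'
      have h5 : 5 ≤ res (t2' * e') := by
        rcases he' with rfl | hz
        · exact hneg hab
        · exact hbig e' hz
      have h5' : 5 ≤ res (duo σ f (e a) (e b) (-1) * e') := h5
      have h6 : res (duo σ f (e a) (e b) (-1)) ≤ 2 := hres2 hab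
      constructor <;> intro h <;> have h1 := congrArg res h <;> rw [res_conj] at h1
      · rw [hs', res_conj] at h1; omega
      · omega)
  have hw₂M : w₂ ∈ M := hw₂C.1
  have hw₂w : w₂ * w = w * w₂ := Subgroup.mem_centralizer_singleton_iff.1 hw₂C.2
  obtain ⟨hw₂st, hπ₂⟩ := R.pair_stab h2 hab hw₂M hw₂t
  rcases R.inv_cases ht h2 hw₂M hw₂st hw₂2 hs'M hs'ns hw₂s with (h | h) | ⟨π₂, c₂, hc₂, hfpf, -⟩
  · exact hw₂1 h
  · exact hw₂E (by simp [h])
  have hπ₂a : π₂ a = b := (hπ₂ π₂ c₂ hc₂).resolve_left (hfpf a)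
  have hva : ((w * w₂ : GL (Fin n) F) : Matrix (Fin n) (Fin n) F) *ᵥ e a = (c₂ a * c b) • e a := by
    rw [gl_mul_mulVec, (hc₂ a).1, hπ₂a, mulVec_smul, (hc b).1, hb, hππ, smul_smul]
  have hvsq : w * w₂ * (w * w₂) = 1 := by
    rw [mul_assoc, ← mul_assoc w₂, hw₂w, mul_assoc w, hw₂2, mul_one, hw2]
  rcases R.inv_cases ht h2 (M.mul_mem hwM hw₂M) ((Cfsg.Geo.decompositionStabilizer D).mul_mem hwst hw₂st) hvsq hs'M hs'ns
    (by rw [mul_assoc, hw₂s, ← mul_assoc, ← hs'w, mul_assoc]) with (h | h) | ⟨π₃, c₃, hc₃, hfpf₃, -⟩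
  · have : w₂ = w := by rw [← one_mul w₂, ← hw2, mul_assoc, h, mul_one]
    exact hw₂E (by simp [this])
  · have : w₂ = -w := by rw [← one_mul w₂, ← hw2, mul_assoc, h, mul_neg, mul_one]
    exact hw₂E (by simp [this])
  · have h1 := congrArg (fun z => f z (e (π₃ a))) (hva.symm.trans (hc₃ a).1)
    simp only [Unit.smul_left hf, P.orth (Ne.symm (hfpf₃ a)), P.norm, mul_zero, mul_one] at h1
    have hN := (hc₃ a).2
    rw [← h1, zero_mul] at hN
    exact zero_ne_one hN

end CfsgLib.GeomClasses.UnitFrame
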