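import Cfsg.Agent.Lib.GeomClasses.UnitFrameClass

/-!
Rigid overgroups of monomial unitary groups: supports of residual vectors, and the sparse case.
-/

set_option autoImplicit false
set_option linter.unusedSectionVars false
set_option linter.unusedSimpArgs false

namespace CfsgLib.GeomClasses.UnitFrame

open Matrix CfsgLib.GeomClasses.UnitQr CfsgLib.GeomClasses.UnitSymp CfsgLib.GeomClasses.UnitDecomp
  CfsgLib.GeomClasses.UnitCircle

variable {n : ℕ} {F : Type*} [Field F] [Fintype F] {σ : F ≃+* F} {f : (Fin n → F) → (Fin n → F) → F}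
  {t : ℕ} {D : Fin t → Submodule F (Fin n → F)} {e : Fin t → Fin n → F}

/-- An overgroup of the monomial group in which only its elements map a frame line to a frame line. -/
structure Rig (σ : F ≃+* F) (f : (Fin n → F) → (Fin n → F) → F) (D : Fin t → Submodule F (Fin n → F))
    (e : Fin t → Fin n → F) (M : Subgroup (GL (Fin n) F)) : Prop where
  frame : Frame σ f D e
  le : hGrp f D ≤ M
  le_k : M ≤ kGrp f
  range : 10 ≤ n ∨ ∃ ε : F, ε * σ ε = 1 ∧ ε ^ 2 ≠ 1 ∧ ε ^ 3 ≠ 1
  rigid : ∀ g ∈ M, ∀ (a b : Fin t) (c : F), (g : Matrix (Fin n) (Fin n) F) *ᵥ e a = c • e b →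
    g ∈ Cfsg.Geo.decompositionStabilizer D

section frame

variable (P : Frame σ f D e)
include P

/-- The vectors of a monomial product of two quasi-reflections have small support. -/
theorem Frame.supp_two {u v : Fin n → F} (huu : f u u ≠ 0) (hvv : f v v ≠ 0) (huv : f u v = 0) {s r : F}
    (hs : QCond σ f s u) (hr : QCond σ f r v) (hs0 : s ≠ 0) (hr0 : r ≠ 0)
    (hK : qr f s u * qr f r v ∈ Cfsg.Geo.decompositionStabilizer D) :
    ∃ B : Finset (Fin t), B.card ≤ 4 ∧ (∀ a, a ∉ B → f u (e a) = 0 ∧ f v (e a) = 0) ∧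
      ((∃ y, ((qr f s u * qr f r v : GL (Fin n) F) : Matrix (Fin n) (Fin n) F) *ᵥ
        (((qr f s u * qr f r v : GL (Fin n) F) : Matrix (Fin n) (Fin n) F) *ᵥ y) ≠ y) → B.card ≤ 3) := by
  classical
  have hf := P.unit
  set K := qr f s u * qr f r v with hKdef
  have hKi : K ∈ isoGroup f := (isoGroup f).mul_mem (qr_iso hf hs) (qr_iso hf hr)
  obtain ⟨π, c, hc⟩ := P.mono hKi hK
  set W := Submodule.span F ({u, v} : Set (Fin n → F)) with hW
  have hval : ∀ x, (K : Matrix (Fin n) (Fin n) F) *ᵥ x = x + (r * f x v) • v + (s * f x u) • u := fun x => by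
    rw [hKdef, gl_mul_mulVec, qr_mulVec hf hr, qr_mulVec hf hs, Unit.add_left hf, Unit.smul_left hf,
      Unit.eq_zero_comm hf huv, mul_zero, add_zero]
  set B := Finset.univ.filter fun a => (K : Matrix (Fin n) (Fin n) F) *ᵥ e a ≠ e a with hB
  have hout : ∀ a, a ∉ B → f u (e a) = 0 ∧ f v (e a) = 0 := by
    intro a ha
    simp only [hB, Finset.mem_filter, Finset.mem_univ, true_and, not_not] at ha
    rw [hval, add_assoc, add_eq_left] at ha
    have h1 := congrArg (fun z => f z u) ha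
    have h2 := congrArg (fun z => f z v) ha
    simp only [Unit.add_left hf, Unit.smul_left hf, Unit.zero_left hf, huv, Unit.eq_zero_comm hf huv, mul_zero,
      zero_add, add_zero, mul_eq_zero, hs0, hr0, huu, hvv, false_or, or_false] at h1 h2
    exact ⟨Unit.eq_zero_comm hf h1, Unit.eq_zero_comm hf h2⟩
  set d : Fin t → Fin n → F := fun a => (K : Matrix (Fin n) (Fin n) F) *ᵥ e a - e a with hd
  have hdW : ∀ a, d a ∈ W := fun a => by
    simp only [hd, hval, hW, add_assoc, add_sub_cancel_left]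
    exact Submodule.mem_span_pair.2 ⟨_, _, add_comm _ _⟩
  have hdc : ∀ a b, f (d a) (e b) = (if π a = b then c a else 0) - (if a = b then 1 else 0) := fun a b => by
    simp only [hd]
    rw [Unit.sub_left hf, (hc a).1, Unit.smul_left hf, P.form_e, P.form_e, mul_ite, mul_one, mul_zero]
  have hd0 : ∀ a ∈ B, f (d a) (e a) ≠ 0 := by
    intro a ha
    simp only [hB, Finset.mem_filter, Finset.mem_univ, true_and] at ha
    rw [hdc]
    by_cases h : π a = a
    · rw [if_pos h, if_pos rfl, sub_ne_zero]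
      intro hca
      exact ha (by rw [(hc a).1, h, hca, one_smul])
    · rw [if_neg h, if_pos rfl, zero_sub]
      exact neg_ne_zero.2 one_ne_zero
  have hdsupp : ∀ a b, b ≠ a → b ≠ π a → f (d a) (e b) = 0 := fun a b h1 h2 => by
    rw [hdc, if_neg (Ne.symm h2), if_neg (Ne.symm h1), sub_zero]
  have three : ∀ v₁ ∈ W, ∀ v₂ ∈ W, ∀ v₃ ∈ W, ∀ a c' : Fin t, f v₁ (e a) ≠ 0 → f v₂ (e a) = 0 → v₂ ≠ 0 →
      f v₁ (e c') = 0 → f v₂ (e c') = 0 → f v₃ (e c') ≠ 0 → False := by
    intro v₁ h₁ v₂ h₂ v₃ h₃ a c' ha1 ha2 h20 hc1 hc2 hc3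
    have hli : LinearIndependent F ![v₁, v₂, v₃] := by
      rw [Fintype.linearIndependent_iff]
      intro g hg
      simp only [Fin.sum_univ_three, Matrix.cons_val_zero, Matrix.cons_val_one, Matrix.cons_val_two,
        Matrix.head_cons, Matrix.tail_cons] at hg
      have e1 := congrArg (fun z => f z (e c')) hg
      simp only [Unit.add_left hf, Unit.smul_left hf, Unit.zero_left hf, hc1, hc2, mul_zero, zero_add, add_zero,
        mul_eq_zero, hc3, or_false] at e1
      rw [e1, zero_smul, add_zero] at hg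
      have e2 := congrArg (fun z => f z (e a)) hg
      simp only [Unit.add_left hf, Unit.smul_left hf, Unit.zero_left hf, ha2, mul_zero, add_zero, mul_eq_zero, ha1,
        or_false] at e2
      rw [e2, zero_smul, zero_add, smul_eq_zero] at hg
      intro j
      fin_cases j
      exacts [e2, hg.resolve_right h20, e1]
    have h6 := finrank_span_eq_card hli
    have h7 : Submodule.span F (Set.range ![v₁, v₂, v₃]) ≤ W := by
      rw [Submodule.span_le]
      rintro _ ⟨j, rfl⟩
      fin_cases j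
      exacts [h₁, h₂, h₃]
    have h8 := Submodule.finrank_mono h7
    have h9 : Module.finrank F W ≤ 2 := by
      have h2 := finrank_span_finset_le_card (R := F) ({u, v} : Finset (Fin n → F))
      rw [Finset.coe_pair, Set.finrank] at h2
      exact h2.trans Finset.card_le_two
    rw [h6, Fintype.card_fin] at h8
    omega
  have hne : ∀ a ∈ B, d a ≠ 0 := fun a ha h => hd0 a ha (by rw [h, Unit.zero_left hf])
  refine ⟨B, ?_, hout, ?_⟩
  · by_contra h5
    obtain ⟨a, ha⟩ := Finset.card_pos.1 (show 0 < B.card by omega)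
    obtain ⟨b, hb⟩ := Finset.card_pos.1 (show 0 < (B \ {a, π a, π.symm a}).card by
      have := Finset.le_card_sdiff ({a, π a, π.symm a} : Finset (Fin t)) B
      have := Finset.card_le_three (a := a) (b := π a) (c := π.symm a)
      omega)
    obtain ⟨c', hc'⟩ := Finset.card_pos.1 (show 0 < (B \ {a, π a, b, π b}).card by
      have := Finset.le_card_sdiff ({a, π a, b, π b} : Finset (Fin t)) B
      have := Finset.card_le_four (a := a) (b := π a) (c := b) (d := π b)
      omega)
    simp only [Finset.mem_sdiff, Finset.mem_insert, Finset.mem_singleton, not_or] at hb hc'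
    refine three _ (hdW a) _ (hdW b) _ (hdW c') a c' (hd0 a ha) (hdsupp b a (Ne.symm hb.2.1) fun h => hb.2.2.2 ?_)
      (hne b hb.1) (hdsupp a c' hc'.2.1 hc'.2.2.1) (hdsupp b c' hc'.2.2.2.1 hc'.2.2.2.2) (hd0 c' hc'.1)
    rw [h, Equiv.symm_apply_apply]
  · rintro ⟨y, hy⟩
    by_contra h4
    obtain ⟨a, haK⟩ : ∃ a, (K : Matrix (Fin n) (Fin n) F) *ᵥ ((K : Matrix (Fin n) (Fin n) F) *ᵥ e a) ≠ e a := by
      by_contra h
      push Not at h
      refine hy ?_
      conv_lhs => rw [← P.expand y]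
      conv_rhs => rw [← P.expand y]
      simp only [mulVec_sum, mulVec_smul, h]
    have haB : a ∈ B := by
      simp only [hB, Finset.mem_filter, Finset.mem_univ, true_and]
      intro h
      exact haK (by rw [h, h])
    by_cases h1 : π a = a
    · obtain ⟨b, hb⟩ := Finset.card_pos.1 (show 0 < (B \ {a}).card by
        have := Finset.le_card_sdiff ({a} : Finset (Fin t)) B
        rw [Finset.card_singleton] at this
        omega)
      obtain ⟨c', hc'⟩ := Finset.card_pos.1 (show 0 < (B \ {a, b, π b}).card by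
        have := Finset.le_card_sdiff ({a, b, π b} : Finset (Fin t)) B
        have := Finset.card_le_three (a := a) (b := b) (c := π b)
        omega)
      simp only [Finset.mem_sdiff, Finset.mem_insert, Finset.mem_singleton, not_or] at hb hc'
      refine three _ (hdW a) _ (hdW b) _ (hdW c') a c' (hd0 a haB)
        (hdsupp b a (Ne.symm hb.2) fun h => hb.2 (π.injective (by rw [← h, h1])))
        (hne b hb.1) (hdsupp a c' hc'.2.1 (by rw [h1]; exact hc'.2.1)) (hdsupp b c' hc'.2.2.1 hc'.2.2.2)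
        (hd0 c' hc'.1)
    obtain ⟨c', hc'⟩ := Finset.card_pos.1 (show 0 < (B \ {a, π a, π (π a)}).card by
      have := Finset.le_card_sdiff ({a, π a, π (π a)} : Finset (Fin t)) B
      have := Finset.card_le_three (a := a) (b := π a) (c := π (π a))
      omega)
    simp only [Finset.mem_sdiff, Finset.mem_insert, Finset.mem_singleton, not_or] at hc'
    by_cases h2 : π (π a) = a
    · have hcc : c (π a) * c a ≠ 1 := by
        intro h
        refine haK ?_
        rw [(hc a).1, mulVec_smul, (hc (π a)).1, h2, smul_smul, mul_comm, h, one_smul]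
      refine three _ (hdW a) _ (W.add_mem (hdW (π a)) (W.smul_mem (c (π a)) (hdW a))) _ (hdW c') a c' (hd0 a haB)
        ?_ ?_ (hdsupp a c' hc'.2.1 hc'.2.2.1) ?_ (hd0 c' hc'.1)
      · rw [Unit.add_left hf, Unit.smul_left hf, hdc, hdc, if_pos h2, if_neg h1, if_neg h1, if_pos rfl]
        ring
      · intro h0
        have := congrArg (fun z => f z (e (π a))) h0
        simp only [Unit.add_left hf, Unit.smul_left hf, Unit.zero_left hf, hdc, if_true, h2, if_neg (Ne.symm h1),
          ↓reduceIte] at this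
        exact hcc (by linear_combination this)
      · rw [Unit.add_left hf, Unit.smul_left hf, hdsupp a c' hc'.2.1 hc'.2.2.1,
          hdsupp (π a) c' hc'.2.2.1 hc'.2.2.2]
        ring
    · refine three _ (hdW a) _ (hdW (π a)) _ (hdW c') a c' (hd0 a haB) (hdsupp (π a) a (Ne.symm h1) (Ne.symm h2))
        (fun h0 => h2 ?_) (hdsupp a c' hc'.2.1 hc'.2.2.1) (hdsupp (π a) c' hc'.2.2.1 hc'.2.2.2) (hd0 c' hc'.1)
      by_contra hne2
      have := congrArg (fun z => f z (e (π (π a)))) h0
      simp only [Unit.zero_left hf, hdc, if_true, ↓reduceIte] at this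
      by_cases h3 : π a = π (π a)
      · exact h1 (π.injective h3.symm)
      · rw [if_neg h3, sub_zero] at this
        have hN := (hc (π a)).2
        rw [this, zero_mul] at hN
        exact zero_ne_one hN

/-- A monomial reflection-like element has at most two coordinates in its centre. -/
theorem Frame.supp_one {u : Fin n → F} {s : F} (hs : QCond σ f s u) (hs0 : s ≠ 0)
    (hK : qr f s u ∈ Cfsg.Geo.decompositionStabilizer D) : (sp f e u).card ≤ 2 := by
  classical
  have hf := P.unit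
  by_contra h
  obtain ⟨a, b, c, ha, hb, hc, hab, hac, hbc⟩ := Finset.two_lt_card_iff.1 (not_le.1 h)
  rw [mem_sp] at ha hb hc
  obtain ⟨π, κ, hκ⟩ := P.mono (qr_iso hf hs) hK
  have hcoef : s * f (e a) u ≠ 0 := mul_ne_zero hs0 (Unit.ne_zero_comm hf ha)
  have key : ∀ l, l ≠ a → f u (e l) ≠ 0 → π a = l := by
    intro l hl hul
    by_contra hne
    have := congrArg (fun z => f z (e l)) (hκ a).1
    simp only [qr_mulVec hf hs, Unit.add_left hf, Unit.smul_left hf, P.orth (Ne.symm hl), P.orth hne, zero_add,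
      mul_zero] at this
    exact mul_ne_zero hcoef hul this
  exact hbc ((key b (Ne.symm hab) hb).symm.trans (key c (Ne.symm hac) hc))

end frame

variable {M : Subgroup (GL (Fin n) F)} (R : Rig σ f D e M)
include R

theorem Rig.isometry {g : GL (Fin n) F} (hg : g ∈ M) : Symp.IsIsometry f g := (R.le_k hg).1

theorem Rig.fix_stab {g : GL (Fin n) F} (hg : g ∈ M) {a : Fin t}
    (h : (g : Matrix (Fin n) (Fin n) F) *ᵥ e a = e a) : g ∈ Cfsg.Geo.decompositionStabilizer D :=
  R.rigid g hg a a 1 (by rw [h, one_smul])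

theorem Rig.duo_mem (a b : Fin t) {ε : F} (hε : ε * σ ε = 1) : duo σ f (e a) (e b) ε ∈ M :=
  R.le (R.frame.duo_H a b hε)

theorem Rig.conj_coord {g : GL (Fin n) F} (hg : g ∈ M) (a b : Fin t) :
    f ((g : Matrix (Fin n) (Fin n) F) *ᵥ e a) (e b) =
      f (e a) (((g⁻¹ : GL (Fin n) F) : Matrix (Fin n) (Fin n) F) *ᵥ e b) := by
  conv_lhs => arg 2; rw [← gl_mulVec_inv_mulVec g (e b)]
  rw [R.isometry hg]

/-- The case of large dimension of `two_zero`. -/
theorem Rig.two_zero_ten (ht : 10 ≤ t) {g : GL (Fin n) F} (hg : g ∈ M) (hgs : g ∉ Cfsg.Geo.decompositionStabilizer D) {i l l' : Fin t}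
    (hll : l ≠ l') (h1 : f ((g : Matrix (Fin n) (Fin n) F) *ᵥ e i) (e l) = 0)
    (h2 : f ((g : Matrix (Fin n) (Fin n) F) *ᵥ e i) (e l') = 0) : False := by
  classical
  have P := R.frame
  have hf := P.unit
  have hgi := R.isometry hg
  obtain ⟨ε, hε, hεr⟩ := exists_nonreal hf.ne_refl hf.involutive
  have hε1 : ε ≠ 1 := fun h => hεr (by rw [h, map_one])
  have hε2 : ε * ε ≠ 1 := fun h => hεr (mul_left_cancel₀ (fun h0 : ε = 0 => by simp [h0] at h) (hε.trans h.symm))
  set v := ((g⁻¹ : GL (Fin n) F) : Matrix (Fin n) (Fin n) F) *ᵥ e l with hv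
  set v' := ((g⁻¹ : GL (Fin n) F) : Matrix (Fin n) (Fin n) F) *ᵥ e l' with hv'
  have hgi' := R.isometry (M.inv_mem hg)
  have hvv : f v v = 1 := by rw [hv, hgi', P.norm]
  have hvv' : f v' v' = 1 := by rw [hv', hgi', P.norm]
  have hvo : f v v' = 0 := by rw [hv, hv', hgi', P.orth hll]
  have hKM : duo σ f v v' ε ∈ M := by
    have h := M.mul_mem (M.mul_mem (M.inv_mem hg) (R.duo_mem l l' hε)) hg
    have h' := duo_conj hf hgi' (P.norm l) (P.norm l') hε
    rw [inv_inv] at h'
    rwa [h', ← hv, ← hv'] at h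
  have hzv : f (e i) v = 0 := by rw [hv, ← R.conj_coord hg]; exact h1
  have hzv' : f (e i) v' = 0 := by rw [hv', ← R.conj_coord hg]; exact h2
  have hKs := R.fix_stab hKM (a := i) (by
    rw [duo, gl_mul_mulVec, rho_fix hf hvv' (norm_conj hf hε) hzv', rho_fix hf hvv hε hzv])
  obtain ⟨B, -, hBout, hB3⟩ := P.supp_two (by rw [hvv]; exact one_ne_zero) (by rw [hvv']; exact one_ne_zero) hvo
    (rho_cond hf hvv hε) (rho_cond hf hvv' (norm_conj hf hε)) (sub_ne_zero.2 hε1)
    (sub_ne_zero.2 fun h => hεr (by rw [h]; linear_combination (-1 : F) * hε + ε * h)) hKs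
  have hBc : B.card ≤ 3 := hB3 ⟨v, fun h => by
    have hKv : ((rho f v ε * rho f v' (σ ε) : GL (Fin n) F) : Matrix (Fin n) (Fin n) F) *ᵥ v = ε • v := by
      rw [gl_mul_mulVec, rho_fix hf hvv' (norm_conj hf hε) hvo, rho_self hf hvv hε]
    change ((rho f v ε * rho f v' (σ ε) : GL (Fin n) F) : Matrix (Fin n) (Fin n) F) *ᵥ
      (((rho f v ε * rho f v' (σ ε) : GL (Fin n) F) : Matrix (Fin n) (Fin n) F) *ᵥ v) = v at h
    rw [hKv, mulVec_smul, hKv, smul_smul] at h
    have := congrArg (fun z => f z v) h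
    simp only [Unit.smul_left hf, hvv, mul_one] at this
    exact hε2 this⟩
  have hcol : ∀ a, a ∉ B → f ((g : Matrix (Fin n) (Fin n) F) *ᵥ e a) (e l) = 0 := fun a ha => by
    rw [R.conj_coord hg, ← hv]
    exact Unit.eq_zero_comm hf (hBout a ha).1
  set S : Fin t → Finset (Fin t) := fun a => sp f e ((g : Matrix (Fin n) (Fin n) F) *ᵥ e a) with hS
  have hnorm : ∀ a, f ((g : Matrix (Fin n) (Fin n) F) *ᵥ e a) ((g : Matrix (Fin n) (Fin n) F) *ᵥ e a) = 1 :=
    fun a => by rw [hgi, P.norm]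
  have hS2 : ∀ a, 2 ≤ (S a).card := by
    intro a
    by_contra h
    obtain ⟨b, hb⟩ : ∃ b, S a ⊆ {b} := by
      rcases Finset.eq_empty_or_nonempty (S a) with h' | ⟨b, hb⟩
      · exact ⟨a, by simp [h']⟩
      · exact ⟨b, fun x hx => Finset.mem_singleton.2 (Finset.card_le_one.1 (by omega) x hx b hb)⟩
    refine hgs (R.rigid g hg a b (f ((g : Matrix (Fin n) (Fin n) F) *ᵥ e a) (e b)) (P.ext fun c => ?_))
    rw [Unit.smul_left hf, P.form_e]
    by_cases hcb : b = c
    · subst hcb; simp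
    · rw [if_neg hcb, mul_zero]
      by_contra hne
      exact hcb (Finset.mem_singleton.1 (hb (mem_sp.2 hne))).symm
  have hpair : ∀ a b, a ∉ B → b ∉ B → a ≠ b → (S a ∪ S b).card ≤ 3 := by
    intro a b ha hb hab
    have hKM' : duo σ f ((g : Matrix (Fin n) (Fin n) F) *ᵥ e a) ((g : Matrix (Fin n) (Fin n) F) *ᵥ e b) ε ∈ M := by
      rw [← duo_conj hf hgi (P.norm a) (P.norm b) hε]
      exact M.mul_mem (M.mul_mem hg (R.duo_mem a b hε)) (M.inv_mem hg)
    have ho : f ((g : Matrix (Fin n) (Fin n) F) *ᵥ e a) ((g : Matrix (Fin n) (Fin n) F) *ᵥ e b) = 0 := by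
      rw [hgi, P.orth hab]
    have hKs' := R.fix_stab hKM' (a := l) (by
      rw [duo, gl_mul_mulVec, rho_fix hf (hnorm b) (norm_conj hf hε) (Unit.eq_zero_comm hf (hcol b hb)),
        rho_fix hf (hnorm a) hε (Unit.eq_zero_comm hf (hcol a ha))])
    obtain ⟨B', -, hB'out, hB'3⟩ := P.supp_two (by rw [hnorm]; exact one_ne_zero) (by rw [hnorm]; exact one_ne_zero)
      ho (rho_cond hf (hnorm a) hε) (rho_cond hf (hnorm b) (norm_conj hf hε)) (sub_ne_zero.2 hε1)
      (sub_ne_zero.2 fun h => hεr (by rw [h]; linear_combination (-1 : F) * hε + ε * h)) hKs'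
    refine (Finset.card_le_card fun c hc => ?_).trans (hB'3 ⟨(g : Matrix (Fin n) (Fin n) F) *ᵥ e a, fun h => ?_⟩)
    · by_contra hcB
      rcases Finset.mem_union.1 hc with hc | hc
      · exact mem_sp.1 hc (hB'out c hcB).1
      · exact mem_sp.1 hc (hB'out c hcB).2
    · have hKx : ((rho f ((g : Matrix (Fin n) (Fin n) F) *ᵥ e a) ε * rho f ((g : Matrix (Fin n) (Fin n) F) *ᵥ e b)
          (σ ε) : GL (Fin n) F) : Matrix (Fin n) (Fin n) F) *ᵥ ((g : Matrix (Fin n) (Fin n) F) *ᵥ e a) =
          ε • ((g : Matrix (Fin n) (Fin n) F) *ᵥ e a) := by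
        rw [gl_mul_mulVec, rho_fix hf (hnorm b) (norm_conj hf hε) ho, rho_self hf (hnorm a) hε]
      change ((rho f _ ε * rho f _ (σ ε) : GL (Fin n) F) : Matrix (Fin n) (Fin n) F) *ᵥ
        (((rho f _ ε * rho f _ (σ ε) : GL (Fin n) F) : Matrix (Fin n) (Fin n) F) *ᵥ _) = _ at h
      rw [hKx, mulVec_smul, hKx, smul_smul] at h
      have := congrArg (fun z => f z ((g : Matrix (Fin n) (Fin n) F) *ᵥ e a)) h
      simp only [Unit.smul_left hf, hnorm, mul_one] at this
      exact hε2 this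
  obtain ⟨Y, hY, hYc⟩ := Finset.exists_subset_card_eq (s := Bᶜ) (n := 4)
    (by rw [Finset.card_compl, Fintype.card_fin]; omega)
  have hYB : ∀ a ∈ Y, a ∉ B := fun a ha => Finset.mem_compl.1 (hY ha)
  obtain ⟨T, hTc, hT⟩ : ∃ T : Finset (Fin t), T.card ≤ 3 ∧ ∀ a ∈ Y, S a ⊆ T := by
    by_cases h3 : ∃ a ∈ Y, 3 ≤ (S a).card
    · obtain ⟨a, ha, h3⟩ := h3
      obtain ⟨b, hb, hba⟩ := Finset.exists_mem_ne (show 1 < Y.card by omega) a
      refine ⟨S a, le_trans (Finset.card_le_card Finset.subset_union_left) (hpair a b (hYB a ha) (hYB b hb)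
        (Ne.symm hba)), fun c hc => ?_⟩
      by_cases hca : c = a
      · rw [hca]
      · have h := hpair a c (hYB a ha) (hYB c hc) (Ne.symm hca)
        have := Finset.eq_of_subset_of_card_le (Finset.subset_union_left : S a ⊆ S a ∪ S c) (by omega)
        rw [this]
        exact Finset.subset_union_right
    · push Not at h3
      obtain ⟨a, ha⟩ := Finset.card_pos.1 (show 0 < Y.card by omega)
      refine ⟨S a, by have := h3 a ha; omega, fun c hc => ?_⟩
      by_cases hca : c = a
      · rw [hca]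
      have h := hpair a c (hYB a ha) (hYB c hc) (Ne.symm hca)
      have hu := Finset.card_union_add_card_inter (S a) (S c)
      have := h3 a ha
      have := h3 c hc
      have := hS2 a
      have := hS2 c
      have hi : (S a ∩ S c).card ≠ 1 := by
        intro h1
        obtain ⟨p, hp⟩ := Finset.card_eq_one.1 h1
        have ho : f ((g : Matrix (Fin n) (Fin n) F) *ᵥ e a) ((g : Matrix (Fin n) (Fin n) F) *ᵥ e c) = 0 := by
          rw [hgi, P.orth (Ne.symm hca)]
        have hp' : p ∈ S a ∩ S c := by rw [hp]; exact Finset.mem_singleton_self p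
        rw [Finset.mem_inter, hS, mem_sp, mem_sp] at hp'
        rw [P.form_coord, Finset.sum_eq_single p (fun q _ hq => ?_) (by simp)] at ho
        · exact mul_ne_zero hp'.1 ((RingEquiv.map_ne_zero_iff σ).2 hp'.2) ho
        · by_contra hne
          have : q ∈ S a ∩ S c := Finset.mem_inter.2 ⟨mem_sp.2 (left_ne_zero_of_mul hne),
            mem_sp.2 fun h => hne (by rw [h, map_zero, mul_zero])⟩
          rw [hp, Finset.mem_singleton] at this
          exact hq this
      have h2' : (S c).card ≤ (S a ∩ S c).card := by omega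
      exact (Finset.eq_of_subset_of_card_le Finset.inter_subset_right h2').ge.trans Finset.inter_subset_left
  have hli : LinearIndependent F (fun a : Y => (g : Matrix (Fin n) (Fin n) F) *ᵥ e a.1) := by
    rw [Fintype.linearIndependent_iff]
    intro c hc a
    have h := congrArg (fun z => f z ((g : Matrix (Fin n) (Fin n) F) *ᵥ e a.1)) hc
    simp only [Unit.zero_left hf, (Unit.sesq hf).sum_left, Unit.smul_left hf, hgi] at h
    rw [Finset.sum_eq_single a (fun b _ hb => by rw [hgi, P.orth fun h => hb (Subtype.ext h), mul_zero]) (by simp),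
      hgi, P.norm, mul_one] at h
    exact h
  have h6 := finrank_span_eq_card hli
  have h7 : Submodule.span F (Set.range fun a : Y => (g : Matrix (Fin n) (Fin n) F) *ᵥ e a.1) ≤ T.sup D := by
    rw [Submodule.span_le]
    rintro _ ⟨a, rfl⟩
    refine (P.base.sup_mem_iff T _).2 fun b hb => ?_
    rw [P.cmp_eq]
    have : f ((g : Matrix (Fin n) (Fin n) F) *ᵥ e a.1) (e b) = 0 :=
      by_contra fun h => hb (hT a.1 a.2 (mem_sp.2 h))
    rw [this, zero_smul]
  have h8 := Submodule.finrank_mono h7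
  rw [h6, Fintype.card_coe, hYc, P.base.sup_finrank] at h8
  omega

/-- Power three: two zeros in a column force another column with at most two coordinates. -/
theorem Rig.key_small {g : GL (Fin n) F} (hg : g ∈ M) {ε : F} (hε : ε * σ ε = 1) (hε2 : ε ^ 2 ≠ 1) (hε3 : ε ^ 3 ≠ 1)
    {i l l' : Fin t} (hll : l ≠ l') (h1 : f ((g : Matrix (Fin n) (Fin n) F) *ᵥ e i) (e l) = 0)
    (h2 : f ((g : Matrix (Fin n) (Fin n) F) *ᵥ e i) (e l') = 0) :
    ∃ Q : Finset (Fin t), Q.card ≤ 2 ∧ ∀ a, a ∉ Q →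
      f (((g⁻¹ : GL (Fin n) F) : Matrix (Fin n) (Fin n) F) *ᵥ e l) (e a) = 0 ∧
      f (((g⁻¹ : GL (Fin n) F) : Matrix (Fin n) (Fin n) F) *ᵥ e l') (e a) = 0 := by
  classical
  have P := R.frame
  have hf := P.unit
  set v := ((g⁻¹ : GL (Fin n) F) : Matrix (Fin n) (Fin n) F) *ᵥ e l with hv
  set v' := ((g⁻¹ : GL (Fin n) F) : Matrix (Fin n) (Fin n) F) *ᵥ e l' with hv'
  have hgi' := R.isometry (M.inv_mem hg)
  have hvv : f v v = 1 := by rw [hv, hgi', P.norm]
  have hvv' : f v' v' = 1 := by rw [hv', hgi', P.norm]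
  have hvo : f v v' = 0 := by rw [hv, hv', hgi', P.orth hll]
  have hKM : duo σ f v v' ε ∈ M := by
    have h := M.mul_mem (M.mul_mem (M.inv_mem hg) (R.duo_mem l l' hε)) hg
    have h' := duo_conj hf hgi' (P.norm l) (P.norm l') hε
    rw [inv_inv] at h'
    rwa [h', ← hv, ← hv'] at h
  have hzv : f (e i) v = 0 := by rw [hv, ← R.conj_coord hg]; exact h1
  have hzv' : f (e i) v' = 0 := by rw [hv', ← R.conj_coord hg]; exact h2
  have hKs := R.fix_stab hKM (a := i) (by
    rw [duo, gl_mul_mulVec, rho_fix hf hvv' (norm_conj hf hε) hzv', rho_fix hf hvv hε hzv])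
  have hε1 : ε ≠ 1 := fun h => hε2 (by rw [h, one_pow])
  have hσ1 : σ ε ≠ 1 := fun h => hε1 (by rw [← hf.involutive ε, h, map_one])
  have hval : ∀ x, (duo σ f v v' ε : Matrix (Fin n) (Fin n) F) *ᵥ x =
      x + ((σ ε - 1) * f x v') • v' + ((ε - 1) * f x v) • v := fun x => by
    rw [duo, gl_mul_mulVec, rho_mulVec hf hvv' (norm_conj hf hε), rho_mulVec hf hvv hε, Unit.add_left hf,
      Unit.smul_left hf, Unit.eq_zero_comm hf hvo, mul_zero, add_zero]
  have hKv : (duo σ f v v' ε : Matrix (Fin n) (Fin n) F) *ᵥ v = ε • v := by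
    rw [duo, gl_mul_mulVec, rho_fix hf hvv' (norm_conj hf hε) hvo, rho_self hf hvv hε]
  obtain ⟨B, -, hBout, hB3⟩ := P.supp_two (by rw [hvv]; exact one_ne_zero) (by rw [hvv']; exact one_ne_zero) hvo
    (rho_cond hf hvv hε) (rho_cond hf hvv' (norm_conj hf hε)) (sub_ne_zero.2 hε1) (sub_ne_zero.2 hσ1) hKs
  have hBc : B.card ≤ 3 := hB3 ⟨v, fun h => hε2 (by
    change (duo σ f v v' ε : Matrix (Fin n) (Fin n) F) *ᵥ ((duo σ f v v' ε : Matrix (Fin n) (Fin n) F) *ᵥ v) = v at h
    rw [hKv, mulVec_smul, hKv, smul_smul] at h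
    have := congrArg (fun z => f z v) h
    simp only [Unit.smul_left hf, hvv, mul_one] at this
    linear_combination this)⟩
  obtain ⟨π, c, hc⟩ := P.mono (R.le_k hKM).1 hKs
  have hπB : ∀ a, a ∉ B → π a = a := fun a ha => by
    by_contra hne
    have h := congrArg (fun z => f z (e a)) (hc a).1
    rw [hval] at h
    simp only [Unit.eq_zero_comm hf (hBout a ha).1, Unit.eq_zero_comm hf (hBout a ha).2, mul_zero, zero_smul,
      add_zero, P.norm, Unit.smul_left hf, P.orth hne] at h
    exact one_ne_zero h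
  have hsupp : π.support.card ≤ 3 := (Finset.card_le_card fun a ha => by
    by_contra haB
    exact Equiv.Perm.mem_support.1 ha (hπB a haB)).trans hBc
  obtain ⟨m, hm, hπm⟩ : ∃ m : ℕ, ε ^ m ≠ 1 ∧ π ^ m = 1 := by
    rcases Nat.lt_or_ge π.support.card 2 with h | h
    · have : π = 1 := Equiv.Perm.support_eq_empty_iff.1 (Finset.card_eq_zero.1 (by
        have := Equiv.Perm.card_support_ne_one π
        omega))
      exact ⟨1, by rwa [pow_one], by rw [pow_one, this]⟩
    rcases Nat.eq_or_lt_of_le h with h | h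
    · exact ⟨2, hε2, by
        obtain ⟨x, y, hxy, rfl⟩ := Equiv.Perm.card_support_eq_two.1 h.symm
        rw [pow_two, Equiv.swap_mul_self]⟩
    · refine ⟨3, hε3, ?_⟩
      rw [← (card_support_eq_three_iff.1 (show π.support.card = 3 by omega)).orderOf]
      exact pow_orderOf_eq_one π
  set W := Submodule.span F ({v, v'} : Set (Fin n → F)) with hW
  have hWv : v ∈ W := Submodule.subset_span (by simp)
  have hWv' : v' ∈ W := Submodule.subset_span (by simp)
  set K := (duo σ f v v' ε : Matrix (Fin n) (Fin n) F) with hK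
  have hpow : ∀ j : ℕ, (∀ a, ∃ κ : F, (K ^ j) *ᵥ e a = κ • e ((π ^ j) a)) ∧ (∀ x, (K ^ j) *ᵥ x - x ∈ W) ∧
      (K ^ j) *ᵥ v = ε ^ j • v ∧ (K ^ j) *ᵥ v' = (σ ε) ^ j • v' := by
    intro j
    induction j with
    | zero => exact ⟨fun a => ⟨1, by simp⟩, fun x => by simp, by simp, by simp⟩
    | succ j ih =>
      obtain ⟨h1, h2, h3, h4⟩ := ih
      refine ⟨fun a => ?_, fun x => ?_, ?_, ?_⟩
      · obtain ⟨κ, hκ⟩ := h1 a
        exact ⟨κ * c ((π ^ j) a), by rw [pow_succ', ← mulVec_mulVec, hκ, mulVec_smul, (hc _).1, smul_smul,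
          pow_succ', Equiv.Perm.mul_apply]⟩
      · rw [pow_succ', ← mulVec_mulVec, hval, add_assoc, add_sub_right_comm]
        exact W.add_mem (h2 x) (W.add_mem (W.smul_mem _ hWv') (W.smul_mem _ hWv))
      · rw [pow_succ', ← mulVec_mulVec, h3, mulVec_smul, hKv, smul_smul, pow_succ]
      · have hKv' : K *ᵥ v' = σ ε • v' := by
          rw [hK, duo, gl_mul_mulVec, rho_self hf hvv' (norm_conj hf hε), mulVec_smul,
            rho_fix hf hvv hε (Unit.eq_zero_comm hf hvo)]
        rw [pow_succ', ← mulVec_mulVec, h4, mulVec_smul, hKv', smul_smul, pow_succ]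
  obtain ⟨hd, hWd, hvd, hvd'⟩ := hpow m
  have hd' : ∀ a, ∃ κ, (K ^ m) *ᵥ e a = κ • e a := fun a => by
    obtain ⟨κ, hκ⟩ := hd a
    exact ⟨κ, by rw [hκ, hπm, Equiv.Perm.one_apply]⟩
  choose μ hμ using hd'
  set Q := Finset.univ.filter fun a => μ a ≠ 1 with hQ
  refine ⟨Q, ?_, fun a ha => ?_⟩
  · have h7 : Q.sup D ≤ W := by
      refine Finset.sup_le fun a ha => ?_
      rw [hQ, Finset.mem_filter] at ha
      rw [P.line, Submodule.span_singleton_le_iff_mem]
      have h : (μ a - 1) • e a ∈ W := by rw [sub_smul, one_smul, ← hμ]; exact hWd _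
      exact (Submodule.smul_mem_iff W (sub_ne_zero.2 ha.2)).1 h
    have h8 := Submodule.finrank_mono h7
    have h9 : Module.finrank F W ≤ 2 := by
      have h2 := finrank_span_finset_le_card (R := F) ({v, v'} : Finset (Fin n → F))
      rw [Finset.coe_pair, Set.finrank] at h2
      exact h2.trans Finset.card_le_two
    rw [P.base.sup_finrank, mul_one] at h8
    omega
  · simp only [hQ, Finset.mem_filter, Finset.mem_univ, true_and, not_not] at ha
    have hcoord : ∀ x, f ((K ^ m) *ᵥ x) (e a) = f x (e a) := fun x => by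
      conv_lhs => rw [← P.expand x, mulVec_sum, (Unit.sesq hf).sum_left]
      rw [Finset.sum_eq_single a (fun b _ hb => ?_) (by simp)]
      · rw [mulVec_smul, hμ, ha, one_smul, Unit.smul_left hf, P.norm, mul_one]
      · rw [mulVec_smul, hμ, Unit.smul_left hf, Unit.smul_left hf, P.orth hb, mul_zero, mul_zero]
    have e1 := hcoord v
    have e2 := hcoord v'
    rw [hvd, Unit.smul_left hf] at e1
    rw [hvd', Unit.smul_left hf] at e2
    have hσm : (σ ε) ^ m ≠ 1 := fun h => hm (by
      have := congrArg σ h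
      rwa [map_pow, hf.involutive, map_one] at this)
    exact ⟨(mul_eq_zero.1 (show (ε ^ m - 1) * f v (e a) = 0 by linear_combination e1)).resolve_left
        (sub_ne_zero.2 hm),
      (mul_eq_zero.1 (show ((σ ε) ^ m - 1) * f v' (e a) = 0 by linear_combination e2)).resolve_left
        (sub_ne_zero.2 hσm)⟩

/-- No column outside the stabilizer has two zeros. -/
theorem Rig.two_zero {g : GL (Fin n) F} (hg : g ∈ M) (hgs : g ∉ Cfsg.Geo.decompositionStabilizer D) {i l l' : Fin t}
    (hll : l ≠ l') (h1 : f ((g : Matrix (Fin n) (Fin n) F) *ᵥ e i) (e l) = 0)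
    (h2 : f ((g : Matrix (Fin n) (Fin n) F) *ᵥ e i) (e l') = 0) : False := by
  classical
  rcases R.range with h10 | ⟨ε, hε, hε2, hε3⟩
  · exact R.two_zero_ten (by have := R.frame.t_eq; omega) hg hgs hll h1 h2
  have P := R.frame
  have hf := P.unit
  have h6 := P.six_le
  have hg' := M.inv_mem hg
  obtain ⟨Q, hQ, hQv⟩ := R.key_small hg hε hε2 hε3 hll h1 h2
  obtain ⟨E⟩ : Nonempty (Fin 3 ↪ ↥Qᶜ) := Function.Embedding.nonempty_of_card_le (by
    rw [Fintype.card_fin, Fintype.card_coe, Finset.card_compl, Fintype.card_fin]; omega)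
  set j : Fin 3 → Fin t := fun a => (E a : Fin t) with hj
  have hjne : ∀ a b, a ≠ b → j a ≠ j b := fun a b h h' => h (E.injective (Subtype.ext h'))
  have hz : ∀ a, f (((g⁻¹ : GL (Fin n) F) : Matrix (Fin n) (Fin n) F) *ᵥ e l) (e (j a)) = 0 := fun a =>
    (hQv _ (Finset.mem_compl.1 (E a).2)).1
  obtain ⟨Q₁, hQ₁, hQ₁v⟩ := R.key_small hg' hε hε2 hε3 (hjne 0 1 (by decide)) (hz 0) (hz 1)
  obtain ⟨Q₂, hQ₂, hQ₂v⟩ := R.key_small hg' hε hε2 hε3 (hjne 0 2 (by decide)) (hz 0) (hz 2)
  simp only [inv_inv] at hQ₁v hQ₂v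
  set S := sp f e ((g : Matrix (Fin n) (Fin n) F) *ᵥ e (j 0)) with hS
  have hS1 : S ⊆ Q₁ := fun a ha => by_contra fun h => mem_sp.1 ha (hQ₁v a h).1
  have hS2 : S ⊆ Q₂ := fun a ha => by_contra fun h => mem_sp.1 ha (hQ₂v a h).1
  have hS2' : 2 ≤ S.card := by
    by_contra h
    obtain ⟨b, hb⟩ : ∃ b, S ⊆ {b} := by
      rcases Finset.eq_empty_or_nonempty S with h' | ⟨b, hb⟩
      · exact ⟨i, by simp [h']⟩
      · exact ⟨b, fun x hx => Finset.mem_singleton.2 (Finset.card_le_one.1 (by omega) x hx b hb)⟩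
    refine hgs (R.rigid g hg (j 0) b (f ((g : Matrix (Fin n) (Fin n) F) *ᵥ e (j 0)) (e b)) (P.ext fun c => ?_))
    rw [Unit.smul_left hf, P.form_e]
    by_cases hcb : b = c
    · subst hcb; simp
    · rw [if_neg hcb, mul_zero]
      by_contra hne
      exact hcb (Finset.mem_singleton.1 (hb (mem_sp.2 hne))).symm
  have hQ₂₁ : Q₂ = Q₁ := (Finset.eq_of_subset_of_card_le hS2 (by omega)).symm.trans
    (Finset.eq_of_subset_of_card_le hS1 (by omega))
  have hall : ∀ b a, a ∉ Q₁ → f ((g : Matrix (Fin n) (Fin n) F) *ᵥ e (j b)) (e a) = 0 := by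
    intro b a ha
    fin_cases b
    exacts [(hQ₁v a ha).1, (hQ₁v a ha).2, (hQ₂v a (hQ₂₁ ▸ ha)).2]
  have hgi := R.isometry hg
  have hli : LinearIndependent F (fun b => (g : Matrix (Fin n) (Fin n) F) *ᵥ e (j b)) := by
    rw [Fintype.linearIndependent_iff]
    intro c hc a
    have h := congrArg (fun z => f z ((g : Matrix (Fin n) (Fin n) F) *ᵥ e (j a))) hc
    simp only [Unit.zero_left hf, (Unit.sesq hf).sum_left, Unit.smul_left hf, hgi] at h
    rw [Finset.sum_eq_single a (fun b _ hb => by rw [hgi, P.orth (hjne b a hb), mul_zero]) (by simp),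
      hgi, P.norm, mul_one] at h
    exact h
  have h7 : Submodule.span F (Set.range fun b => (g : Matrix (Fin n) (Fin n) F) *ᵥ e (j b)) ≤ Q₁.sup D := by
    rw [Submodule.span_le]
    rintro _ ⟨b, rfl⟩
    refine (P.base.sup_mem_iff Q₁ _).2 fun a ha => ?_
    rw [P.cmp_eq, hall b a ha, zero_smul]
  have h8 := Submodule.finrank_mono h7
  rw [finrank_span_eq_card hli, Fintype.card_fin, P.base.sup_finrank] at h8
  omega

/-- Conjugates of frame pairs leave the stabilizer. -/
theorem Rig.conj_notMem {g : GL (Fin n) F} (hg : g ∈ M) (hgs : g ∉ Cfsg.Geo.decompositionStabilizer D) {a b : Fin t}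
    (hab : a ≠ b) {ε : F} (hε : ε * σ ε = 1) (hε1 : ε ≠ 1) :
    g * duo σ f (e a) (e b) ε * g⁻¹ ∉ Cfsg.Geo.decompositionStabilizer D := by
  classical
  have P := R.frame
  have hf := P.unit
  have hgi := R.isometry hg
  intro hK
  rw [duo_conj hf hgi (P.norm a) (P.norm b) hε] at hK
  have hε1' : σ ε ≠ 1 := fun h => hε1 (by rw [← hf.involutive ε, h, map_one])
  obtain ⟨B, hB, hout, -⟩ := P.supp_two (by rw [hgi, P.norm]; exact one_ne_zero)
    (by rw [hgi, P.norm]; exact one_ne_zero) (by rw [hgi, P.orth hab])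
    (rho_cond hf (by rw [hgi, P.norm]) hε) (rho_cond hf (by rw [hgi, P.norm]) (norm_conj hf hε))
    (sub_ne_zero.2 hε1) (sub_ne_zero.2 hε1') hK
  obtain ⟨l, l', hl, hl', hll⟩ := Finset.one_lt_card_iff.1 (show 1 < Bᶜ.card by
    rw [Finset.card_compl, Fintype.card_fin]; have := P.six_le; omega)
  rw [Finset.mem_compl] at hl hl'
  exact R.two_zero hg hgs hll (hout l hl).1 (hout l' hl').1

end CfsgLib.GeomClasses.UnitFrame
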