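import Cfsg.Agent.Lib.GeomClasses.UnitFrameRigid

/-!
Two columns with a sparse combination are impossible in a rigid overgroup; the case of characteristic two.
-/

set_option autoImplicit false
set_option linter.unusedSectionVars false
set_option linter.unusedSimpArgs false

namespace CfsgLib.GeomClasses.UnitFrame

open Matrix CfsgLib.GeomClasses.UnitQr CfsgLib.GeomClasses.UnitSymp CfsgLib.GeomClasses.UnitDecomp
  CfsgLib.GeomClasses.UnitCircle

variable {n : ℕ} {F : Type*} [Field F] [Fintype F] {σ : F ≃+* F} {f : (Fin n → F) → (Fin n → F) → F}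
  {t : ℕ} {D : Fin t → Submodule F (Fin n → F)} {e : Fin t → Fin n → F}

/-- Disjoint pairs and a further index. -/
structure Quad (k t : ℕ) (S : Finset (Fin t)) : Type where
  p : Fin k → Fin t
  r : Fin k → Fin t
  m : Fin t
  p_inj : Function.Injective p
  r_inj : Function.Injective r
  p_ne : ∀ i j, p i ≠ r j
  m_ne : ∀ i, m ≠ p i ∧ m ≠ r i
  p_out : ∀ i, p i ∉ S
  r_out : ∀ i, r i ∉ S
  m_out : m ∉ S

theorem exists_quad {t : ℕ} {S : Finset (Fin t)} (h : S.card + 9 ≤ t) : Nonempty (Quad 4 t S) := by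
  classical
  obtain ⟨E⟩ : Nonempty (Fin 9 ↪ ↥Sᶜ) := Function.Embedding.nonempty_of_card_le (by
    rw [Fintype.card_fin, Fintype.card_coe, Finset.card_compl, Fintype.card_fin]; omega)
  have hi : ∀ {i j : Fin 9}, (E i : Fin t) = E j → i = j := fun h => E.injective (Subtype.ext h)
  refine ⟨⟨fun i => E ⟨2 * i.val, by omega⟩, fun i => E ⟨2 * i.val + 1, by omega⟩, E ⟨8, by omega⟩,
    fun i j h => ?_, fun i j h => ?_, fun i j h => ?_, fun i => ⟨fun h => ?_, fun h => ?_⟩,
    fun i => Finset.mem_compl.1 (E _).2, fun i => Finset.mem_compl.1 (E _).2, Finset.mem_compl.1 (E _).2⟩⟩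
  · have := congrArg Fin.val (hi h); simp at this; exact Fin.ext (by omega)
  · have := congrArg Fin.val (hi h); simp at this; exact Fin.ext (by omega)
  · have := congrArg Fin.val (hi h); simp at this; omega
  · have := congrArg Fin.val (hi h); simp at this; omega
  · have := congrArg Fin.val (hi h); simp at this; omega

/-- Two disjoint pairs and a further index, the first pair given. -/
theorem exists_duad {t : ℕ} {S : Finset (Fin t)} (h : S.card + 5 ≤ t) {a b : Fin t} (ha : a ∉ S) (hb : b ∉ S)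
    (hab : a ≠ b) : ∃ Q : Quad 2 t S, Q.p 0 = a ∧ Q.r 0 = b := by
  classical
  obtain ⟨E⟩ : Nonempty (Fin 3 ↪ ↥(insert a (insert b S))ᶜ) := Function.Embedding.nonempty_of_card_le (by
    rw [Fintype.card_fin, Fintype.card_coe, Finset.card_compl, Fintype.card_fin]
    have h1 := Finset.card_insert_le a (insert b S)
    have h2 := Finset.card_insert_le b S
    omega)
  have hE : ∀ i, (E i : Fin t) ≠ a ∧ (E i : Fin t) ≠ b ∧ (E i : Fin t) ∉ S := fun i => by
    have := Finset.mem_compl.1 (E i).2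
    simpa only [Finset.mem_insert, not_or] using this
  have hi : ∀ {i j : Fin 3}, i ≠ j → (E i : Fin t) ≠ E j := fun h h' => h (E.injective (Subtype.ext h'))
  refine ⟨⟨![a, (E 0 : Fin t)], ![b, (E 1 : Fin t)], E 2, ?_, ?_, ?_, ?_, ?_, ?_, (hE 2).2.2⟩, rfl, rfl⟩
  · intro i j hij
    fin_cases i <;> fin_cases j <;> simp_all [Ne.symm (hE 0).1]
  · intro i j hij
    fin_cases i <;> fin_cases j <;> simp_all [Ne.symm (hE 1).2.1]
  · intro i j
    fin_cases i <;> fin_cases j <;> simp [hab, Ne.symm (hE 1).1, (hE 0).2.1, hi (show (0 : Fin 3) ≠ 1 by decide)]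
  · intro i
    fin_cases i <;> simp [(hE 2).1, (hE 2).2.1, hi (show (2 : Fin 3) ≠ 0 by decide),
      hi (show (2 : Fin 3) ≠ 1 by decide)]
  · intro i; fin_cases i <;> simp [ha, (hE 0).2.2]
  · intro i; fin_cases i <;> simp [hb, (hE 1).2.2]

/-- The vector of a pair with a scalar. -/
def pv (e : Fin t → Fin n → F) {k : ℕ} {S : Finset (Fin t)} (Q : Quad k t S) (c : Fin k → F) (i : Fin k) :
    Fin n → F :=
  e (Q.p i) - c i • e (Q.r i)

section frame

variable (P : Frame σ f D e) {k : ℕ} {S : Finset (Fin t)} (Q : Quad k t S) {c : Fin k → F} (hc : ∀ i, c i * σ (c i) = 1)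
include P hc

/-- The product of the four exchanges. -/
theorem Frame.exists_delta (hk : Even k) :
    ∃ δ : GL (Fin n) F, δ ∈ hGrp f D ∧
      ∀ x, (δ : Matrix (Fin n) (Fin n) F) *ᵥ x = x - ∑ i, f x (pv e Q c i) • pv e Q c i := by
  classical
  have hf := P.unit
  have hpr : ∀ i, Q.p i ≠ Q.r i := fun i => Q.p_ne i i
  have ho : ∀ i j, i ≠ j → f (pv e Q c i) (pv e Q c j) = 0 := fun i j h => by
    simp only [pv, Unit.sub_left hf, Unit.sub_right hf, Unit.smul_left hf, Unit.smul_right hf,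
      P.orth (Q.p_inj.ne h), P.orth (Q.r_inj.ne h), P.orth (Q.p_ne i j), P.orth (Ne.symm (Q.p_ne j i))]
    ring
  have key : ∀ T : Finset (Fin k), ∃ δ ∈ isoGroup f, δ ∈ Cfsg.Geo.decompositionStabilizer D ∧
      (δ : Matrix (Fin n) (Fin n) F).det = (-1) ^ T.card ∧
      ∀ x, (δ : Matrix (Fin n) (Fin n) F) *ᵥ x = x - ∑ i ∈ T, f x (pv e Q c i) • pv e Q c i := by
    intro T
    induction T using Finset.induction_on with
    | empty => exact ⟨1, (isoGroup f).one_mem, (Cfsg.Geo.decompositionStabilizer D).one_mem, by simp, by simp⟩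
    | insert i T hi ih =>
      obtain ⟨δ, hδ, hδs, hδd, hδm⟩ := ih
      obtain ⟨hq, -, -, -, hd⟩ := P.swap_vec (hpr i) (hc i)
      refine ⟨qr f (-1) (pv e Q c i) * δ, (isoGroup f).mul_mem (qr_iso hf hq) hδ,
        (Cfsg.Geo.decompositionStabilizer D).mul_mem (P.swap_stab (hpr i) (hc i)) hδs, ?_, fun x => ?_⟩
      · rw [Units.val_mul, det_mul, show (qr f (-1) (pv e Q c i) : Matrix (Fin n) (Fin n) F).det = -1 from hd, hδd,
          Finset.card_insert_of_notMem hi, pow_succ']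
      · have hz : f (∑ j ∈ T, f x (pv e Q c j) • pv e Q c j) (pv e Q c i) = 0 := by
          rw [(Unit.sesq hf).sum_left]
          refine Finset.sum_eq_zero fun j hj => ?_
          rw [Unit.smul_left hf, ho j i (fun h => hi (h ▸ hj)), mul_zero]
        rw [gl_mul_mulVec, hδm, qr_mulVec hf (show QCond σ f (-1) (pv e Q c i) from hq), Unit.sub_left hf, hz,
          sub_zero, Finset.sum_insert hi, neg_one_mul, neg_smul]
        abel
  obtain ⟨δ, hδ, hδs, hδd, hδm⟩ := key Finset.univ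
  refine ⟨δ, ⟨hδs, kGrp_of hf hδ ?_⟩, fun x => hδm x⟩
  rw [hδd, Finset.card_univ, Fintype.card_fin, hk.neg_one_pow]

theorem Frame.delta_coord (x : Fin n → F) (i : Fin k) :
    f (∑ j, f x (pv e Q c j) • pv e Q c j) (e (Q.p i)) = f x (pv e Q c i) ∧
      f (∑ j, f x (pv e Q c j) • pv e Q c j) (e (Q.r i)) = -(f x (pv e Q c i) * c i) := by
  classical
  have hf := P.unit
  constructor
  · rw [(Unit.sesq hf).sum_left, Finset.sum_eq_single i (fun j _ hj => ?_) (by simp)]
    · rw [Unit.smul_left hf, pv, Unit.sub_left hf, Unit.smul_left hf, P.norm, P.orth (Ne.symm (Q.p_ne i i)),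
        mul_zero, sub_zero, mul_one]
    · rw [Unit.smul_left hf, pv, Unit.sub_left hf, Unit.smul_left hf, P.orth (Q.p_inj.ne hj),
        P.orth (Ne.symm (Q.p_ne i j)), mul_zero, sub_zero, mul_zero]
  · rw [(Unit.sesq hf).sum_left, Finset.sum_eq_single i (fun j _ hj => ?_) (by simp)]
    · rw [Unit.smul_left hf, pv, Unit.sub_left hf, Unit.smul_left hf, P.norm, P.orth (Q.p_ne i i), mul_one, zero_sub,
        mul_neg]
    · rw [Unit.smul_left hf, pv, Unit.sub_left hf, Unit.smul_left hf, P.orth (Q.r_inj.ne hj),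
        P.orth (Q.p_ne j i), mul_zero, sub_zero, mul_zero]

omit hc in
theorem Frame.delta_zero (x : Fin n → F) {b : Fin t} (hb : ∀ i, b ≠ Q.p i ∧ b ≠ Q.r i) :
    f (∑ j, f x (pv e Q c j) • pv e Q c j) (e b) = 0 := by
  have hf := P.unit
  rw [(Unit.sesq hf).sum_left]
  refine Finset.sum_eq_zero fun j _ => ?_
  rw [Unit.smul_left hf, pv, Unit.sub_left hf, Unit.smul_left hf, P.orth (Ne.symm (hb j).1),
    P.orth (Ne.symm (hb j).2), mul_zero, sub_zero, mul_zero]

end frame

/-- The value of a pairing with a pair vector. -/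
theorem Frame.exists_weights (P : Frame σ f D e) {S : Finset (Fin t)} (Q : Quad 4 t S) {y : Fin n → F}
    (hy : ∀ i, f y (e (Q.p i)) ≠ 0 ∧ f y (e (Q.r i)) ≠ 0) {T : F} (hT : σ T = T) :
    ∃ c : Fin 4 → F, (∀ i, c i * σ (c i) = 1) ∧ f y (pv e Q c 0) ≠ 0 ∧ f y (pv e Q c 1) ≠ 0 ∧
      ∑ i, f y (pv e Q c i) * f (pv e Q c i) y = T := by
  have hf := P.unit
  set N : Fin 4 → F := fun i =>
    f y (e (Q.p i)) * σ (f y (e (Q.p i))) + f y (e (Q.r i)) * σ (f y (e (Q.r i))) with hN
  set A : Fin 4 → F := fun i => f y (e (Q.p i)) * σ (f y (e (Q.r i))) with hA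
  have hA0 : ∀ i, A i ≠ 0 := fun i => mul_ne_zero (hy i).1 ((RingEquiv.map_ne_zero_iff σ).2 (hy i).2)
  have hNf : ∀ i, σ (N i) = N i := fun i => by
    simp only [hN, map_add, map_mul, hf.involutive]; ring
  have hval : ∀ (c : Fin 4 → F) i, c i * σ (c i) = 1 →
      f y (pv e Q c i) * f (pv e Q c i) y = N i - (c i * A i + σ (c i * A i)) := by
    intro c i hci
    simp only [pv, Unit.sub_left hf, Unit.sub_right hf, Unit.smul_left hf, Unit.smul_right hf]
    rw [← Unit.conj_form hf y (e (Q.p i)), ← Unit.conj_form hf y (e (Q.r i))]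
    simp only [hN, hA, map_mul, hf.involutive]
    linear_combination (f y (e (Q.r i)) * σ (f y (e (Q.r i)))) * hci
  obtain ⟨c₀, hc₀, h₀⟩ := exists_trace_avoid hf.ne_refl hf.involutive (hA0 0) (N 0)
  obtain ⟨c₁, hc₁, h₁⟩ := exists_trace_avoid hf.ne_refl hf.involutive (hA0 1) (N 1)
  set V₀ := N 0 - (c₀ * A 0 + σ (c₀ * A 0)) with hV₀
  set V₁ := N 1 - (c₁ * A 1 + σ (c₁ * A 1)) with hV₁
  have htr : ∀ z : F, σ (z + σ z) = z + σ z := fun z => by rw [map_add, hf.involutive, add_comm]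
  obtain ⟨c₂, c₃, hc₂, hc₃, h23⟩ := exists_two_trace hf.ne_refl hf.involutive (hA0 2) (hA0 3)
    (s := N 2 + N 3 + V₀ + V₁ - T) (by simp only [hV₀, hV₁, map_sub, map_add, hNf, hT, hf.involutive]; ring)
  have hcall : ∀ i, ![c₀, c₁, c₂, c₃] i * σ (![c₀, c₁, c₂, c₃] i) = 1 := fun i => by
    fin_cases i <;> assumption
  refine ⟨![c₀, c₁, c₂, c₃], hcall, fun h => ?_, fun h => ?_, ?_⟩
  · have := hval _ 0 (hcall 0)
    rw [h, zero_mul] at this
    simp only [Matrix.cons_val_zero] at this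
    exact h₀ (by linear_combination this)
  · have := hval _ 1 (hcall 1)
    rw [h, zero_mul] at this
    simp only [Matrix.cons_val_one, Matrix.cons_val_zero] at this
    exact h₁ (by linear_combination this)
  · rw [Finset.sum_congr rfl fun i _ => hval _ i (hcall i), Fin.sum_univ_four]
    simp only [Matrix.cons_val]
    linear_combination hV₀ + hV₁ - h23 - hV₀ - hV₁

/-- Weights for two pairs, the first having coordinates with a square ratio. -/
theorem Frame.exists_weights_two (P : Frame σ f D e) {S : Finset (Fin t)} (Q : Quad 2 t S) {y : Fin n → F}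
    (hy : ∀ i, f y (e (Q.p i)) ≠ 0 ∧ f y (e (Q.r i)) ≠ 0) {c₀ : F} (hc₀ : c₀ * σ c₀ = 1)
    (hdbl : c₀ * c₀ * (f y (e (Q.p 0)) * σ (f y (e (Q.r 0)))) = σ (f y (e (Q.p 0)) * σ (f y (e (Q.r 0))))) :
    ∃ c : Fin 2 → F, (∀ i, c i * σ (c i) = 1) ∧ f y (pv e Q c 0) ≠ 0 ∧
      ∑ i, f y (pv e Q c i) * f (pv e Q c i) y = 0 := by
  have hf := P.unit
  set N : Fin 2 → F := fun i =>
    f y (e (Q.p i)) * σ (f y (e (Q.p i))) + f y (e (Q.r i)) * σ (f y (e (Q.r i))) with hN
  set A : Fin 2 → F := fun i => f y (e (Q.p i)) * σ (f y (e (Q.r i))) with hA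
  have hA0 : ∀ i, A i ≠ 0 := fun i => mul_ne_zero (hy i).1 ((RingEquiv.map_ne_zero_iff σ).2 (hy i).2)
  have hNf : ∀ i, σ (N i) = N i := fun i => by
    simp only [hN, map_add, map_mul, hf.involutive]; ring
  have hval : ∀ (c : Fin 2 → F) i, c i * σ (c i) = 1 →
      f y (pv e Q c i) * f (pv e Q c i) y = N i - (c i * A i + σ (c i * A i)) := by
    intro c i hci
    simp only [pv, Unit.sub_left hf, Unit.sub_right hf, Unit.smul_left hf, Unit.smul_right hf]
    rw [← Unit.conj_form hf y (e (Q.p i)), ← Unit.conj_form hf y (e (Q.r i))]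
    simp only [hN, hA, map_mul, hf.involutive]
    linear_combination (f y (e (Q.r i)) * σ (f y (e (Q.r i)))) * hci
  obtain ⟨c, d, hc, hd, hsum, havoid⟩ := exists_two_trace_avoid hf.ne_refl hf.involutive (hA0 0) (hA0 1) hc₀ hdbl
    (s := N 0 + N 1) (by rw [map_add, hNf, hNf]) (N 0)
  have hcall : ∀ i, ![c, d] i * σ (![c, d] i) = 1 := fun i => by fin_cases i <;> assumption
  refine ⟨![c, d], hcall, fun h => havoid ?_, ?_⟩
  · have := hval _ 0 (hcall 0)
    rw [h, zero_mul] at this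
    simp only [Matrix.cons_val_zero] at this
    linear_combination this
  · rw [Finset.sum_congr rfl fun i _ => hval _ i (hcall i), Fin.sum_univ_two]
    simp only [Matrix.cons_val_zero, Matrix.cons_val_one]
    linear_combination -hsum

variable {M : Subgroup (GL (Fin n) F)} (R : Rig σ f D e M)
include R

/-- Two columns with a sparse combination do not occur outside the stabilizer. -/
theorem Rig.sparse (ht : 10 ≤ t) {g : GL (Fin n) F} (hg : g ∈ M) (hgs : g ∉ Cfsg.Geo.decompositionStabilizer D) {a b : Fin t}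
    (hab : a ≠ b) (ζ : F)
    (hd : (sp f e ((g : Matrix (Fin n) (Fin n) F) *ᵥ e a - ζ • ((g : Matrix (Fin n) (Fin n) F) *ᵥ e b))).card ≤ 4) :
    False := by
  classical
  have P := R.frame
  have hf := P.unit
  have hgi := R.isometry hg
  set x := (g : Matrix (Fin n) (Fin n) F) *ᵥ e a with hx
  set y := (g : Matrix (Fin n) (Fin n) F) *ᵥ e b with hy
  set d := x - ζ • y with hd'
  have hxx : f x x = 1 := by rw [hx, hgi, P.norm]
  have hyy : f y y = 1 := by rw [hy, hgi, P.norm]
  have hxy : f x y = 0 := by rw [hx, hy, hgi, P.orth hab]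
  obtain ⟨ε, hε, hεr⟩ := exists_nonreal hf.ne_refl hf.involutive
  have hε1 : ε ≠ 1 := fun h => hεr (by rw [h, map_one])
  set K := g * duo σ f (e a) (e b) ε * g⁻¹ with hKdef
  have hKM : K ∈ M := M.mul_mem (M.mul_mem hg (R.duo_mem a b hε)) (M.inv_mem hg)
  have hKns : K ∉ Cfsg.Geo.decompositionStabilizer D := R.conj_notMem hg hgs hab hε hε1
  have hKeq : K = duo σ f x y ε := duo_conj hf hgi (P.norm a) (P.norm b) hε
  have hdout : ∀ l, l ∉ sp f e d → f d (e l) = 0 := fun l hl => by_contra fun h => hl (mem_sp.2 h)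
  have hxl : ∀ l, l ∉ sp f e d → f x (e l) = ζ * f y (e l) := fun l hl => by
    have := hdout l hl
    rw [hd', Unit.sub_left hf, Unit.smul_left hf, sub_eq_zero] at this
    exact this
  have hyl : ∀ l, l ∉ sp f e d → f y (e l) ≠ 0 := fun l hl h => hKns (R.fix_stab hKM (a := l) (by
    rw [hKeq, duo, gl_mul_mulVec, rho_fix hf hyy (norm_conj hf hε) (Unit.eq_zero_comm hf h),
      rho_fix hf hxx hε (Unit.eq_zero_comm hf (by rw [hxl l hl, h, mul_zero]))]))
  obtain ⟨E⟩ : Nonempty (Fin 3 ↪ ↥(sp f e d)ᶜ) := Function.Embedding.nonempty_of_card_le (by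
    rw [Fintype.card_fin, Fintype.card_coe, Finset.card_compl, Fintype.card_fin]; omega)
  have hEy : ∀ i, f y (e (E i : Fin t)) ≠ 0 := fun i => hyl _ (Finset.mem_compl.1 (E i).2)
  obtain ⟨i, j, hij, c₀, hc₀, hsq⟩ := exists_square_ratio hf.ne_refl hf.involutive
    (u := fun i => σ (f y (e (E i : Fin t))) / f y (e (E i : Fin t))) (fun i => by
      have h1 := hEy i
      have h2 := (RingEquiv.map_ne_zero_iff σ).2 h1
      rw [map_div₀, hf.involutive]; field_simp)
  obtain ⟨Q, hQp, hQr⟩ := exists_duad (S := sp f e d) (by omega) (Finset.mem_compl.1 (E i).2)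
    (Finset.mem_compl.1 (E j).2) (fun h => hij (E.injective (Subtype.ext h)))
  obtain ⟨c, hc, hc0, hsum⟩ := P.exists_weights_two Q (y := y) (fun i => ⟨hyl _ (Q.p_out i), hyl _ (Q.r_out i)⟩)
    hc₀ (by
      rw [hQp, hQr, map_mul, hf.involutive]
      have h1 := hEy i
      have h2 := hEy j
      field_simp at hsq
      linear_combination hsq)
  obtain ⟨δ, hδ, hδm⟩ := P.exists_delta Q hc even_two
  set sy := ∑ i, f y (pv e Q c i) • pv e Q c i with hs0
  have hdp : ∀ i, f d (pv e Q c i) = 0 := fun i => by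
    rw [pv, Unit.sub_right hf, Unit.smul_right hf, hdout _ (Q.p_out i), hdout _ (Q.r_out i), mul_zero, sub_zero]
  have hxp : ∀ i, f x (pv e Q c i) = ζ * f y (pv e Q c i) := fun i => by
    have := hdp i
    simp only [hd', Unit.sub_left hf, Unit.smul_left hf, sub_eq_zero] at this
    exact this
  have hsy : f sy y = 0 := by
    rw [hs0, (Unit.sesq hf).sum_left, ← hsum]
    exact Finset.sum_congr rfl fun i _ => Unit.smul_left hf _ _ _
  have hsx : f sy x = 0 := by
    have h1 : f sy d = 0 := by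
      rw [hs0, (Unit.sesq hf).sum_left]
      exact Finset.sum_eq_zero fun i _ => by rw [Unit.smul_left hf, Unit.eq_zero_comm hf (hdp i), mul_zero]
    rw [hd', Unit.sub_right hf, Unit.smul_right hf, hsy, mul_zero, sub_zero] at h1
    exact h1
  have hδy : (δ : Matrix (Fin n) (Fin n) F) *ᵥ y = y - sy := hδm y
  have hδx : (δ : Matrix (Fin n) (Fin n) F) *ᵥ x = x - ζ • sy := by
    rw [hδm, hs0, Finset.smul_sum]
    congr 1
    exact Finset.sum_congr rfl fun i _ => by rw [hxp, smul_smul]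
  set m := Q.m with hm
  have hδe : (δ : Matrix (Fin n) (Fin n) F) *ᵥ e m = e m := by
    rw [hδm, Finset.sum_eq_zero fun i _ => ?_, sub_zero]
    rw [pv, Unit.sub_right hf, Unit.smul_right hf, P.orth (Q.m_ne i).1, P.orth (Q.m_ne i).2, mul_zero, sub_zero,
      zero_smul]
  have hδi : ((δ⁻¹ : GL (Fin n) F) : Matrix (Fin n) (Fin n) F) *ᵥ e m = e m := by
    conv_lhs => rw [← hδe]
    exact gl_inv_mulVec_mulVec δ _
  set α := (σ ε - 1) * f (e m) x with hα
  set β := (ε - 1) * f (e m) y with hβ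
  have hKi : ((K⁻¹ : GL (Fin n) F) : Matrix (Fin n) (Fin n) F) *ᵥ e m = e m + β • y + α • x := by
    rw [hKeq, duo, _root_.mul_inv_rev, rho_inv hf hyy (norm_conj hf hε), rho_inv hf hxx hε, hf.involutive,
      gl_mul_mulVec, rho_mulVec hf hxx (norm_conj hf hε), rho_mulVec hf hyy hε, Unit.add_left hf,
      Unit.smul_left hf, hxy, mul_zero, add_zero, hα, hβ]
    abel
  set L := K * δ * K⁻¹ * δ⁻¹ with hL
  have hLM : L ∈ M :=
    M.mul_mem (M.mul_mem (M.mul_mem hKM (R.le hδ)) (M.inv_mem hKM)) (M.inv_mem (R.le hδ))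
  have hLm : (L : Matrix (Fin n) (Fin n) F) *ᵥ e m = e m - (β + α * ζ) • sy := by
    have hδK : (δ : Matrix (Fin n) (Fin n) F) *ᵥ (((K⁻¹ : GL (Fin n) F) : Matrix (Fin n) (Fin n) F) *ᵥ e m) =
        ((K⁻¹ : GL (Fin n) F) : Matrix (Fin n) (Fin n) F) *ᵥ e m - (β + α * ζ) • sy := by
      rw [hKi]
      simp only [mulVec_add, mulVec_smul, hδe, hδx, hδy]
      module
    rw [hL, gl_mul_mulVec, gl_mul_mulVec, gl_mul_mulVec, hδi, hδK, mulVec_sub, gl_mulVec_inv_mulVec, mulVec_smul]
    congr 2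
    rw [hKeq, duo, gl_mul_mulVec, rho_fix hf hyy (norm_conj hf hε) hsy, rho_fix hf hxx hε hsx]
  have hA : β + α * ζ ≠ 0 := by
    have hym := hyl m Q.m_out
    have hxm : f (e m) x = σ ζ * f (e m) y := by
      rw [← Unit.conj_form hf x (e m), hxl m Q.m_out, map_mul, Unit.conj_form hf]
    rw [hα, hβ, hxm]
    intro h
    have hfy : f (e m) y ≠ 0 := Unit.ne_zero_comm hf hym
    have h1 : (ε - 1) + (σ ε - 1) * (ζ * σ ζ) = 0 := by
      refine (mul_eq_zero.1 (show f (e m) y * ((ε - 1) + (σ ε - 1) * (ζ * σ ζ)) = 0 by linear_combination h)).resolve_left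
        hfy
    have h3 : (ε - 1) * (ε - ζ * σ ζ) = 0 := by linear_combination ε * h1 - (ζ * σ ζ) * hε
    have h4 := sub_eq_zero.1 ((mul_eq_zero.1 h3).resolve_left (sub_ne_zero.2 hε1))
    exact hεr (by rw [h4, map_mul, hf.involutive, mul_comm])
  have hLc : ∀ l, f ((L : Matrix (Fin n) (Fin n) F) *ᵥ e m) (e l) = f (e m) (e l) - (β + α * ζ) * f sy (e l) :=
    fun l => by rw [hLm, Unit.sub_left hf, Unit.smul_left hf]
  have hLns : L ∉ Cfsg.Geo.decompositionStabilizer D := by
    intro hs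
    obtain ⟨π, κ, hκ⟩ := P.mono (R.le_k hLM).1 hs
    have hz : ∀ l, f ((L : Matrix (Fin n) (Fin n) F) *ᵥ e m) (e l) ≠ 0 → π m = l := fun l hl => by
      by_contra hne
      rw [(hκ m).1, Unit.smul_left hf, P.orth hne, mul_zero] at hl
      exact hl rfl
    have h1 := hz m (by rw [hLc, P.norm, hs0, P.delta_zero Q y Q.m_ne, mul_zero, sub_zero]; exact one_ne_zero)
    have h2 := hz (Q.p 0) (by
      rw [hLc, P.orth (Q.m_ne 0).1, hs0, (P.delta_coord Q hc y 0).1, zero_sub, neg_ne_zero]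
      exact mul_ne_zero hA hc0)
    exact (Q.m_ne 0).1 (h1.symm.trans h2)
  obtain ⟨l, l', hl, hl', hll⟩ := Finset.one_lt_card_iff.1
    (show 1 < (insert m (Finset.univ.image Q.p ∪ Finset.univ.image Q.r))ᶜ.card by
      rw [Finset.card_compl, Fintype.card_fin]
      have h1 := Finset.card_insert_le m (Finset.univ.image Q.p ∪ Finset.univ.image Q.r)
      have h2 := Finset.card_union_le (Finset.univ.image Q.p) (Finset.univ.image Q.r)
      have h3 := Finset.card_image_le (s := (Finset.univ : Finset (Fin 2))) (f := Q.p)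
      have h4 := Finset.card_image_le (s := (Finset.univ : Finset (Fin 2))) (f := Q.r)
      simp only [Finset.card_univ, Fintype.card_fin] at h3 h4
      omega)
  have hzero : ∀ l, l ∈ (insert m (Finset.univ.image Q.p ∪ Finset.univ.image Q.r))ᶜ →
      f ((L : Matrix (Fin n) (Fin n) F) *ᵥ e m) (e l) = 0 := by
    intro l hl
    simp only [Finset.mem_compl, Finset.mem_insert, Finset.mem_union, Finset.mem_image, Finset.mem_univ, true_and,
      not_or, not_exists] at hl
    rw [hLc, P.orth (Ne.symm hl.1), hs0, P.delta_zero Q y fun i => ⟨Ne.symm (hl.2.1 i), Ne.symm (hl.2.2 i)⟩, mul_zero,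
      sub_zero]
  exact R.two_zero hLM hLns hll (hzero l hl) (hzero l' hl')

/-- In characteristic two there is no rigid overgroup. -/
theorem Rig.false_of_two (ht : 10 ≤ t) (h2 : (2 : F) = 0) {g : GL (Fin n) F} (hg : g ∈ M)
    (hgs : g ∉ Cfsg.Geo.decompositionStabilizer D) : False := by
  classical
  have P := R.frame
  have hf := P.unit
  have hgi := R.isometry hg
  let a : Fin t := ⟨0, by omega⟩
  let b : Fin t := ⟨1, by omega⟩
  have hab : a ≠ b := by simp [a, b, Fin.ext_iff]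
  obtain ⟨hq, -, -, -, hdet⟩ := P.swap_vec hab (c := 1) (by simp)
  have hneg : (-1 : F) = 1 := by linear_combination -h2
  have hTM : qr f (-1) (e a - (1 : F) • e b) ∈ M :=
    R.le ⟨P.swap_stab hab (by simp), kGrp_of hf (qr_iso hf hq) (hdet.trans hneg)⟩
  set u := (g : Matrix (Fin n) (Fin n) F) *ᵥ (e a - (1 : F) • e b) with hu
  have hqu : QCond σ f (-1) u := qcond_map hf hgi hq
  have hTu : qr f (-1) u ∈ M := by
    rw [hu, ← qr_conj hf hgi hq]
    exact M.mul_mem (M.mul_mem hg hTM) (M.inv_mem hg)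
  have hfull : ∀ l, f u (e l) ≠ 0 := by
    intro l hl
    have hs := P.supp_one hqu (by simp) (R.fix_stab hTu (a := l) (qr_fix hf hqu (Unit.eq_zero_comm hf hl)))
    refine R.sparse ht hg hgs hab 1 ?_
    rw [hu, mulVec_sub, mulVec_smul] at hs
    omega
  obtain ⟨Q⟩ := exists_quad (t := t) (S := (∅ : Finset (Fin t))) (by simp; omega)
  obtain ⟨c, hc, hc0, hc1, hsum⟩ := P.exists_weights Q (y := u) (fun i => ⟨hfull _, hfull _⟩) (T := 1) (map_one σ)
  obtain ⟨δ, hδ, hδm⟩ := P.exists_delta Q hc (by decide)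
  set su := ∑ i, f u (pv e Q c i) • pv e Q c i with hs0
  have huu : f u u = 0 := by
    rw [hu, hgi]
    simp only [Unit.sub_left hf, Unit.sub_right hf, Unit.smul_left hf, Unit.smul_right hf, P.norm, P.orth hab,
      P.orth (Ne.symm hab), map_one]
    linear_combination h2
  have hδu : (δ : Matrix (Fin n) (Fin n) F) *ᵥ u = u - su := hδm u
  have hpair : f ((δ : Matrix (Fin n) (Fin n) F) *ᵥ u) u = -1 := by
    rw [hδu, Unit.sub_left hf, huu, hs0, (Unit.sesq hf).sum_left, ← hsum, zero_sub]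
    congr 1
    exact Finset.sum_congr rfl fun i _ => Unit.smul_left hf _ _ _
  have hδi : Symp.IsIsometry f δ := hδ.2.1
  have hqδ : QCond σ f (-1) ((δ : Matrix (Fin n) (Fin n) F) *ᵥ u) := qcond_map hf hδi hqu
  have hTd : qr f (-1) ((δ : Matrix (Fin n) (Fin n) F) *ᵥ u) ∈ M := by
    rw [← qr_conj hf hδi hqu]
    exact M.mul_mem (M.mul_mem (R.le hδ) hTu) (M.inv_mem (R.le hδ))
  have hnew : (qr f (-1) u : Matrix (Fin n) (Fin n) F) *ᵥ ((δ : Matrix (Fin n) (Fin n) F) *ᵥ u) = -su := by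
    rw [qr_mulVec hf hqu, hpair, neg_mul_neg, one_mul, one_smul, hδu, show u - su + u = (2 : F) • u - su by module,
      h2, zero_smul, zero_sub]
  have hqn : QCond σ f (-1) (-su) := by rw [← hnew]; exact qcond_map hf (qr_iso hf hqu) hqδ
  have hTn : qr f (-1) (-su) ∈ M := by
    rw [← hnew, ← qr_conj hf (qr_iso hf hqu) hqδ]
    exact M.mul_mem (M.mul_mem hTu hTd) (M.inv_mem hTu)
  have hco : ∀ l, f (-su) (e l) = -f su (e l) := fun l => by rw [(Unit.sesq hf).neg_left]
  obtain ⟨l, hl⟩ : ∃ l, l ∉ (Finset.univ.image Q.p ∪ Finset.univ.image Q.r) := P.exists_notMem (by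
      have h2 := Finset.card_union_le (Finset.univ.image Q.p) (Finset.univ.image Q.r)
      have h3 := Finset.card_image_le (s := (Finset.univ : Finset (Fin 4))) (f := Q.p)
      have h4 := Finset.card_image_le (s := (Finset.univ : Finset (Fin 4))) (f := Q.r)
      simp only [Finset.card_univ, Fintype.card_fin] at h3 h4
      omega)
  simp only [Finset.mem_union, Finset.mem_image, Finset.mem_univ, true_and, not_or, not_exists] at hl
  have hstab := R.fix_stab hTn (a := l) (qr_fix hf hqn (Unit.eq_zero_comm hf (by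
    rw [hco, hs0, P.delta_zero Q u fun i => ⟨Ne.symm (hl.1 i), Ne.symm (hl.2 i)⟩, neg_zero])))
  have hsupp := P.supp_one hqn (by simp) hstab
  have h3 : ({Q.p 0, Q.r 0, Q.p 1} : Finset (Fin t)) ⊆ sp f e (-su) := by
    intro z hz
    simp only [Finset.mem_insert, Finset.mem_singleton] at hz
    rw [mem_sp, hco, neg_ne_zero, hs0]
    rcases hz with rfl | rfl | rfl
    · rw [(P.delta_coord Q hc u 0).1]; exact hc0
    · rw [(P.delta_coord Q hc u 0).2, neg_ne_zero]
      exact mul_ne_zero hc0 fun h => by simpa [h] using hc 0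
    · rw [(P.delta_coord Q hc u 1).1]; exact hc1
  have h4 := Finset.card_le_card h3
  rw [Finset.card_insert_of_notMem (by simp [Q.p_ne, Q.p_inj.ne (show (0 : Fin 4) ≠ 1 by decide)]),
    Finset.card_pair (Ne.symm (Q.p_ne 1 0))] at h4
  omega

end CfsgLib.GeomClasses.UnitFrame
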