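import Cfsg.Agent.Lib.GeomClasses.UnitOrthRat

/-!
Orthogonal subfield groups are maximal inside special unitary groups, in odd characteristic.
-/

set_option autoImplicit false
set_option linter.unusedSectionVars false

namespace CfsgLib.GeomClasses.UnitOrth

open Matrix SympRoot

variable {n : ℕ} {F : Type*} [Field F] [Fintype F] {σ : F ≃+* F} {f : (Fin n → F) → (Fin n → F) → F}
  {F₀ : Subfield F}

/-- The map `x ↦ x + f(x,u) w + (γ f(x,u) − f(x,w)) u` for isotropic `u` orthogonal to `w`. -/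
noncomputable def root (f : (Fin n → F) → (Fin n → F) → F) (u w : Fin n → F) (γ : F) : GL (Fin n) F :=
  tv w (fVec f u) * tv u (γ • fVec f u - fVec f w)

variable (hf : Cfsg.Geo.IsUnitaryForm σ f)
include hf

theorem root_mulVec {u w : Fin n → F} (hu : f u u = 0) (huw : f u w = 0) (γ : F) (x : Fin n → F) :
    (root f u w γ : Matrix (Fin n) (Fin n) F) *ᵥ x = x + f x u • w + (γ * f x u - f x w) • u := by
  have hwu := Unit.eq_zero_comm hf huw
  have h1 : fVec f u ⬝ᵥ w = 0 := by rw [(Unit.sesq hf).fVec_dot, hwu]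
  have h2 : (γ • fVec f u - fVec f w) ⬝ᵥ u = 0 := by
    rw [sub_dotProduct, smul_dotProduct, (Unit.sesq hf).fVec_dot, (Unit.sesq hf).fVec_dot, hu, huw,
      smul_zero, sub_zero]
  rw [root, gl_mul_mulVec, tv_mulVec h2, tv_mulVec h1, (Unit.sesq hf).fVec_dot, sub_dotProduct, smul_dotProduct,
    (Unit.sesq hf).fVec_dot, (Unit.sesq hf).fVec_dot, Unit.add_left hf, Unit.smul_left hf, hu, mul_zero,
    add_zero, smul_eq_mul]
  abel

theorem root_mul {u w w' : Fin n → F} (hu : f u u = 0) (h : f u w = 0) (h' : f u w' = 0) (γ γ' : F) :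
    root f u w γ * root f u w' γ' = root f u (w + w') (γ + γ' - f w' w) := by
  refine gl_ext fun x => ?_
  have h2 := Unit.eq_zero_comm hf h'
  rw [gl_mul_mulVec, root_mulVec hf hu h, root_mulVec hf hu h',
    root_mulVec hf hu (show f u (w + w') = 0 by rw [Unit.add_right hf, h, h', add_zero])]
  simp only [Unit.add_left hf, Unit.smul_left hf, Unit.add_right hf, hu, h, h2, mul_zero, add_zero]
  match_scalars <;> ring

theorem root_zero {u : Fin n → F} (hu : f u u = 0) (γ : F) : root f u 0 γ = formTv f u γ := by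
  refine gl_ext fun x => ?_
  rw [root_mulVec hf hu (Unit.zero_right hf u), Unit.formTv_mulVec hf hu, Unit.zero_right hf]
  simp

theorem root_inv {u w : Fin n → F} (hu : f u u = 0) (h : f u w = 0) (γ : F) :
    (root f u w γ)⁻¹ = root f u (-w) (-γ - f w w) := by
  have hn : f u (-w) = 0 := by rw [← neg_one_smul F w, Unit.smul_right hf, h, mul_zero]
  refine inv_eq_of_mul_eq_one_right ?_
  rw [root_mul hf hu h hn, add_neg_cancel, root_zero hf hu]
  refine gl_ext fun x => ?_
  rw [Unit.formTv_mulVec hf hu, (Unit.sesq hf).neg_left, show γ + (-γ - f w w) - -f w w = 0 by ring]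
  simp

theorem root_conj {g : GL (Fin n) F} (hg : Symp.IsIsometry f g) {u w : Fin n → F} (hu : f u u = 0)
    (huw : f u w = 0) (γ : F) :
    g * root f u w γ * g⁻¹ = root f ((g : Matrix (Fin n) (Fin n) F) *ᵥ u)
      ((g : Matrix (Fin n) (Fin n) F) *ᵥ w) γ := by
  refine gl_ext fun y => ?_
  obtain ⟨x, rfl⟩ : ∃ x, y = (g : Matrix (Fin n) (Fin n) F) *ᵥ x :=
    ⟨((g⁻¹ : GL (Fin n) F) : Matrix (Fin n) (Fin n) F) *ᵥ y, (gl_mulVec_inv_mulVec g y).symm⟩
  rw [gl_mul_mulVec, gl_mul_mulVec, gl_inv_mulVec_mulVec, root_mulVec hf hu huw,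
    root_mulVec hf (by rw [hg, hu]) (by rw [hg, huw]), mulVec_add, mulVec_add, mulVec_smul, mulVec_smul, hg, hg]

theorem root_scale {u w : Fin n → F} (hu : f u u = 0) (huw : f u w = 0) {c : F} (hc : c ≠ 0) (γ : F) :
    root f u (c • w) γ = root f (σ c • u) w (γ / (c * σ c)) := by
  refine gl_ext fun x => ?_
  rw [root_mulVec hf hu (by rw [Unit.smul_right hf, huw, mul_zero]),
    root_mulVec hf (by rw [Unit.smul_left hf, Unit.smul_right hf, hu, mul_zero, mul_zero])
      (by rw [Unit.smul_left hf, huw, mul_zero]), Unit.smul_right hf, Unit.smul_right hf, hf.involutive]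
  have hσc : σ c ≠ 0 := (RingEquiv.map_ne_zero_iff σ).2 hc
  match_scalars <;> field_simp

theorem root_shift {u w : Fin n → F} (hu : f u u = 0) (huw : f u w = 0) (μ γ : F) :
    root f u (w + μ • u) γ = root f u w (γ + μ - σ μ) := by
  refine gl_ext fun x => ?_
  rw [root_mulVec hf hu (by rw [Unit.add_right hf, Unit.smul_right hf, huw, hu, mul_zero, add_zero]),
    root_mulVec hf hu huw, Unit.add_right hf, Unit.smul_right hf]
  match_scalars <;> ring

theorem root_isometry {u w : Fin n → F} (hu : f u u = 0) (huw : f u w = 0) {γ : F}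
    (hγ : γ + σ γ = - f w w) : Symp.IsIsometry f (root f u w γ) := by
  intro x y
  have hwu := Unit.eq_zero_comm hf huw
  rw [root_mulVec hf hu huw, root_mulVec hf hu huw]
  simp only [Unit.add_left hf, Unit.add_right hf, Unit.smul_left hf, Unit.smul_right hf, hu, huw, hwu,
    map_sub, map_mul, Unit.conj_form hf]
  linear_combination (f x u * f u y) * hγ

omit hf

/-- The rational root element. -/
noncomputable def siegel (f : (Fin n → F) → (Fin n → F) → F) (u w : Fin n → F) : GL (Fin n) F :=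
  root f u w (- (f w w / 2))

/-- The conjugate vector. -/
def bar (σ : F ≃+* F) (x : Fin n → F) : Fin n → F := fun i => σ (x i)

variable (S : Setting σ f F₀)
include S

theorem bar_add (x y : Fin n → F) : bar σ (x + y) = bar σ x + bar σ y := funext fun i => by simp [bar]

theorem bar_smul (c : F) (x : Fin n → F) : bar σ (c • x) = σ c • bar σ x := funext fun i => by simp [bar]

theorem bar_rv {x : Fin n → F} (hx : Rv F₀ x) : bar σ x = x := funext fun i => (S.fixed _).2 (hx i)

theorem siegel_mulVec {u w : Fin n → F} (hu : f u u = 0) (huw : f u w = 0) (x : Fin n → F) :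
    (siegel f u w : Matrix (Fin n) (Fin n) F) *ᵥ x = x + f x u • w + (- (f w w / 2) * f x u - f x w) • u :=
  root_mulVec S.unit hu huw _ x

theorem siegel_isometry {u w : Fin n → F} (hw : Rv F₀ w) (hu : f u u = 0) (huw : f u w = 0) :
    Symp.IsIsometry f (siegel f u w) := by
  haveI : NeZero (2 : F) := ⟨S.two⟩
  refine root_isometry S.unit hu huw ?_
  rw [map_neg, map_div₀, (S.fixed _).2 (S.rat w w hw hw), show σ (2 : F) = 2 from map_ofNat σ 2, ← neg_add,
    add_halves]

theorem siegel_rv {u w : Fin n → F} (hu : Rv F₀ u) (hw : Rv F₀ w) (h : f u u = 0) (huw : f u w = 0)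
    {x : Fin n → F} (hx : Rv F₀ x) : Rv F₀ ((siegel f u w : Matrix (Fin n) (Fin n) F) *ᵥ x) := by
  rw [siegel_mulVec S h huw]
  exact (hx.add (hw.smul (S.rat _ _ hx hu))).add (hu.smul (F₀.sub_mem (F₀.mul_mem
    (F₀.neg_mem (F₀.div_mem (S.rat _ _ hw hw) (ofNat_mem F₀ 2))) (S.rat _ _ hx hu)) (S.rat _ _ hx hw)))

omit S

/-- An overgroup of the rational root elements consisting of isometries. -/
structure Over (σ : F ≃+* F) (f : (Fin n → F) → (Fin n → F) → F) (F₀ : Subfield F) (θ : F)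
    (M : Subgroup (GL (Fin n) F)) : Prop extends Setting σ f F₀ where
  isometry : ∀ g ∈ M, Symp.IsIsometry f g
  mem : ∀ u w, Rv F₀ u → Rv F₀ w → f u u = 0 → f u w = 0 → siegel f u w ∈ M
  theta_ne : θ ≠ 0
  theta : σ θ = -θ

variable {θ : F} {M : Subgroup (GL (Fin n) F)} (O : Over σ f F₀ θ M)
include O

theorem theta_notMem : θ ∉ F₀ := fun h => by
  have := (O.fixed θ).2 h
  rw [O.theta] at this
  exact mul_ne_zero O.two O.theta_ne (by linear_combination -this)

theorem two_mem : (2 : F) ∈ F₀ := ofNat_mem F₀ 2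

theorem delta_mem : θ * θ ∈ F₀ := (O.fixed _).1 (by rw [map_mul, O.theta]; ring)

theorem theta_indep {s t : F} (hs : s ∈ F₀) (ht : t ∈ F₀) (h : s + θ * t = 0) : s = 0 ∧ t = 0 := by
  by_cases ht0 : t = 0
  · subst ht0
    exact ⟨by simpa using h, rfl⟩
  exfalso
  refine theta_notMem O ?_
  rw [show θ = -s / t by rw [eq_div_iff ht0]; linear_combination h]
  exact F₀.div_mem (F₀.neg_mem hs) ht

theorem decomp (x : Fin n → F) : ∃ a b, Rv F₀ a ∧ Rv F₀ b ∧ x = a + θ • b := by
  have h2 := O.two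
  have hθ := O.theta_ne
  have hσ2 : ∀ a, σ (σ a) = a := O.unit.involutive
  refine ⟨fun i => (x i + σ (x i)) / 2, fun i => (x i - σ (x i)) / (2 * θ), fun i => (O.fixed _).1 ?_,
    fun i => (O.fixed _).1 ?_, funext fun i => ?_⟩
  · rw [map_div₀, map_add, hσ2, show σ (2 : F) = 2 from map_ofNat σ 2, add_comm]
  · rw [map_div₀, map_sub, map_mul, hσ2, show σ (2 : F) = 2 from map_ofNat σ 2, O.theta, mul_neg, div_neg,
      ← neg_div, neg_sub]
  · simp only [Pi.add_apply, Pi.smul_apply, smul_eq_mul]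
    field_simp
    ring

theorem form_bar {a b : Fin n → F} (ha : Rv F₀ a) (hb : Rv F₀ b) :
    f (a + θ • b) (bar σ (a + θ • b)) = f a a + 2 * θ * f a b + θ * θ * f b b := by
  have hf := O.unit
  rw [bar_add O.toSetting, bar_smul O.toSetting, bar_rv O.toSetting ha, bar_rv O.toSetting hb, O.theta]
  simp only [Unit.add_left hf, Unit.add_right hf, Unit.smul_left hf, Unit.smul_right hf, map_neg, O.theta,
    O.toSetting.symm hb ha]
  ring

theorem form_self {a b : Fin n → F} (ha : Rv F₀ a) (hb : Rv F₀ b) (h : f (a + θ • b) (a + θ • b) = 0) :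
    f a a = θ * θ * f b b := by
  have hf := O.unit
  simp only [Unit.add_left hf, Unit.add_right hf, Unit.smul_left hf, Unit.smul_right hf, O.theta,
    O.toSetting.symm hb ha] at h
  linear_combination h

/-- A rational vector in the kernel of both coordinates of an isotropic vector. -/
theorem form_right {a b w : Fin n → F} (hw : Rv F₀ w) (ha : Rv F₀ a) (hb : Rv F₀ b) (h1 : f w a = 0)
    (h2 : f w b = 0) : f (a + θ • b) w = 0 := by
  rw [Unit.add_left O.unit, Unit.smul_left O.unit, O.toSetting.symm ha hw, O.toSetting.symm hb hw, h1, h2,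
    mul_zero, add_zero]

theorem pi_unique {a b : Fin n → F} (ha : Rv F₀ a) (hb : Rv F₀ b) (hv : f (a + θ • b) (a + θ • b) = 0)
    (hns : f (a + θ • b) (bar σ (a + θ • b)) ≠ 0) :
    f a b - θ * f b b ≠ 0 ∧ f b (a + θ • b) ≠ 0 ∧ f a a * f b b - f a b * f a b ≠ 0 := by
  have hf := O.unit
  have hα := form_self O ha hb hv
  rw [form_bar O ha hb, hα] at hns
  have key : f a b = 0 → f b b = 0 → False := fun h1 h2 => hns (by rw [h1, h2]; ring)
  have h1 : f a b - θ * f b b ≠ 0 := fun h => by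
    obtain ⟨e1, e2⟩ := theta_indep O (O.rat a b ha hb) (F₀.neg_mem (O.rat b b hb hb))
      (show f a b + θ * -(f b b) = 0 by linear_combination h)
    exact key e1 (neg_eq_zero.1 e2)
  have h2 : f a b + θ * f b b ≠ 0 := fun h => by
    obtain ⟨e1, e2⟩ := theta_indep O (O.rat a b ha hb) (O.rat b b hb hb) h
    exact key e1 e2
  refine ⟨h1, ?_, ?_⟩
  · rw [Unit.add_right hf, Unit.smul_right hf, O.theta, O.toSetting.symm hb ha]
    intro h
    exact h1 (by linear_combination h)
  · intro h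
    rw [hα] at h
    exact mul_ne_zero h1 h2 (by linear_combination -h)

theorem notMem_plane {a b y : Fin n → F} (ha : Rv F₀ a) (hb : Rv F₀ b) (hv : f (a + θ • b) (a + θ • b) = 0)
    (hns : f (a + θ • b) (bar σ (a + θ • b)) ≠ 0) (h1 : f y a = 0) (h2 : f y b = 0) (hy : y ≠ 0) :
    y ∉ Submodule.span F {a, b} := by
  intro hmem
  obtain ⟨r, s, rfl⟩ := Submodule.mem_span_pair.1 hmem
  obtain ⟨-, -, hD⟩ := pi_unique O ha hb hv hns
  simp only [Unit.add_left O.unit, Unit.smul_left O.unit, O.toSetting.symm hb ha] at h1 h2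
  have hr : r * (f a a * f b b - f a b * f a b) = 0 := by linear_combination f b b * h1 - f a b * h2
  have hs : s * (f a a * f b b - f a b * f a b) = 0 := by linear_combination f a a * h2 - f a b * h1
  exact hy (by rw [(mul_eq_zero.1 hr).resolve_right hD, (mul_eq_zero.1 hs).resolve_right hD]; simp)

theorem split_plane_aux {a b : Fin n → F} (ha : Rv F₀ a) (hb : Rv F₀ b) (hv : f (a + θ • b) (a + θ • b) = 0)
    (hns : f (a + θ • b) (bar σ (a + θ • b)) ≠ 0) {y : Fin n → F} (hy : Rv F₀ y) :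
    ∃ r s p, r ∈ F₀ ∧ s ∈ F₀ ∧ Rv F₀ p ∧ f p a = 0 ∧ f p b = 0 ∧ y = p + r • a + s • b := by
  obtain ⟨-, -, hD⟩ := pi_unique O ha hb hv hns
  set D := f a a * f b b - f a b * f a b with hDdef
  have hDF : D ∈ F₀ := F₀.sub_mem (F₀.mul_mem (O.rat _ _ ha ha) (O.rat _ _ hb hb))
    (F₀.mul_mem (O.rat _ _ ha hb) (O.rat _ _ ha hb))
  set r := (f b b * f y a - f a b * f y b) / D with hr
  set s := (f a a * f y b - f a b * f y a) / D with hs
  have hrF : r ∈ F₀ := F₀.div_mem (F₀.sub_mem (F₀.mul_mem (O.rat _ _ hb hb) (O.rat _ _ hy ha))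
    (F₀.mul_mem (O.rat _ _ ha hb) (O.rat _ _ hy hb))) hDF
  have hsF : s ∈ F₀ := F₀.div_mem (F₀.sub_mem (F₀.mul_mem (O.rat _ _ ha ha) (O.rat _ _ hy hb))
    (F₀.mul_mem (O.rat _ _ ha hb) (O.rat _ _ hy ha))) hDF
  have hrD : r * D = f b b * f y a - f a b * f y b := div_mul_cancel₀ _ hD
  have hsD : s * D = f a a * f y b - f a b * f y a := div_mul_cancel₀ _ hD
  clear_value r s
  refine ⟨r, s, y - r • a - s • b, hrF, hsF, (hy.sub (ha.smul hrF)).sub (hb.smul hsF), ?_, ?_, by abel⟩
  · rw [Unit.sub_left O.unit, Unit.sub_left O.unit, Unit.smul_left O.unit, Unit.smul_left O.unit,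
      O.toSetting.symm hb ha]
    refine mul_left_cancel₀ hD ?_
    linear_combination (-(f a a)) * hrD - f a b * hsD + f y a * hDdef
  · rw [Unit.sub_left O.unit, Unit.sub_left O.unit, Unit.smul_left O.unit, Unit.smul_left O.unit]
    refine mul_left_cancel₀ hD ?_
    linear_combination (-(f a b)) * hrD - f b b * hsD + f y b * hDdef

/-- Stage one: a root element with two independent components gives a transvection. -/
theorem tv_of_root {a b x₁ x₂ : Fin n → F} (ha : Rv F₀ a) (hb : Rv F₀ b) (hx1 : Rv F₀ x₁) (hx2 : Rv F₀ x₂)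
    (hv : f (a + θ • b) (a + θ • b) = 0) (hns : f (a + θ • b) (bar σ (a + θ • b)) ≠ 0)
    (hvx : f (a + θ • b) (x₁ + θ • x₂) = 0) (hx2' : x₂ ∉ Submodule.span F {a, b})
    (hx1' : x₁ ∉ Submodule.span F {a, b, x₂}) {γ : F} (h : root f (a + θ • b) (x₁ + θ • x₂) γ ∈ M) :
    ∃ c, c + σ c = 0 ∧ c ≠ 0 ∧ formTv f (a + θ • b) c ∈ M := by
  have hf := O.unit
  have hS := O.toSetting
  have hrange : Set.range (![a, b] : Fin 2 → Fin n → F) = {a, b} := by simp [Set.pair_comm]
  have h6 := hS.six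
  have hnd : ∀ y ∈ Submodule.span F (Set.range ![a, b]), (∀ i, f y ((![a, b] : Fin 2 → Fin n → F) i) = 0) → y = 0 := by
    intro y hy h
    by_contra hy0
    exact notMem_plane O ha hb hv hns (h 0) (h 1) hy0 (hrange ▸ hy)
  obtain ⟨s', hs', hss', hs'a, hs'b, hsL, hsN⟩ : ∃ s', Rv F₀ s' ∧ f s' s' = 0 ∧ f s' a = 0 ∧ f s' b = 0 ∧
      s' ∉ Submodule.span F (Set.range ![a, b, x₁, x₂]) ∧ ¬ (f s' x₁ = 0 ∧ f s' x₂ = 0) := by
    by_contra hno
    push Not at hno
    obtain ⟨s, hs, hs0, hss, hsd⟩ := exists_singular_orth hS (k := 2) (by omega) ![a, b]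
      (fun i => by fin_cases i <;> assumption)
    obtain ⟨t, ht, htt, htd, hts⟩ := exists_singular_ne_nd hS (k := 2) (by omega) ![a, b]
      (fun i => by fin_cases i <;> assumption) hnd hs (fun h => hs0 (hnd s h hsd))
    have hsa : f s a = 0 := hsd 0
    have hsb : f s b = 0 := hsd 1
    have hta : f t a = 0 := htd 0
    have htb : f t b = 0 := htd 1
    have hst : f s t ≠ 0 := by rwa [hS.symm hs ht]
    have hall : ∀ U : Submodule F (Fin n → F), s ∈ U →
        (∀ y, Rv F₀ y → f y y = 0 → f y a = 0 → f y b = 0 → f y s ≠ 0 → y ∈ U) →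
        ∀ z, Rv F₀ z → f z a = 0 → f z b = 0 → z ∈ U := by
      intro U hsU hU z hz hza hzb
      have htU := hU t ht htt hta htb hts
      have hα : f z t / f s t ∈ F₀ := F₀.div_mem (O.rat _ _ hz ht) (O.rat _ _ hs ht)
      have hβ : f z s / f t s ∈ F₀ := F₀.div_mem (O.rat _ _ hz hs) (O.rat _ _ ht hs)
      set r := z - (f z t / f s t) • s - (f z s / f t s) • t with hr
      have hrR : Rv F₀ r := (hz.sub (hs.smul hα)).sub (ht.smul hβ)
      have hrs : f r s = 0 := by
        simp only [hr, Unit.sub_left hf, Unit.smul_left hf, hss]; field_simp; ring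
      have hrt : f r t = 0 := by
        simp only [hr, Unit.sub_left hf, Unit.smul_left hf, htt]; field_simp; ring
      set k := - f r r / (2 * f s t) with hk
      have hkF : k ∈ F₀ := F₀.div_mem (F₀.neg_mem (O.rat _ _ hrR hrR)) (F₀.mul_mem (two_mem O) (O.rat _ _ hs ht))
      have hk2 : k * (2 * f s t) = - f r r := by rw [hk, div_mul_cancel₀ _ (mul_ne_zero O.two hst)]
      clear_value k
      have hy := hU (t + r + k • s) ((ht.add hrR).add (hs.smul hkF)) (by
          simp only [Unit.add_left hf, Unit.add_right hf, Unit.smul_left hf, hS.smul_right' hkF, htt, hss, hrs, hrt,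
            hS.symm ht hrR, hS.symm hs hrR, hS.symm ht hs]
          linear_combination hk2)
        (by simp [hr, Unit.add_left hf, Unit.sub_left hf, Unit.smul_left hf, hta, hsa, hza])
        (by simp [hr, Unit.add_left hf, Unit.sub_left hf, Unit.smul_left hf, htb, hsb, hzb])
        (by simp [Unit.add_left hf, Unit.smul_left hf, hrs, hss, hts])
      have hrU : r ∈ U := by
        have := U.sub_mem (U.sub_mem hy (U.smul_mem k hsU)) htU
        rwa [show t + r + k • s - k • s - t = r by abel] at this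
      have := U.add_mem (U.add_mem hrU (U.smul_mem (f z t / f s t) hsU)) (U.smul_mem (f z s / f t s) htU)
      rwa [show r + (f z t / f s t) • s + (f z s / f t s) • t = z by rw [hr]; abel] at this
    set L := Submodule.span F (Set.range ![a, b, x₁, x₂]) with hL
    have hLs : ∀ y, Rv F₀ y → ∀ w ∈ L, f y a = 0 → f y b = 0 → f y x₁ = 0 → f y x₂ = 0 → f y w = 0 := by
      intro y hy w hw h1 h2 h3 h4
      induction hw using Submodule.span_induction with
      | mem u hu => obtain ⟨i, rfl⟩ := hu; fin_cases i <;> assumption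
      | zero => exact Unit.zero_right hf _
      | add u u' _ _ e1 e2 => rw [Unit.add_right hf, e1, e2, add_zero]
      | smul c u _ e1 => rw [Unit.smul_right hf, e1, mul_zero]
    by_cases hsL : s ∈ L
    · have hLtop : ∀ z, Rv F₀ z → z ∈ L := by
        intro z hz
        obtain ⟨r, r', p, -, -, hp, hpa, hpb, he⟩ := split_plane_aux O ha hb hv hns hz
        have hpL := hall L hsL (fun y hy hyy hya hyb hys => by
          by_contra hyn
          obtain ⟨e1, e2⟩ := hno y hy hyy hya hyb hyn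
          exact hys (hLs y hy s hsL hya hyb e1 e2)) p hp hpa hpb
        rw [he]
        exact L.add_mem (L.add_mem hpL (L.smul_mem _ (Submodule.subset_span ⟨0, rfl⟩)))
          (L.smul_mem _ (Submodule.subset_span ⟨1, rfl⟩))
      have htop : L = ⊤ := top_unique fun z _ => by
        rw [pi_eq_sum_univ' z]
        exact L.sum_mem fun i _ => L.smul_mem _ (hLtop _ (Rv.single i))
      have h4 := finrank_range_le_card (R := F) ![a, b, x₁, x₂]
      rw [Set.finrank, ← hL, htop, finrank_top, Module.finrank_fintype_fun_eq_card, Fintype.card_fin,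
        Fintype.card_fin] at h4
      omega
    · obtain ⟨e1, e2⟩ := hno s hs hss hsa hsb hsL
      let N : Submodule F (Fin n → F) :=
        { carrier := {y | f y x₂ = 0}
          zero_mem' := Unit.zero_left hf _
          add_mem' := fun {u u'} h h' => by
            show f (u + u') x₂ = 0
            rw [Unit.add_left hf, show f u x₂ = 0 from h, show f u' x₂ = 0 from h', add_zero]
          smul_mem' := fun c u h => by
            show f (c • u) x₂ = 0
            rw [Unit.smul_left hf, show f u x₂ = 0 from h, mul_zero] }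
      obtain ⟨z, hz, hzd, hzx⟩ := exists_orth_ne hS ![a, b] (fun i => by fin_cases i <;> assumption) hx2
        (hrange ▸ hx2')
      refine hzx (hall N e2 (fun y hy hyy hya hyb hys => ?_) z hz (hzd 0) (hzd 1))
      by_contra hyn
      have hyL : y ∈ L := by
        by_contra h
        exact hyn (hno y hy hyy hya hyb h).2
      exact hys (by rw [hS.symm hy hs]; exact hLs s hs y hyL hsa hsb e1 e2)
  set w := f s' x₂ • x₁ - f s' x₁ • x₂ with hw
  have hwR : Rv F₀ w := (hx1.smul (O.rat _ _ hs' hx2)).sub (hx2.smul (O.rat _ _ hs' hx1))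
  obtain ⟨z, hz, hzd, hzw⟩ := exists_orth_ne hS ![a, b, s'] (fun i => by fin_cases i <;> assumption) hwR (by
    intro hin
    obtain ⟨c, hc⟩ := (Submodule.mem_span_range_iff_exists_fun F).1 hin
    rw [Fin.sum_univ_three] at hc
    have hc' : c 0 • a + c 1 • b + c 2 • s' = w := hc
    by_cases h2 : c 2 = 0
    · rw [h2, zero_smul, add_zero] at hc'
      by_cases h3 : f s' x₂ = 0
      · have h4 : f s' x₁ ≠ 0 := fun h => hsN ⟨h, h3⟩
        refine hx2' ?_
        rw [hw, h3, zero_smul, zero_sub] at hc'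
        have hm : f s' x₁ • x₂ ∈ Submodule.span F {a, b} := Submodule.mem_span_pair.2 ⟨-c 0, -c 1, by
          rw [← neg_neg (f s' x₁ • x₂), ← hc']; module⟩
        exact (Submodule.smul_mem_iff _ h4).1 hm
      · refine hx1' ?_
        have e1 : f s' x₂ • x₁ = c 0 • a + c 1 • b + f s' x₁ • x₂ := by rw [hc', hw]; abel
        refine (Submodule.smul_mem_iff _ h3).1 (e1 ▸ ?_)
        exact Submodule.add_mem _ (Submodule.add_mem _ (Submodule.smul_mem _ _ (Submodule.subset_span (by simp)))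
          (Submodule.smul_mem _ _ (Submodule.subset_span (by simp)))) (Submodule.smul_mem _ _ (Submodule.subset_span (by simp)))
    · refine hsL ((Submodule.smul_mem_iff _ h2).1 ?_)
      have e1 : c 2 • s' = (f s' x₂) • x₁ + (-f s' x₁) • x₂ + (-c 0) • a + (-c 1) • b := by
        rw [hw] at hc'
        rw [show c 2 • s' = c 0 • a + c 1 • b + c 2 • s' - c 0 • a - c 1 • b by abel, hc']
        module
      rw [e1]
      refine Submodule.add_mem _ (Submodule.add_mem _ (Submodule.add_mem _ ?_ ?_) ?_) ?_ <;>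
        refine Submodule.smul_mem _ _ (Submodule.subset_span ?_)
      exacts [⟨2, rfl⟩, ⟨3, rfl⟩, ⟨0, rfl⟩, ⟨1, rfl⟩])
  have hza : f z a = 0 := hzd 0
  have hzb : f z b = 0 := hzd 1
  have hsz : f s' z = 0 := by rw [hS.symm hs' hz]; exact hzd 2
  have hh := O.mem s' z hs' hz hss' hsz
  have hvs : f (a + θ • b) s' = 0 := form_right O hs' ha hb hs'a hs'b
  have hvz : f (a + θ • b) z = 0 := form_right O hz ha hb hza hzb
  have hfix : (siegel f s' z : Matrix (Fin n) (Fin n) F) *ᵥ (a + θ • b) = a + θ • b := by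
    rw [siegel_mulVec hS hss' hsz, hvs, hvz]; simp
  have h1 := M.mul_mem (M.mul_mem hh h) (M.inv_mem hh)
  rw [root_conj hf (O.isometry _ hh) hv hvx, hfix] at h1
  set x := x₁ + θ • x₂ with hx
  clear_value x
  set y := (siegel f s' z : Matrix (Fin n) (Fin n) F) *ᵥ x with hy
  have hvy : f (a + θ • b) y = 0 := by rw [← hfix, hy, O.isometry _ hh, hvx]
  have h2 := M.mul_mem (M.mul_mem h h1) (M.inv_mem (M.mul_mem h1 h))
  have hxy : f (a + θ • b) (y + x) = 0 := by rw [Unit.add_right hf, hvy, hvx, add_zero]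
  rw [root_mul hf hv hvx hvy, root_mul hf hv hvy hvx, root_inv hf hv hxy,
    root_mul hf hv (by rw [Unit.add_right hf, hvx, hvy, add_zero])
      (by rw [← neg_one_smul F (y + x), Unit.smul_right hf, hxy, mul_zero]),
    add_comm y x, add_neg_cancel, root_zero hf hv, (Unit.sesq hf).neg_left] at h2
  have hval : γ + γ - f y x + (-(γ + γ - f x y) - f (x + y) (x + y)) - -f (x + y) (x + y) = f x y - f y x := by
    ring
  rw [hval] at h2
  refine ⟨_, ?_, ?_, h2⟩
  · rw [map_sub, Unit.conj_form hf, Unit.conj_form hf]; ring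
  have e1 : f x s' = f s' x₁ + θ * f s' x₂ := by
    rw [hx, Unit.add_left hf, Unit.smul_left hf, hS.symm hx1 hs', hS.symm hx2 hs']
  have e2 : f x z = f z x₁ + θ * f z x₂ := by
    rw [hx, Unit.add_left hf, Unit.smul_left hf, hS.symm hx1 hz, hS.symm hx2 hz]
  have e3 : f s' x = f s' x₁ - θ * f s' x₂ := by
    rw [← Unit.conj_form hf, e1, map_add, map_mul, O.theta, (O.fixed _).2 (O.rat _ _ hs' hx1),
      (O.fixed _).2 (O.rat _ _ hs' hx2)]
    ring
  have e4 : f z x = f z x₁ - θ * f z x₂ := by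
    rw [← Unit.conj_form hf, e2, map_add, map_mul, O.theta, (O.fixed _).2 (O.rat _ _ hz hx1),
      (O.fixed _).2 (O.rat _ _ hz hx2)]
    ring
  have hzz : σ (f z z / 2) = f z z / 2 := (O.fixed _).2 (F₀.div_mem (O.rat _ _ hz hz) (two_mem O))
  have f1 := (O.fixed _).2 (O.rat _ _ hs' hx1)
  have f4 := (O.fixed _).2 (O.rat _ _ hs' hx2)
  have f2 := (O.fixed _).2 (O.rat _ _ hz hx1)
  have f3 := (O.fixed _).2 (O.rat _ _ hz hx2)
  have key : f x y - f y x = (2 * 2 : F) * θ * (f s' x₁ * f z x₂ - f s' x₂ * f z x₁) := by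
    rw [hy, siegel_mulVec hS hss' hsz]
    simp only [Unit.add_left hf, Unit.add_right hf, Unit.smul_left hf, Unit.smul_right hf, map_sub, map_mul,
      map_neg, map_add, hzz, Unit.conj_form hf, e1, e2, e3, e4, O.theta, f1, f2, f3, f4,
      hS.symm hx1 hs', hS.symm hx2 hs', hS.symm hx1 hz, hS.symm hx2 hz]
    ring
  rw [key]
  refine mul_ne_zero (mul_ne_zero (mul_ne_zero O.two O.two) O.theta_ne) fun h0 => hzw ?_
  rw [hw, Unit.sub_right hf, hS.smul_right' (O.rat _ _ hs' hx2), hS.smul_right' (O.rat _ _ hs' hx1)]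
  linear_combination -h0

/-- Stage two: a root element along a rational direction. -/
theorem tv_of_rational_root {a b p : Fin n → F} (ha : Rv F₀ a) (hb : Rv F₀ b) (hp : Rv F₀ p)
    (hv : f (a + θ • b) (a + θ • b) = 0) (hns : f (a + θ • b) (bar σ (a + θ • b)) ≠ 0)
    (hpa : f p a = 0) (hpb : f p b = 0) (hp0 : p ≠ 0) {γ : F} (h : root f (a + θ • b) p γ ∈ M) :
    ∃ a' b', Rv F₀ a' ∧ Rv F₀ b' ∧ f (a' + θ • b') (a' + θ • b') = 0 ∧
      f (a' + θ • b') (bar σ (a' + θ • b')) ≠ 0 ∧ ∃ c, c + σ c = 0 ∧ c ≠ 0 ∧ formTv f (a' + θ • b') c ∈ M := by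
  have hf := O.unit
  have hS := O.toSetting
  have hrange : Set.range (![a, b] : Fin 2 → Fin n → F) = {a, b} := by simp [Set.pair_comm]
  obtain ⟨u, hu, huu, hud, hup⟩ := exists_singular_ne_nd hS (k := 2) (by have := hS.six; omega) ![a, b]
    (fun i => by fin_cases i <;> assumption) (fun y hy h => by_contra fun hy0 =>
      notMem_plane O ha hb hv hns (h 0) (h 1) hy0 (hrange ▸ hy)) hp (by rw [hrange]; exact notMem_plane O ha hb hv hns hpa hpb hp0)
  have hua : f u a = 0 := hud 0
  have hub : f u b = 0 := hud 1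
  obtain ⟨w', hw', hw'0, hwd⟩ := exists_orth' hS (k := 4) (by have := hS.six; omega) ![a, b, u, p]
    (fun i => by fin_cases i <;> assumption)
  have hwa : f w' a = 0 := hwd 0
  have hwb : f w' b = 0 := hwd 1
  have hwu : f w' u = 0 := hwd 2
  have hwp : f w' p = 0 := hwd 3
  set v := a + θ • b with hvdef
  have hvp : f v p = 0 := form_right O hp ha hb hpa hpb
  have hvu : f v u = 0 := form_right O hu ha hb hua hub
  have hvw : f v w' = 0 := form_right O hw' ha hb hwa hwb
  set e := f u p with he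
  have heF : e ∈ F₀ := O.rat u p hu hp
  set a₁ := u - e • a with ha1
  set b₁ := (-e) • b with hb1
  have ha1R : Rv F₀ a₁ := hu.sub (ha.smul heF)
  have hb1R : Rv F₀ b₁ := hb.smul (F₀.neg_mem heF)
  have hkv : (root f v p γ : Matrix (Fin n) (Fin n) F) *ᵥ u = a₁ + θ • b₁ := by
    rw [root_mulVec hf hv hvp, Unit.eq_zero_comm hf hvu, ← he, ha1, hb1, hvdef]
    module
  have hiso := O.isometry _ h
  have hv1 : f (a₁ + θ • b₁) (a₁ + θ • b₁) = 0 := by rw [← hkv, hiso, huu]
  have hns1 : f (a₁ + θ • b₁) (bar σ (a₁ + θ • b₁)) ≠ 0 := by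
    have : f (a₁ + θ • b₁) (bar σ (a₁ + θ • b₁)) = e * e * f v (bar σ v) := by
      rw [form_bar O ha1R hb1R, hvdef, form_bar O ha hb, ha1, hb1]
      simp only [Unit.sub_left hf, Unit.sub_right hf, Unit.smul_left hf, hS.smul_right' heF,
        hS.smul_right' (F₀.neg_mem heF), hS.symm ha hu, huu, hua, hub]
      ring
    rw [this]
    exact mul_ne_zero (mul_ne_zero hup hup) hns
  obtain ⟨w, hwR, hwau, t1, t2, ht1, ht2, ht20, hwv⟩ : ∃ w, Rv F₀ w ∧ f w u = 0 ∧ ∃ t1 t2, t1 ∈ F₀ ∧ t2 ∈ F₀ ∧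
      t2 ≠ 0 ∧ f w v = t1 + θ * t2 ∧ f w p = 0 ∧ w ∈ Submodule.span F {a, b} := by
    by_cases h0 : f a b = 0
    · refine ⟨b, hb, by rw [hS.symm hb hu, hub], f a b, -f b b, O.rat a b ha hb, F₀.neg_mem (O.rat b b hb hb),
        fun h1 => hns (by rw [hvdef, form_bar O ha hb, form_self O ha hb hv, h0, neg_eq_zero.1 h1]; ring), ?_,
        by rw [hS.symm hb hp, hpb], Submodule.subset_span (by simp)⟩
      rw [hvdef, Unit.add_right hf, Unit.smul_right hf, O.theta, hS.symm hb ha]; ring
    · refine ⟨a, ha, by rw [hS.symm ha hu, hua], f a a, -f a b, O.rat a a ha ha, F₀.neg_mem (O.rat a b ha hb),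
        neg_ne_zero.2 h0, ?_, by rw [hS.symm ha hp, hpa], Submodule.subset_span (by simp)⟩
      rw [hvdef, Unit.add_right hf, Unit.smul_right hf, O.theta]; ring
  obtain ⟨hwpp, hwP⟩ := hwv.2
  replace hwv := hwv.1
  obtain ⟨g1, g2, hg1, hg2, hγ⟩ : ∃ g1 g2, g1 ∈ F₀ ∧ g2 ∈ F₀ ∧ γ * (t1 + θ * t2) = g1 + θ * g2 := by
    obtain ⟨A, B, hA, hB, hAB⟩ := decomp O (Pi.single (⟨0, by have := O.six; omega⟩ : Fin n) (γ * (t1 + θ * t2)))
    refine ⟨A _, B _, hA ⟨0, by have := O.six; omega⟩, hB ⟨0, by have := O.six; omega⟩, ?_⟩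
    simpa using congrFun hAB ⟨0, by have := O.six; omega⟩
  set X₂ := t2 • p + g1 • b + g2 • a with hX2
  set X₁ := w + t1 • p + g1 • a + (θ * θ * g2) • b with hX1
  have hkw : (root f v p γ : Matrix (Fin n) (Fin n) F) *ᵥ w = X₁ + θ • X₂ := by
    rw [root_mulVec hf hv hvp, hwv, hwpp, sub_zero, hγ, hX1, hX2, hvdef]
    match_scalars <;> ring
  have hkw' : (root f v p γ : Matrix (Fin n) (Fin n) F) *ᵥ w' = w' := by
    rw [root_mulVec hf hv hvp, Unit.eq_zero_comm hf hvw, hwp]
    simp
  have hX2R : Rv F₀ X₂ := ((hp.smul ht2).add (hb.smul hg1)).add (ha.smul hg2)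
  have hX1R : Rv F₀ X₁ :=
    ((hwR.add (hp.smul ht1)).add (ha.smul hg1)).add (hb.smul (F₀.mul_mem (delta_mem O) hg2))
  have hX2u : f X₂ u = t2 * e := by
    rw [hX2, Unit.add_left hf, Unit.add_left hf, Unit.smul_left hf, Unit.smul_left hf, Unit.smul_left hf,
      hS.symm hb hu, hS.symm ha hu, hub, hua, he, hS.symm hp hu]
    ring
  have hPu : ∀ r s : F, f (r • a₁ + s • b₁) u = 0 := fun r s => by
    simp [ha1, hb1, Unit.add_left hf, Unit.sub_left hf, Unit.smul_left hf, (Unit.sesq hf).neg_left, huu,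
      hS.symm ha hu, hS.symm hb hu, hua, hub]
  have hX2' : X₂ ∉ Submodule.span F {a₁, b₁} := by
    intro hin
    obtain ⟨r, s, hrs⟩ := Submodule.mem_span_pair.1 hin
    exact mul_ne_zero ht20 hup (by rw [← hX2u, ← hrs]; exact hPu r s)
  have hw'' : w' ∉ Submodule.span F {a₁, b₁, X₂} := by
    intro hin
    rw [show ({a₁, b₁, X₂} : Set (Fin n → F)) = Set.range ![a₁, b₁, X₂] by simp [Set.insert_comm]; aesop] at hin
    obtain ⟨c, hc⟩ := (Submodule.mem_span_range_iff_exists_fun F).1 hin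
    rw [Fin.sum_univ_three] at hc
    have hc' : c 0 • a₁ + c 1 • b₁ + c 2 • X₂ = w' := hc
    have e1 : f (c 0 • a₁ + c 1 • b₁ + c 2 • X₂) u = 0 := by rw [hc', hwu]
    rw [Unit.add_left hf, hPu, Unit.smul_left hf, hX2u, zero_add] at e1
    have h2' : c 2 = 0 := (mul_eq_zero.1 e1).resolve_right (mul_ne_zero ht20 hup)
    rw [h2', zero_smul, add_zero] at hc'
    exact notMem_plane O ha1R hb1R hv1 hns1
      (by rw [ha1, Unit.sub_right hf, hS.smul_right' heF, hwu, hwa]; ring)
      (by rw [hb1, hS.smul_right' (F₀.neg_mem heF), hwb, mul_zero]) hw'0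
      (Submodule.mem_span_pair.2 ⟨c 0, c 1, hc'⟩)
  have fin : ∀ (W X : Fin n → F), Rv F₀ W → f W u = 0 → Rv F₀ X →
      (root f v p γ : Matrix (Fin n) (Fin n) F) *ᵥ W = X + θ • X₂ → X ∉ Submodule.span F {a₁, b₁, X₂} →
      ∃ a' b', Rv F₀ a' ∧ Rv F₀ b' ∧ f (a' + θ • b') (a' + θ • b') = 0 ∧
      f (a' + θ • b') (bar σ (a' + θ • b')) ≠ 0 ∧ ∃ c, c + σ c = 0 ∧ c ≠ 0 ∧ formTv f (a' + θ • b') c ∈ M := by
    intro W X hW hWu hX hkW hXn
    have huW : f u W = 0 := by rw [hS.symm hu hW, hWu]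
    have h1 := M.mul_mem (M.mul_mem h (O.mem u W hu hW huu huW)) (M.inv_mem h)
    rw [siegel, root_conj hf hiso huu huW, hkv, hkW] at h1
    have hvx : f (a₁ + θ • b₁) (X + θ • X₂) = 0 := by rw [← hkv, ← hkW, hiso, huW]
    exact ⟨a₁, b₁, ha1R, hb1R, hv1, hns1, tv_of_root O ha1R hb1R hX hX2R hv1 hns1 hvx hX2' hXn h1⟩
  by_cases hin : X₁ ∈ Submodule.span F {a₁, b₁, X₂}
  · refine fin (w + w') (X₁ + w') (hwR.add hw') (by rw [Unit.add_left hf, hwau, hwu, add_zero]) (hX1R.add hw')
      (by rw [mulVec_add, hkw, hkw']; abel) fun h' => hw'' ?_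
    simpa using Submodule.sub_mem _ h' hin
  · exact fin w X₁ hwR hwau hX1R hkw hin

theorem exists_gen_moved {g : GL (Fin n) F} (hg : g ∈ M) (hnot : g ∉ ratScalar F₀ (Fin n)) :
    ∃ u, Rv F₀ u ∧ f u u = 0 ∧
      f ((g : Matrix (Fin n) (Fin n) F) *ᵥ u) (bar σ ((g : Matrix (Fin n) (Fin n) F) *ᵥ u)) ≠ 0 := by
  have hf := O.unit
  have hS := O.toSetting
  have h13 := O.six
  by_contra hcon
  push Not at hcon
  set Φ : (Fin n → F) → (Fin n → F) → F := fun x y =>
    f ((g : Matrix (Fin n) (Fin n) F) *ᵥ x) (bar σ ((g : Matrix (Fin n) (Fin n) F) *ᵥ y)) with hΦdef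
  have hΦl : ∀ x y z, Φ (x + y) z = Φ x z + Φ y z := fun x y z => by simp only [Φ, mulVec_add, Unit.add_left hf]
  have hΦr : ∀ x y z, Φ x (y + z) = Φ x y + Φ x z := fun x y z => by
    simp only [Φ, mulVec_add, bar_add hS, Unit.add_right hf]
  have hΦs : ∀ (k : F) x y, Φ (k • x) y = k * Φ x y := fun k x y => by simp only [Φ, mulVec_smul, Unit.smul_left hf]
  have hΦs' : ∀ (k : F) x y, Φ x (k • y) = k * Φ x y := fun k x y => by
    simp only [Φ, mulVec_smul, bar_smul hS, Unit.smul_right hf, hf.involutive]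
  have hbarsymm : ∀ X Y, f X (bar σ Y) = f Y (bar σ X) := by
    intro X Y
    obtain ⟨a, b, ha, hb, rfl⟩ := decomp O X
    obtain ⟨c, d, hc, hd, rfl⟩ := decomp O Y
    simp only [bar_add hS, bar_smul hS, bar_rv hS ha, bar_rv hS hb, bar_rv hS hc, bar_rv hS hd, O.theta,
      Unit.add_left hf, Unit.add_right hf, Unit.smul_left hf, Unit.smul_right hf, map_neg, hS.symm hc ha,
      hS.symm hc hb, hS.symm hd ha, hS.symm hd hb]
    ring
  have hsym : ∀ x y, Φ x y = Φ y x := fun x y => hbarsymm _ _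
  have hcone : ∀ s, Rv F₀ s → f s s = 0 → Φ s s = 0 := fun s hs hss => hcon s hs hss
  have hpair0 : ∀ x y, Rv F₀ x → Rv F₀ y → f x x = 0 → f y y = 0 → f x y = 0 → Φ x y = 0 := by
    intro x y hx hy hxx hyy hxy
    have h := hcone (x + y) (hx.add hy) (by
      rw [Unit.add_left hf, Unit.add_right hf, Unit.add_right hf, hxx, hyy, hxy, hS.symm hy hx, hxy]; ring)
    rw [hΦl, hΦr, hΦr, hcone x hx hxx, hcone y hy hyy, hsym y x] at h
    exact mul_left_cancel₀ O.two (by linear_combination h)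
  obtain ⟨u, hu, hu0, huu, -⟩ := exists_singular_orth hS (k := 0) (by have := hS.six; omega) ![] (fun i => i.elim0)
  obtain ⟨p, hp, hpp, -, hpu⟩ := exists_singular_ne hS (k := 0) (by have := hS.six; omega) ![] (fun i => i.elim0) hu
    (by simp [hu0])
  have hup : f u p ≠ 0 := by rw [hS.symm hu hp]; exact hpu
  set κ := Φ u p / f u p with hκ
  have hW : ∀ z, Rv F₀ z → f z u = 0 → f z p = 0 → Φ u z = 0 ∧ Φ p z = 0 ∧ Φ z z = κ * f z z := by
    intro z hz hzu hzp
    have hlin : Φ u z = 0 ∧ Φ p z = 0 := by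
      by_cases hz0 : z = 0
      · subst hz0
        simp only [Φ, mulVec_zero, show bar σ (0 : Fin n → F) = 0 from funext fun i => by simp [bar],
          Unit.zero_right hf, and_self]
      obtain ⟨e, he, hee, hed, hez⟩ := exists_singular_ne_nd hS (k := 2) (by have := hS.six; omega) ![u, p]
        (fun i => by fin_cases i <;> assumption) (fun y hy h => by
          rw [show Set.range (![u, p] : Fin 2 → Fin n → F) = {u, p} by simp [Set.pair_comm],
            Submodule.mem_span_pair] at hy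
          obtain ⟨r, s, rfl⟩ := hy
          have h0 : f (r • u + s • p) u = 0 := h 0
          have h1 : f (r • u + s • p) p = 0 := h 1
          simp only [Unit.add_left hf, Unit.smul_left hf, huu, hpp, mul_zero, zero_add, add_zero] at h0 h1
          rw [(mul_eq_zero.1 h1).resolve_right hup, (mul_eq_zero.1 h0).resolve_right hpu]; simp) hz (by
          rw [show Set.range (![u, p] : Fin 2 → Fin n → F) = {u, p} by simp [Set.pair_comm], Submodule.mem_span_pair]
          rintro ⟨r, s, rfl⟩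
          simp only [Unit.add_left hf, Unit.smul_left hf, huu, hpp, mul_zero, zero_add, add_zero] at hzu hzp
          exact hz0 (by rw [(mul_eq_zero.1 hzp).resolve_right hup, (mul_eq_zero.1 hzu).resolve_right hpu]; simp))
      have heu : f e u = 0 := hed 0
      have hep : f e p = 0 := hed 1
      set t := - f z z / (2 * f e z) with ht
      have htF : t ∈ F₀ := F₀.div_mem (F₀.neg_mem (O.rat _ _ hz hz)) (F₀.mul_mem (two_mem O) (O.rat _ _ he hz))
      clear_value t
      set s := z + t • e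
      have hsR : Rv F₀ s := hz.add (he.smul htF)
      have hss : f s s = 0 := by
        simp only [s, Unit.add_left hf, Unit.add_right hf, Unit.smul_left hf, hS.smul_right' htF, hee,
          hS.symm hz he]
        rw [ht]
        field_simp [O.two]
        ring
      have hsu : f u s = 0 := by
        simp only [s, Unit.add_right hf, hS.smul_right' htF, hS.symm hu hz, hS.symm hu he, hzu, heu]; ring
      have hsp : f p s = 0 := by
        simp only [s, Unit.add_right hf, hS.smul_right' htF, hS.symm hp hz, hS.symm hp he, hzp, hep]; ring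
      have e1 := hpair0 u s hu hsR huu hss hsu
      have e2 := hpair0 p s hp hsR hpp hss hsp
      rw [hΦr, hΦs', hpair0 u e hu he huu hee (by rw [hS.symm hu he, heu]), mul_zero, add_zero] at e1
      rw [hΦr, hΦs', hpair0 p e hp he hpp hee (by rw [hS.symm hp he, hep]), mul_zero, add_zero] at e2
      exact ⟨e1, e2⟩
    refine ⟨hlin.1, hlin.2, ?_⟩
    set k := - f z z / (2 * f u p) with hk
    have hkF : k ∈ F₀ := F₀.div_mem (F₀.neg_mem (O.rat _ _ hz hz)) (F₀.mul_mem (two_mem O) (O.rat _ _ hu hp))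
    clear_value k
    have h := hcone (p + z + k • u) ((hp.add hz).add (hu.smul hkF)) (by
      simp only [Unit.add_left hf, Unit.add_right hf, Unit.smul_left hf, hS.smul_right' hkF, hpp, huu,
        hzu, hzp, hS.symm hu hz, hS.symm hp hz, hS.symm hp hu]
      rw [hk]
      field_simp [O.two]
      ring)
    simp only [hΦl, hΦr, hΦs, hΦs', hcone u hu huu, hcone p hp hpp, hsym z u, hsym z p, hlin.1, hlin.2,
      hsym p u] at h
    have hk2 : k * (2 * f u p) = - f z z := by
      rw [hk, div_mul_cancel₀ _ (mul_ne_zero O.two hup)]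
    rw [hκ, div_mul_eq_mul_div, eq_div_iff hup]
    linear_combination f u p * h - Φ u p * hk2
  have hdiag : ∀ x, Rv F₀ x → Φ x x = κ * f x x := by
    intro x hx
    set z := x - (f x p / f u p) • u - (f x u / f u p) • p with hzdef
    have hA : f x p / f u p ∈ F₀ := F₀.div_mem (O.rat _ _ hx hp) (O.rat _ _ hu hp)
    have hB : f x u / f u p ∈ F₀ := F₀.div_mem (O.rat _ _ hx hu) (O.rat _ _ hu hp)
    have hz : Rv F₀ z := (hx.sub (hu.smul hA)).sub (hp.smul hB)
    have hzu : f z u = 0 := by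
      simp only [hzdef, Unit.sub_left hf, Unit.smul_left hf, huu, hS.symm hp hu]; field_simp; ring
    have hzp : f z p = 0 := by
      simp only [hzdef, Unit.sub_left hf, Unit.smul_left hf, hpp]; field_simp; ring
    obtain ⟨e1, e2, e3⟩ := hW z hz hzu hzp
    have hx' : x = z + (f x p / f u p) • u + (f x u / f u p) • p := by rw [hzdef]; abel
    rw [hx']
    simp only [hΦl, hΦr, hΦs, hΦs', hsym z u, hsym z p, e1, e2, e3, hcone u hu huu, hcone p hp hpp, hsym p u,
      Unit.add_left hf, Unit.add_right hf, Unit.smul_left hf, hS.smul_right' hA, hS.smul_right' hB, huu, hpp,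
      hzu, hzp, hS.symm hu hz, hS.symm hp hz, hS.symm hp hu, hκ]
    field_simp
    ring
  refine hnot (mem_ratScalar_of_lines' g (by omega) fun y hy => ?_)
  have hpol : ∀ x, Rv F₀ x → Φ x y = κ * f x y := by
    intro x hx
    have h := hdiag (x + y) (hx.add hy)
    simp only [hΦl, hΦr, hdiag x hx, hdiag y hy, hsym y x, Unit.add_left hf, Unit.add_right hf,
      hS.symm hy hx] at h
    exact mul_left_cancel₀ O.two (by linear_combination h)
  have hk : bar σ ((g : Matrix (Fin n) (Fin n) F) *ᵥ y) = σ κ • ((g : Matrix (Fin n) (Fin n) F) *ᵥ y) := by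
    obtain ⟨w, hw⟩ : ∃ w, bar σ ((g : Matrix (Fin n) (Fin n) F) *ᵥ y) - σ κ • ((g : Matrix (Fin n) (Fin n) F) *ᵥ y) =
        (g : Matrix (Fin n) (Fin n) F) *ᵥ w :=
      ⟨_, (gl_mulVec_inv_mulVec g _).symm⟩
    have hw0 : w = 0 := by
      by_contra hne
      obtain ⟨-, z, hz⟩ := hf.nondegenerate w hne
      apply hz
      have hall : ∀ x, Rv F₀ x → f x w = 0 := fun x hx => by
        rw [← O.isometry g hg x w, ← hw, Unit.sub_right hf, Unit.smul_right hf, hf.involutive,
          O.isometry g hg]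
        exact sub_eq_zero.2 (hpol x hx)
      rw [pi_eq_sum_univ' z, (Unit.sesq hf).sum_right]
      refine Finset.sum_eq_zero fun i _ => ?_
      rw [Unit.smul_right hf, hf.herm w, hall _ (Rv.single i), map_zero, mul_zero]
    rw [hw0, mulVec_zero, sub_eq_zero] at hw
    exact hw
  obtain ⟨a, b, ha, hb, hab⟩ := decomp O ((g : Matrix (Fin n) (Fin n) F) *ᵥ y)
  rw [hab, bar_add hS, bar_smul hS, bar_rv hS ha, bar_rv hS hb, O.theta] at hk
  by_cases hk1 : σ κ = 1
  · refine ⟨1, a, ha, ?_⟩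
    rw [hk1, one_smul] at hk
    have hb0 : (2 * θ) • b = 0 := by
      rw [← sub_eq_zero] at hk
      rw [show (2 * θ) • b = -(a + -θ • b - (a + θ • b)) by module, hk, neg_zero]
    rw [hab, (smul_eq_zero.1 hb0).resolve_left (mul_ne_zero O.two O.theta_ne)]
    simp
  · refine ⟨θ * (1 + σ κ) / (1 - σ κ) + θ, b, hb, ?_⟩
    have h1 : (1 - σ κ) • a = (θ * (1 + σ κ)) • b := by
      rw [← sub_eq_zero] at hk ⊢
      rw [← hk]
      module
    have hne : (1 : F) - σ κ ≠ 0 := sub_ne_zero.2 (Ne.symm hk1)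
    rw [hab, add_smul, div_eq_inv_mul, mul_smul, ← h1, smul_smul, inv_mul_cancel₀ hne, one_smul]

end CfsgLib.GeomClasses.UnitOrth
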