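import Cfsg.Agent.Lib.GeomClasses.SkewPair
import Cfsg.Agent.Lib.GeomClasses.SympRoot
import Cfsg.Agent.Lib.GeomClasses.UnitCentres
import Cfsg.Agent.Lib.GeomClasses.UnitCircle

/-!
A skew-hermitian space with a rational structure over a subfield on which the involution is non-trivial:
the rational toolkit.
-/

set_option autoImplicit false
set_option linter.unusedSectionVars false

namespace CfsgLib.GeomClasses.UnitSub

open Matrix CfsgLib.GeomClasses.SkewPair
open CfsgLib.GeomClasses.SympRoot (Rv)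

variable {n : ℕ} {F : Type*} [Field F] [Fintype F]

/-- A skew-hermitian form with rational values on rational vectors, the involution moving the subfield. -/
structure Setting (σ : F ≃+* F) (f : (Fin n → F) → (Fin n → F) → F) (F₀ : Subfield F) : Prop
    extends SkewPair.IsSkewHerm σ f where
  moved : ∃ ω ∈ F₀, σ ω ≠ ω
  stable : ∀ x ∈ F₀, σ x ∈ F₀
  rat : ∀ u v, Rv F₀ u → Rv F₀ v → f u v ∈ F₀
  six : 6 ≤ n

variable {σ : F ≃+* F} {f : (Fin n → F) → (Fin n → F) → F} {F₀ : Subfield F} (S : Setting σ f F₀)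
include S

theorem Setting.stable' {x : F} (h : σ x ∈ F₀) : x ∈ F₀ := by
  have := S.stable _ h
  rwa [S.involutive] at this

theorem sub_left (x y v : Fin n → F) : f (x - y) v = f x v - f y v := S.sesq.sub_left x y v

theorem sub_right (v x y : Fin n → F) : f v (x - y) = f v x - f v y := by
  rw [sub_eq_add_neg, add_right S.toIsSkewHerm, neg_right S.toIsSkewHerm, sub_eq_add_neg]

omit S in
/-- A rational vector seen over the field. -/
def up (a : Fin n → F₀) : Fin n → F := fun i => (a i : F)

omit S in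
theorem up_rv (a : Fin n → F₀) : Rv F₀ (up a) := fun i => (a i).2

omit S in
theorem exists_down {v : Fin n → F} (h : Rv F₀ v) : ∃ a : Fin n → F₀, up a = v :=
  ⟨fun i => ⟨v i, h i⟩, rfl⟩

omit S in
theorem up_add (a b : Fin n → F₀) : up (a + b) = up a + up b := funext fun i => by simp [up]

omit S in
theorem up_smul (c : F₀) (a : Fin n → F₀) : up (c • a) = (c : F) • up a := funext fun i => by simp [up]

omit S in
theorem up_zero : up (0 : Fin n → F₀) = 0 := funext fun i => by simp [up]

omit S in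
theorem up_injective : Function.Injective (up (n := n) (F₀ := F₀)) := fun a b h =>
  funext fun i => Subtype.ext (congrFun h i)

omit S in
theorem up_mem_span {s : Set (Fin n → F₀)} {x : Fin n → F₀} (h : x ∈ Submodule.span F₀ s) :
    up x ∈ Submodule.span F (up '' s) := by
  induction h using Submodule.span_induction with
  | mem y hy => exact Submodule.subset_span ⟨y, hy, rfl⟩
  | zero => rw [up_zero]; exact Submodule.zero_mem _
  | add a b _ _ ha hb => rw [up_add]; exact Submodule.add_mem _ ha hb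
  | smul c a _ ha => rw [up_smul]; exact Submodule.smul_mem _ _ ha

theorem eq_zero_of_rv {x : Fin n → F} (h : ∀ y, Rv F₀ y → f x y = 0) : x = 0 := by
  by_contra hx
  obtain ⟨y, hy⟩ := S.nondegenerate x hx
  apply hy
  rw [pi_eq_sum_univ' y, S.sesq.sum_right]
  exact Finset.sum_eq_zero fun i _ => by
    rw [smul_right S.toIsSkewHerm, h _ (SympRoot.Rv.single i), mul_zero]

/-- A vector with rational values on rational vectors is rational. -/
theorem rv_of_values {x : Fin n → F} (h : ∀ y, Rv F₀ y → f x y ∈ F₀) : Rv F₀ x := by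
  let A : (Fin n → F₀) → (Fin n → F₀) := fun y i =>
    ⟨f (up y) (Pi.single i 1), S.rat _ _ (up_rv y) (SympRoot.Rv.single i)⟩
  have hz : ∀ z : Fin n → F, (∀ i, f z (Pi.single i 1) = 0) → z = 0 := fun z hz => by
    refine eq_zero_of_rv S fun y _ => ?_
    rw [pi_eq_sum_univ' y, S.sesq.sum_right]
    exact Finset.sum_eq_zero fun i _ => by rw [smul_right S.toIsSkewHerm, hz i, mul_zero]
  have hinj : Function.Injective A := by
    intro y y' he
    apply up_injective
    refine sub_eq_zero.1 (hz _ fun i => ?_)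
    rw [sub_left S, sub_eq_zero]
    exact congrArg Subtype.val (congrFun he i)
  obtain ⟨y, hy⟩ := Finite.surjective_of_injective hinj fun i => ⟨_, h _ (SympRoot.Rv.single i)⟩
  have he : up y = x := sub_eq_zero.1 (hz _ fun i => by
    rw [sub_left S, sub_eq_zero]; exact congrArg Subtype.val (congrFun hy i))
  rw [← he]
  exact up_rv y

/-- The rational unitary space over the subfield. -/
theorem exists_ratForm : ∃ (σ₀ : F₀ ≃+* F₀) (g : (Fin n → F₀) → (Fin n → F₀) → F₀) (θ : F),
    (∀ x : F₀, (σ₀ x : F) = σ x) ∧ θ ∈ F₀ ∧ θ ≠ 0 ∧ Cfsg.Geo.IsUnitaryForm σ₀ g ∧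
      ∀ a b, f (up a) (up b) = θ * (g a b : F) := by
  obtain ⟨ω, hω, hω'⟩ := S.moved
  have H := S.toIsSkewHerm
  set θ := ω - σ ω with hθ
  have hθm : θ ∈ F₀ := F₀.sub_mem hω (S.stable ω hω)
  have hθ0 : θ ≠ 0 := sub_ne_zero.2 (Ne.symm hω')
  have hσθ : σ θ = - θ := by rw [hθ, map_sub, S.involutive]; ring
  let σ₀ : F₀ ≃+* F₀ :=
    { toFun := fun x => ⟨σ x, S.stable _ x.2⟩
      invFun := fun x => ⟨σ x, S.stable _ x.2⟩
      left_inv := fun x => Subtype.ext (S.involutive _)
      right_inv := fun x => Subtype.ext (S.involutive _)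
      map_mul' := fun x y => Subtype.ext (by simp)
      map_add' := fun x y => Subtype.ext (by simp) }
  let g : (Fin n → F₀) → (Fin n → F₀) → F₀ := fun a b =>
    ⟨θ⁻¹ * f (up a) (up b), F₀.mul_mem (F₀.inv_mem hθm) (S.rat _ _ (up_rv a) (up_rv b))⟩
  have hg : ∀ a b, ((g a b : F₀) : F) = θ⁻¹ * f (up a) (up b) := fun _ _ => rfl
  refine ⟨σ₀, g, θ, fun _ => rfl, hθm, hθ0,
    { ne_refl := fun he => hω' (congrArg (fun t : F₀ ≃+* F₀ => ((t ⟨ω, hω⟩ : F₀) : F)) he)
      involutive := fun x => Subtype.ext (S.involutive _)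
      add_left := fun x y v => Subtype.ext (by
        rw [Subfield.coe_add, hg, hg, hg, up_add, add_left H, mul_add])
      smul_left := fun c x v => Subtype.ext (by
        rw [Subfield.coe_mul, hg, hg, up_smul, smul_left H]; ring)
      herm := fun v w => Subtype.ext (by
        show θ⁻¹ * f (up v) (up w) = σ (θ⁻¹ * f (up w) (up v))
        rw [map_mul, map_inv₀, hσθ, conj_form H, inv_neg, neg_mul_neg])
      nondegenerate := fun v hv => by
        obtain ⟨y, hy, hvy⟩ : ∃ y, Rv F₀ y ∧ f (up v) y ≠ 0 := by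
          by_contra hc
          push Not at hc
          exact hv (up_injective ((eq_zero_of_rv S hc).trans up_zero.symm))
        obtain ⟨w, rfl⟩ := exists_down hy
        exact ⟨⟨w, fun h0 => mul_ne_zero (inv_ne_zero hθ0) (ne_zero_comm H hvy) (congrArg Subtype.val h0)⟩,
          ⟨w, fun h0 => mul_ne_zero (inv_ne_zero hθ0) hvy (congrArg Subtype.val h0)⟩⟩ },
    fun a b => by rw [hg, mul_inv_cancel_left₀ hθ0]⟩

theorem exists_half : ∃ η ∈ F₀, η + σ η = 1 := by
  obtain ⟨σ₀, g, θ, hσ₀, -, -, hg, -⟩ := exists_ratForm S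
  obtain ⟨l, hl⟩ := Unit.exists_trace hg.ne_refl hg.involutive (map_one σ₀)
  refine ⟨(l : F), l.2, ?_⟩
  rw [← hσ₀, ← Subfield.coe_add, hl, Subfield.coe_one]

/-- A rational isotropic vector orthogonal to two given ones, but not to an independent one, to which it can be
scaled to pair to one. -/
theorem exists_iso_ne {d₁ d₂ l : Fin n → F} (h1 : Rv F₀ d₁) (h2 : Rv F₀ d₂) (hl : Rv F₀ l)
    (hi : l ∉ Submodule.span F ({d₁, d₂} : Set (Fin n → F))) :
    ∃ p, Rv F₀ p ∧ f p p = 0 ∧ f p d₁ = 0 ∧ f p d₂ = 0 ∧ f p l = 1 := by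
  classical
  obtain ⟨σ₀, g, θ, hσ₀, hθm, hθ0, hg, hfg⟩ := exists_ratForm S
  haveI := Fintype.ofFinite F₀
  obtain ⟨d₁', rfl⟩ := exists_down h1
  obtain ⟨d₂', rfl⟩ := exists_down h2
  obtain ⟨l', rfl⟩ := exists_down hl
  set W := Submodule.span F₀ ({d₁', d₂'} : Set (Fin n → F₀))
  have hlW : l' ∉ Unit.perp hg (Unit.perp hg W) := by
    rw [Unit.perp_perp]
    exact fun h => hi (by simpa [Set.image_pair] using up_mem_span h)
  rw [Unit.mem_perp' hg] at hlW
  push Not at hlW
  obtain ⟨z, hz, hzl⟩ := hlW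
  obtain ⟨y, hyy, hyd, hyl⟩ : ∃ y, g y y = 0 ∧ (∀ d ∈ ({d₁', d₂'} : Set (Fin n → F₀)), g y d = 0) ∧ g y l' ≠ 0 := by
    have hzd : ∀ d ∈ ({d₁', d₂'} : Set (Fin n → F₀)), g z d = 0 := fun d hd =>
      (Unit.mem_perp hg).1 hz d (Submodule.subset_span hd)
    by_cases hzz : g z z = 0
    · exact ⟨z, hzz, hzd, hzl⟩
    set X := W ⊔ Submodule.span F₀ {z} with hX
    obtain ⟨a, ha, haa⟩ : ∃ a ∈ Unit.perp hg X, g a a ≠ 0 := by
      by_contra h
      push Not at h
      have h3 := Unit.le_perp_of_isotropic hg h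
      rw [Unit.perp_perp] at h3
      have hle : Unit.perp hg X ≤ W := fun x hx => by
        obtain ⟨w, hw, r, hr, he⟩ := Submodule.mem_sup.1 (h3 hx)
        obtain ⟨k, hk⟩ := Submodule.mem_span_singleton.1 hr
        have hxz := (Unit.mem_perp hg).1 hx z (Submodule.mem_sup_right (Submodule.mem_span_singleton_self z))
        have hwz : g w z = 0 := Unit.eq_zero_comm hg ((Unit.mem_perp hg).1 hz w hw)
        rw [← he, ← hk, Unit.add_left hg, hwz, Unit.smul_left hg, zero_add] at hxz
        rw [← he, ← hk, (mul_eq_zero.1 hxz).resolve_right hzz, zero_smul, add_zero]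
        exact hw
      have h4 := Submodule.finrank_mono hle
      have h5 := Unit.finrank_perp hg X
      have h6 := Submodule.finrank_add_le_finrank_add_finrank W (Submodule.span F₀ {z})
      have h7 := finrank_span_finset_le_card (R := F₀) ({d₁', d₂'} : Finset (Fin n → F₀))
      have h8 : Finset.card ({d₁', d₂'} : Finset (Fin n → F₀)) ≤ 2 := Finset.card_le_two
      have h9 := finrank_span_finset_le_card (R := F₀) ({z} : Finset (Fin n → F₀))
      rw [Finset.coe_pair, Set.finrank] at h7
      rw [Finset.coe_singleton, Set.finrank, Finset.card_singleton] at h9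
      rw [Fintype.card_fin] at h5
      change Module.finrank F₀ W ≤ _ at h7
      rw [← hX] at h6
      have := S.six
      omega
    obtain ⟨t, ht⟩ := Unit.exists_norm hg.ne_refl hg.involutive
      (show σ₀ (- g z z / g a a) = - g z z / g a a by
        rw [map_div₀, map_neg, Unit.self_fixed hg, Unit.self_fixed hg])
    obtain ⟨ε, hε, hεr⟩ := UnitCircle.exists_nonreal hg.ne_refl hg.involutive
    have hza : g a z = 0 :=
      (Unit.mem_perp hg).1 ha z (Submodule.mem_sup_right (Submodule.mem_span_singleton_self z))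
    have key : ∀ s, s * σ₀ s = - g z z / g a a →
        g (z + s • a) (z + s • a) = 0 ∧ ∀ d ∈ ({d₁', d₂'} : Set (Fin n → F₀)), g (z + s • a) d = 0 := by
      intro s hs
      refine ⟨?_, fun d hd => ?_⟩
      · rw [Unit.self_add_smul hg, hs, hza, mul_zero, map_zero, div_mul_cancel₀ _ haa]
        ring
      · rw [Unit.add_left hg, Unit.smul_left hg, hzd d hd,
          (Unit.mem_perp hg).1 ha d (Submodule.mem_sup_left (Submodule.subset_span hd)), mul_zero, add_zero]
    by_cases h1 : g (z + t • a) l' = 0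
    · obtain ⟨k1, k2⟩ := key (ε * t) (by rw [map_mul, ← ht]; linear_combination (t * σ₀ t) * hε)
      refine ⟨_, k1, k2, fun h2 => hzl ?_⟩
      rw [Unit.add_left hg, Unit.smul_left hg] at h1 h2
      have e : (ε - 1) * g z l' = 0 := by linear_combination ε * h1 - h2
      exact (mul_eq_zero.1 e).resolve_left (sub_ne_zero.2 fun h => hεr (by rw [h, map_one]))
    · obtain ⟨k1, k2⟩ := key t ht
      exact ⟨_, k1, k2, h1⟩
  have hfl : f (up y) (up l') ≠ 0 := by
    rw [hfg]; exact mul_ne_zero hθ0 fun h => hyl (Subtype.ext h)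
  refine ⟨(f (up y) (up l'))⁻¹ • up y, (up_rv y).smul (F₀.inv_mem (S.rat _ _ (up_rv y) (up_rv l'))),
    ?_, ?_, ?_, ?_⟩
  · rw [smul_left S.toIsSkewHerm, smul_right S.toIsSkewHerm, hfg y y, hyy]; simp
  · rw [smul_left S.toIsSkewHerm, hfg y d₁', hyd _ (by simp)]; simp
  · rw [smul_left S.toIsSkewHerm, hfg y d₂', hyd _ (by simp)]; simp
  · rw [smul_left S.toIsSkewHerm, inv_mul_cancel₀ hfl]

/-- A rational isotropic vector orthogonal to two vectors and outside the span of two others. -/
theorem exists_avoid (d e : Fin 2 → Fin n → F) (hd : ∀ i, Rv F₀ (d i)) (he : ∀ i, Rv F₀ (e i)) :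
    ∃ z, Rv F₀ z ∧ f z z = 0 ∧ (∀ i, f z (d i) = 0) ∧ z ∉ Submodule.span F (Set.range e) := by
  classical
  obtain ⟨σ₀, g, θ, hσ₀, hθm, hθ0, hg, hfg⟩ := exists_ratForm S
  haveI := Fintype.ofFinite F₀
  choose d' hd' using fun i => exists_down (hd i)
  choose e' he' using fun i => exists_down (he i)
  set E := Submodule.span F₀ (Set.range e')
  obtain ⟨C, hC⟩ := Submodule.exists_isCompl E
  set X := Unit.perp hg (Submodule.span F₀ (Set.range d')) with hX
  have h1 := Unit.finrank_perp hg (Submodule.span F₀ (Set.range d'))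
  have h2 : Module.finrank F₀ (Submodule.span F₀ (Set.range d')) ≤ 2 := by
    have := finrank_range_le_card (R := F₀) d'
    rwa [Set.finrank, Fintype.card_fin] at this
  have h3 : Module.finrank F₀ E ≤ 2 := by
    have := finrank_range_le_card (R := F₀) e'
    rwa [Set.finrank, Fintype.card_fin] at this
  have h4 := Submodule.finrank_add_eq_of_isCompl hC
  have h5 := Submodule.finrank_sup_add_finrank_inf_eq X C
  have h6 := Submodule.finrank_le (X ⊔ C)
  rw [Module.finrank_fintype_fun_eq_card, Fintype.card_fin] at h4 h6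
  rw [Fintype.card_fin, ← hX] at h1
  have := S.six
  obtain ⟨v, ⟨hvX, hvC⟩, hv0, hvv⟩ := UnitCentres.exists_iso_any hg (X := X ⊓ C) (by omega)
  have hvE : v ∉ E := fun h => hv0 (Submodule.disjoint_def.1 hC.disjoint v h hvC)
  rw [← Unit.perp_perp hg E, Unit.mem_perp hg] at hvE
  push Not at hvE
  obtain ⟨y, hy, hvy⟩ := hvE
  refine ⟨up v, up_rv v, by rw [hfg, hvv]; simp, fun i => ?_, fun hin => ?_⟩
  · rw [← hd' i, hfg, (Unit.mem_perp hg).1 hvX _ (Submodule.subset_span ⟨i, rfl⟩)]; simp
  · have hall : ∀ w ∈ Submodule.span F (Set.range e), f w (up y) = 0 := fun w hw => by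
      induction hw using Submodule.span_induction with
      | mem w hw =>
        obtain ⟨i, rfl⟩ := hw
        rw [← he' i, hfg, (Unit.mem_perp' hg).1 hy _ (Submodule.subset_span ⟨i, rfl⟩)]; simp
      | zero => exact zero_left S.toIsSkewHerm _
      | add a b _ _ ha hb => rw [add_left S.toIsSkewHerm, ha, hb, add_zero]
      | smul c a _ ha => rw [smul_left S.toIsSkewHerm, ha, mul_zero]
    have := hall _ hin
    rw [hfg] at this
    exact hvy (Subtype.ext ((mul_eq_zero.1 this).resolve_left hθ0))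

/-- A rational isotropic partner. -/
theorem exists_partner {u : Fin n → F} (hu : Rv F₀ u) (hu0 : u ≠ 0) :
    ∃ p, Rv F₀ p ∧ f p p = 0 ∧ f p u = 1 := by
  obtain ⟨p, hp, hpp, -, -, hpu⟩ := exists_iso_ne S SympRoot.Rv.zero SympRoot.Rv.zero hu (by simpa using hu0)
  exact ⟨p, hp, hpp, hpu⟩

/-- A rational vector orthogonal to a rational isotropic `u` is a sum of two isotropic ones. -/
theorem exists_split {u z : Fin n → F} (hu : Rv F₀ u) (huu : f u u = 0) (hz : Rv F₀ z) (huz : f u z = 0) :
    ∃ p q, Rv F₀ p ∧ Rv F₀ q ∧ f p p = 0 ∧ f q q = 0 ∧ f u p = 0 ∧ f u q = 0 ∧ z = p + q := by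
  have H := S.toIsSkewHerm
  by_cases hzu : z ∈ Submodule.span F ({u, u} : Set (Fin n → F))
  · obtain ⟨c, rfl⟩ := Submodule.mem_span_singleton.1 (by simpa using hzu)
    exact ⟨_, 0, hz, SympRoot.Rv.zero, by rw [smul_left H, smul_right H, huu, mul_zero, mul_zero],
      zero_left H 0, huz, zero_right H u, (add_zero _).symm⟩
  obtain ⟨w, hw, hww, hwu, -, hwz⟩ := exists_iso_ne S hu hu hz hzu
  obtain ⟨η, hη, hη'⟩ := exists_half S
  set t := -η * f z z with ht
  have htm : t ∈ F₀ := F₀.mul_mem (F₀.neg_mem hη) (S.rat _ _ hz hz)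
  refine ⟨z + t • w, (-t) • w, hz.add (hw.smul htm), hw.smul (F₀.neg_mem htm), ?_,
    by rw [smul_left H, smul_right H, hww, mul_zero, mul_zero],
    by rw [add_right H, smul_right H, huz, eq_zero_comm H hwu, mul_zero, add_zero],
    by rw [smul_right H, eq_zero_comm H hwu, mul_zero], by rw [add_assoc, neg_smul, add_neg_cancel, add_zero]⟩
  have hskew : σ (f z z) = - f z z := conj_form H z z
  simp only [add_left H, add_right H, smul_left H, smul_right H, hww, hwz]
  rw [show f z w = -1 by rw [S.skew w z, hwz, map_one]]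
  rw [ht, map_mul, map_neg, hskew]
  linear_combination (-(f z z)) * hη'

/-- The rational isotropic vectors span the space. -/
theorem mem_of_iso_span {Y : Submodule F (Fin n → F)}
    (hY : ∀ p, Rv F₀ p → f p p = 0 → p ∈ Y) (x : Fin n → F) : x ∈ Y := by
  have H := S.toIsSkewHerm
  rw [pi_eq_sum_univ' x]
  refine Y.sum_mem fun i _ => Y.smul_mem _ ?_
  obtain ⟨p, q, hp, hq, hpp, hqq, -, -, he⟩ :=
    exists_split S SympRoot.Rv.zero (zero_left H 0) (SympRoot.Rv.single (F₀ := F₀) i) (zero_left H _)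
  rw [he]
  exact Y.add_mem (hY p hp hpp) (hY q hq hqq)

/-- The rational isotropic vectors orthogonal to `u` span the orthogonal of `u`. -/
theorem mem_of_iso_orth {u : Fin n → F} (hu : Rv F₀ u) (hu0 : u ≠ 0) (huu : f u u = 0)
    {Y : Submodule F (Fin n → F)} (hY : ∀ p, Rv F₀ p → f p p = 0 → f u p = 0 → p ∈ Y) {x : Fin n → F}
    (hx : f u x = 0) : x ∈ Y := by
  have H := S.toIsSkewHerm
  obtain ⟨p, hp, -, hpu⟩ := exists_partner S hu hu0
  have hup : f u p = -1 := by rw [S.skew p u, hpu, map_one]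
  let c : Fin n → F := fun i => - σ (f u (Pi.single i 1))
  have hz : ∀ i, f u (Pi.single i 1 - c i • p) = 0 := fun i => by
    rw [sub_right S, smul_right H, hup, map_neg, S.involutive]; ring
  have hzr : ∀ i, Rv F₀ (Pi.single i 1 - c i • p) := fun i => (SympRoot.Rv.single i).sub
    (hp.smul (F₀.neg_mem (S.stable _ (S.rat _ _ hu (SympRoot.Rv.single i)))))
  have hsum : x = ∑ i, x i • (Pi.single i (1 : F) - c i • p) + (∑ i, x i * c i) • p := by
    conv_lhs => rw [pi_eq_sum_univ' x]
    rw [Finset.sum_smul, ← Finset.sum_add_distrib]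
    exact Finset.sum_congr rfl fun i _ => by rw [smul_sub, smul_smul, sub_add_cancel]
  have h0 : ∑ i, x i * c i = 0 := by
    rw [hsum, add_right H, smul_right H, hup, S.sesq.sum_right, Finset.sum_eq_zero (fun i _ => by
      rw [smul_right H, hz i, mul_zero]), zero_add, mul_neg_one, neg_eq_zero,
      RingEquiv.map_eq_zero_iff] at hx
    exact hx
  rw [hsum, h0, zero_smul, add_zero]
  refine Y.sum_mem fun i _ => Y.smul_mem _ ?_
  obtain ⟨a, b, ha, hb, haa, hbb, hua, hub, he⟩ := exists_split S hu huu (hzr i) (hz i)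
  rw [he]
  exact Y.add_mem (hY a ha haa hua) (hY b hb hbb hub)

/-- A rational isotropic vector orthogonal to `u` and pairing with a vector off the line of `u`. -/
theorem exists_iso_pairing {u v : Fin n → F} (hu : Rv F₀ u) (hu0 : u ≠ 0) (huu : f u u = 0)
    (hv : ∀ c : F, v ≠ c • u) : ∃ z, Rv F₀ z ∧ f z z = 0 ∧ f u z = 0 ∧ f v z ≠ 0 := by
  have H := S.toIsSkewHerm
  by_contra hc
  push Not at hc
  obtain ⟨p, hp, -, hpu⟩ := exists_partner S hu hu0
  have hup : f u p = -1 := by rw [S.skew p u, hpu, map_one]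
  let Y : Submodule F (Fin n → F) :=
    { carrier := {x | f v x = 0}
      add_mem' := fun {a b} ha hb => by simp_all [add_right H]
      zero_mem' := zero_right H v
      smul_mem' := fun c x hx => by simp_all [smul_right H] }
  refine hv (-f v p) (sub_eq_zero.1 (eq_zero_of_rv S fun y hy => ?_))
  have h1 : f v (y + σ (f u y) • p) = 0 :=
    mem_of_iso_orth S hu hu0 huu (Y := Y) (fun q hq hqq huq => hc q hq hqq huq)
      (by rw [add_right H, smul_right H, hup, S.involutive]; ring)
  rw [add_right H, smul_right H, S.involutive] at h1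
  rw [sub_left S, smul_left H]
  linear_combination h1

end CfsgLib.GeomClasses.UnitSub
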