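import Cfsg.Agent.Lib.GeomClasses.UnitSub
import Cfsg.Agent.Lib.GeomClasses.RationalField

/-!
Root coefficients inside an overgroup of a unitary subfield group, and the case of a new coefficient.
-/

set_option autoImplicit false
set_option linter.unusedSectionVars false

namespace CfsgLib.GeomClasses.UnitSub

open Matrix CfsgLib.GeomClasses.SkewPair
open CfsgLib.GeomClasses.SympRoot (Rv Rat')

variable {n : ℕ} {F : Type*} [Field F] [Fintype F] {σ : F ≃+* F} {f : (Fin n → F) → (Fin n → F) → F}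
  {F₀ : Subfield F} {M : Subgroup (GL (Fin n) F)}

/-! ### Identities -/

section ident

variable (H : SkewPair.IsSkewHerm σ f)
include H

theorem iso_tv_conj {g : GL (Fin n) F}
    (hg : ∀ x y, f ((g : Matrix (Fin n) (Fin n) F) *ᵥ x) ((g : Matrix (Fin n) (Fin n) F) *ᵥ y) = f x y)
    {v : Fin n → F} (hv : f v v = 0) (c : F) :
    g * formTv f v c * g⁻¹ = formTv f ((g : Matrix (Fin n) (Fin n) F) *ᵥ v) c := by
  rw [← root_zero H hv, root_conj H hg hv (zero_right H v), mulVec_zero, root_zero H (by rw [hg, hv])]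

theorem fixed_of_isometry {v : Fin n → F} (hv : f v v = 0) (hv0 : v ≠ 0) {c : F}
    (hg : ∀ x y, f ((formTv f v c : Matrix (Fin n) (Fin n) F) *ᵥ x)
      ((formTv f v c : Matrix (Fin n) (Fin n) F) *ᵥ y) = f x y) : σ c = c := by
  obtain ⟨y, hy⟩ := H.nondegenerate v hv0
  have h := hg y y
  rw [H.sesq.formTv_form hv] at h
  change f y y + c * f y v * f v y + σ (c * f y v) * f y v = f y y at h
  rw [map_mul, conj_form H] at h
  have h2 : (c - σ c) * (f y v * f v y) = 0 := by linear_combination h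
  exact (sub_eq_zero.1 ((mul_eq_zero.1 h2).resolve_right (mul_ne_zero (ne_zero_comm H hy) hy))).symm

theorem formTv_split {u w : Fin n → F} (hu : f u u = 0) (hw : f w w = 0) (h : f u w = 0) {c : F}
    (hc : σ c = c) (μ : F) :
    formTv f (w + μ • u) c = formTv f w c * root f u ((c * σ μ) • w) (c * μ * σ μ) := by
  have hwu := eq_zero_comm H h
  refine gl_ext fun x => ?_
  rw [formTv_mulVec H (by simp [add_left H, add_right H, smul_left H, smul_right H, hu, hw, h, hwu]),
    gl_mul_mulVec, formTv_mulVec H hw, root_mulVec H hu (by rw [smul_right H, h, mul_zero])]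
  simp only [add_left H, add_right H, smul_left H, smul_right H, map_mul, H.involutive, hc, hu, hw, h, mul_zero,
    add_zero]
  match_scalars <;> ring

theorem root_smul_self {u : Fin n → F} (hu : f u u = 0) (m : F) :
    root f u (m • u) 0 = formTv f u (m + σ m) := by
  refine gl_ext fun x => ?_
  rw [root_mulVec H hu (by rw [smul_right H, hu, mul_zero]), formTv_mulVec H hu, smul_right H]
  match_scalars <;> ring

theorem formTv_mul {u : Fin n → F} (hu : f u u = 0) (a b : F) :
    formTv f u a * formTv f u b = formTv f u (a + b) := by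
  rw [← root_zero H hu, ← root_zero H hu, ← root_zero H hu, root_mul H hu (zero_right H u) (zero_right H u),
    zero_left H, add_zero, add_zero]

theorem formTv_inv {u : Fin n → F} (hu : f u u = 0) (a : F) : (formTv f u a)⁻¹ = formTv f u (-a) := by
  rw [← root_zero H hu, ← root_zero H hu, root_inv H hu (zero_right H u), neg_zero, zero_left H, add_zero]

theorem formTv_zero_left (c : F) : formTv f (0 : Fin n → F) c = 1 := by
  refine gl_ext fun x => ?_
  rw [formTv_mulVec H (zero_left H 0)]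
  simp

end ident

/-! ### Overgroups -/

/-- A group of isometries containing the rational root elements. -/
structure Over (σ : F ≃+* F) (f : (Fin n → F) → (Fin n → F) → F) (F₀ : Subfield F)
    (M : Subgroup (GL (Fin n) F)) : Prop extends Setting σ f F₀ where
  isometry : ∀ g ∈ M, ∀ x y,
    f ((g : Matrix (Fin n) (Fin n) F) *ᵥ x) ((g : Matrix (Fin n) (Fin n) F) *ᵥ y) = f x y
  root_mem : ∀ u w γ, Rv F₀ u → Rv F₀ w → γ ∈ F₀ → f u u = 0 → f u w = 0 → σ γ = γ - f w w →
    root f u w γ ∈ M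

/-- An independent orthogonal pair of rational isotropic vectors. -/
structure IsPair (f : (Fin n → F) → (Fin n → F) → F) (F₀ : Subfield F) (u w : Fin n → F) : Prop where
  rv_left : Rv F₀ u
  rv_right : Rv F₀ w
  iso_left : f u u = 0
  iso_right : f w w = 0
  orth : f u w = 0
  ne_zero : u ≠ 0
  indep : w ∉ Submodule.span F ({u} : Set (Fin n → F))

/-- The coefficients of the long root elements in `M`. -/
def longSet (σ : F ≃+* F) (f : (Fin n → F) → (Fin n → F) → F) (F₀ : Subfield F)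
    (M : Subgroup (GL (Fin n) F)) : Set F :=
  {c | σ c = c ∧ ∀ a, Rv F₀ a → f a a = 0 → formTv f a c ∈ M}

/-- The coefficients of the short root elements in `M`. -/
def shortSet (f : (Fin n → F) → (Fin n → F) → F) (F₀ : Subfield F) (M : Subgroup (GL (Fin n) F)) : Set F :=
  {s | ∀ u w, IsPair f F₀ u w → root f u (s • w) 0 ∈ M}

variable (O : Over σ f F₀ M)
include O

theorem Over.tv_mem_conj {g : GL (Fin n) F} (hg : g ∈ M) {v : Fin n → F} (hv : f v v = 0) {c : F}
    (h : formTv f v c ∈ M) : formTv f ((g : Matrix (Fin n) (Fin n) F) *ᵥ v) c ∈ M := by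
  rw [← iso_tv_conj O.toIsSkewHerm (O.isometry g hg) hv]
  exact M.mul_mem (M.mul_mem hg h) (M.inv_mem hg)

theorem Over.rat_root {u w : Fin n → F} (hu : Rv F₀ u) (hw : Rv F₀ w) {γ : F} (hγ : γ ∈ F₀) (huu : f u u = 0)
    (huw : f u w = 0) (h : σ γ = γ - f w w) : Rat' F₀ M (root f u w γ) := by
  refine ⟨O.root_mem u w γ hu hw hγ huu huw h, fun x hx => ?_⟩
  rw [root_mulVec O.toIsSkewHerm huu huw]
  exact (hx.add (hw.smul (O.rat _ _ hx hu))).add
    (hu.smul (F₀.add_mem (F₀.mul_mem hγ (O.rat _ _ hx hu)) (O.rat _ _ hx hw)))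

theorem Over.exists_third {a b : Fin n → F} (ha : Rv F₀ a) (hb : Rv F₀ b) :
    ∃ z, Rv F₀ z ∧ f z z = 0 ∧ f a z = 0 ∧ f b z = 0 ∧ z ∉ Submodule.span F ({a, b} : Set (Fin n → F)) := by
  obtain ⟨z, hz, hzz, hd, hn⟩ := exists_avoid O.toSetting ![a, b] ![a, b]
    (fun i => by fin_cases i <;> assumption) (fun i => by fin_cases i <;> assumption)
  refine ⟨z, hz, hzz, eq_zero_comm O.toIsSkewHerm (hd 0), eq_zero_comm O.toIsSkewHerm (hd 1), fun h => hn ?_⟩
  refine Submodule.span_mono ?_ h
  rintro x (rfl | rfl)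
  · exact ⟨0, rfl⟩
  · exact ⟨1, rfl⟩

theorem Over.exists_pair : ∃ a b, IsPair f F₀ a b := by
  obtain ⟨a, ha, haa, -, -, ha'⟩ := O.exists_third SympRoot.Rv.zero SympRoot.Rv.zero
  obtain ⟨b, hb, hbb, hab, -, hb'⟩ := O.exists_third ha ha
  exact ⟨a, b, ha, hb, haa, hbb, hab, fun h => ha' (by rw [h]; exact Submodule.zero_mem _), by simpa using hb'⟩

theorem IsPair.symm {u w : Fin n → F} (h : IsPair f F₀ u w) : IsPair f F₀ w u := by
  refine ⟨h.rv_right, h.rv_left, h.iso_right, h.iso_left, eq_zero_comm O.toIsSkewHerm h.orth,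
    fun h0 => h.indep (h0 ▸ Submodule.zero_mem _), fun hin => ?_⟩
  obtain ⟨c, hc⟩ := Submodule.mem_span_singleton.1 hin
  have hc0 : c ≠ 0 := fun h0 => h.ne_zero (by rw [← hc, h0, zero_smul])
  exact h.indep (Submodule.mem_span_singleton.2 ⟨c⁻¹, by rw [← hc, inv_smul_smul₀ hc0]⟩)

/-- Moving rational isotropic vectors while fixing a given one. -/
theorem Over.move_fix {u w w' : Fin n → F} (hu : Rv F₀ u) (huu : f u u = 0) (hw : Rv F₀ w) (hww : f w w = 0)
    (huw : f u w = 0) (hw' : Rv F₀ w') (hww' : f w' w' = 0) (huw' : f u w' = 0)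
    (hi : w ∉ Submodule.span F ({u} : Set (Fin n → F))) (hi' : w' ∉ Submodule.span F ({u} : Set (Fin n → F))) :
    ∃ h, Rat' F₀ M h ∧ (h : Matrix (Fin n) (Fin n) F) *ᵥ u = u ∧ (h : Matrix (Fin n) (Fin n) F) *ᵥ w = w' := by
  have H := O.toIsSkewHerm
  have step : ∀ {w w' : Fin n → F}, Rv F₀ w → f w w = 0 → f u w = 0 → Rv F₀ w' → f w' w' = 0 → f u w' = 0 →
      w ∉ Submodule.span F ({u} : Set (Fin n → F)) → w' ∉ Submodule.span F ({w, u} : Set (Fin n → F)) →
      ∃ h, Rat' F₀ M h ∧ (h : Matrix (Fin n) (Fin n) F) *ᵥ u = u ∧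
        (h : Matrix (Fin n) (Fin n) F) *ᵥ w = w' := by
    intro w w' hw hww huw hw' hww' huw' hi hi'
    obtain ⟨p, hp, hpp, hpu, hpd, hpw⟩ := exists_iso_ne O.toSetting hu (hw'.sub hw) hw (fun hin => by
      obtain ⟨α, β, hab⟩ := Submodule.mem_span_pair.1 hin
      by_cases hβ : β = 0
      · exact hi (Submodule.mem_span_singleton.2 ⟨α, by rw [← hab, hβ, zero_smul, add_zero]⟩)
      · refine hi' (Submodule.mem_span_pair.2 ⟨1 + β⁻¹, -(β⁻¹ * α), ?_⟩)
        have e : β⁻¹ • w = (β⁻¹ * α) • u + (w' - w) := by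
          conv_lhs => rw [← hab, smul_add, smul_smul, inv_smul_smul₀ hβ]
        rw [add_smul, one_smul, e]; module)
    have hwp : f w (-p) = 1 := by rw [neg_right H, O.skew p w, hpw, map_one, neg_neg]
    have hpd' : f (-p) (w' - w) = 0 := by rw [neg_left H, hpd, neg_zero]
    have hpp' : f (-p) (-p) = 0 := by rw [neg_left H, neg_right H, hpp, neg_zero, neg_zero]
    have hup : f u (-p) = 0 := by rw [neg_right H, eq_zero_comm H hpu, neg_zero]
    have hpr : Rv F₀ (-p) := fun i => F₀.neg_mem (hp i)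
    refine ⟨root f (-p) (w' - w) (-f w w'), O.rat_root hpr (hw'.sub hw) (F₀.neg_mem (O.rat _ _ hw hw')) hpp' hpd'
      ?_, ?_, ?_⟩
    · rw [map_neg, conj_form H, sub_left O.toSetting, sub_right O.toSetting, sub_right O.toSetting, hww, hww']
      ring
    · rw [root_mulVec H hpp' hpd', hup, sub_right O.toSetting, huw, huw']
      simp
    · rw [root_mulVec H hpp' hpd', hwp, sub_right O.toSetting, hww, one_smul, mul_one, sub_zero, neg_add_cancel,
        zero_smul, add_zero, add_sub_cancel]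
  by_cases hin : w' ∈ Submodule.span F ({w, u} : Set (Fin n → F))
  · obtain ⟨t, ht, htt, hut, -, htn⟩ := O.exists_third hu hw
    have htu : t ∉ Submodule.span F ({u} : Set (Fin n → F)) := fun h => htn (Submodule.span_mono (by simp) h)
    obtain ⟨h₁, hh₁, d₁, e₁⟩ := step hw hww huw ht htt hut hi (by rwa [Set.pair_comm])
    obtain ⟨h₂, hh₂, d₂, e₂⟩ := step ht htt hut hw' hww' huw' htu (fun hin' => by
      obtain ⟨a, b, hab⟩ := Submodule.mem_span_pair.1 hin'
      by_cases ha : a = 0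
      · exact hi' (Submodule.mem_span_singleton.2 ⟨b, by rw [← hab, ha, zero_smul, zero_add]⟩)
      · refine htn ?_
        rw [Set.pair_comm] at hin
        have : a • t ∈ Submodule.span F ({u, w} : Set (Fin n → F)) := by
          rw [show a • t = w' - b • u by rw [← hab, add_sub_cancel_right]]
          exact Submodule.sub_mem _ hin (Submodule.smul_mem _ _ (Submodule.subset_span (by simp)))
        exact (Submodule.smul_mem_iff _ ha).1 this)
    exact ⟨h₂ * h₁, hh₂.mul hh₁, by rw [gl_mul_mulVec, d₁, d₂], by rw [gl_mul_mulVec, e₁, e₂]⟩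
  · exact step hw hww huw hw' hww' huw' hi hin

theorem Over.move {a b : Fin n → F} (ha : Rv F₀ a) (haa : f a a = 0) (ha0 : a ≠ 0) (hb : Rv F₀ b)
    (hbb : f b b = 0) (hb0 : b ≠ 0) : ∃ h, Rat' F₀ M h ∧ (h : Matrix (Fin n) (Fin n) F) *ᵥ a = b := by
  have H := O.toIsSkewHerm
  obtain ⟨h, hh, -, he⟩ := O.move_fix SympRoot.Rv.zero (zero_left H 0) ha haa (zero_left H a) hb hbb
    (zero_left H b) (by simpa using ha0) (by simpa using hb0)
  exact ⟨h, hh, he⟩

theorem Over.move_pair {u w u' w' : Fin n → F} (h : IsPair f F₀ u w) (h' : IsPair f F₀ u' w') :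
    ∃ g, Rat' F₀ M g ∧ (g : Matrix (Fin n) (Fin n) F) *ᵥ u = u' ∧ (g : Matrix (Fin n) (Fin n) F) *ᵥ w = w' := by
  obtain ⟨g, hg, he⟩ := O.move h.rv_left h.iso_left h.ne_zero h'.rv_left h'.iso_left h'.ne_zero
  obtain ⟨k, hk, hku, hkw⟩ := O.move_fix (w := (g : Matrix (Fin n) (Fin n) F) *ᵥ w) h'.rv_left h'.iso_left
    (hg.2 w h.rv_right) (by rw [O.isometry g hg.1, h.iso_right]) (by rw [← he, O.isometry g hg.1, h.orth])
    h'.rv_right h'.iso_right h'.orth (fun hin => by
      obtain ⟨c, hc⟩ := Submodule.mem_span_singleton.1 hin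
      rw [← he, ← mulVec_smul] at hc
      exact h.indep (Submodule.mem_span_singleton.2 ⟨c, gl_mulVec_injective g hc⟩)) h'.indep
  exact ⟨k * g, hk.mul hg, by rw [gl_mul_mulVec, he, hku], by rw [gl_mul_mulVec, hkw]⟩

theorem Over.long_of_one {a : Fin n → F} (ha : Rv F₀ a) (haa : f a a = 0) (ha0 : a ≠ 0) {c : F}
    (h : formTv f a c ∈ M) : c ∈ longSet σ f F₀ M := by
  refine ⟨fixed_of_isometry O.toIsSkewHerm haa ha0 (O.isometry _ h), fun b hb hbb => ?_⟩
  rcases eq_or_ne b 0 with rfl | hb0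
  · rw [formTv_zero_left O.toIsSkewHerm]; exact M.one_mem
  obtain ⟨g, hg, he⟩ := O.move ha haa ha0 hb hbb hb0
  rw [← he]
  exact O.tv_mem_conj hg.1 haa h

theorem Over.mem_long {c : F} (hc : σ c = c) (hc' : c ∈ F₀) : c ∈ longSet σ f F₀ M := by
  have H := O.toIsSkewHerm
  refine ⟨hc, fun a ha haa => ?_⟩
  rw [← root_zero H haa]
  exact O.root_mem a 0 c ha SympRoot.Rv.zero hc' haa (zero_right H a) (by rw [zero_left H, sub_zero, hc])

theorem Over.short_of_one {u w : Fin n → F} (hp : IsPair f F₀ u w) {s : F} (h : root f u (s • w) 0 ∈ M) :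
    s ∈ shortSet f F₀ M := by
  intro u' w' hp'
  obtain ⟨g, hg, e1, e2⟩ := O.move_pair hp hp'
  have := M.mul_mem (M.mul_mem hg.1 h) (M.inv_mem hg.1)
  rwa [root_conj O.toIsSkewHerm (O.isometry g hg.1) hp.iso_left
    (by rw [smul_right O.toIsSkewHerm, hp.orth, mul_zero]), mulVec_smul, e1, e2] at this

/-- A root element with a rational direction splits. -/
theorem Over.split {u w : Fin n → F} (hp : IsPair f F₀ u w) {s γ : F} (h : root f u (s • w) γ ∈ M) :
    γ ∈ longSet σ f F₀ M ∧ s ∈ shortSet f F₀ M := by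
  have H := O.toIsSkewHerm
  have hsm : ∀ {x : Fin n → F}, f u x = 0 → f u (s • x) = 0 := fun hx => by rw [smul_right H, hx, mul_zero]
  have hall : ∀ w', IsPair f F₀ u w' → root f u (s • w') γ ∈ M := by
    intro w' hp'
    obtain ⟨g, hg, e1, e2⟩ := O.move_pair hp hp'
    have := M.mul_mem (M.mul_mem hg.1 h) (M.inv_mem hg.1)
    rwa [root_conj H (O.isometry g hg.1) hp.iso_left (hsm hp.orth), mulVec_smul, e1, e2] at this
  obtain ⟨z, hz, hzz, huz, hwz, hzn⟩ := O.exists_third hp.rv_left hp.rv_right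
  have hpz : IsPair f F₀ u z := ⟨hp.rv_left, hz, hp.iso_left, hzz, huz, hp.ne_zero,
    fun hin => hzn (Submodule.span_mono (by simp) hin)⟩
  have hzw := eq_zero_comm H hwz
  have hps : IsPair f F₀ u (w + z) := ⟨hp.rv_left, hp.rv_right.add hz, hp.iso_left,
    by rw [add_left H, add_right H, add_right H, hp.iso_right, hzz, hwz, hzw]; ring,
    by rw [add_right H, hp.orth, huz, add_zero], hp.ne_zero, fun hin => hzn (by
      have h1 : w + z - w ∈ Submodule.span F ({u, w} : Set (Fin n → F)) :=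
        Submodule.sub_mem _ (Submodule.span_mono (by simp) hin) (Submodule.subset_span (by simp))
      rwa [add_sub_cancel_left] at h1)⟩
  have h3 := M.mul_mem h (hall z hpz)
  rw [root_mul H hp.iso_left (hsm hp.orth) (hsm huz), smul_left H, smul_right H, hzw, mul_zero, mul_zero,
    add_zero, ← smul_add] at h3
  have h4 := M.mul_mem (M.inv_mem (hall (w + z) hps)) h3
  rw [root_inv H hp.iso_left (hsm hps.orth),
    root_mul H hp.iso_left (by rw [neg_right H, hsm hps.orth, neg_zero]) (hsm hps.orth), neg_right H,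
    smul_left H s (w + z), smul_right H, hps.iso_right, mul_zero, mul_zero, neg_zero, add_zero, add_zero,
    neg_add_cancel_left, neg_add_cancel, root_zero H hp.iso_left] at h4
  have hc := O.long_of_one hp.rv_left hp.iso_left hp.ne_zero h4
  refine ⟨hc, O.short_of_one hp ?_⟩
  have h5 := M.mul_mem h (M.inv_mem (hc.2 u hp.rv_left hp.iso_left))
  rwa [formTv_inv H hp.iso_left, ← root_zero H hp.iso_left (-γ),
    root_mul H hp.iso_left (hsm hp.orth) (zero_right H u), add_zero, add_neg_cancel, zero_left H, add_zero] at h5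

theorem Over.long_add {c d : F} (hc : c ∈ longSet σ f F₀ M) (hd : d ∈ longSet σ f F₀ M) :
    c + d ∈ longSet σ f F₀ M :=
  ⟨by rw [map_add, hc.1, hd.1], fun a ha haa => by
    rw [← formTv_mul O.toIsSkewHerm haa]; exact M.mul_mem (hc.2 a ha haa) (hd.2 a ha haa)⟩

theorem Over.long_neg {c : F} (hc : c ∈ longSet σ f F₀ M) : -c ∈ longSet σ f F₀ M :=
  ⟨by rw [map_neg, hc.1], fun a ha haa => by
    rw [← formTv_inv O.toIsSkewHerm haa]; exact M.inv_mem (hc.2 a ha haa)⟩

theorem Over.short_add {s t : F} (hs : s ∈ shortSet f F₀ M) (ht : t ∈ shortSet f F₀ M) :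
    s + t ∈ shortSet f F₀ M := by
  have H := O.toIsSkewHerm
  intro u w hp
  have := M.mul_mem (hs u w hp) (ht u w hp)
  rwa [root_mul H hp.iso_left (by rw [smul_right H, hp.orth, mul_zero]) (by rw [smul_right H, hp.orth, mul_zero]),
    smul_left H, smul_right H, hp.iso_right, mul_zero, mul_zero, add_zero, add_zero, ← add_smul] at this

theorem Over.short_smul {s k : F} (hs : s ∈ shortSet f F₀ M) (hk : k ∈ F₀) : s * k ∈ shortSet f F₀ M := by
  have H := O.toIsSkewHerm
  intro u w hp
  rcases eq_or_ne k 0 with rfl | hk0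
  · rw [mul_zero, zero_smul, root_zero H hp.iso_left]
    exact (O.mem_long (map_zero σ) F₀.zero_mem).2 u hp.rv_left hp.iso_left
  rw [mul_smul]
  exact hs u (k • w) ⟨hp.rv_left, hp.rv_right.smul hk, hp.iso_left,
    by rw [smul_left H, smul_right H, hp.iso_right, mul_zero, mul_zero],
    by rw [smul_right H, hp.orth, mul_zero], hp.ne_zero,
    fun hin => hp.indep ((Submodule.smul_mem_iff _ hk0).1 hin)⟩

theorem Over.long_le_short {c : F} (hc : c ∈ longSet σ f F₀ M) : c ∈ shortSet f F₀ M := by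
  have H := O.toIsSkewHerm
  obtain ⟨a, b, hp⟩ := O.exists_pair
  have h1 := hc.2 (b + (1 : F) • a) (hp.rv_right.add (by rw [one_smul]; exact hp.rv_left))
    (by simp [add_left H, add_right H, hp.iso_left, hp.iso_right, hp.orth, eq_zero_comm H hp.orth])
  rw [formTv_split H hp.iso_left hp.iso_right hp.orth hc.1, map_one, mul_one, mul_one] at h1
  have h2 := M.mul_mem (M.inv_mem (hc.2 b hp.rv_right hp.iso_right)) h1
  rw [inv_mul_cancel_left] at h2
  exact (O.split hp h2).2

theorem Over.short_step {μ d : F} (hμ : μ ∈ shortSet f F₀ M) (hd : d ∈ longSet σ f F₀ M) :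
    d * μ * σ μ ∈ longSet σ f F₀ M ∧ d * σ μ ∈ shortSet f F₀ M := by
  have H := O.toIsSkewHerm
  obtain ⟨a, b, hp⟩ := O.exists_pair
  obtain ⟨p, hpr, hpp, hpb, -, hpa⟩ := exists_iso_ne O.toSetting hp.rv_right hp.rv_right hp.rv_left
    (by simpa using (hp.symm O).indep)
  have hh := hμ a b hp
  have hmove : (root f a (μ • b) 0 : Matrix (Fin n) (Fin n) F) *ᵥ p = p + μ • b := by
    rw [root_mulVec H hp.iso_left (by rw [smul_right H, hp.orth, mul_zero]), hpa, smul_right H, hpb]
    simp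
  have hbp : f b p = 0 := eq_zero_comm H hpb
  have h1 := O.tv_mem_conj hh hpp (hd.2 p hpr hpp)
  rw [hmove, formTv_split H hp.iso_right hpp hbp hd.1] at h1
  have h2 := M.mul_mem (M.inv_mem (hd.2 p hpr hpp)) h1
  rw [inv_mul_cancel_left] at h2
  refine O.split ⟨hp.rv_right, hpr, hp.iso_right, hpp, hbp, (hp.symm O).ne_zero, fun hin => ?_⟩ h2
  obtain ⟨c, hc⟩ := Submodule.mem_span_singleton.1 hin
  rw [← hc, smul_left H, eq_zero_comm H hp.orth, mul_zero] at hpa
  exact zero_ne_one hpa

theorem Over.long_mul {c d : F} (hc : c ∈ longSet σ f F₀ M) (hd : d ∈ longSet σ f F₀ M) :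
    d * c ∈ longSet σ f F₀ M := by
  have h1 : (1 : F) ∈ longSet σ f F₀ M := O.mem_long (map_one σ) F₀.one_mem
  have hsq : ∀ {x e : F}, x ∈ longSet σ f F₀ M → e ∈ longSet σ f F₀ M → e * x * x ∈ longSet σ f F₀ M :=
    fun {x e} hx he => by
      have := (O.short_step (O.long_le_short hx) he).1
      rwa [hx.1] at this
  by_cases h2 : (2 : F) = 0
  · haveI : Finite (longSet σ f F₀ M) := Subtype.finite
    let g : longSet σ f F₀ M → longSet σ f F₀ M := fun x => ⟨1 * x.1 * x.1, hsq x.2 h1⟩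
    have hinj : Function.Injective g := fun x y h => by
      have h' : x.1 * x.1 = y.1 * y.1 := by simpa [g] using congrArg Subtype.val h
      rcases mul_self_eq_mul_self_iff.1 h' with e | e
      · exact Subtype.ext e
      · exact Subtype.ext (by rw [e]; linear_combination (-y.1) * h2)
    obtain ⟨x, hx⟩ := Finite.surjective_of_injective hinj ⟨c, hc⟩
    have hx' : 1 * x.1 * x.1 = c := congrArg Subtype.val hx
    rw [← hx', one_mul, ← mul_assoc]
    exact hsq x.2 hd
  · have hhalf : (2 : F)⁻¹ ∈ longSet σ f F₀ M :=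
      O.mem_long (by rw [map_inv₀, map_ofNat]) (F₀.inv_mem (ofNat_mem F₀ 2))
    have hbil : ∀ {x y e : F}, x ∈ longSet σ f F₀ M → y ∈ longSet σ f F₀ M → e ∈ longSet σ f F₀ M →
        2 * (e * x * y) ∈ longSet σ f F₀ M := fun {x y e} hx hy he => by
      have := O.long_add (O.long_add (hsq (O.long_add hx hy) he) (O.long_neg (hsq hx he))) (O.long_neg (hsq hy he))
      convert this using 1
      ring
    have := hbil hc hhalf hd
    convert this using 1
    field_simp

/-- Every element is a combination of two fixed ones along a moved element of the subfield. -/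
theorem Over.exists_parts {ω : F} (hω : σ ω ≠ ω) (x : F) :
    ∃ a b, σ a = a ∧ σ b = b ∧ x = a + ω * b ∧ (ω ∈ F₀ → x ∈ F₀ → a ∈ F₀ ∧ b ∈ F₀) := by
  have hd : ω - σ ω ≠ 0 := sub_ne_zero.2 (Ne.symm hω)
  have hb : σ ((x - σ x) / (ω - σ ω)) = (x - σ x) / (ω - σ ω) := by
    rw [map_div₀, map_sub, map_sub, O.involutive, O.involutive, ← neg_sub x, ← neg_sub ω, neg_div_neg_eq]
  refine ⟨x - ω * ((x - σ x) / (ω - σ ω)), (x - σ x) / (ω - σ ω), ?_, hb, (sub_add_cancel _ _).symm,
    fun hω' hx => ?_⟩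
  · rw [map_sub, map_mul, hb]
    field_simp
    ring
  · have : (x - σ x) / (ω - σ ω) ∈ F₀ :=
      F₀.div_mem (F₀.sub_mem hx (O.stable x hx)) (F₀.sub_mem hω' (O.stable ω hω'))
    exact ⟨F₀.sub_mem hx (F₀.mul_mem hω' this), this⟩

/-- A new long coefficient gives all coefficients. -/
theorem Over.full_of_new {r : ℕ} (hr : r.Prime) (hcard : Fintype.card F = Nat.card F₀ ^ r) {c : F}
    (hc : c ∈ longSet σ f F₀ M) (hc' : c ∉ F₀) :
    (∀ x, σ x = x → x ∈ longSet σ f F₀ M) ∧ ∀ x, x ∈ shortSet f F₀ M := by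
  obtain ⟨ω, hω, hω'⟩ := O.moved
  have hα : ω + σ ω ∈ longSet σ f F₀ M :=
    O.mem_long (by rw [map_add, O.involutive, add_comm]) (F₀.add_mem hω (O.stable ω hω))
  have hβ : -(ω * σ ω) ∈ longSet σ f F₀ M :=
    O.mem_long (by rw [map_neg, map_mul, O.involutive, mul_comm]) (F₀.neg_mem (F₀.mul_mem hω (O.stable ω hω)))
  have h0 : (0 : F) ∈ longSet σ f F₀ M := O.mem_long (map_zero σ) F₀.zero_mem
  let R : Subring F :=
    { carrier := {x | ∃ a ∈ longSet σ f F₀ M, ∃ b ∈ longSet σ f F₀ M, x = a + ω * b}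
      zero_mem' := ⟨0, h0, 0, h0, by ring⟩
      one_mem' := ⟨1, O.mem_long (map_one σ) F₀.one_mem, 0, h0, by ring⟩
      add_mem' := by
        rintro _ _ ⟨a, ha, b, hb, rfl⟩ ⟨a', ha', b', hb', rfl⟩
        exact ⟨_, O.long_add ha ha', _, O.long_add hb hb', by ring⟩
      neg_mem' := by
        rintro _ ⟨a, ha, b, hb, rfl⟩
        exact ⟨_, O.long_neg ha, _, O.long_neg hb, by ring⟩
      mul_mem' := by
        rintro _ _ ⟨a, ha, b, hb, rfl⟩ ⟨a', ha', b', hb', rfl⟩
        exact ⟨_, O.long_add (O.long_mul ha' ha) (O.long_mul hβ (O.long_mul hb' hb)),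
          _, O.long_add (O.long_add (O.long_mul hb' ha) (O.long_mul ha' hb)) (O.long_mul hα (O.long_mul hb' hb)),
          by ring⟩ }
  let K : Subfield F :=
    { R with
      inv_mem' := fun x hx => by
        by_cases h0 : x = 0
        · subst h0; rw [_root_.inv_zero]; exact hx
        have h2 : x ^ (Fintype.card F - 2) * x = 1 := by
          rw [← pow_succ, show Fintype.card F - 2 + 1 = Fintype.card F - 1 by
            have := Fintype.one_lt_card (α := F); omega, FiniteField.pow_card_sub_one_eq_one x h0]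
        rw [← eq_inv_of_mul_eq_one_left h2]
        exact Subring.pow_mem _ hx _ }
  have hle : F₀ ≤ K := fun x hx => by
    obtain ⟨a, b, ha, hb, he, hrat⟩ := O.exists_parts hω' x
    obtain ⟨ha', hb'⟩ := hrat hω hx
    exact ⟨a, O.mem_long ha ha', b, O.mem_long hb hb', he⟩
  have hcK : c ∈ K := ⟨c, hc, 0, h0, by ring⟩
  have hK : K = ⊤ := Rational.subfield_eq_top_of_lt hr hcard (lt_of_le_of_ne hle fun he => hc' (he ▸ hcK))
  refine ⟨fun x hx => ?_, fun x => ?_⟩
  · obtain ⟨a, ha, b, hb, he⟩ : x ∈ K := hK ▸ Subfield.mem_top x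
    have h1 := congrArg σ he
    rw [map_add, map_mul, hx, ha.1, hb.1] at h1
    have hb0 : b = 0 := by
      by_contra hb0
      exact hω' (mul_right_cancel₀ hb0 (by linear_combination (-h1) + he))
    rwa [he, hb0, mul_zero, add_zero]
  · obtain ⟨a, ha, b, hb, he⟩ : x ∈ K := hK ▸ Subfield.mem_top x
    rw [he, mul_comm ω]
    exact O.short_add (O.long_le_short ha) (O.short_smul (O.long_le_short hb) hω)

/-- Without new long coefficients there are no new short ones. -/
theorem Over.short_mem (hL : ∀ c ∈ longSet σ f F₀ M, c ∈ F₀) {μ : F} (hμ : μ ∈ shortSet f F₀ M) : μ ∈ F₀ := by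
  obtain ⟨ω, hω, hω'⟩ := O.moved
  have h1 : (1 : F) ∈ longSet σ f F₀ M := O.mem_long (map_one σ) F₀.one_mem
  have hN : ∀ {x}, x ∈ shortSet f F₀ M → x * σ x ∈ F₀ := fun {x} hx => by
    simpa using hL _ (O.short_step hx h1).1
  have hpol : ∀ d ∈ F₀, μ * σ d + σ μ * d ∈ F₀ := fun d hd => by
    have hd' : d ∈ shortSet f F₀ M := by simpa using O.short_smul (O.long_le_short h1) hd
    have := F₀.sub_mem (F₀.sub_mem (hN (O.short_add hμ hd')) (hN hμ)) (hN hd')
    convert this using 1
    rw [map_add]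
    ring
  have e : (σ ω - ω) * μ ∈ F₀ := by
    have := F₀.sub_mem (hpol ω hω) (F₀.mul_mem hω (hpol 1 F₀.one_mem))
    convert this using 1
    rw [map_one]
    ring
  have := F₀.mul_mem (F₀.inv_mem (F₀.sub_mem (O.stable ω hω) hω)) e
  rwa [inv_mul_cancel_left₀ (sub_ne_zero.2 hω')] at this

/-- With all coefficients present, every transvection is present. -/
theorem Over.mem_of_full (hfull : ∀ x, σ x = x → x ∈ longSet σ f F₀ M) (hshort : ∀ x, x ∈ shortSet f F₀ M)
    {v : Fin n → F} (hv : f v v = 0) {c : F} (hc : σ c = c) : formTv f v c ∈ M := by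
  have H := O.toIsSkewHerm
  by_cases hv0 : v = 0
  · rw [hv0, formTv_zero_left H]; exact M.one_mem
  obtain ⟨u, hu, huu, hvu⟩ : ∃ u, Rv F₀ u ∧ f u u = 0 ∧ f v u ≠ 0 := by
    by_contra hc'
    push Not at hc'
    obtain ⟨y, hy⟩ := O.nondegenerate v hv0
    let Y : Submodule F (Fin n → F) :=
      { carrier := {x | f v x = 0}
        add_mem' := fun {a b} ha hb => by simp_all [add_right H]
        zero_mem' := zero_right H v
        smul_mem' := fun c x hx => by simp_all [smul_right H] }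
    exact hy (mem_of_iso_span O.toSetting (Y := Y) hc' y)
  have hu0 : u ≠ 0 := fun h0 => hvu (by rw [h0, zero_right H])
  let Y : Submodule F (Fin n → F) :=
    { carrier := {b | f u b = 0 ∧ ∀ k : F, ∃ γ, root f u (k • b) γ ∈ M}
      add_mem' := by
        rintro a b ⟨ha, ha'⟩ ⟨hb, hb'⟩
        refine ⟨by rw [add_right H, ha, hb, add_zero], fun k => ?_⟩
        obtain ⟨γ, hγ⟩ := ha' k
        obtain ⟨δ, hδ⟩ := hb' k
        have := M.mul_mem hγ hδ
        rw [root_mul H huu (by rw [smul_right H, ha, mul_zero]) (by rw [smul_right H, hb, mul_zero]),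
          ← smul_add] at this
        exact ⟨_, this⟩
      zero_mem' := ⟨zero_right H u, fun k => ⟨0, by
        rw [smul_zero, root_zero H huu]
        exact (O.mem_long (map_zero σ) F₀.zero_mem).2 u hu huu⟩⟩
      smul_mem' := by
        rintro m b ⟨hb, hb'⟩
        exact ⟨by rw [smul_right H, hb, mul_zero], fun k => by rw [smul_smul]; exact hb' _⟩ }
  have hY : ∀ p, Rv F₀ p → f p p = 0 → f u p = 0 → p ∈ Y := by
    intro p hp hpp hup
    refine ⟨hup, fun k => ⟨0, ?_⟩⟩
    by_cases hin : p ∈ Submodule.span F ({u} : Set (Fin n → F))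
    · obtain ⟨m, rfl⟩ := Submodule.mem_span_singleton.1 hin
      rw [smul_smul, root_smul_self H huu]
      exact (hfull _ (by rw [map_add, O.involutive, add_comm])).2 u hu huu
    · exact hshort k u p ⟨hu, hp, huu, hpp, hup, hu0, hin⟩
  obtain ⟨w, hw, hww, hwu⟩ := exists_partner O.toSetting hu hu0
  set a := f v u with ha
  set v' := a⁻¹ • v with hv'
  have hv'u : f v' u = 1 := by rw [hv', smul_left H, ← ha, inv_mul_cancel₀ hvu]
  have hvv' : f v' v' = 0 := by rw [hv', smul_left H, smul_right H, hv, mul_zero, mul_zero]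
  set b := v' - w with hb
  have hub : f u b = 0 := eq_zero_comm H (by rw [hb, sub_left O.toSetting, hv'u, hwu, sub_self])
  obtain ⟨γ', hγ'⟩ := ((mem_of_iso_orth O.toSetting hu hu0 huu hY hub).2) 1
  rw [one_smul] at hγ'
  set γ := -f w v' with hγdef
  have hγ : σ γ = γ - f b b := by
    rw [hγdef, map_neg, conj_form H, hb, sub_left O.toSetting, sub_right O.toSetting, sub_right O.toSetting,
      hvv', hww]
    ring
  have hprod : root f u b γ' * formTv f u (γ - γ') = root f u b γ := by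
    rw [← root_zero H huu, root_mul H huu hub (zero_right H u), add_zero, zero_left H, add_zero,
      add_sub_cancel]
  have hδ : σ (γ - γ') = γ - γ' := fixed_of_isometry H huu hu0 fun x y => by
    have := root_isometry H huu hub hγ x y
    rw [← hprod, gl_mul_mulVec, gl_mul_mulVec, O.isometry _ hγ'] at this
    exact this
  have hh : root f u b γ ∈ M := hprod ▸ M.mul_mem hγ' ((hfull _ hδ).2 u hu huu)
  have he : (root f u b γ : Matrix (Fin n) (Fin n) F) *ᵥ w = v' := by
    rw [root_mulVec H huu hub, hwu, one_smul, mul_one, hb, sub_right O.toSetting, hww, sub_zero, hγdef,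
      neg_add_cancel, zero_smul, add_zero, add_sub_cancel]
  have hfix : σ (a * σ a * c) = a * σ a * c := by rw [map_mul, map_mul, O.involutive, hc, mul_comm (σ a)]
  have h1 := O.tv_mem_conj hh hww ((hfull _ hfix).2 w hw hww)
  rw [he, ← SkewPair.formTv_smul H hvv'] at h1
  rwa [hv', smul_inv_smul₀ hvu] at h1

end CfsgLib.GeomClasses.UnitSub
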